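import Cfsg.Statements.S0814
import Cfsg.Agent.ChAut.OutD4

set_option autoImplicit false
open Cfsg

namespace Cfsg.Agent.S0814

/-- |Aut(PSp_2m(q))| = gcd(2, q−1) · f · |PSp_2m(q)| for q = p^f, m ≥ 2, (m, q) ≠ (2, 2), with an extra factor 2 exactly when m = 2 and p = 2. -/
theorem result {F : Type*} [Field F] [Fintype F] (p f : ℕ) [Fact p.Prime] (hf : 1 ≤ f) (hF : Fintype.card F = p ^ f) (m : ℕ) (hm : 2 ≤ m) (h22 : m = 2 → 3 ≤ p ^ f) : Nat.card (MulAut (Cfsg.PSp m F)) = (if m = 2 ∧ p = 2 then 2 else 1) * Nat.gcd 2 (p ^ f - 1) * f * Nat.card (Cfsg.PSp m F) := by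
  open Cfsg.Agent.AutCl Cfsg.Agent.ChAut Cfsg.Agent.Chev Cfsg.Lie in
  have := charP_of_card_eq hF
  split_ifs with h
  · obtain ⟨rfl, rfl⟩ := h
    obtain ⟨e⟩ := equivSp4 F
    rw [← Nat.card_congr (MulAut.congr e).toEquiv, ← Nat.card_congr e.toEquiv, card_aut_eq (center_group _ F),
      card_out_eq coxBB2, (grB2 F).2, card_zkerB2, card_ringAut hF, ringChar.eq F 2, if_pos rfl,
      Nat.card_eq_fintype_card (α := F), hF]
  · have C := clSp (F := F) hm
    rw [C.card_aut (clSp_surj (p := p) hm fun h1 h2 => h ⟨h1, h2⟩), ← C.card_range_outHom, card_out_symp hm,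
      card_ringAut hF, Nat.card_eq_fintype_card (α := F), hF, one_mul]

end Cfsg.Agent.S0814
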