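import Cfsg.Statements.S0496
import Cfsg.Agent.Small.Sweep

set_option autoImplicit false
open Cfsg

namespace Cfsg.Agent.S0496

def cert : List (ℕ × ℕ × ℕ) :=
  [(0,2,2), (0,2,2), (0,2,3), (0,2,2), (0,2,5), (0,2,3), (0,2,7), (0,2,2), (0,2,3), (0,2,5),
  (0,2,11), (0,2,3), (0,2,13), (0,2,7), (0,0,0), (0,2,2), (0,2,17), (0,2,3), (0,2,19), (0,2,5),
  (1,7,0), (0,2,11), (0,2,23), (0,2,3), (0,2,5), (0,2,13), (0,2,3), (0,2,7), (0,2,29), (1,5,0),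
  (0,2,31), (0,2,2), (1,11,0), (0,2,17), (1,7,0), (0,2,3), (0,2,37), (0,2,19), (1,13,0), (0,2,5),
  (0,2,41), (0,0,0), (0,2,43), (0,2,11), (1,5,0), (0,2,23), (0,2,47), (0,2,3), (0,2,7), (0,2,5),
  (1,17,0), (0,2,13), (0,2,53), (0,2,3), (1,11,0), (0,2,7), (1,19,0), (0,2,29), (0,2,59), (1,5,0),
  (0,2,61), (0,2,31), (1,7,0), (0,2,2), (1,13,0), (1,11,0), (0,2,67), (0,2,17), (1,23,0), (1,7,0),
  (0,2,71), (0,2,3), (0,2,73), (0,2,37), (2,5,2), (0,2,19), (1,11,0), (1,13,0), (0,2,79), (0,2,5),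
  (0,2,3), (0,2,41), (0,2,83), (1,7,0), (1,17,0), (0,2,43), (1,29,0), (0,2,11), (0,2,89), (0,0,0),
  (1,13,0), (0,2,23), (1,31,0), (0,2,47), (1,19,0), (0,2,3), (0,2,97), (0,2,7), (1,11,0), (0,2,5),
  (0,2,101), (1,17,0), (0,2,103), (0,2,13), (1,7,0), (0,2,53), (0,2,107), (0,2,3), (0,2,109),
  (1,11,0), (1,37,0), (0,2,7), (0,2,113), (1,19,0), (1,23,0), (0,2,29), (1,13,0), (0,2,59),
  (1,17,0), (1,5,0), (0,2,11), (0,2,61), (1,41,0), (0,2,31), (0,2,5), (0,0,0), (0,2,127), (0,2,2),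
  (1,43,0), (1,13,0), (0,2,131), (1,11,0), (1,19,0), (0,2,67), (1,5,0), (0,2,17), (0,2,137),
  (1,23,0), (0,2,139), (1,7,0), (1,47,0), (0,2,71), (1,13,0), (0,2,3), (1,29,0), (0,2,73),
  (2,7,2), (0,2,37), (0,2,149), (2,5,2), (0,2,151), (0,2,19), (1,17,0), (1,11,0), (1,31,0),
  (1,13,0), (0,2,157), (0,2,79), (1,53,0), (0,2,5), (1,23,0), (0,2,3), (0,2,163), (0,2,41),
  (0,0,0), (0,2,83), (0,2,167), (1,7,0), (0,2,13), (1,17,0), (1,19,0), (0,2,43), (0,2,173),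
  (1,29,0), (1,7,0), (0,2,11), (1,59,0), (0,2,89), (0,2,179), (1,5,0), (0,2,181), (1,13,0),
  (1,61,0), (0,2,23), (1,37,0), (1,31,0), (1,17,0), (0,2,47), (1,7,0), (1,19,0), (0,2,191),
  (0,2,3), (0,2,193), (0,2,97), (1,13,0), (0,2,7), (0,2,197), (1,11,0), (0,2,199), (0,2,5),
  (1,67,0), (0,2,101), (1,29,0), (1,17,0), (1,41,0), (0,2,103), (1,23,0), (0,2,13), (1,19,0),
  (1,7,0), (0,2,211), (0,2,53), (1,71,0), (0,2,107), (1,43,0), (0,2,3), (1,31,0), (0,2,109),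
  (1,73,0), (1,11,0), (1,17,0), (1,37,0), (0,2,223), (0,2,7), (2,5,2), (0,2,113), (0,2,227),
  (1,19,0), (0,2,229), (1,23,0), (1,11,0), (0,2,29), (0,2,233), (1,13,0), (1,47,0), (0,2,59),
  (1,79,0), (1,17,0), (0,2,239), (1,5,0), (0,2,241), (0,2,11), (0,2,3), (0,2,61), (2,7,2),
  (1,41,0), (1,19,0), (0,2,31), (1,83,0), (0,2,5), (0,2,251), (1,7,0), (1,23,0), (0,2,127),
  (1,17,0), (0,2,2), (0,2,257), (1,43,0), (1,37,0), (1,13,0), (1,29,0), (0,2,131), (0,2,263),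
  (1,11,0), (1,53,0), (1,19,0), (1,89,0), (0,2,67), (0,2,269), (1,5,0), (0,2,271), (0,2,17),
  (0,0,0)]

theorem cert_ok : Small.sweep 34 [60, 168, 360, 504, 660, 1092] cert 1 = true := by
  decide +kernel

/-- A non-abelian finite simple group of order at most 1092 has order 60, 168, 360, 504, 660 or 1092. -/
theorem result {G : Type*} [Group G] [Finite G] [IsSimpleGroup G]
    (hG : ¬ IsMulCommutative G) (h : Nat.card G ≤ 1092) :
    Nat.card G = 60 ∨ Nat.card G = 168 ∨ Nat.card G = 360 ∨ Nat.card G = 504 ∨ Nat.card G = 660 ∨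
      Nat.card G = 1092 := by
  have hG := Small.not_isCyclic_of_not_comm hG
  have h4 := Nat.le_of_dvd Nat.card_pos (Small.four_dvd_card hG)
  simpa using Small.mem_of_sweep hG (by omega) cert 1 cert_ok (by omega)
    (by rw [show cert.length = 273 by decide +kernel]; omega)

end Cfsg.Agent.S0496
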