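import Cfsg.Statements.S2300
import Cfsg.Agent.Classical.SL2CharVal

set_option autoImplicit false
open Cfsg

namespace Cfsg.Agent.S2300

open Cfsg.Agent.Classical Cfsg.Agent.Char Cfsg.Agent.CharDeep Matrix

/-- Over a finite field F with q elements, q even, every irreducible complex character of SL₂ has degree 1, q − 1, q or q + 1; and when q ≥ 4 (so that these four numbers are distinct) there are exactly one irreducible character of degree 1, one of degree q, (q − 2)/2 of degree q + 1 and q/2 of degree q − 1. -/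
theorem result {F : Type*} [Field F] [Fintype F] [CharP F 2] :
    (∀ χ : Matrix.SpecialLinearGroup (Fin 2) F → ℂ, Cfsg.IsIrrCharacter (Matrix.SpecialLinearGroup (Fin 2) F) χ →
      χ 1 = 1 ∨ χ 1 = (Fintype.card F : ℂ) - 1 ∨ χ 1 = (Fintype.card F : ℂ) ∨ χ 1 = (Fintype.card F : ℂ) + 1) ∧
    (4 ≤ Fintype.card F →
      Nat.card {χ : Cfsg.IrrCharacter (Matrix.SpecialLinearGroup (Fin 2) F) // (χ : Matrix.SpecialLinearGroup (Fin 2) F → ℂ) 1 = 1} = 1 ∧
      Nat.card {χ : Cfsg.IrrCharacter (Matrix.SpecialLinearGroup (Fin 2) F) // (χ : Matrix.SpecialLinearGroup (Fin 2) F → ℂ) 1 = (Fintype.card F : ℂ)} = 1 ∧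
      Nat.card {χ : Cfsg.IrrCharacter (Matrix.SpecialLinearGroup (Fin 2) F) // (χ : Matrix.SpecialLinearGroup (Fin 2) F → ℂ) 1 = (Fintype.card F : ℂ) + 1} = (Fintype.card F - 2) / 2 ∧
      Nat.card {χ : Cfsg.IrrCharacter (Matrix.SpecialLinearGroup (Fin 2) F) // (χ : Matrix.SpecialLinearGroup (Fin 2) F → ℂ) 1 = (Fintype.card F : ℂ) - 1} = Fintype.card F / 2) := by
  classical
  obtain ⟨t, ht⟩ := sl_exists_noEig (F := F)
  have h2 : (2 : F) = 0 := by exact_mod_cast CharP.cast_eq_zero F 2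
  have hev : ¬ Odd (Nat.card F) := fun h => two_ne_zero_iff_odd.2 h h2
  have hq1 := one_lt_card_field (F := F)
  have hg : Nat.gcd 2 (Nat.card F - 1) = 1 := by
    rw [Nat.not_odd_iff_even, Nat.even_iff] at hev
    exact Nat.coprime_two_left.2 (Nat.odd_iff.2 (by omega))
  refine ⟨fun χ hχ => ?_, fun hq => ⟨?_, ?_, ?_, ?_⟩⟩
  · rcases sl_irr_cases ht hχ with rfl | rfl | ⟨α, -, rfl⟩ | ⟨θ, -, rfl⟩ | ⟨α, h1, h3, -⟩ |
      ⟨θ, h1, h3, -⟩
    · simp
    · simp [Sts_one]
    · simp [Rs_one]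
    · simp [Ps_one]
    · exact absurd h2 (two_ne_zero_of_mulChar h1 h3)
    · exact absurd h2 (two_ne_zero_of_hom ht h1 h3)
  · exact card_irr_eq_one (P := fun χ => χ 1 = 1) isIrrCharacter_one rfl
      fun χ h1 h => sl_irr_deg_one (by omega) h1 h
  · exact card_irr_eq_one (P := fun χ => χ 1 = (Fintype.card F : ℂ)) isIrr_Sts Sts_one
      fun χ h1 h => sl_irr_deg_card h1 h
  · have := two_mul_card_irr_succ (F := F)
    rw [hg, Nat.card_eq_fintype_card (α := F)] at this
    omega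
  · have := two_mul_card_irr_pred (F := F) (by omega)
    rw [hg, Nat.card_eq_fintype_card (α := F)] at this
    omega

end Cfsg.Agent.S2300
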