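import Cfsg.Statements.S0276
import Cfsg.Agent.Classical.PSL2Basic

set_option autoImplicit false
open Cfsg

namespace Cfsg.Agent.S0276

open Cfsg.Agent.Classical

/-- For q = 3 or 5 mod 8 the Sylow 2-subgroups of PSL_2(q) are elementary abelian of order 4. -/
theorem result {F : Type*} [Field F] [Fintype F] {q : ℕ} (hF : Fintype.card F = q) (hq : q % 8 = 3 ∨ q % 8 = 5) (P : Sylow 2 (Matrix.ProjectiveSpecialLinearGroup (Fin 2) F)) : IsKleinFour (P : Subgroup (Matrix.ProjectiveSpecialLinearGroup (Fin 2) F)) := by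
  rw [← Nat.card_eq_fintype_card] at hF
  have hodd : Odd q := Nat.odd_iff.2 (by omega)
  have hc := card_PSL2_mul (F := F)
  rw [hF, gcd_two_pred_of_odd hodd] at hc
  have hcard : Nat.card P = 2 ^ 2 := by
    rcases hq with hq | hq
    · obtain ⟨k, rfl⟩ : ∃ k, q = 8 * k + 3 := ⟨q / 8, by omega⟩
      apply card_sylow_of_card P (m := (8 * k + 3) * (4 * k + 1) * (2 * k + 1))
      · apply Nat.eq_of_mul_eq_mul_left two_pos
        rw [hc, show 8 * k + 3 - 1 = 8 * k + 2 by omega]; ring
      · simp only [Nat.prime_two.dvd_mul]; omega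
    · obtain ⟨k, rfl⟩ : ∃ k, q = 8 * k + 5 := ⟨q / 8, by omega⟩
      apply card_sylow_of_card P (m := (8 * k + 5) * (2 * k + 1) * (4 * k + 3))
      · apply Nat.eq_of_mul_eq_mul_left two_pos
        rw [hc, show 8 * k + 5 - 1 = 8 * k + 4 by omega]; ring
      · simp only [Nat.prime_two.dvd_mul]; omega
  obtain ⟨p, hp⟩ := CharP.exists F
  have := Fact.mk (CharP.char_is_prime F p)
  have hp2 : ¬ p ∣ 4 := fun h => by
    have h1 := (Nat.prime_dvd_prime_iff_eq Fact.out Nat.prime_two).1
      ((Fact.out : p.Prime).dvd_of_dvd_pow (n := 2) h)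
    have := char_dvd_card F p
    rw [h1, hF] at this
    omega
  refine ⟨hcard, ?_⟩
  have : Nontrivial P := Finite.one_lt_card_iff_nontrivial.1 (by rw [hcard]; norm_num)
  rw [Monoid.exponent_eq_prime_iff Nat.prime_two]
  intro g hg
  have h1 : orderOf g ∣ 2 ^ 2 := hcard ▸ orderOf_dvd_natCard g
  obtain ⟨i, hi, h2⟩ := (Nat.dvd_prime_pow Nat.prime_two).1 h1
  interval_cases i
  · exact absurd (orderOf_eq_one_iff.1 h2) hg
  · exact h2
  · rw [← Subgroup.orderOf_coe] at h2
    have := psl_orderOf_dvd_of_coprime p (g := g.1) (by rw [h2]; exact hp2)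
    rw [h2, hF, gcd_two_pred_of_odd hodd] at this
    omega

end Cfsg.Agent.S0276
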