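import Cfsg.Statements.S3188
import Cfsg.Agent.AB.SolC

set_option autoImplicit false
open Cfsg

namespace Cfsg.Agent.S3188

open Subgroup Cfsg.Agent.BG Cfsg.Agent.AB Cfsg.Agent.Sig in
theorem aux {G : Type*} [Group G] [Finite G] (hO : oddCore G = ⊥)
    (hab : ∀ Q : Subgroup G, IsPGroup 2 Q → IsMulCommutative Q)
    (hC : ∀ t : G, orderOf t = 2 → Group.IsSolvable C1[t]) (hs : ¬ Group.IsSolvable G) :
    ∃ L : Subgroup G, L.Normal ∧ IsSimpleGroup L ∧ ¬ IsMulCommutative L ∧ C[L] = ⊥ := by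
  have : Nontrivial G := not_subsingleton_iff_nontrivial.1 fun h => hs inferInstance
  refine exists_simple_normal ?_ fun t L ht hL h => qs_not_le_solvable hL.qs (hC t ht) h
  rw [← fitIn_top, fitIn_eq_pcIn (p := 2) ((ppIn_top 2).trans hO), pcIn_top]
  by_contra hne
  have h2 : IsPGroup 2 (pCore 2 G) := pcIn_top (G := G) 2 ▸ isPGroup_pcIn
  obtain ⟨⟨t, ht⟩, ho⟩ := exists_prime_orderOf_dvd_card' 2 (pgroup_pdiv h2 hne)
  have ho' : orderOf t = 2 := by rw [← ho]; exact (orderOf_mk _ _).symm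
  have hn : (pCore 2 G).Normal := normalizer_eq_top_iff.1 (top_le_iff.1 (pcIn_top (G := G) 2 ▸
    le_normalizer_pcIn (normG _)))
  obtain ⟨P, hP, lP⟩ := Sylow_superset (le_top : pCore 2 G ≤ ⊤) h2
  have h3 : Group.IsSolvable C[pCore 2 G] := solvableS (cent_le_cent1 ht) (hC t ho')
  have h4 : Odd (Nat.card (G ⧸ C[pCore 2 G])) := Nat.odd_iff.2 (Nat.two_dvd_ne_zero.1 fun h => hP.not_dvd
    (h.trans (by rw [relIndex_top_right]; exact index_dvd_of_le (sub_abelian_cent (hab P hP.pg) lP))))
  have := FTC.solvable_of_odd h4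
  exact hs (Group.isSolvable_of_ker_le_range (C[pCore 2 G]).subtype (QuotientGroup.mk' C[pCore 2 G]) (by simp))

open Subgroup Cfsg.Agent.BG Cfsg.Agent.AB Cfsg.Agent.Sig in

/-- Let G be a finite group with abelian Sylow 2-subgroups in which the centralizer of every involution is solvable. Then either G is solvable, or G modulo its largest normal subgroup of odd order has a normal subgroup isomorphic to PSL(2, q) with trivial centralizer (so that the quotient embeds in the automorphism group of PSL(2, q)), where q ≡ 3 or 5 mod 8 with q ≥ 5, or q = 2^n with n ≥ 2. -/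
theorem result {G : Type*} [Group G] [Finite G]
    (S : Sylow 2 G) (hS : IsMulCommutative ↥(S : Subgroup G))
    (hC : ∀ t : G, orderOf t = 2 → Group.IsSolvable ↥(Subgroup.centralizer ({t} : Set G))) :
    Group.IsSolvable G ∨
      ∃ (F : Type) (_ : Field F) (_ : Fintype F),
        (((Fintype.card F % 8 = 3 ∨ Fintype.card F % 8 = 5) ∧ 5 ≤ Fintype.card F) ∨
          (∃ n : ℕ, 2 ≤ n ∧ Fintype.card F = 2 ^ n)) ∧
        ∃ N : Subgroup (G ⧸ Cfsg.oddCore G), N.Normal ∧
          Nonempty (↥N ≃* Matrix.ProjectiveSpecialLinearGroup (Fin 2) F) ∧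
          Subgroup.centralizer (N : Set (G ⧸ Cfsg.oddCore G)) = ⊥ := by
  refine or_iff_not_imp_left.2 fun hs => ?_
  have hf := QuotientGroup.mk'_surjective (oddCore G)
  have hab := hab_map hf (hab_of_sylow S hS)
  have hC' : ∀ t : G ⧸ oddCore G, orderOf t = 2 → Group.IsSolvable C1[t] := fun t ht => by
    obtain ⟨g, rfl⟩ := hf t
    obtain ⟨n, h1, h2⟩ := SE.exists_lift_two _ SE.odd_ker_mkO ht
    rw [← h2, ← cent_map_odd hf SE.odd_ker_mkO h1]
    exact solvable_map _ (hC _ h1)
  obtain ⟨L, hL, h1, h2, h3⟩ := aux pPrimeCore_quotient hab hC' fun h => hs (by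
    have := FTC.solvable_of_odd (Nat.coprime_two_right.1 (coprime_pPrimeCore (G := G) (p := 2)))
    exact Group.isSolvable_of_ker_le_range (oddCore G).subtype (QuotientGroup.mk' (oddCore G)) (by simp))
  obtain ⟨F, i1, i2, h4, e⟩ := absol_simple h2 (hab_sub hab L) fun t ht => pLayerIn_eq_bot_of_isSolvable (by
    have := hC' t (by rwa [orderOf_coe])
    exact Group.isSolvable_of_isSolvable_injective (f := (L.subtype.comp C1[t].subtype).codRestrict C1[(t : G ⧸ oddCore G)]
      fun x => mem_cent1.2 (congrArg Subtype.val (mem_cent1.1 x.2))) fun a b h => by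
        simpa using h)
  exact ⟨F, i1, i2, h4, L, hL, e, h3⟩

end Cfsg.Agent.S3188
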