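import Cfsg.Statements.S4551
import Cfsg.Agent.Block.Dade

set_option autoImplicit false
open Cfsg

namespace Cfsg.Agent.S4551

open Cfsg.Agent.Block Cfsg.Agent.BMod Cfsg.Agent.Char MonoidAlgebra


/-- Let N be a normal subgroup of the finite group G of index prime to p, P a Sylow p-subgroup of G with G = N·C_G(P), and M a maximal ideal of the algebraic integers containing p. Then restriction to N is a bijection from the principal p-block of G onto the principal p-block of N: every member of the principal block of G restricts to a member of the principal block of N, and every member of the principal block of N is the restriction of exactly one member of the principal block of G. -/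
theorem result {G : Type*} [Group G] [Finite G] (p : ℕ) [Fact p.Prime] (M : Ideal Cfsg.AlgInt) (hM : Cfsg.IsPModular p M) (N : Subgroup G) [N.Normal] (hidx : ¬ p ∣ N.index) (P : Sylow p G) (hsup : N ⊔ Subgroup.centralizer ((P : Subgroup G) : Set G) = ⊤) : (∀ χ ∈ Cfsg.principalBlock M G, ∃ θ ∈ Cfsg.principalBlock M ↥N, ∀ n : N, (χ : G → ℂ) n = (θ : N → ℂ) n) ∧ ∀ θ ∈ Cfsg.principalBlock M ↥N, ∃! χ : Cfsg.IrrCharacter G, χ ∈ Cfsg.principalBlock M G ∧ ∀ n : N, (χ : G → ℂ) n = (θ : N → ℂ) n := by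
  haveI : PMod p M := ⟨hM⟩
  have := Fintype.ofFinite G
  have hS : Dade.Sy p N P := by
    have h1 : (P : Subgroup G) ≤ N := fun x hx => by
      obtain ⟨k, hk⟩ := P.isPGroup' ⟨x, hx⟩
      have h2 : (x : G ⧸ N) ^ p ^ k = 1 := by
        rw [← QuotientGroup.mk_pow, show x ^ p ^ k = 1 from congrArg Subtype.val hk]; rfl
      rw [← QuotientGroup.eq_one_iff, ← orderOf_eq_one_iff]
      exact Nat.eq_one_of_dvd_coprimes (Nat.Coprime.pow_left k
        ((Fact.out : p.Prime).coprime_iff_not_dvd.2 hidx)) (orderOf_dvd_of_pow_eq_one h2)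
        (orderOf_dvd_natCard _)
    exact ⟨h1, fun h => P.not_dvd_index (h.trans (Subgroup.relIndex_dvd_index_of_le h1))⟩
  have hc : ∀ g, Dade.Cov N P g := fun g => Dade.cov_iff.1 (hsup ▸ Subgroup.mem_top g)
  refine ⟨fun χ hχ => ?_, fun θ hθ => ?_⟩
  · obtain ⟨θ, h⟩ := exists_liesOver_under (N := N) χ
    have hθ := Dade.mem_principal_of_over hχ h
    obtain ⟨ψ, h1, h2⟩ := Dade.exists_ext hθ hS hc hidx
    exact ⟨θ, hθ, fun n => by rw [h2.eq_of_mem h1 hS hc hidx hχ h, h1.res]⟩
  · obtain ⟨ψ, h1, h2⟩ := Dade.exists_ext hθ hS hc hidx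
    exact ⟨⟨ψ, h1.irr⟩, ⟨h2.mem h1 hθ hS fun g _ => hc g, h1.res⟩, fun χ hχ => Subtype.ext
      (h2.eq_of_mem h1 hS hc hidx hχ.1 (Dade.Ext.liesOver ⟨χ.2.isCharacter, hχ.2⟩))⟩

end Cfsg.Agent.S4551
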