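import Cfsg.Statements.S4640
import Cfsg.Agent.BMod.PIndex
-- import your own Cfsg.Agent.* helpers here

set_option autoImplicit false
open Cfsg

namespace Cfsg.Agent.S4640

open Cfsg.Agent.BMod Cfsg.Agent.Block Cfsg.Agent.Transfer Cfsg.Agent.Char Cfsg.Agent.CharDeep

/-- Let N be a normal subgroup of the finite group G of index a power of the prime p, M a maximal ideal of the algebraic integers containing p, b a block of N stabilized by every element of G, and B a block of G covering b (some member of B has a member of b as a constituent of its restriction to N). Suppose that B has a commutative defect group P. Then G = NP and P ∩ N is a defect group of b; every member of B restricts to a member of b; every member of b is the restriction of exactly [G : N] members of B; B contains exactly [G : N] times as many irreducible characters as b; and B and b have the same p-regular rank. -/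
theorem result {G : Type*} [Group G] [Fintype G] (p : ℕ) [Fact p.Prime] (M : Ideal Cfsg.AlgInt) (hM : Cfsg.IsPModular p M) (N : Subgroup G) [N.Normal] [Fintype N] (hNi : ∃ k : ℕ, N.index = p ^ k) (b : Set (Cfsg.IrrCharacter N)) (hb : Cfsg.IsPBlock M b) (hstab : ∀ g : G, Cfsg.StabilizesBlock N b g) (B : Set (Cfsg.IrrCharacter G)) (hB : Cfsg.IsPBlock M B) (hcov : ∃ χ ∈ B, ∃ θ ∈ b, Cfsg.classInner (fun n : N => (χ : G → ℂ) n) (θ : N → ℂ) ≠ 0) (P : Subgroup G) (hPD : Cfsg.IsDefectGroup p M B P) (hPab : ∀ x ∈ P, ∀ y ∈ P, x * y = y * x) : N ⊔ P = ⊤ ∧ Cfsg.IsDefectGroup p M b ((P ⊓ N).subgroupOf N) ∧ (∀ χ ∈ B, ∃ θ ∈ b, ∀ n : N, (χ : G → ℂ) n = (θ : N → ℂ) n) ∧ (∀ θ ∈ b, Nat.card {χ : Cfsg.IrrCharacter G // χ ∈ B ∧ ∀ n : N, (χ : G → ℂ) n = (θ : N → ℂ) n} = N.index) ∧ Nat.card B = N.index * Nat.card b ∧ Cfsg.blockRank p B = Cfsg.blockRank p b := by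
  haveI : PMod p M := ⟨hM⟩
  classical
  have he := eB_eq_eS_of_index hNi hB hb hstab ((covers_iff_eS' hB hb).1 hcov)
  have hD := (isDefectGroup_iff_isDef hB).1 hPD
  have hNN := top_le_normalizer_of_normal N
  have hfix : eS M N b ∈ fix (F M) ⊤ := he ▸ eB_mem_fix B ⊤
  rw [he] at hD
  have h1 : N ⊔ P = ⊤ := by
    rw [sup_comm]
    exact hD.sup_eq_of_pgroup le_top hNN (isPrim_eS hb) hfix
      (by simpa [Subgroup.relIndex_top_right] using hNi)
  have hq : ∀ a : G ⧸ N, ∃ u ∈ P, (u : G ⧸ N) = a := fun a => by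
    obtain ⟨g, rfl⟩ := QuotientGroup.mk_surjective a
    have hg : g ∈ P ⊔ N := by rw [sup_comm, h1]; trivial
    obtain ⟨u, hu, n, hn, rfl⟩ := Subgroup.mem_sup_of_normal_right.1 hg
    exact ⟨u, hu, by simp [(QuotientGroup.eq_one_iff n).2 hn]⟩
  have hab : ∀ a b : G ⧸ N, a * b = b * a := fun a b => by
    obtain ⟨u, hu, rfl⟩ := hq a
    obtain ⟨v, hv, rfl⟩ := hq b
    rw [← QuotientGroup.mk_mul, hPab u hu v hv, QuotientGroup.mk_mul]
  have hi := idem_eq_of_eB_eq hB hb he
  have hmem : ∀ (χ : IrrCharacter G) (θ : IrrCharacter N),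
      (∀ n : N, (χ : G → ℂ) n = (θ : N → ℂ) n) → (χ ∈ B ↔ θ ∈ b) := fun χ θ h => by
    have h2 : om χ (idem B) = om θ (idem b) := by
      rw [hi, om_apply, om_apply, idemS, ev_inc, funext h, ← h 1]; rfl
    rw [om_idem, om_idem] at h2
    by_cases h3 : χ ∈ B <;> by_cases h4 : θ ∈ b <;> simp_all
  have h3 : ∀ χ ∈ B, ∃ θ ∈ b, ∀ n : N, (χ : G → ℂ) n = (θ : N → ℂ) n := fun χ hχ => by
    have := isIrr_res_of_free hab χ fun lam hl => MonoidHom.ext fun a => by
      obtain ⟨u, hu, rfl⟩ := hq a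
      obtain ⟨g, ⟨y, rfl, -, -, hy⟩, hg⟩ := exists_apply_ne_zero_of_center hB hPD
        (u := u) ⟨hu, fun v hv => hPab v hv u hu⟩ hχ
      simpa [(QuotientGroup.eq_one_iff y).2 (regular_mem_of_index hNi y hy)] using hl _ hg
    exact ⟨⟨_, this⟩, (hmem χ ⟨_, this⟩ fun _ => rfl).1 hχ, fun _ => rfl⟩
  have h4 : ∀ θ ∈ b, Nat.card {χ : IrrCharacter G // χ ∈ B ∧
      ∀ n : N, (χ : G → ℂ) n = (θ : N → ℂ) n} = N.index := fun θ hθ => by
    obtain ⟨χ, hχ, hl⟩ := Covers.exists_liesOver (covers_iff.2 hcov) hB hb hθ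
    obtain ⟨θ', -, h'⟩ := h3 χ hχ
    rw [liesOver_iff, funext h'] at hl
    obtain rfl : θ' = θ := Subtype.ext (θ'.2.eq_of_classInner_ne_zero θ.2 hl)
    have hN : IsIrrCharacter N fun n : N => (χ : G → ℂ) n := by rw [funext h']; exact θ'.2
    have hone : ∀ (β : IrrCharacter (G ⧸ N)) (n : N), β.1 (n : G) * (χ : G → ℂ) n = θ'.1 n :=
      fun β n => by
        rw [(QuotientGroup.eq_one_iff _).2 n.2, β.2.apply_one_of_comm hab, one_mul, h']
    rw [Subgroup.index, ← card_irr_of_comm hab]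
    refine (Nat.card_congr (Equiv.ofBijective (fun β : IrrCharacter (G ⧸ N) =>
      ⟨⟨_, gallagher_irr N χ.2.isCharacter hN β.2⟩, (hmem _ θ' (hone β)).2 hθ, hone β⟩)
      ⟨fun β γ h => Subtype.ext (gallagher_inj N χ.2.isCharacter hN β.2 γ.2
        (congrArg (fun x => x.1.1) h)), fun ψ => ?_⟩)).symm
    obtain ⟨β, hβ, h⟩ := gallagher_surj N χ.2.isCharacter hN ψ.1.2 (by
      rw [funext ψ.2.2, funext h', θ'.2.classInner_self]; exact one_ne_zero)
    exact ⟨⟨β, hβ⟩, Subtype.ext (Subtype.ext h.symm)⟩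
  have h5 : ∀ f : (N → ℂ) → ℂ, ∑ χ : IrrCharacter G, (if χ ∈ B then f fun n : N => χ.1 n else 0) =
      N.index * ∑ θ : IrrCharacter N, if θ ∈ b then f θ else 0 := fun f => by
    calc _ = ∑ χ : IrrCharacter G, ∑ θ : IrrCharacter N,
          if χ ∈ B ∧ ∀ n : N, (χ : G → ℂ) n = (θ : N → ℂ) n then f θ else 0 := by
          refine Finset.sum_congr rfl fun χ _ => ?_
          split_ifs with hχ
          · obtain ⟨θ, -, h⟩ := h3 χ hχ
            rw [Finset.sum_eq_single θ (fun θ' _ h' => if_neg fun h'' => h' (Subtype.ext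
              (funext fun n => (h''.2 n).symm.trans (h n)))) (by simp), if_pos ⟨hχ, h⟩, funext h]
          · simp [hχ]
      _ = _ := by
          rw [Finset.sum_comm, Finset.mul_sum]
          refine Finset.sum_congr rfl fun θ _ => ?_
          split_ifs with hθ
          · rw [← h4 θ hθ, ← Finset.sum_filter, Finset.sum_const, Nat.card_eq_fintype_card,
              Fintype.card_subtype, nsmul_eq_mul]
          · rw [mul_zero]
            exact Finset.sum_eq_zero fun χ _ => if_neg fun h => hθ ((hmem χ θ h.2).1 h.1)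
  refine ⟨h1, (isDefectGroup_subgroupOf_iff hb inf_le_right).2
    (hD.inf_of_stable le_top hNN (isPrim_eS hb) hfix), h3, h4, ?_, ?_⟩
  · have := h5 fun _ => 1
    rw [Finset.sum_boole, Finset.sum_boole, ← card_eq_filter, ← card_eq_filter] at this
    exact_mod_cast this
  · have hcol : ∀ n : N, col B n n = N.index * col b n n := fun n => by
      rw [col_apply, col_apply]
      convert h5 fun θ => θ n * θ n⁻¹
      rfl
    have h6 : ∑ x : G, (if p ∣ orderOf x then 0 else col B x x) =
        ∑ n : N, if p ∣ orderOf n then 0 else col B n n := by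
      rw [← Finset.sum_subset (Finset.filter_subset (· ∈ N) _) fun x _ hx => if_pos (by
          by_contra h; exact hx (by simpa using regular_mem_of_index hNi x h)),
        Finset.sum_subtype (F := inferInstance) _ (p := (· ∈ N)) (by simp)]
      simp
    have hi0 : (N.index : ℂ) ≠ 0 := Nat.cast_ne_zero.2 Subgroup.index_ne_zero_of_finite
    have h7 := blockRank_eq_sum_col (p := p) (IsPBlock.isBlockUnion hB)
    rw [h6, ← N.card_mul_index, Finset.sum_congr rfl fun n _ => show _ = (N.index : ℂ) *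
      (if p ∣ orderOf n then 0 else col b n n) by split_ifs <;> simp [hcol], ← Finset.mul_sum,
      Nat.cast_mul, mul_inv, mul_assoc, inv_mul_cancel_left₀ hi0,
      ← blockRank_eq_sum_col (IsPBlock.isBlockUnion hb)] at h7
    exact_mod_cast h7

end Cfsg.Agent.S4640
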