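import Cfsg.Statements.S0586
import Cfsg.Agent.SolvStr.Frattini

set_option autoImplicit false
open Cfsg

namespace Cfsg.Agent.S0586

open Subgroup Cfsg.Agent.SolvStr Cfsg.Agent.Solv

/-- If the Frattini subgroup of a finite group G is trivial, then the Fitting subgroup of G equals the join of all abelian minimal normal subgroups of G. -/
theorem result {G : Type*} [Group G] [Finite G] (hΦ : frattini G = ⊥) : Cfsg.fittingSubgroup G = sSup {N : Subgroup G | N.Normal ∧ N ≠ ⊥ ∧ IsMulCommutative N ∧ ∀ K : Subgroup G, K.Normal → K ≤ N → K = ⊥ ∨ K = N} := by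
  set S := sSup {N : Subgroup G | N.Normal ∧ N ≠ ⊥ ∧ IsMulCommutative N ∧
    ∀ K : Subgroup G, K.Normal → K ≤ N → K = ⊥ ∨ K = N} with hS
  have hSF : S ≤ fittingSubgroup G := sSup_le fun N hN => by
    have := hN.1
    have := hN.2.2.1
    exact le_fitting_of_isMulCommutative
  have hF : IsMulCommutative (fittingSubgroup G) := by
    rw [← commutator_self_eq_bot_iff, eq_bot_iff, ← hΦ]
    exact commutator_le_frattini_of_normal _
  have hSn : S.Normal := sSup_normal _ fun N hN => hN.1
  have hSc : IsMulCommutative S := by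
    rw [← le_centralizer_iff_isMulCommutative]
    exact (hSF.trans (le_centralizer _)).trans (centralizer_le hSF)
  obtain ⟨H, hH⟩ := exists_isComplement'_of_inf_frattini S (by rw [hΦ, inf_bot_eq])
  have h1 : fittingSubgroup G ⊔ H = ⊤ := by
    rw [eq_top_iff, ← hH.sup_eq_top]
    exact sup_le_sup_right hSF H
  have hn := normal_inf_of_sup_eq_top h1
  have h2 : fittingSubgroup G ⊓ H = ⊥ := by
    by_contra h
    obtain ⟨M, hMn, hM, hMle, hmin⟩ := exists_minimal_normal_le _ h
    have hMc : IsMulCommutative M := by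
      rw [← le_centralizer_iff_isMulCommutative]
      exact ((hMle.trans inf_le_left).trans (le_centralizer _)).trans
        (centralizer_le (hMle.trans inf_le_left))
    apply hM
    rw [eq_bot_iff, ← disjoint_iff.1 hH.disjoint]
    exact le_inf (le_sSup ⟨hMn, hM, hMc, hmin⟩) (hMle.trans inf_le_right)
  have h3 := sup_inf_of_le_left (N := S) (H := H) le_normalizer_of_normal hSF
  rwa [hH.sup_eq_top, top_inf_eq, inf_comm, h2, sup_bot_eq] at h3

end Cfsg.Agent.S0586
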