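import Cfsg.Statements.S3378
import Cfsg.Agent.Perm.SL25
import Cfsg.Agent.BG.Base4
import Cfsg.Agent.S0496
import Cfsg.Agent.S0494
import Cfsg.Agent.S0493

set_option autoImplicit false
open Cfsg

namespace Cfsg.Agent.S3378

open Cfsg.Agent.Perm Cfsg.Agent.BG Subgroup
open scoped MatrixGroups

theorem sol_ext {G : Type*} [Group G] (N : Subgroup G) [N.Normal] (h1 : Group.IsSolvable N)
    (h2 : Group.IsSolvable (G ⧸ N)) : Group.IsSolvable G :=
  Group.isSolvable_of_ker_le_range N.subtype (QuotientGroup.mk' N) (by simp)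

theorem exists_normal {G : Type*} [Group G] [Finite G] [Nontrivial G] (h : ¬ IsSimpleGroup G) :
    ∃ (N : Subgroup G) (_ : N.Normal), 1 < Nat.card N ∧ 1 < Nat.card (G ⧸ N) ∧
      Nat.card (G ⧸ N) * Nat.card N = Nat.card G := by
  obtain ⟨N, hN, hb, ht⟩ : ∃ N : Subgroup G, N.Normal ∧ N ≠ ⊥ ∧ N ≠ ⊤ := by
    by_contra h'; push Not at h'
    exact h ⟨fun N hN => or_iff_not_imp_left.2 (h' N hN)⟩
  exact ⟨N, hN, (one_lt_card_iff_ne_bot N).2 hb, one_lt_index_of_ne_top ht, N.index_mul_card⟩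

theorem sol_lt.{u} {G : Type u} [Group G] [Finite G] (h : Nat.card G < 60) : Group.IsSolvable G := by
  induction hn : Nat.card G using Nat.strong_induction_on generalizing G with
  | _ n ih =>
  rcases subsingleton_or_nontrivial G with hG | hG
  · infer_instance
  by_cases hs : IsSimpleGroup G
  · have : IsCyclic G := by_contra fun hc => by have := S0493.result hc (by omega); omega
    exact Group.isSolvable_of_comm fun a b => mul_comm' a b
  · obtain ⟨N, _, h1, h2, h3⟩ := exists_normal hs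
    exact sol_ext N (ih _ (by nlinarith) (by nlinarith) rfl) (ih _ (by nlinarith) (by nlinarith) rfl)

theorem equiv_A5 {G : Type*} [Group G] [Finite G] (h : Nat.card G = 60) (hs : ¬ Group.IsSolvable G) :
    Nonempty (G ≃* alternatingGroup (Fin 5)) := by
  have : Nontrivial G := Finite.one_lt_card_iff_nontrivial.1 (by omega)
  have : IsSimpleGroup G := by_contra fun hn => by
    obtain ⟨N, _, h1, h2, h3⟩ := exists_normal hn
    exact hs (sol_ext N (sol_lt (by nlinarith)) (sol_lt (by nlinarith)))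
  exact S0494.result h

/-- Every non-solvable group of order 120 whose Sylow 2-subgroups are quaternion of order 8 is isomorphic to SL(2,5), and SL(2,5) has the presentation ⟨x, y, z | x³ = y⁵ = z² = 1, z⁻¹xz = x, z⁻¹yz = y, (xy)² = z⟩. -/
theorem result :
    (∀ (G : Type*) [Group G] [Finite G], Nat.card G = 120 → ¬ Group.IsSolvable G →
      (∀ P : Sylow 2 G, Nonempty ((P : Subgroup G) ≃* QuaternionGroup 2)) →
      Nonempty (G ≃* Matrix.SpecialLinearGroup (Fin 2) (ZMod 5))) ∧
    Nonempty (PresentedGroup ({FreeGroup.of (0 : Fin 3) ^ 3, FreeGroup.of (1 : Fin 3) ^ 5, FreeGroup.of (2 : Fin 3) ^ 2,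
        (FreeGroup.of (2 : Fin 3))⁻¹ * FreeGroup.of 0 * FreeGroup.of 2 * (FreeGroup.of (0 : Fin 3))⁻¹,
        (FreeGroup.of (2 : Fin 3))⁻¹ * FreeGroup.of 1 * FreeGroup.of 2 * (FreeGroup.of (1 : Fin 3))⁻¹,
        (FreeGroup.of (0 : Fin 3) * FreeGroup.of 1) ^ 2 * (FreeGroup.of (2 : Fin 3))⁻¹} : Set (FreeGroup (Fin 3)))
      ≃* Matrix.SpecialLinearGroup (Fin 2) (ZMod 5)) := by
  refine ⟨fun G _ _ hG hs hP => ?_, ?_⟩
  · have q8 : ∀ a b : G, a ^ 2 = 1 → b ^ 2 = 1 → a ≠ 1 → b ≠ 1 → a * b = b * a → a = b := fun a b ha hb h1 h2 h => by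
      have hp : ∀ {a : G}, a ^ 2 = 1 → IsPGroup 2 (zpowers a) := fun {a} ha => by
        rintro ⟨_, k, rfl⟩
        exact ⟨1, Subtype.ext (show (a ^ k) ^ 2 = 1 by
          rw [← zpow_natCast, ← zpow_mul, mul_comm, zpow_mul, zpow_natCast, ha, one_zpow])⟩
      obtain ⟨P, hle⟩ := (IsPGroup.to_sup_of_normal_right' (hp ha) (hp hb) (zpowers_le.2 (centralizer_le_normalizer _
        (by rintro _ ⟨k, rfl⟩; exact (Commute.zpow_right h k).symm.eq)))).exists_le_sylow
      obtain ⟨e⟩ := hP P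
      have h3 : ∀ x y : QuaternionGroup 2, x ^ 2 = 1 → y ^ 2 = 1 → x ≠ 1 → y ≠ 1 → x = y := by decide
      let a' : P := ⟨a, hle (mem_sup_left (mem_zpowers a))⟩
      let b' : P := ⟨b, hle (mem_sup_right (mem_zpowers b))⟩
      exact congrArg Subtype.val (e.injective (h3 (e a') (e b') (by rw [← map_pow, show a' ^ 2 = 1 from Subtype.ext ha,
        map_one]) (by rw [← map_pow, show b' ^ 2 = 1 from Subtype.ext hb, map_one])
        (fun h => h1 (congrArg Subtype.val (e.map_eq_one_iff.1 h))) fun h => h2 (congrArg Subtype.val (e.map_eq_one_iff.1 h))))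
    have : Nontrivial G := Finite.one_lt_card_iff_nontrivial.1 (by omega)
    obtain ⟨N, _, h1, h2, h3⟩ := exists_normal (G := G) fun _ => by
      have := S0496.result (G := G) (fun h => hs (Group.isSolvable_of_comm h.is_comm.comm)) (by omega)
      omega
    by_cases h4 : Group.IsSolvable N
    · have h5 : ¬ Nat.card (G ⧸ N) < 60 := fun h => hs (sol_ext N h4 (sol_lt h))
      have h6 : Nat.card N = 2 := by nlinarith
      obtain ⟨e⟩ := equiv_A5 (G := G ⧸ N) (by rw [h6] at h3; omega) fun h => hs (sol_ext N h4 h)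
      obtain ⟨z, hz, hu⟩ := (Nat.card_eq_two_iff' (1 : N)).1 h6
      have hz1 : (z : G) ≠ 1 := fun e => hz (Subtype.ext e)
      have hz2 : (z : G) ^ 2 = 1 := congrArg Subtype.val (h6 ▸ pow_card_eq_one' (x := z))
      have hk : ∀ g ∈ N, g = 1 ∨ g = z := fun g hg => or_iff_not_imp_left.2 fun h =>
        congrArg Subtype.val (hu ⟨g, hg⟩ fun e => h (congrArg Subtype.val e))
      refine nonempty_equiv_SL25 (e.toMonoidHom.comp (QuotientGroup.mk' N))
        (e.surjective.comp (QuotientGroup.mk'_surjective N)) hz1 hz2 (fun g => ?_) fun g hg => or_iff_not_imp_left.2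
          fun h => q8 g z hg hz2 h hz1 ?_
      · refine e.map_eq_one_iff.trans ((QuotientGroup.eq_one_iff g).trans ⟨hk g, ?_⟩)
        rintro (rfl | rfl); exacts [N.one_mem, z.2]
      · exact mul_inv_eq_iff_eq_mul.1 ((hk _ (‹N.Normal›.conj_mem _ z.2 g)).resolve_left (by simpa using hz))
    · have h5 : ¬ Nat.card N < 60 := fun h => h4 (sol_lt h)
      obtain ⟨e⟩ := equiv_A5 (G := N) (by nlinarith) h4
      obtain ⟨x, y, a, b, c, d, f, g⟩ : ∃ x y : alternatingGroup (Fin 5), x ^ 2 = 1 ∧ y ^ 2 = 1 ∧ x ≠ 1 ∧ y ≠ 1 ∧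
          x * y = y * x ∧ x ≠ y := ⟨⟨Equiv.swap 0 1 * Equiv.swap 2 3, Equiv.Perm.mem_alternatingGroup.2 (by decide)⟩,
            ⟨Equiv.swap 0 2 * Equiv.swap 1 3, Equiv.Perm.mem_alternatingGroup.2 (by decide)⟩, by decide⟩
      refine absurd (e.symm.injective (Subtype.ext (q8 _ _ ?_ ?_ ?_ ?_ ?_))) g
      · rw [← coe_pow, ← map_pow, a, map_one, coe_one]
      · rw [← coe_pow, ← map_pow, b, map_one, coe_one]
      · exact fun h => c (e.symm.map_eq_one_iff.1 (Subtype.ext h))
      · exact fun h => d (e.symm.map_eq_one_iff.1 (Subtype.ext h))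
      · rw [← coe_mul, ← coe_mul, ← map_mul, ← map_mul, f]
  · generalize hR : (insert _ _ : Set (FreeGroup (Fin 3))) = R
    have h : ∀ r ∈ R, PresentedGroup.mk R r = 1 := fun r hr => PresentedGroup.one_of_mem hr
    conv at h => enter [r, 1]; rw [← hR]
    simp only [Set.mem_insert_iff, Set.mem_singleton_iff, forall_eq_or_imp, forall_eq, map_pow, map_mul, map_inv] at h
    obtain ⟨h1, h2, h3, h4, h5, h6⟩ := h
    rw [mul_inv_eq_one, mul_assoc, inv_mul_eq_iff_eq_mul] at h4 h5
    rw [mul_inv_eq_one] at h6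
    have hg : closure {PresentedGroup.mk R (.of 0), PresentedGroup.mk R (.of 1)} = ⊤ := by
      rw [eq_top_iff, ← PresentedGroup.closure_range_of, closure_le]
      rintro _ ⟨i, rfl⟩
      fin_cases i
      · exact subset_closure (.inl rfl)
      · exact subset_closure (.inr rfl)
      · exact (show _ = PresentedGroup.of (2 : Fin 3) from h6) ▸
          pow_mem (mul_mem (subset_closure (.inl rfl)) (subset_closure (.inr rfl))) 2
    have := (card_le_120 h1 h2 h3 h4.symm h5.symm h6 hg).1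
    refine nonempty_equiv_SL25_of_rel h1 h2 h3 h4.symm h5.symm h6 hg ?_
    let f : PresentedGroup R →* SL(2, ZMod 5) := PresentedGroup.toGroup (f := ![sl25X, sl25Y, -1]) (by
      subst hR
      simp [sl25X_pow, sl25Y_pow, sl25_mul_pow])
    rw [← card_SL25]
    refine Nat.card_le_card_of_surjective f (MonoidHom.range_eq_top.1 (eq_top_iff.2 (closure_sl25 ▸ (closure_le _).2 ?_)))
    rintro _ (rfl | rfl)
    exacts [⟨.of 0, PresentedGroup.toGroup.of _⟩, ⟨.of 1, PresentedGroup.toGroup.of _⟩]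

end Cfsg.Agent.S3378
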