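import Cfsg.Statements.S0157
import Cfsg.Agent.Char.Misc
import Mathlib.Data.Fintype.CardEmbedding

set_option autoImplicit false
open Cfsg

namespace Cfsg.Agent.S0157

theorem card_fixedBy_emb {G : Type*} [Group G] (X : Type*) [MulAction G X] [Finite X] (g : G) :
    (Nat.card (MulAction.fixedBy (Fin 2 ↪ X) g) : ℂ) =
      Nat.card (MulAction.fixedBy X g) * (Nat.card (MulAction.fixedBy X g) - 1) := by
  classical
  have := Fintype.ofFinite X
  have e : MulAction.fixedBy (Fin 2 ↪ X) g ≃ (Fin 2 ↪ MulAction.fixedBy X g) :=
    { toFun := fun f => ⟨fun i => ⟨f.1 i, DFunLike.congr_fun f.2 i⟩,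
        fun i j h => f.1.injective (congrArg Subtype.val h)⟩
      invFun := fun f => ⟨f.trans (Function.Embedding.subtype _), by
        ext i
        exact (f i).2⟩
      left_inv := fun f => rfl
      right_inv := fun f => rfl }
  rw [Nat.card_congr e, Nat.card_eq_fintype_card, Fintype.card_embedding_eq,
    ← Nat.card_eq_fintype_card, Fintype.card_fin, Nat.cast_descFactorial_two]

/-- For a transitive action of a finite group on a finite set with at least two points: the action is 2-transitive if and only if the function sending g to (number of fixed points of g) − 1 is an irreducible character. -/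
theorem result {G : Type*} [Group G] [Finite G] (X : Type*) [MulAction G X] [Finite X] [MulAction.IsPretransitive G X] (hX : 2 ≤ Nat.card X) : Cfsg.IsIrrCharacter G (fun g => (Nat.card (MulAction.fixedBy X g) : ℂ) - 1) ↔ MulAction.IsMultiplyPretransitive G X 2 := by
  classical
  have := Fintype.ofFinite G
  have := Fintype.ofFinite X
  have hne : Nonempty X := by
    rw [← Fintype.card_pos_iff, ← Nat.card_eq_fintype_card]; omega
  have hne2 : Nonempty (Fin 2 ↪ X) := by
    rw [Function.Embedding.nonempty_iff_card_le, ← Nat.card_eq_fintype_card (α := X)]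
    simpa using hX
  have hq : ∀ (Y : Type _) [MulAction G Y] [Nonempty Y],
      Nat.card (MulAction.orbitRel.Quotient G Y) = 1 ↔ MulAction.IsPretransitive G Y := by
    intro Y _ hY
    rw [Nat.card_eq_one_iff_unique, MulAction.pretransitive_iff_subsingleton_quotient]
    exact and_iff_left (hY.map (Quotient.mk _))
  have hπ := Char.isCharacter_card_fixedBy (G := G) X
  have h1 := Char.classInner_card_fixedBy_one (G := G) X
  rw [(hq X).mpr inferInstance, Nat.cast_one] at h1
  obtain ⟨θ, hθ, h2⟩ := hπ.exists_add_of_classInner_ne_zero Char.isIrrCharacter_one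
    (by rw [h1]; exact one_ne_zero)
  have h3 : (fun g : G => (Nat.card (MulAction.fixedBy X g) : ℂ) - 1) = θ := by
    ext g; rw [congrFun h2 g]; simp
  have h4 := Char.classInner_card_fixedBy_one (G := G) (Fin 2 ↪ X)
  have h5 : classInner θ θ = Nat.card (MulAction.orbitRel.Quotient G (Fin 2 ↪ X)) := by
    have h6 : classInner θ (fun _ => 1) = 0 := by
      rw [h2, Char.classInner_add_left, Char.isIrrCharacter_one.classInner_self] at h1
      simpa using h1
    rw [← h4, ← add_zero (classInner θ θ), ← h6, Char.classInner_eq_classInner_one θ θ,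
      ← Char.classInner_add_left, ← h3]
    congr 1
    ext g
    simp only [card_fixedBy_emb, Pi.add_apply, map_sub, map_natCast, map_one]
    ring
  rw [h3, Char.isIrrCharacter_iff_classInner_self, h5, and_iff_right hθ, Nat.cast_eq_one]
  have hq' : Nat.card (MulAction.orbitRel.Quotient G (Fin 2 ↪ X)) = 1 ↔
      MulAction.IsPretransitive G (Fin 2 ↪ X) := by
    rw [Nat.card_eq_one_iff_unique, MulAction.pretransitive_iff_subsingleton_quotient]
    exact and_iff_left (hne2.map (Quotient.mk _))
  exact hq'

end Cfsg.Agent.S0157
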