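import Cfsg.Statements.S5913

set_option autoImplicit false
open Cfsg

namespace Cfsg.Agent.S5913



/-- Let S be a non-abelian simple group and n a natural number. Every normal subgroup N of the direct power S^n (functions Fin n → S) is a subproduct: there is a set T of coordinates such that N consists exactly of the elements whose coordinates outside T are trivial. In particular the minimal normal subgroups of S^n are its n factors. -/
theorem result {S : Type*} [Group S] [IsSimpleGroup S] (hS : ¬ IsMulCommutative S) (n : ℕ)
    (N : Subgroup (Fin n → S)) [N.Normal] :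
    ∃ T : Finset (Fin n), ∀ x : Fin n → S, x ∈ N ↔ ∀ i, i ∉ T → x i = 1 := by
  classical
  refine ⟨Finset.univ.filter fun i => ∃ x ∈ N, x i ≠ 1, fun x => ⟨fun hx i hi => ?_, fun hx => ?_⟩⟩
  · by_contra h
    exact hi (Finset.mem_filter.2 ⟨Finset.mem_univ _, x, hx, h⟩)
  · have key : ∀ i, Pi.mulSingle i (x i) ∈ N := by
      intro i
      by_cases hi : ∃ y ∈ N, y i ≠ 1
      · obtain ⟨y, hy, hyi⟩ := hi
        let φ : S →* (Fin n → S) := MonoidHom.mulSingle (fun _ => S) i
        have hn : (N.comap φ).Normal := by
          constructor
          intro a ha g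
          have := Subgroup.Normal.conj_mem ‹N.Normal› _ ha (φ g)
          simpa [Subgroup.mem_comap, map_mul] using this
        rcases hn.eq_bot_or_eq_top with h | h
        · exfalso
          have hZ : y i ∈ Subgroup.center S := by
            rw [Subgroup.mem_center_iff]
            intro g
            have h1 : φ g * y * (φ g)⁻¹ * y⁻¹ ∈ N :=
              N.mul_mem (Subgroup.Normal.conj_mem ‹N.Normal› _ hy _) (N.inv_mem hy)
            have h2 : φ g * y * (φ g)⁻¹ * y⁻¹ = φ (g * y i * g⁻¹ * (y i)⁻¹) := by
              ext j
              by_cases hj : j = i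
              · subst hj; simp [φ]
              · simp [φ, Pi.mulSingle_eq_of_ne hj]
            rw [h2] at h1
            have : g * y i * g⁻¹ * (y i)⁻¹ ∈ N.comap φ := h1
            rw [h, Subgroup.mem_bot] at this
            rwa [mul_inv_eq_one, mul_inv_eq_iff_eq_mul] at this
          rcases (inferInstance : (Subgroup.center S).Normal).eq_bot_or_eq_top with h' | h'
          · rw [h'] at hZ; exact hyi hZ
          · exact hS ⟨⟨fun a b => (Subgroup.mem_center_iff.1 (h' ▸ Subgroup.mem_top b : b ∈ Subgroup.center S) a)⟩⟩
        · exact (h ▸ Subgroup.mem_top (x i) : x i ∈ N.comap φ)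
      · rw [hx i (by simpa using hi)]
        simp
    have := Finset.noncommProd_mulSingle x
    rw [← this]
    exact Subgroup.noncommProd_mem _ _ fun i _ => key i

end Cfsg.Agent.S5913
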