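import Cfsg.Statements.S5914
import Cfsg.Agent.S5913

set_option autoImplicit false
open Cfsg

namespace Cfsg.Agent.S5914

open Subgroup

theorem exists_indep {X : Type*} [Group X] [Finite X] (T : Set (Subgroup X))
    (hT : ∀ V ∈ T, V.Normal ∧ V ≠ ⊥ ∧ ∀ N : Subgroup X, N.Normal → N ≤ V → N = ⊥ ∨ N = V) :
    ∃ s ⊆ T, sSupIndep s ∧ sSup s = sSup T := by
  classical
  have hn : ∀ s : Set (Subgroup X), s ⊆ T → (sSup s).Normal := fun s hs =>
    sSup_normal _ fun V hV => (hT V (hs hV)).1
  obtain ⟨s, ⟨hs1, hs2⟩, hmax⟩ := (Set.toFinite {s : Set (Subgroup X) | s ⊆ T ∧ sSupIndep s}).exists_maximal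
    ⟨∅, Set.empty_subset _, sSupIndep_empty⟩
  refine ⟨s, hs1, hs2, le_antisymm (sSup_le_sSup hs1) (sSup_le fun M hM => ?_)⟩
  by_contra hle
  haveI := (hT M hM).1
  haveI := hn s hs1
  have hd : M ⊓ sSup s = ⊥ := ((hT M hM).2.2 _ inferInstance inf_le_left).resolve_right
    fun h => hle (h ▸ inf_le_right)
  have hMs : M ∉ s := fun h => hle (le_sSup h)
  have : insert M s ⊆ s := by
    refine hmax ⟨Set.insert_subset hM hs1, ?_⟩ (Set.subset_insert _ _)
    intro V hV
    rcases hV with rfl | hV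
    · rw [Set.insert_diff_self_of_notMem hMs]; exact disjoint_iff.2 hd
    · have hne : V ≠ M := fun h => hMs (h ▸ hV)
      rw [Set.insert_diff_of_notMem _ (by simpa using hne.symm), sSup_insert, disjoint_iff, eq_bot_iff]
      rintro x ⟨hx1, hx2⟩
      have hx3 : x ∈ ((M ⊔ sSup (s \ {V}) : Subgroup X) : Set X) := hx2
      rw [normal_mul] at hx3
      obtain ⟨m, hm, y, hy, rfl⟩ := hx3
      have h1 : m ∈ M ⊓ sSup s := ⟨hm, by
        have h5 : sSup (s \ {V}) ≤ sSup s := sSup_le_sSup Set.diff_subset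
        have h6 : V ≤ sSup s := le_sSup hV
        simpa using (sSup s).mul_mem (h6 hx1) ((sSup s).inv_mem (h5 hy))⟩
      rw [hd, mem_bot] at h1
      subst h1
      simp only [one_mul] at hx1 ⊢
      exact (disjoint_iff.1 (hs2 hV)).le ⟨hx1, hy⟩
  exact hMs (this (Set.mem_insert _ _))

theorem forward {G : Type*} [Group G] [Finite G] [Nontrivial G]
    (h : ∀ H : Subgroup G, H.Characteristic → H = ⊥ ∨ H = ⊤) :
    ∃ (S : Type) (_ : Group S) (_ : IsSimpleGroup S) (n : ℕ), 1 ≤ n ∧ Nonempty (G ≃* (Fin n → S)) := by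
  classical
  obtain ⟨N, ⟨hN, hN0⟩, hmin⟩ := (Set.toFinite {N : Subgroup G | N.Normal ∧ N ≠ ⊥}).exists_minimal
    ⟨⊤, inferInstance, top_ne_bot⟩
  set T := Set.range fun φ : MulAut G => N.map φ.toMonoidHom
  obtain ⟨s, hs1, hs2, hs3⟩ := exists_indep T (by
    rintro _ ⟨φ, rfl⟩
    refine ⟨hN.map _ φ.surjective, fun e => hN0 ((map_eq_bot_iff_of_injective _ φ.injective).1 e),
      fun M hM hle => ?_⟩
    by_cases h0 : M = ⊥
    · exact Or.inl h0
    refine Or.inr (hle.antisymm (map_le_iff_le_comap.2 (hmin ⟨hM.comap _, fun e => h0 ?_⟩ ?_)))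
    · rw [← map_comap_eq_self_of_surjective (f := φ.toMonoidHom) φ.surjective M, e, Subgroup.map_bot]
    · exact (comap_mono hle).trans (comap_map_eq_self_of_injective φ.injective N).le)
  have htop : sSup T = ⊤ := by
    refine (h _ (characteristic_iff_map_le.2 fun ψ => ?_)).resolve_left fun e =>
      hN0 (eq_bot_iff.2 (e ▸ le_sSup ⟨1, map_id N⟩))
    rw [map_le_iff_le_comap]
    refine sSup_le ?_
    rintro _ ⟨φ, rfl⟩ _ ⟨x, hx, rfl⟩
    exact (le_sSup (s := T) ⟨ψ * φ, rfl⟩ : N.map (ψ * φ : MulAut G).toMonoidHom ≤ _) ⟨x, hx, rfl⟩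
  obtain ⟨n, ⟨e⟩⟩ := Finite.exists_equiv_fin s
  choose φ hφ using fun V : s => hs1 V.2
  let f : Fin n → N →* G := fun i => (φ (e.symm i)).toMonoidHom.comp N.subtype
  have hr : ∀ i, (f i).range = (e.symm i : Subgroup G) := fun i => by
    rw [← hφ, MonoidHom.range_comp, range_subtype]
  have hind : iSupIndep fun i => (f i).range := by
    simp only [hr]
    exact ((sSupIndep_iff s).1 hs2).comp e.symm.injective
  have hnn : ∀ i, (f i).range.Normal := fun i => by
    rw [hr, ← hφ]; exact hN.map _ (φ _).surjective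
  have hc : Pairwise fun i j => ∀ x y : N, Commute (f i x) (f j y) := fun i j hij x y =>
    commute_of_normal_of_disjoint _ _ (hnn i) (hnn j) (hind.pairwiseDisjoint hij) _ _ ⟨x, rfl⟩ ⟨y, rfl⟩
  have hinj := MonoidHom.injective_noncommPiCoprod_of_iSupIndep f (hcomm := hc) hind
    fun i => (φ _).injective.comp N.subtype_injective
  have hsurj : Function.Surjective (MonoidHom.noncommPiCoprod f hc) := by
    rw [← MonoidHom.range_eq_top, MonoidHom.noncommPiCoprod_range, ← htop, ← hs3, sSup_eq_iSup']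
    simp only [hr]
    exact e.symm.iSup_comp (g := fun V : s => (V : Subgroup G))
  let E := MulEquiv.ofBijective _ ⟨hinj, hsurj⟩
  have hn : 1 ≤ n := by
    rcases n with _ | n
    · exact absurd (E.symm.injective.nontrivial) (not_nontrivial _)
    · omega
  have hsimple : IsSimpleGroup N := by
    haveI := (nontrivial_iff_ne_bot N).2 hN0
    refine ⟨fun M hM => ?_⟩
    let i : Fin n := ⟨0, hn⟩
    have h1 : (M.map (f i)).Normal := ⟨by
      rintro _ ⟨x, hx, rfl⟩ g
      obtain ⟨y, rfl⟩ := hsurj g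
      refine ⟨_, hM.conj_mem x hx (y i), ?_⟩
      rw [← MonoidHom.noncommPiCoprod_mulSingle f (hcomm := hc),
        ← MonoidHom.noncommPiCoprod_mulSingle f (hcomm := hc) i x, ← map_inv, ← map_mul, ← map_mul]
      congr 1
      ext j : 1
      by_cases hj : j = i
      · subst hj; simp
      · simp [Pi.mulSingle_eq_of_ne hj]⟩
    have h2 : (M.map N.subtype).Normal := by
      have : M.map N.subtype = (M.map (f i)).comap (φ (e.symm i)).toMonoidHom := by
        rw [← map_map, comap_map_eq_self_of_injective (φ _).injective]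
      exact this ▸ h1.comap _
    by_cases h0 : M = ⊥
    · exact Or.inl h0
    refine Or.inr (eq_top_iff.2 fun x _ => ?_)
    obtain ⟨y, hy, e'⟩ := hmin ⟨h2, fun e' => h0 ((map_eq_bot_iff_of_injective _
      N.subtype_injective).1 e')⟩ (map_subtype_le M) x.2
    exact Subtype.ext e' ▸ hy
  let ε : Shrink.{0} N ≃* N := Shrink.mulEquiv
  exact ⟨Shrink.{0} N, inferInstance, ε.isSimpleGroup, n, hn,
    ⟨E.symm.trans (MulEquiv.piCongrRight fun _ => ε.symm)⟩⟩

theorem backward {S : Type*} [Group S] [IsSimpleGroup S] {n : ℕ} (H : Subgroup (Fin n → S))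
    (hH : H.Characteristic) : H = ⊥ ∨ H = ⊤ := by
  classical
  by_cases h0 : H = ⊥
  · exact Or.inl h0
  right
  obtain ⟨⟨x, hx⟩, hx1⟩ := ne_bot_iff_exists_ne_one.1 h0
  obtain ⟨i, hi⟩ : ∃ i, x i ≠ 1 := by
    by_contra hc
    push Not at hc
    exact hx1 (Subtype.ext (funext hc))
  have perm : ∀ i j : Fin n, ∀ s, Pi.mulSingle i s ∈ H → Pi.mulSingle j s ∈ H := fun i j s hs => by
    have := characteristic_iff_map_le.1 hH (MulEquiv.arrowCongr (Equiv.swap i j) (MulEquiv.refl S))
      ⟨_, hs, rfl⟩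
    convert this using 1
    ext k
    by_cases hk : k = j
    · subst hk; simp
    · have : Equiv.swap i j k ≠ i := fun e => hk (by
        rw [Equiv.swap_apply_eq_iff, Equiv.swap_apply_left] at e; exact e)
      simp [Pi.mulSingle_eq_of_ne hk, Pi.mulSingle_eq_of_ne this]
  have one : ∃ j, ∀ s, Pi.mulSingle j s ∈ H := by
    by_cases hS : IsMulCommutative S
    · suffices ∃ j, Pi.mulSingle j (x i) ∈ H by
        obtain ⟨j, hj⟩ := this
        refine ⟨j, fun s => ?_⟩
        have h1 : (H.comap (MonoidHom.mulSingle (fun _ => S) j)).Normal := Normal.comap inferInstance _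
        exact ((h1.eq_bot_or_eq_top.resolve_left fun e => hi (by
          rw [← mem_bot, ← e]; exact hj)) ▸ mem_top s : s ∈ H.comap _)
      by_cases h1 : ∃ j, j ≠ i
      · obtain ⟨j, hj⟩ := h1
        letI : CommGroup S := { (inferInstance : Group S) with mul_comm := hS.is_comm.comm }
        let ψ : MulAut (Fin n → S) :=
          { toFun := fun y => y * Pi.mulSingle j (y i)
            invFun := fun y => y * Pi.mulSingle j (y i)⁻¹
            left_inv := fun y => by
              simp [Pi.mulSingle_eq_of_ne hj.symm, mul_assoc, ← Pi.mulSingle_mul]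
            right_inv := fun y => by
              simp [Pi.mulSingle_eq_of_ne hj.symm, mul_assoc, ← Pi.mulSingle_mul]
            map_mul' := fun y z => by simp only [Pi.mul_apply, Pi.mulSingle_mul, mul_mul_mul_comm] }
        exact ⟨j, (H.mul_mem_cancel_left hx).1 (characteristic_iff_map_le.1 hH ψ ⟨x, hx, rfl⟩)⟩
      · push Not at h1
        refine ⟨i, ?_⟩
        convert hx
        ext k
        rw [h1 k]; simp
    · obtain ⟨T, hT⟩ := S5913.result hS n H
      refine ⟨i, fun s => (hT _).2 fun k hk => Pi.mulSingle_eq_of_ne ?_ _⟩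
      rintro rfl
      exact hi ((hT x).1 hx k hk)
  obtain ⟨j, hj⟩ := one
  rw [eq_top_iff]
  intro y _
  rw [← Finset.noncommProd_mulSingle y]
  exact noncommProd_mem _ _ fun k _ => perm j k _ (hj _)

/-- A non-trivial finite group G is characteristically simple (its only characteristic subgroups are 1 and G) if and only if G is isomorphic to a direct power S^n (n ≥ 1) of some simple group S (possibly cyclic of prime order). -/
theorem result {G : Type*} [Group G] [Finite G] [Nontrivial G] :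
    (∀ H : Subgroup G, H.Characteristic → H = ⊥ ∨ H = ⊤) ↔
    ∃ (S : Type) (_ : Group S) (_ : IsSimpleGroup S) (n : ℕ), 1 ≤ n ∧ Nonempty (G ≃* (Fin n → S)) := by
  refine ⟨forward, ?_⟩
  rintro ⟨S, _, _, n, -, ⟨e⟩⟩ H hH
  have h1 : (H.map e.toMonoidHom).Characteristic := characteristic_iff_map_le.2 fun ψ => by
    rintro _ ⟨_, ⟨x, hx, rfl⟩, rfl⟩
    exact ⟨_, characteristic_iff_map_le.1 hH (e.trans (ψ.trans e.symm)) ⟨x, hx, rfl⟩, by simp⟩
  rcases backward _ h1 with h | h
  · exact Or.inl ((map_eq_bot_iff_of_injective _ e.injective).1 h)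
  · right
    rw [← comap_map_eq_self_of_injective (f := e.toMonoidHom) e.injective H, h, comap_top]

end Cfsg.Agent.S5914
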