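import Cfsg.Statements.S0723
import Cfsg.Agent.Perm.Scott
import Cfsg.Agent.Perm.Regular
import Cfsg.Agent.S0721
import Cfsg.Agent.S0722

set_option autoImplicit false
open Cfsg

namespace Cfsg.Agent.S0723

open MulAction Perm

/-- The core of the O'Nan–Scott Theorem. Let `H` be a primitive permutation group on a finite set whose unique minimal normal subgroup `N` is non-abelian, and `K` a point stabiliser. Then there are a non-abelian simple group `T` and an isomorphism `N ≃* T^m` (`m ≥ 1`) under which `K ⊓ N` becomes either a product `∏ K_i` of proper subgroups `K_i < T`, or the set of functions constant on each block of a partition of the index set into blocks of one common size `k ≥ 2`. -/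
theorem result {α : Type*} [Finite α] (H : Subgroup (Equiv.Perm α)) [MulAction.IsPreprimitive H α] (N : Subgroup H) [N.Normal] (hN : N ≠ ⊥) (hmin : ∀ M : Subgroup H, M.Normal → M ≤ N → M = ⊥ ∨ M = N) (huniq : ∀ L : Subgroup H, L.Normal → L ≠ ⊥ → (∀ M : Subgroup H, M.Normal → M ≤ L → M = ⊥ ∨ M = L) → L = N) (hnab : ¬ IsMulCommutative N) (a : α) : ∃ (T : Type) (_ : Group T) (m : ℕ) (e : N ≃* (Fin m → T)), IsSimpleGroup T ∧ ¬ IsMulCommutative T ∧ 0 < m ∧ ((∃ K : Fin m → Subgroup T, (∀ i, K i ≠ ⊤) ∧ ∀ n : N, (n : H) ∈ MulAction.stabilizer H a ↔ ∀ i, e n i ∈ K i) ∨ (∃ (k : ℕ) (c : Fin m → Fin m), 2 ≤ k ∧ (∀ j : Fin m, Nat.card {i : Fin m // c i = j} = k ∨ Nat.card {i : Fin m // c i = j} = 0) ∧ ∀ n : N, (n : H) ∈ MulAction.stabilizer H a ↔ ∀ i j : Fin m, c i = c j → e n i = e n j)) := by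
  classical
  obtain ⟨T, _, m, hT, hm, ⟨e⟩⟩ := S0721.result N hN hmin
  have hTc : ¬ IsMulCommutative T := fun h => hnab ⟨⟨fun x y => e.injective (by
    rw [map_mul, map_mul]; funext i; exact h.1.1 _ _)⟩⟩
  have htr := isPretransitive_of_normal (α := α) N hN
  set K := stabilizer H a with hK
  let π : Fin m → N →* T := fun i => (Pi.evalMonoidHom (fun _ => T) i).comp e.toMonoidHom
  have hπ : ∀ i, Function.Surjective (π i) := fun i t =>
    ⟨e.symm fun _ => t, by simp [π]⟩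
  have hσ : ∀ (h : H) (j : Fin m), ∃ (i : Fin m) (β : T ≃* T), ∀ n : N,
      π j (MulAut.conjNormal h n) = β (π i n) := fun h j => by
    obtain ⟨i, β, hβ⟩ := exists_coord_of_surjective hTc
      ((π j).comp ((MulAut.conjNormal h).toMonoidHom.comp e.symm.toMonoidHom))
      ((hπ j).comp ((MulAut.conjNormal h).surjective.comp e.symm.surjective))
    exact ⟨i, β, fun n => by simpa [π] using hβ (e n)⟩
  choose σ β hβ using hσ
  obtain ⟨t₀, ht₀⟩ := exists_ne (1 : T)
  have hσi : ∀ h, Function.Injective (σ h) := fun h i j hij => by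
    by_contra hne
    have h1 := hβ h i ((MulAut.conjNormal h).symm (e.symm (Pi.mulSingle i t₀)))
    have h2 := hβ h j ((MulAut.conjNormal h).symm (e.symm (Pi.mulSingle i t₀)))
    rw [MulEquiv.apply_symm_apply] at h1 h2
    rw [show π j (e.symm (Pi.mulSingle i t₀)) = 1 by simp [π, Ne.symm hne], eq_comm,
      MulEquiv.map_eq_one_iff, ← hij] at h2
    rw [h2, map_one] at h1
    exact ht₀ (by simpa [π] using h1)
  have hNK : ∀ h : H, ∃ n : N, ∃ k ∈ K, h = n * k := fun h => by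
    obtain ⟨n, hn⟩ := exists_smul_eq N a (h • a)
    exact ⟨n, (n : H)⁻¹ * h, by
      rw [hK, mem_stabilizer_iff, mul_smul, inv_smul_eq_iff]; exact hn.symm, by simp⟩
  have hclosed : ∀ J : Set (Fin m), (∀ k ∈ K, ∀ j ∈ J, σ k j ∈ J) → ∀ i ∈ J, ∀ j, j ∈ J := by
    intro J hJ i hi j
    have hn : ((⨅ j ∈ J, (π j).ker).map N.subtype).Normal := ⟨by
      rintro _ ⟨n, hn, rfl⟩ g
      obtain ⟨u, k, hk, rfl⟩ := hNK g
      refine ⟨u * MulAut.conjNormal k n * u⁻¹, ?_, by simp [mul_assoc]⟩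
      simp only [SetLike.mem_coe, Subgroup.mem_iInf, MonoidHom.mem_ker] at hn ⊢
      intro l hl
      rw [map_mul, map_mul, hβ, hn _ (hJ k hk l hl)]
      simp⟩
    have hmem : ∀ l, e.symm (Pi.mulSingle l t₀) ∈ (⨅ j ∈ J, (π j).ker) ↔ l ∉ J := fun l => by
      simp only [Subgroup.mem_iInf, MonoidHom.mem_ker]
      refine ⟨fun h hl => ht₀ (by simpa [π] using h l hl), fun h l' hl' => ?_⟩
      have : l' ≠ l := fun e => h (e ▸ hl')
      simp [π, this]
    rcases hmin _ hn (Subgroup.map_subtype_le _) with h | h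
    · by_contra hj
      rw [Subgroup.map_eq_bot_iff_of_injective _ N.subtype_injective] at h
      have := (hmem j).2 hj
      rw [h, Subgroup.mem_bot, MulEquiv.map_eq_one_iff] at this
      exact ht₀ (by simpa using congrFun this j)
    · obtain ⟨n, h1, h2⟩ : (e.symm (Pi.mulSingle i t₀) : H) ∈ (⨅ j ∈ J, (π j).ker).map N.subtype :=
        h.symm ▸ (e.symm (Pi.mulSingle i t₀)).2
      exact absurd hi ((hmem i).1 (Subtype.ext h2 ▸ h1))
  let D : Subgroup N := K.subgroupOf N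
  have hD : ∀ k ∈ K, ∀ n : N, MulAut.conjNormal k n ∈ D ↔ n ∈ D := fun k hk n => by
    simp only [D, Subgroup.mem_subgroupOf, MulAut.conjNormal_apply]
    rw [K.mul_mem_cancel_right (inv_mem hk), K.mul_mem_cancel_left hk]
  have hDi : ∀ k ∈ K, ∀ j, D.map (π j) = (D.map (π (σ k j))).map (β k j) := fun k hk j => by
    ext t
    constructor
    · rintro ⟨d, hd, rfl⟩
      obtain ⟨d, rfl⟩ := (MulAut.conjNormal k).surjective d
      exact ⟨_, ⟨d, (hD k hk d).1 hd, rfl⟩, (hβ k j d).symm⟩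
    · rintro ⟨_, ⟨d, hd, rfl⟩, rfl⟩
      exact ⟨_, (hD k hk d).2 hd, hβ k j d⟩
  by_cases hall : ∀ i, D.map (π i) ≠ ⊤
  · refine ⟨T, inferInstance, m, e, hT, hTc, hm, Or.inl ⟨fun i => D.map (π i), hall, fun n => ⟨fun h i => ⟨n, h, rfl⟩,
      fun h => ?_⟩⟩⟩
    have hX : ∀ k ∈ K, ∀ x ∈ (⨅ i, (D.map (π i)).comap (π i)).map N.subtype,
        k * x * k⁻¹ ∈ (⨅ i, (D.map (π i)).comap (π i)).map N.subtype := by
      rintro k hk _ ⟨x, hx, rfl⟩
      refine ⟨MulAut.conjNormal k x, ?_, rfl⟩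
      simp only [SetLike.mem_coe, Subgroup.mem_iInf, Subgroup.mem_comap] at hx ⊢
      intro i
      rw [hβ, hDi k hk]
      exact ⟨_, hx _, rfl⟩
    rcases S0722.result H N hN hmin a ((⨅ i, (D.map (π i)).comap (π i)).map N.subtype)
      (Subgroup.map_subtype_le _) (fun x hx => ⟨⟨x, hx.2⟩, Subgroup.mem_iInf.2 fun i =>
        ⟨⟨x, hx.2⟩, hx.1, rfl⟩, rfl⟩) (fun k hk => Subgroup.mem_normalizer_iff.2 fun x =>
        ⟨hX k hk x, fun h => by simpa [mul_assoc] using hX _ (inv_mem hk) _ h⟩) with h1 | h1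
    · exact (h1.le ⟨n, Subgroup.mem_iInf.2 h, rfl⟩).1
    · refine absurd (eq_top_iff.2 fun t _ => ?_) (hall ⟨0, hm⟩)
      obtain ⟨x, rfl⟩ := hπ ⟨0, hm⟩ t
      obtain ⟨y, h2, h3⟩ := h1.ge x.2
      exact Subtype.ext h3 ▸ Subgroup.mem_iInf.1 h2 ⟨0, hm⟩
  push Not at hall
  obtain ⟨i₀, hi₀⟩ := hall
  have htop : ∀ j, D.map (π j) = ⊤ := hclosed {j | D.map (π j) = ⊤} (fun k hk j hj => by
    have := (hDi k hk j).symm.trans hj
    exact Subgroup.map_injective (β k j).injective (this.trans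
      (Subgroup.map_top_of_surjective _ (β k j).surjective).symm)) i₀ hi₀
  let f : Fin m → D →* T := fun i => (π i).comp D.subtype
  have hf : ∀ i, Function.Surjective (f i) := fun i t => by
    obtain ⟨d, hd, rfl⟩ : t ∈ D.map (π i) := htop i ▸ Subgroup.mem_top t
    exact ⟨⟨d, hd⟩, rfl⟩
  let r : Setoid (Fin m) := Setoid.ker fun i => (f i).ker
  let c : Fin m → Fin m := fun i => (Quotient.mk r i).out
  have hc : ∀ i, (f (c i)).ker = (f i).ker := fun i => Quotient.mk_out (s := r) i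
  have hcc : ∀ i j, c i = c j ↔ (f i).ker = (f j).ker := fun i j =>
    Quotient.out_inj.trans (Quotient.eq (r := r))
  choose γ hγ using fun i => exists_equiv_of_ker_eq (hf i) (hf (c i)) (hc i).symm
  have hiff : ∀ n : N, (n : H) ∈ K ↔ ∀ i j : Fin m, c i = c j → γ i (e n i) = γ j (e n j) := fun n => by
    refine ⟨fun h i j hij => (hγ i ⟨n, h⟩).trans (hij ▸ (hγ j ⟨n, h⟩).symm), fun h => ?_⟩
    obtain ⟨d, hd⟩ := exists_forall_eq_of_ker_ne hTc (fun q : Quotient r => f q.out) (fun q => hf _)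
      (fun q q' h => Quotient.out_equiv_out.1 h) fun q => γ q.out (e n q.out)
    have : n = d := e.injective (funext fun i => (γ i).injective (by
      rw [h i (c i) ((hcc _ _).2 (hc i).symm)]
      exact (hd _).symm.trans (hγ i d).symm))
    rw [this]
    exact d.2
  have hker : ∀ k ∈ K, ∀ i j, (f (σ k i)).ker = (f (σ k j)).ker ↔ (f i).ker = (f j).ker := by
    intro k hk i j
    have h1 : ∀ i (d : D), f i ⟨_, (hD k hk d).2 d.2⟩ = 1 ↔ f (σ k i) d = 1 := fun i d => by
      change π i (MulAut.conjNormal k d) = 1 ↔ π _ d = 1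
      rw [hβ, MulEquiv.map_eq_one_iff]
    simp only [Subgroup.ext_iff, MonoidHom.mem_ker, ← h1]
    refine ⟨fun h ⟨d, hd⟩ => ?_, fun h d => h _⟩
    obtain ⟨d, rfl⟩ := (MulAut.conjNormal k).surjective d
    exact h ⟨d, (hD k hk d).1 hd⟩
  let sz : Fin m → ℕ := fun j => Nat.card {i // c i = c j}
  have hsz : ∀ j, sz j = sz i₀ := hclosed {j | sz j = sz i₀} (fun k hk j hj => by
    refine Eq.trans (Nat.card_congr ((Equiv.ofBijective _
      (hσi k).bijective_of_finite).subtypeEquiv fun i => ?_)).symm hj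
    rw [hcc, hcc, Equiv.ofBijective_apply, hker k hk]) i₀ rfl
  refine ⟨T, inferInstance, m, e.trans (MulEquiv.piCongrRight γ), hT, hTc, hm,
    Or.inr ⟨sz i₀, c, ?_, fun j => ?_, hiff⟩⟩
  · by_contra hlt
    have hinj : ∀ i j, c i = c j → i = j := fun i j hij => by
      have : Subsingleton {i // c i = c j} := Finite.card_le_one_iff_subsingleton.1 (by
        have := hsz j; simp only [sz] at this hlt; omega)
      exact congrArg Subtype.val (this.elim ⟨i, hij⟩ ⟨j, rfl⟩)
    refine hN (eq_bot_iff.2 fun n hn => eq_of_smul_eq_smul (α := α) fun x => ?_)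
    obtain ⟨u, rfl⟩ := exists_smul_eq N a x
    have h1 : ∀ u : N, (u : H) • a = a := fun u => (hiff u).2 fun i j h => by rw [hinj i j h]
    change n • (u : H) • a = (1 : H) • (u : H) • a
    rw [h1, one_smul, h1 ⟨n, hn⟩]
  · by_cases h : ∃ i, c i = j
    · obtain ⟨i, rfl⟩ := h
      exact Or.inl (hsz i)
    · have : IsEmpty {i // c i = j} := ⟨fun i => h ⟨i, i.2⟩⟩
      exact Or.inr Nat.card_of_isEmpty

end Cfsg.Agent.S0723
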