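import Cfsg.Statements.S5395
import Cfsg.Agent.PGrp.ES
import Mathlib.Tactic.Group

set_option autoImplicit false
open Cfsg

namespace Cfsg.Agent.S5395
open scoped commutatorElement

open PGrp

/-- For a finite extraspecial 2-group E, an automorphism of E that induces the identity on E modulo its centre is inner (so these automorphisms form exactly the inner automorphism group, an elementary abelian 2-group of order |E|/2). -/
theorem result {E : Type*} [Group E] [Finite E] (hE : Cfsg.IsExtraspecial 2 E) (φ : E ≃* E) (hφ : ∀ x : E, φ x * x⁻¹ ∈ Subgroup.center E) : ∃ g : E, ∀ x : E, φ x = g * x * g⁻¹ := by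
  obtain ⟨z, hz, hZ⟩ := exists_isES hE
  rw [hZ] at hφ
  have h1 : ∀ u ∈ Subgroup.zpowers z, φ u = u := by
    have : ∀ x y : E, φ ⁅x, y⁆ = ⁅x, y⁆ := fun x y => by
      rw [map_commutatorElement, ← hz.ez_B, ← hz.ez_B]
      have : ∀ x, hz.π (φ x) = hz.π x := fun x => by
        rw [← sub_eq_zero, sub_eq_add_neg, ← hz.mk_inv, ← hz.mk_mul, hz.mk_eq_zero]; exact hφ x
      rw [this, this]
    rw [← hZ, ← hE.1.2.2]
    exact fun u hu => (Subgroup.commutator_le (H₃ := φ.toMonoidHom.eqLocus (MonoidHom.id E))).2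
      (fun x _ y _ => this x y) hu
  have h2 : ∀ x y, hz.π x = hz.π y → φ x * x⁻¹ = φ y * y⁻¹ := fun x y h => by
    have hu := hz.mk_eq_mk.1 h
    rw [← mul_inv_cancel_left x y, map_mul, h1 _ hu]
    group
  have h3 : ∀ x, hz.ez (hz.lg (φ (hz.out (hz.π x)) * (hz.out (hz.π x))⁻¹)) = φ x * x⁻¹ := fun x => by
    rw [hz.ez_lg (hφ _), h2 _ x (hz.mk_out _)]
  let f : Module.Dual (ZMod 2) hz.V := AddMonoidHom.toZModLinearMap 2 <| AddMonoidHom.mk'
    (fun v => hz.lg (φ (hz.out v) * (hz.out v)⁻¹)) fun a b => by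
      obtain ⟨a, rfl⟩ := hz.mk_surjective a
      obtain ⟨b, rfl⟩ := hz.mk_surjective b
      apply hz.ez_injective
      rw [hz.ez_add, ← hz.mk_mul, h3, h3, h3, mul_assoc, ← (hz.commute_of_mem (hφ b) a⁻¹).eq, map_mul]
      group
  obtain ⟨w, hw⟩ := (hz.nondeg_iff.2 hZ).exists_eq_B f
  obtain ⟨g, rfl⟩ := hz.mk_surjective w
  refine ⟨g, fun x => ?_⟩
  have := hz.ez_B g x
  rw [show hz.B (hz.π g) (hz.π x) = f (hz.π x) from LinearMap.congr_fun hw _] at this
  rw [← mul_left_inj x⁻¹, ← h3]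
  exact this

end Cfsg.Agent.S5395
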