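import Cfsg.Statements.S0254
import Cfsg.Agent.Classical.PSL2Max

set_option autoImplicit false
open Cfsg

namespace Cfsg.Agent.S0254

open Cfsg.Agent.Classical Matrix Subgroup MulAction

/-- PSL_2(9) is isomorphic to A_6. -/
theorem result {F : Type*} [Field F] [Fintype F] (hF : Fintype.card F = 9) : Nonempty (Matrix.ProjectiveSpecialLinearGroup (Fin 2) F ≃* alternatingGroup (Fin 6)) := by
  rw [← Nat.card_eq_fintype_card] at hF
  obtain ⟨H, ⟨e⟩⟩ := exists_alt5_PSL (F := F) (by rw [hF]; simp)
  have := ProjectiveSpecialLinearGroup.rank_two_simple (F := F) (by omega)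
  have hG := card_PSL2_mul (F := F)
  rw [hF] at hG
  norm_num only at hG
  have hi : H.index = 6 := by
    have := H.card_mul_index
    rw [Nat.card_congr e.toEquiv, card_alt5] at this
    omega
  refine nonempty_equiv_alternating_of_injective hi (toPermHom _ (_ ⧸ H)) ?_ (by rw [hG]; rfl)
  rw [← MonoidHom.ker_eq_bot_iff, ← normalCore_eq_ker]
  refine H.normalCore_normal.eq_bot_or_eq_top.resolve_right fun h => ?_
  rw [top_le_iff.1 (h.ge.trans H.normalCore_le), index_top] at hi
  omega

end Cfsg.Agent.S0254
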