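import Cfsg.Statements.S2079
import Cfsg.Agent.Known.Fi22Out

namespace Cfsg.Agent.S2079

open Cfsg.Agent.Known

theorem result : Nat.card (Cfsg.Out Cfsg.Spor.Fi22) = 2 :=
  Fi22O.out

end Cfsg.Agent.S2079
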