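import Cfsg.Statements.S2053
import Cfsg.Agent.Known.Fi22Cov
import Cfsg.Agent.Known.Fi22Up

namespace Cfsg.Agent.S2053

open Cfsg.Agent.Known Fi22T

theorem result : Cfsg.HasCyclicSchurMultiplier Cfsg.Spor.Fi22 6 :=
  cyc_of_bnd2 (a := 2) (b := 3) (by decide) sb Fi22Cov.md2 Fi22Cov.md3

end Cfsg.Agent.S2053
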