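import Cfsg.Statements.S2091
import Cfsg.Agent.Known.U62Mul
import Cfsg.Agent.Known.U62Eq

namespace Cfsg.Agent.S2091

open Cfsg.Agent.Known

theorem result {F : Type*} [Field F] [Fintype F] (hF : Fintype.card F = 4) : Cfsg.HasSchurMultiplier (Cfsg.PSU 6 F 2) (Multiplicative (ZMod 3 × ZMod 2 × ZMod 2)) :=
  (U62T.equiv hF).elim fun e => Schur.hasSchurMultiplier_congr_left U62T.mult e.symm

end Cfsg.Agent.S2091
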