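import Cfsg.Statements.S3299
import Cfsg.Agent.Small.XsTr

set_option autoImplicit false
open Cfsg

namespace Cfsg.Agent.S3299

open Subgroup Cfsg.Agent.BG Cfsg.Agent.LES Cfsg.Agent.Small.Xs

theorem back {G : Type*} [Group G] {z g a : G} (h : a ∈ C1[g * z * g⁻¹]) : g⁻¹ * a * g ∈ C1[z] := by
  rwa [C1_conj, mem_cj] at h

theorem zK {G : Type*} [Group G] [Finite G] {E N K : Subgroup G} {z g : G} (h : ES E z)
    (hK : K.relIndex C1[z] = 2) (hN : N ≤ E) (hz : z ∈ N) (hc : 2 * #E < #N * #N) (hs : N ≤ C1[g * z * g⁻¹]) :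
    g⁻¹ * z * g ∈ K := by
  obtain ⟨a, ha, b, hb, e⟩ := nonab h hN hz hc
  have := (comm_mem hK (back (hs ha)) (back (hs hb))).1
  rwa [show (g⁻¹ * b * g)⁻¹ * ((g⁻¹ * a * g)⁻¹ * (g⁻¹ * b * g) * (g⁻¹ * a * g)) =
    g⁻¹ * (b⁻¹ * (a⁻¹ * b * a)) * g by group, e] at this

/-- Let G be a finite group with no nontrivial 2-group quotient (O^2(G) = G), z an involution of G with H = C_G(z), and suppose E = O_2(H) is extraspecial with C_G(E) ≤ E and of order 2^(2n+1) with n ≥ 2. Then E is contained in every normal subgroup of H of index 2. -/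
theorem result {G : Type*} [Group G] [Finite G] (hres : Cfsg.pResidual 2 G = ⊤) (z : G) (hz : orderOf z = 2)
    (E : Subgroup G) (hE : E = (Cfsg.pCore 2 ↥(Subgroup.centralizer ({z} : Set G))).map (Subgroup.centralizer ({z} : Set G)).subtype)
    (hext : Cfsg.IsExtraspecial 2 ↥E) (hcent : Subgroup.centralizer (E : Set G) ≤ E) (n : ℕ) (hn : 2 ≤ n) (hcard : Nat.card ↥E = 2 ^ (2 * n + 1))
    (K : Subgroup G) (hKH : K ≤ Subgroup.centralizer ({z} : Set G))
    (hKn : ∀ h ∈ Subgroup.centralizer ({z} : Set G), K.map (MulAut.conj h).toMonoidHom = K)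
    (hKi : K.relIndex (Subgroup.centralizer ({z} : Set G)) = 2) : E ≤ K := by
  have h : LE E z := by subst hE; exact LE.of_core hz hext hcent
  refine keyE h hres hKi fun g N a b c d => zK h.toES hKi a d ?_ c
  have h1 := card_mul_relIndex a
  have : 2 ^ 5 ≤ #E := hcard ▸ Nat.pow_le_pow_right two_pos (by omega)
  rw [b] at h1
  nlinarith

end Cfsg.Agent.S3299
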