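import Cfsg.Statements.S4160
import Cfsg.Agent.Gen2.Basic
import Cfsg.Agent.Transfer.Complement

set_option autoImplicit false
open Cfsg

namespace Cfsg.Agent.S4160

open Subgroup Cfsg.Agent.Gen2

theorem aux1 {G : Type*} [Group G] {H K : Subgroup G} (hK : K ≤ normalizer (H : Set G)) {g x : G}
    (hx : x * g * x⁻¹ ∈ H) : ∃ z : (G ⧸ K) × H, z.1.out * z.2 * z.1.out⁻¹ = g := by
  obtain ⟨k, hk⟩ := QuotientGroup.mk_out_eq_mul K x⁻¹
  refine ⟨((x⁻¹ : G), ⟨(k : G)⁻¹ * (x * g * x⁻¹) * (k : G)⁻¹⁻¹,
    (mem_normalizer_iff.1 (hK (inv_mem k.2)) _).1 hx⟩), ?_⟩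
  simp only [hk]
  group

theorem aux2 {G : Type*} [Group G] [Finite G] {H K : Subgroup G} (h : H < K) :
    2 * Nat.card ((G ⧸ K) × H) ≤ Nat.card G := by
  rw [Nat.card_prod, ← index_eq_card, ← index_mul_card H, ← relIndex_mul_index h.le, ← mul_assoc]
  refine Nat.mul_le_mul_right _ (Nat.mul_le_mul_right _ ?_)
  have h1 : H.relIndex K ≠ 1 := fun e => h.not_ge (relIndex_eq_one.1 e)
  have h2 : H.relIndex K ≠ 0 := index_ne_zero_of_finite
  omega

/-- Let G be a finite group and p ≠ q primes each dividing the size of some conjugacy class of G, such that no conjugacy class size is divisible by pq. Then G has a normal p-complement or a normal q-complement. -/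
theorem result {G : Type*} [Group G] [Finite G] (p q : ℕ) (hp : p.Prime) (hq : q.Prime) (hpq : p ≠ q)
    (hp' : ∃ x : G, p ∣ (Subgroup.centralizer ({x} : Set G)).index) (hq' : ∃ x : G, q ∣ (Subgroup.centralizer ({x} : Set G)).index) (h : ∀ x : G, ¬ p * q ∣ (Subgroup.centralizer ({x} : Set G)).index) :
    Cfsg.HasNormalPComplement p G ∨ Cfsg.HasNormalPComplement q G := by
  have : Fact p.Prime := ⟨hp⟩
  have : Fact q.Prime := ⟨hq⟩
  obtain ⟨P⟩ : Nonempty (Sylow p G) := inferInstance
  obtain ⟨Q⟩ : Nonempty (Sylow q G) := inferInstance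
  by_contra H
  rw [not_or] at H
  have h1 : centralizer (P : Set G) < normalizer (P : Set G) :=
    lt_of_le_not_ge (centralizer_le_normalizer _)
      fun e => H.1 (Transfer.hasNormalPComplement_of_normalizer_le_centralizer P e)
  have h2 : centralizer (Q : Set G) < normalizer (Q : Set G) :=
    lt_of_le_not_ge (centralizer_le_normalizer _)
      fun e => H.2 (Transfer.hasNormalPComplement_of_normalizer_le_centralizer Q e)
  have h3 : ∀ S : Set G, normalizer S ≤ normalizer (centralizer S : Set G) := fun S =>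
    le_normalizer_of_normal_subgroupOf (centralizer_le_normalizer S)
  let f : ((G ⧸ normalizer (P : Set G)) × centralizer (P : Set G)) ⊕
      ((G ⧸ normalizer (Q : Set G)) × centralizer (Q : Set G)) → G :=
    Sum.elim (fun z => z.1.out * z.2 * z.1.out⁻¹) fun z => z.1.out * z.2 * z.1.out⁻¹
  have hf : Function.Surjective f := fun g => by
    by_cases h4 : p ∣ (centralizer ({g} : Set G)).index
    · obtain ⟨x, hx⟩ := exists_conj_mem_centralizer_sylow Q
        fun e => h g (((Nat.coprime_primes hp hq).2 hpq).mul_dvd_of_dvd_of_dvd h4 e)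
      obtain ⟨z, hz⟩ := aux1 (h3 _) hx
      exact ⟨.inr z, hz⟩
    · obtain ⟨x, hx⟩ := exists_conj_mem_centralizer_sylow P h4
      obtain ⟨z, hz⟩ := aux1 (h3 _) hx
      exact ⟨.inl z, hz⟩
  have := (hf.bijective_of_nat_card_le (by
    have := aux2 h1
    have := aux2 h2
    rw [Nat.card_sum]; omega)).1 (a₁ := .inl (((1 : G) : G ⧸ _), 1)) (a₂ := .inr (((1 : G) : G ⧸ _), 1))
    (by simp [f])
  cases this

end Cfsg.Agent.S4160
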