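import Cfsg.Statements.S3815
import Cfsg.Agent.BG.Base6

set_option autoImplicit false
open Cfsg

namespace Cfsg.Agent.S3815

open Cfsg.Agent.BG

/-- Let G be a finite group, p a prime and d ∈ G an element of order prime to p. If dg has order prime to p for every element g ∈ G of order prime to p, then d ∈ O_{p'}(G). -/
theorem result {G : Type*} [Group G] [Finite G] {p : ℕ} [Fact p.Prime]
    (d : G) (hd : (orderOf d).Coprime p)
    (h : ∀ g : G, (orderOf g).Coprime p → (orderOf (d * g)).Coprime p) :
    d ∈ Cfsg.pPrimeCore p G := by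
  let T : Submonoid G :=
    { carrier := {d | ∀ g : G, (orderOf g).Coprime p → (orderOf (d * g)).Coprime p}
      one_mem' := fun g hg => by simpa using hg
      mul_mem' := fun {a b} ha hb g hg => by rw [mul_assoc]; exact ha _ (hb g hg) }
  let T' : Subgroup G :=
    { T with
      inv_mem' := fun {a} ha => by
        have : a⁻¹ = a ^ (orderOf a - 1) := by
          rw [eq_comm, ← mul_eq_one_iff_eq_inv, ← pow_succ, Nat.sub_add_cancel (orderOf_pos a),
            pow_orderOf_eq_one]
        rw [this]; exact T.pow_mem ha _ }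
  have hn : T' ⊴ ⊤ := by
    refine ⟨le_top, le_norm_iff.2 fun y _ a ha g hg => ?_⟩
    have : y * a * y⁻¹ * g = y * (a * (y⁻¹ * g * y⁻¹⁻¹)) * y⁻¹ := by group
    rw [this, orderOf_conj']
    exact ha _ (by rwa [orderOf_conj'])
  have hp : PiGrp {p}ᶜ T' := pgroup_of_elts fun a ha =>
    (p'nat_coprime Fact.out).2 (by simpa using ha 1 (by simp))
  rw [← Op'_top]
  exact pcore_max hn hp h

end Cfsg.Agent.S3815
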