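import Cfsg.Statements.S1292
import Cfsg.Agent.Sig.Local
import Cfsg.Agent.Loc.PGrp

set_option autoImplicit false
open Cfsg

namespace Cfsg.Agent.S1292

open Subgroup Cfsg.Agent.Solv Cfsg.Agent.Sig

/-- Let G be a finite group such that F*(C_G(t)) = O_2(C_G(t)) for every involution t. Then F*(N_G(T)) = O_2(N_G(T)) for every nontrivial 2-subgroup T of G. -/
theorem result {G : Type*} [Group G] [Finite G] (h : ∀ t : G, orderOf t = 2 → Cfsg.generalizedFittingSubgroup ↥(Subgroup.centralizer ({t} : Set G)) = Cfsg.pCore 2 ↥(Subgroup.centralizer ({t} : Set G))) (T : Subgroup G) (hT : IsPGroup 2 ↥T) (hT1 : T ≠ ⊥) : Cfsg.generalizedFittingSubgroup ↥(Subgroup.normalizer (T : Set G)) = Cfsg.pCore 2 ↥(Subgroup.normalizer (T : Set G)) := by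
  have : Fact (Nat.Prime 2) := ⟨Nat.prime_two⟩
  obtain ⟨t, ht, h1, h2⟩ := Loc.exists_pow_eq_one_of_isPGroup (hT.to_le (inf_le_left : T ⊓ centralizer (T : Set G) ≤ T))
    (Loc.center_ne_bot hT hT1)
  have h3 := h t (Loc.orderOf_eq_prime_of_pow h1 h2)
  rw [← fstarIn_eq_pcIn_iff_sub, fstarIn_eq_pcIn_iff_xeIn] at h3 ⊢
  have h4 : T ≤ centralizer ({t} : Set G) := fun x hx => mem_centralizer_singleton_iff.2 (ht.2 x hx)
  have h5 := xeIn_centralizer_eq_bot h3 hT (h4.trans le_normalizer)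
  rwa [xeIn_normalizer_top hT, ← inf_eq_right.2
    (centralizer_le (Set.singleton_subset_iff.2 ht.1) : centralizer (T : Set G) ≤ centralizer {t})]

end Cfsg.Agent.S1292
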