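import Cfsg.Statements.S1296
import Cfsg.Agent.Sig.Dich
import Cfsg.Agent.S1292

set_option autoImplicit false
open Cfsg

namespace Cfsg.Agent.S1296

open Subgroup Cfsg.Agent.BG Cfsg.Agent.Sig

/-- Dichotomy Theorem. Let G be a finite group of even order with no normal subgroup of index 2 and with O(G) = 1. Then G has 2-rank at most 2, or G is of component type, or G is of characteristic 2 type. -/
theorem result {G : Type*} [Group G] [Finite G] (heven : Even (Nat.card G)) (hO2 : ∀ N : Subgroup G, N.Normal → N.index ≠ 2) (hO : Cfsg.oddCore G = ⊥) : Cfsg.PRankLE 2 2 G ∨ Cfsg.IsComponentType G ∨ Cfsg.IsCharacteristicTwoType G := by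
  refine or_iff_not_imp_left.2 fun h3 => or_iff_not_imp_left.2 fun hc => ⟨heven, fun T hT hT1 => ?_⟩
  have hc' : NC G := fun t ht => by
    rw [pLayerIn_eq_bot_iff', pLayer_eq_bot_iff]
    by_contra h
    refine hc ⟨t, ht, by_contra fun h' => h (le_bot_iff.1 (sSup_le fun K hK => (h' ⟨K, hK⟩).elim))⟩
  have k := S1292.result (fun t ht => by
    rw [← fstarIn_eq_pcIn_iff_sub, fstarIn_eq_pcIn_iff_xeIn, xeIn, hc' t ht, bot_sup_eq, ppIn, ← Op'_eq,
      ← le_bot_iff, ← hO]
    exact core_C1_le hc' (fun H e => hO2 H (normal_of_index_eq_two e) e) h3 ht) T hT hT1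
  rw [IsOfCharacteristicTwo, ← k]
  exact centralizer_fstar_le

end Cfsg.Agent.S1296
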