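import Cfsg.Statements.S0206
import Cfsg.Agent.Invol.Dihedral

set_option autoImplicit false
open Cfsg

namespace Cfsg.Agent.S0206

/-- Two distinct involutions x, y of a finite group generate a subgroup isomorphic to the dihedral group of order 2·|xy|. -/
theorem result {G : Type*} [Group G] [Finite G] (x y : G) (hx : orderOf x = 2) (hy : orderOf y = 2) (hxy : x ≠ y) : Nonempty (↥(Subgroup.closure ({x, y} : Set G)) ≃* DihedralGroup (orderOf (x * y))) := by
  open Cfsg.Agent.Invol in
  have hx2 := mul_self_of hx
  have hy2 := mul_self_of hy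
  rw [closure_pair_eq hx2]
  apply closure_equiv_dihedral hx2 (conj_prod_left hx2 hy2)
  intro h
  obtain ⟨k, hk⟩ := Subgroup.mem_zpowers_iff.1 h
  -- then x commutes with xy, hence xy is an involution or trivial
  have hc : Commute (x * y) x := by
    conv_rhs => rw [← hk]
    exact (Commute.refl _).zpow_right k
  have hi := conj_prod_left hx2 hy2
  rw [← hc.eq, mul_inv_cancel_right] at hi
  have hr : x * y * (x * y) = 1 := by
    nth_rewrite 1 [hi]; exact inv_mul_cancel _
  rcases zpow_invol hr k with h1 | h1
  · exact ne_one_of hx (hk ▸ h1)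
  · rw [hk] at h1
    exact ne_one_of hy (by simpa using h1.symm)

end Cfsg.Agent.S0206
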