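import Cfsg.Statements.S4084
import Cfsg.Agent.Gen2.Basic

set_option autoImplicit false
open Cfsg

namespace Cfsg.Agent.S4084

open Subgroup

theorem aux {G H : Type*} [Group G] [Finite G] [Group H] [Finite H] (e : G ≃ H)
    (he : ∀ x y : G, Commute x y ↔ Commute (e x) (e y))
    {p q : ℕ} (hp : p.Prime) (hq : q.Prime) (hpq : p ≠ q) (g : G) (hg : orderOf g = p * q) :
    ∃ h : H, orderOf h = p * q := by
  have h1 : Nat.card (centralizer (centralizer ({g} : Set G) : Set G)) =
      Nat.card (centralizer (centralizer ({e g} : Set H) : Set H)) := by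
    refine Nat.card_congr (e.subtypeEquiv fun x => ⟨fun hx y hy => ?_, fun hx y hy => ?_⟩)
    · obtain ⟨y, rfl⟩ := e.surjective y
      exact (he y x).1 (hx y (Gen2.mem_cent.2 ((he y g).2 (Gen2.mem_cent.1 hy))))
    · exact (he y x).2 (hx (e y) (Gen2.mem_cent.2 ((he y g).1 (Gen2.mem_cent.1 hy))))
  have h2 : p * q ∣ Nat.card (centralizer (centralizer ({e g} : Set H) : Set H)) := by
    rw [← h1, ← hg]
    exact Subgroup.orderOf_dvd_natCard _ fun y hy => Gen2.mem_cent.1 hy
  obtain ⟨a, ha, hao⟩ := Gen2.exists_mem_orderOf_eq_prime hp ((Dvd.intro _ rfl).trans h2)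
  obtain ⟨b, hb, hbo⟩ := Gen2.exists_mem_orderOf_eq_prime hq ((Dvd.intro_left _ rfl).trans h2)
  have hab : Commute a b := hb a (Gen2.mem_cent.2 (ha _ (Gen2.self_mem_cent _)).symm)
  refine ⟨a * b, ?_⟩
  rw [hab.orderOf_mul_eq_mul_orderOf_of_coprime
    (by rw [hao, hbo]; exact (Nat.coprime_primes hp hq).2 hpq), hao, hbo]

/-- Let G and H be finite groups whose commuting graphs are isomorphic: there is a bijection e : G → H with x, y commuting exactly when e(x), e(y) commute. Then G and H have the same prime graph: for distinct primes p, q, G has an element of order pq if and only if H does (and #G = #H, so the prime divisors agree). -/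
theorem result {G H : Type*} [Group G] [Finite G] [Group H] [Finite H] (e : G ≃ H)
    (he : ∀ x y : G, Commute x y ↔ Commute (e x) (e y))
    {p q : ℕ} (hp : p.Prime) (hq : q.Prime) (hpq : p ≠ q) :
    (∃ g : G, orderOf g = p * q) ↔ (∃ h : H, orderOf h = p * q) := by
  exact ⟨fun ⟨g, hg⟩ => aux e he hp hq hpq g hg, fun ⟨h, hh⟩ => aux e.symm
    (fun x y => by rw [he, e.apply_symm_apply, e.apply_symm_apply]) hp hq hpq h hh⟩

end Cfsg.Agent.S4084
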