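import Cfsg.Statements.S2065
import Cfsg.Agent.Known.J1Out
import Cfsg.Agent.Spor.EqJ1

namespace Cfsg.Agent.S2065

open Cfsg.Agent.Known

theorem result : Nat.card (Cfsg.Out ↥Cfsg.Spor.J1) = 1 :=
  Spor.EqJ1.equiv.elim fun e => (card_out_congr e.symm).trans J1O.out

end Cfsg.Agent.S2065
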