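import Cfsg.Statements.S3915
import Cfsg.Agent.Sig.Comp
import Cfsg.Agent.PF.P14c
import Cfsg.Agent.Gen2.Basic

set_option autoImplicit false
open Cfsg

namespace Cfsg.Agent.S3915

open Subgroup Cfsg.Agent.Sig

theorem nc {L : Type*} [Group L] (h : IsQuasisimple L) : ¬ IsMulCommutative (L ⧸ center L) := fun hc => by
  have := h.2
  have := h.1
  have hp : Group.IsPerfect (L ⧸ center L) := Group.IsPerfect.ofSurjective (QuotientGroup.mk'_surjective _)
  have h1 := hp.commutator_eq_top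
  rw [(commutator_eq_bot_iff _).2 hc] at h1
  exact bot_ne_top h1

theorem ex2 {G : Type*} [Group G] [Finite G] {L : Subgroup G} (h : IsQuasisimple L) :
    ∃ x ∈ L, (∃ k, orderOf x = 2 ^ k) ∧ x ∉ centralizer (L : Set G) := by
  have := h.2
  have ev : 2 ∣ Nat.card (L ⧸ center L) := by
    by_contra ho
    have := PF.Feit_Thompson (G := L ⧸ center L) (Nat.odd_iff.2 (by omega))
    exact nc h ⟨⟨IsSimpleGroup.comm_iff_isSolvable.2 this⟩⟩
  obtain ⟨y, hy⟩ := exists_prime_orderOf_dvd_card' 2 ev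
  obtain ⟨g, rfl⟩ := QuotientGroup.mk'_surjective _ y
  obtain ⟨a, -, ⟨k, hk⟩, ha⟩ := Gen2.exists_pElt_lift (p := 2) (QuotientGroup.mk' (center L)) g ⟨1, by simpa using hy⟩
  refine ⟨a, a.2, ⟨k, by simpa using hk⟩, fun hc => ?_⟩
  have : (QuotientGroup.mk' (center L)) a = 1 :=
    (QuotientGroup.eq_one_iff _).2 (mem_center_iff.2 fun b => Subtype.ext (hc b b.2))
  rw [← ha, this, orderOf_one] at hy; omega

/-- Let G be a finite group in which, for every prime p, any two cyclic p-subgroups of the same order are conjugate. If the layer E(G), the subgroup generated by the components of G, is non-trivial, then E(G)/Z(E(G)) is a non-abelian simple group. -/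
theorem result {G : Type*} [Group G] [Finite G] (hP : ∀ (p : ℕ), p.Prime → ∀ A B : Subgroup G, IsCyclic ↥A → IsCyclic ↥B → IsPGroup p ↥A → Nat.card ↥A = Nat.card ↥B → ∃ g : G, B = A.map (MulAut.conj g).toMonoidHom) (hE : Cfsg.layer G ≠ ⊥) :
    IsSimpleGroup (↥(Cfsg.layer G) ⧸ Subgroup.center ↥(Cfsg.layer G)) ∧ ¬ IsMulCommutative (↥(Cfsg.layer G) ⧸ Subgroup.center ↥(Cfsg.layer G)) := by
  have key : ∀ L M : Subgroup G, CompIn L ⊤ → CompIn M ⊤ → L ≠ M → ∀ x ∈ L, ∀ y ∈ M, ∀ a b, orderOf x = 2 ^ a →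
      orderOf y = 2 ^ b → b ≤ a → x ∉ centralizer (L : Set G) → y ∉ centralizer (M : Set G) → False := by
    intro L M hL hM hne x hx y hy a b ha hb hab hx' hy'
    have cc : ∀ {A B : Subgroup G}, CompIn A ⊤ → CompIn B ⊤ → A ≠ B → A ≤ centralizer (B : Set G) := fun hA hB h =>
      commutator_eq_bot_iff_le_centralizer.1 (hA.commutator_eq_bot_of_ne hB h)
    have cm : Commute x y := (cc hL hM hne hx y hy).symm
    have d : orderOf (x * y) ∣ 2 ^ a := orderOf_dvd_of_pow_eq_one (by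
      rw [cm.mul_pow, ← ha, pow_orderOf_eq_one, ha, orderOf_dvd_iff_pow_eq_one.1 (hb ▸ pow_dvd_pow 2 hab), mul_one])
    obtain ⟨c, hc, e⟩ := (Nat.dvd_prime_pow Nat.prime_two).1 d
    have ho : orderOf (x ^ 2 ^ (a - c)) = 2 ^ c := by
      rw [orderOf_pow' _ (by positivity), ha, Nat.gcd_eq_right (pow_dvd_pow 2 (by omega)),
        Nat.pow_div (by omega) two_pos]; congr 1; omega
    obtain ⟨g, hg⟩ := hP 2 Nat.prime_two (zpowers (x ^ 2 ^ (a - c))) (zpowers (x * y)) inferInstance inferInstance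
      (IsPGroup.of_card (n := c) (by rw [Nat.card_zpowers, ho])) (by rw [Nat.card_zpowers, Nat.card_zpowers, ho, e])
    have hN := hL.conj (g := g) (by simp)
    have hm : x * y ∈ L.map (MulAut.conj g).toMonoidHom :=
      map_mono (zpowers_le.2 (pow_mem hx _)) (hg ▸ mem_zpowers _)
    by_cases h : L.map (MulAut.conj g).toMonoidHom = L
    · exact hy' ((mul_mem_cancel_left (cc hL hM hne hx)).1 (cc hN hM (h.symm ▸ hne) hm))
    · exact hx' ((mul_mem_cancel_right (cc hM hL hne.symm hy)).1 (cc hN hL h hm))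
  obtain ⟨L, hL⟩ : ∃ L : Subgroup G, CompIn L ⊤ := by
    by_contra h
    exact hE (layer_eq_bot_iff.2 fun L hL => h ⟨L, compIn_top_iff.2 hL⟩)
  have : layer G = L := le_antisymm (layer_le_iff.2 fun M hM => by
    have hM := compIn_top_iff.2 hM
    by_contra hne
    have hne : L ≠ M := fun h => hne (h ▸ le_rfl)
    obtain ⟨x, hx, ⟨a, ha⟩, hx'⟩ := ex2 hL.qs
    obtain ⟨y, hy, ⟨b, hb⟩, hy'⟩ := ex2 hM.qs
    rcases le_total a b with h | h
    · exact key M L hM hL hne.symm y hy x hx b a hb ha h hy' hx'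
    · exact key L M hL hM hne x hx y hy a b ha hb h hx' hy') (layerIn_top (G := G) ▸ hL.le_layerIn)
  rw [this]
  exact ⟨hL.qs.2, nc hL.qs⟩

end Cfsg.Agent.S3915
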