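import Cfsg.Statements.S3035
import Cfsg.Agent.GW.D8A6
import Cfsg.Agent.Invol.ZS
import Mathlib.Tactic.Group

set_option autoImplicit false
open Cfsg

namespace Cfsg.Agent.S3035
open scoped commutatorElement

open Cfsg.Agent.GW Cfsg.Agent.Invol

/-- Let G be a finite group with an involution z whose centralizer is dihedral of order 8. Then G = C_G(z) O(G) with O(G) the largest normal subgroup of odd order, or G is isomorphic to the symmetric group of degree 4, the symmetric group of degree 5, the group SL₃(2), or the alternating group of degree 6. -/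
theorem result {G : Type*} [Group G] [Finite G] (z : G) (hz : orderOf z = 2)
    (hC : Nonempty (↥(Subgroup.centralizer ({z} : Set G)) ≃* DihedralGroup 4)) :
    Subgroup.centralizer ({z} : Set G) ⊔ Cfsg.oddCore G = ⊤ ∨ Nonempty (G ≃* Equiv.Perm (Fin 4)) ∨ Nonempty (G ≃* Equiv.Perm (Fin 5)) ∨
      Nonempty (G ≃* Matrix.SpecialLinearGroup (Fin 3) (ZMod 2)) ∨ Nonempty (G ≃* ↥(alternatingGroup (Fin 6))) := by
  obtain ⟨e⟩ := hC
  obtain ⟨φ, h, rfl⟩ := exists_isD8 hz e
  by_cases h0 : IsConj (φ (.r 2)) (φ (.sr 0)) <;> by_cases h1 : IsConj (φ (.r 2)) (φ (.sr 1))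
  · have := h.isSimpleGroup h0 h1
    rcases h.card_of_conj h0 h1 with hc | hc
    · exact Or.inr (Or.inr (Or.inr (Or.inl (equiv_SL3_of_card hc))))
    · exact Or.inr (Or.inr (Or.inr (Or.inr (S0497.result hc))))
  · rcases h.equiv_perm h0 h1 with hc | hc
    · exact Or.inr (Or.inl hc)
    · exact Or.inr (Or.inr (Or.inl hc))
  · rcases h.swap.equiv_perm h1 (fun hc => h0 (IsConj.trans hc IsD8.conj_s0_s2.symm)) with hc | hc
    · exact Or.inr (Or.inl hc)
    · exact Or.inr (Or.inr (Or.inl hc))
  · left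
    rw [eq_top_iff]
    intro g _
    obtain ⟨o, ho, c, hc, rfl⟩ := Isolated.factor (h.isolated h0 h1) g
    exact Subgroup.mul_mem _ (Subgroup.mem_sup_right ho)
      (Subgroup.mem_sup_left (mem_centralizer_singleton.2 hc))

end Cfsg.Agent.S3035
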