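import Cfsg.Statements.S3278
import Cfsg.Agent.GW.Four

set_option autoImplicit false
open Cfsg

namespace Cfsg.Agent.S3278

open Cfsg.Agent.BG Cfsg.Agent.GW Subgroup
open Cfsg.Agent.Invol hiding orderOf_conj'

/-- Let G be a finite simple group with an involution x such that a Sylow 2-subgroup of C_G(x) is a Klein four-group which is normal in C_G(x). Then G is isomorphic to the alternating group of degree 5 (that is, to PSL(2, 5)). -/
theorem result {G : Type*} [Group G] [Finite G] [IsSimpleGroup G] (x : G) (hx : orderOf x = 2)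
    (S₀ : Subgroup G) (hle : S₀ ≤ Subgroup.centralizer ({x} : Set G)) (hK : IsKleinFour ↥S₀)
    (hodd : ¬ 2 ∣ S₀.relIndex (Subgroup.centralizer ({x} : Set G))) (hn : (S₀.subgroupOf (Subgroup.centralizer ({x} : Set G))).Normal) :
    Nonempty (G ≃* ↥(alternatingGroup (Fin 5))) := by
  have hxV : x ∈ S₀ := by
    obtain ⟨k, hk⟩ := Nat.not_even_iff_odd.1 (mt even_iff_two_dvd.1 hodd)
    have : x ^ _ ∈ S₀ := (S₀.subgroupOf C1[x]).pow_index_mem ⟨x, cent1_self x⟩
    rwa [← relIndex, hk, pow_succ, pow_mul, sq, mul_self_of hx, one_pow, one_mul] at this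
  have c4 : 4 ∣ Nat.card G := hK.card_four ▸ card_subgroup_dvd_card S₀
  have hG : ¬ IsCyclic G := Small.not_isCyclic_of_card fun h => by
    have := (Nat.prime_dvd_prime_iff_eq Nat.prime_two h).1 (Dvd.dvd.trans (by norm_num) c4)
    rw [← this] at c4; omega
  have h2 : ∀ H : Subgroup G, H.index ≠ 2 := fun H h => by
    have := Nat.le_of_dvd (by simp) (h ▸ Small.two_mul_card_dvd hG (H := H) (by rintro rfl; simp at h))
    have := Nat.le_of_dvd Nat.card_pos c4
    simp at *; omega
  obtain ⟨P, rfl⟩ := sylow_of_four h2 hx hK hxV (by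
    rw [← card_mul_relIndex hle, hK.card_four]; omega)
  have I := Block.inv3_of_isKleinFour hK
  have hC : C1[x] = C[(P : Subgroup G)] := le_antisymm (fun g hg => I.mem_centralizer
    ((normal_subgroupOf_iff_le_normalizer hle).1 hn hg) hxV (ne_one_of hx) hg) (cent_le_cent1 hxV)
  have i2 : (zpowers x).relIndex P = 2 := by
    have := card_mul_relIndex (zpowers_le.2 hxV)
    rw [Nat.card_zpowers, hx, hK.card_four] at this; omega
  have h15 := index_le_of_klein hK (fun s t hs ht => (isConj_of_cyclic h2 P inferInstance i2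
    (mem_zpowers x) hx hs).symm.trans (isConj_of_cyclic h2 P inferInstance i2 (mem_zpowers x) hx ht)) hxV hx hC
  have h3 : C[(P : Subgroup G)].relIndex N[(P : Subgroup G)] = 3 := I.relIndex.resolve_left fun e => Small.not_le_centralizer hG
    (Dvd.dvd.trans (by norm_num) c4) P (relIndex_eq_one.1 e)
  have hN : N[(P : Subgroup G)] ≠ ⊤ := fun e => by
    rcases (normalizer_eq_top_iff.1 e).eq_bot_or_eq_top with r | r
    · exact ne_one_of hx (mem_bot.1 (r ▸ hxV))
    · exact h2 _ (by rwa [r, relIndex_top_right] at i2)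
  have d := Small.two_mul_card_dvd hG hN
  have e := relIndex_mul_index (cent_sub (P : Subgroup G))
  have o : ¬ 2 ∣ N[(P : Subgroup G)].index := fun r => P.not_dvd_index (r.trans (index_dvd_of_le le_normalizer))
  have c := C1[x].card_mul_index
  rw [← card_mul_relIndex hle, hK.card_four, hC, ← e, h3] at c
  rw [hC, ← e, h3] at h15
  have h1 := mt index_eq_one.1 hN
  obtain r | r : N[(P : Subgroup G)].index = 3 ∨ N[(P : Subgroup G)].index = 5 := by omega
  all_goals
    rw [r] at c d
    have := Nat.le_of_dvd (Nat.factorial_pos _) d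
    have := Nat.card_pos (α := G)
    simp only [Nat.factorial] at *
  · omega
  · exact Small.equiv_alternating r (by simp) (by simp only [Nat.factorial]; omega)

end Cfsg.Agent.S3278
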