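import Cfsg.Statements.S3277
import Cfsg.Agent.S3278
import Cfsg.Agent.Char.Burnside
import Cfsg.Agent.Invol.OddAut
import Cfsg.Agent.Gen.Invol
import Cfsg.Agent.Sig.Local
import Cfsg.Agent.FG.Compl
import Cfsg.Agent.Gen2.PPClass
import Cfsg.Agent.Invol.ZS
import Cfsg.Agent.Loc.Cons
import Cfsg.Agent.Loc.JC1

set_option autoImplicit false
open Cfsg

namespace Cfsg.Agent.S3277

open Subgroup Cfsg.Agent.BG Finset
open scoped Nat

theorem five_le {L : Type*} [Group L] [Finite L] (hp : commutator L = ⊤) {H : Subgroup L} (h : H ≠ ⊤) :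
    5 ≤ H.index := by
  by_contra hc
  have h1 : H.normalCore.index ∣ H.index ! := by
    rw [normalCore_eq_ker, index_ker, index_eq_card, ← Nat.card_perm]
    exact card_subgroup_dvd_card _
  have h2 : Nat.card (L ⧸ H.normalCore) ∣ 4 ! := h1.trans (Nat.factorial_dvd_factorial (by omega))
  haveI := Char.isSolvable_of_two_primes (G := L ⧸ H.normalCore) (p := 2) (q := 3) fun r hr hd => by
    have := (hr.dvd_factorial).1 (hd.trans h2)
    have := hr.two_le
    interval_cases r <;> simp_all (config := {decide := true})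
  have h3 : H.normalCore ≠ ⊤ := fun e => h (top_le_iff.1 (e ▸ H.normalCore_le))
  haveI := QuotientGroup.nontrivial_iff.2 h3
  refine (Group.IsSolvable.commutator_lt_top_of_nontrivial (L ⧸ H.normalCore)).ne ?_
  have := congrArg (map (QuotientGroup.mk' H.normalCore)) hp
  rwa [commutator_def, map_commutator, map_top_of_surjective _ (QuotientGroup.mk'_surjective _)] at this

/-- An involutory automorphism of a perfect group with trivial centre has more than two fixed points. -/
theorem count {L : Type*} [Group L] [Finite L] [Nontrivial L] (hp : commutator L = ⊤) (hz : center L = ⊥)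
    (α : L →* L) (h2 : ∀ a, α (α a) = a) (hf : #(α.eqLocus (.id L)) ≤ 2) : False := by
  classical
  haveI := Fintype.ofFinite L
  have c5 : ∀ g : L, g ≠ 1 → 5 * #C1[g] ≤ Fintype.card L := fun g hg => by
    have := five_le hp (H := C1[g]) fun e => hg (by
      rw [← mem_bot, ← hz, mem_center_iff]; exact fun y => mem_cent1.1 (e ▸ mem_top y))
    rw [← Nat.card_eq_fintype_card, ← C1[g].index_mul_card]
    exact Nat.mul_le_mul_right _ this
  have fib : ∀ {β : Type _} (s : Finset β) (H : Subgroup L) (ψ : β → L), Set.InjOn ψ s →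
      (∀ a ∈ s, ∀ b ∈ s, ψ a * (ψ b)⁻¹ ∈ H) → s.card ≤ #H := fun s H ψ hi h => by
    rcases s.eq_empty_or_nonempty with rfl | ⟨b, hb⟩
    · simp
    rw [← Nat.card_eq_finsetCard]
    exact Nat.card_le_card_of_injective (fun a : s => (⟨_, h a a.2 b hb⟩ : H)) fun a a' e =>
      Subtype.ext (hi a.2 a'.2 (mul_right_cancel (congrArg Subtype.val e)))
  let I := univ.filter fun n => α n = n⁻¹
  have h1 : Fintype.card L ≤ 2 * I.card := card_le_mul_card_image_of_maps_to (s := univ)
    (f := fun n => n⁻¹ * α n) (fun n _ => by simp [I, h2]) 2 fun b _ =>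
      (fib _ (α.eqLocus (.id L)) id (Set.injOn_id _) fun a ha c hc => by
        have e : a⁻¹ * α a = c⁻¹ * α c := (mem_filter.1 ha).2.trans (mem_filter.1 hc).2.symm
        show α (a * c⁻¹) = a * c⁻¹
        rw [map_mul, map_inv, inv_mul_eq_iff_eq_mul.1 e]; group).trans hf
  have h3 : I.offDiag.card ≤ Fintype.card L / 5 * (univ.erase (1 : L)).card :=
    card_le_mul_card_image_of_maps_to (f := fun p => p.1 * p.2⁻¹)
      (fun p hp => by simpa [mul_inv_eq_one] using (mem_offDiag.1 hp).2.2) _ fun g hg =>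
      (fib _ C1[g] Prod.fst (fun a ha b hb e => Prod.ext e (inv_injective (mul_left_cancel (a := a.1)
        (((mem_filter.1 ha).2.trans (mem_filter.1 hb).2.symm).trans (by rw [e]))))) fun a ha b hb => by
        have k : ∀ p ∈ I.offDiag.filter fun p => p.1 * p.2⁻¹ = g, α g = p.1⁻¹ * g⁻¹ * p.1 := fun p hp => by
          obtain ⟨hp', e⟩ := mem_filter.1 hp
          obtain ⟨p1, p2, -⟩ := mem_offDiag.1 hp'
          rw [← e, map_mul, map_inv, (mem_filter.1 p1).2, (mem_filter.1 p2).2]; group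
        have e := (k a ha).symm.trans (k b hb)
        refine mem_cent1.2 ?_
        calc _ = a.1 * (b.1⁻¹ * g⁻¹ * b.1)⁻¹ * b.1⁻¹ := by group
          _ = _ := by rw [← e]; group).trans
      ((Nat.le_div_iff_mul_le (by norm_num)).2 (mul_comm 5 _ ▸ c5 g (ne_of_mem_erase hg)))
  obtain ⟨g, hg⟩ := exists_ne (1 : L)
  have h4 := c5 g hg
  have h5 : 1 < #C1[g] := (one_lt_card_iff_ne_bot _).2 fun e => hg (mem_bot.1 (e ▸ mem_cent1.2 rfl))
  rw [offDiag_card, card_erase_of_mem (mem_univ _), card_univ] at h3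
  obtain ⟨n, hn⟩ : ∃ n, Fintype.card L = n + 1 := ⟨Fintype.card L - 1, by omega⟩
  have h6 := Nat.div_mul_le_self (n + 1) 5
  rw [hn] at h1 h3 h4
  rw [Nat.add_sub_cancel, tsub_le_iff_right] at h3
  nlinarith

theorem mem_of {G : Type*} [Group G] [Finite G] {L : Subgroup G} {x : G} (x2 : x * x = 1) (h4 : #C1[x] ≤ 4)
    (h0 : L ≠ ⊥) (hp : ⁅L, L⁆ = L) (hz : L ⊓ C[L] = ⊥) (hn : x ∈ N[L]) : x ∈ L ∧ 2 < #(L ⊓ C1[x] : Subgroup G) := by
  haveI := (L.nontrivial_iff_ne_bot).2 h0
  have h1 : 2 < #(L ⊓ C1[x] : Subgroup G) := lt_of_not_ge fun hc => count (L := L)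
    (map_injective L.subtype_injective (by rw [map_subtype_commutator, map_subtype_top, hp]))
    (eq_bot_iff.2 fun z hz' => Subtype.ext (mem_bot.1 (hz ▸ ⟨z.2, fun y hy =>
      congrArg Subtype.val (mem_center_iff.1 hz' ⟨y, hy⟩)⟩ : (z : G) ∈ ⊥)))
    (Invol.conjEnd L hn) (fun a => Subtype.ext (by
      rw [Invol.coe_conjEnd, Invol.coe_conjEnd, show x * (x * a * x⁻¹) * x⁻¹ = x * x * a * (x * x)⁻¹ by group, x2]
      simp))
    ((Nat.card_le_card_of_injective (fun a : (Invol.conjEnd L hn).eqLocus (.id L) => (⟨a.1.1, a.1.2, mem_cent1.2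
      (mul_inv_eq_iff_eq_mul.1 (congrArg Subtype.val a.2)).symm⟩ : (L ⊓ C1[x] : Subgroup G)))
      fun a b e => Subtype.ext (Subtype.ext (congrArg (fun z : (L ⊓ C1[x] : Subgroup G) => (z : G)) e))).trans hc)
  refine ⟨by_contra fun hx => ?_, h1⟩
  have h2 := card_mul_relIndex (inf_le_right : L ⊓ C1[x] ≤ _)
  have h3 : (L ⊓ C1[x]).relIndex C1[x] ≠ 1 := fun e => hx (relIndex_eq_one.1 e (mem_cent1.2 rfl)).1
  have := relIndex_pos (L ⊓ C1[x]) C1[x]
  have : 2 ≤ (L ⊓ C1[x]).relIndex C1[x] := by omega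
  nlinarith

theorem simple_of {G : Type*} [Group G] [Finite G] {M : Subgroup G} {x : G} (x2 : x * x = 1) (x1 : x ≠ 1)
    (h4 : #C1[x] ≤ 4) (hM : MinNormal M ⊤) (hs : ¬ Group.IsSolvable M) :
    x ∈ M ∧ 2 < #(M ⊓ C1[x] : Subgroup G) ∧ IsSimpleGroup M := by
  have key : ∀ {L H : Subgroup G}, MinNormal L H → ¬ Group.IsSolvable L → ∀ y ∈ H, y * y = 1 → #C1[y] ≤ 4 →
      y ∈ L ∧ 2 < #(L ⊓ C1[y] : Subgroup G) := fun {L H} h hs y hy y2 y4 => by
    refine mem_of y2 y4 h.ne ((h.min _ (der_sub L) (norms_der h.norm)).resolve_left fun e => hs ?_)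
      ((h.min _ inf_le_left (norms_center h.norm)).resolve_right fun e => hs ?_) (h.norm hy)
    · exact abelian_sol (der1_eq_bot.1 e)
    · exact abelian_sol (abelian_iff.2 (e.ge.trans inf_le_right))
  obtain ⟨h1, h2⟩ := key hM hs x trivial x2 h4
  haveI : M.Normal := normalizer_eq_top_iff.1 (top_le_iff.1 hM.norm)
  haveI := (M.nontrivial_iff_ne_bot).2 hM.ne
  refine ⟨h1, h2, ⟨fun K hK => or_iff_not_imp_left.2 fun h0 => ?_⟩⟩
  obtain ⟨L, hL, hLK⟩ := minnormal_exists (H := K.map M.subtype) (M := M)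
    (fun e => h0 (map_injective M.subtype_injective (by rw [e, Subgroup.map_bot]))) (normal_map_subtype hK).2
  have hLM := hLK.trans (map_subtype_le K)
  have sL : ¬ Group.IsSolvable L := fun sL => by
    obtain ⟨p, hp, hE⟩ := minnormal_solvable hL le_rfl sL
    haveI := Fact.mk hp
    rcases hM.min _ (pcore_sub {p} M) (norms_pcore _ hM.norm) with e | e
    · exact hL.ne (le_bot_iff.1 (e ▸ pcore_max ⟨hLM, hL.norm⟩ (IsPGroup.pi (hE.pg))))
    · have := (e ▸ Op_pgroup p M : IsPGroup p M).isNilpotent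
      exact hs inferInstance
  have hn : ⊤ ≤ N[L] := fun g _ => by
    have a := (key hL sL x h1 x2 h4).1
    have b := (key hL sL (g * x * g⁻¹) (conj_mem_of_norm (hM.norm trivial) h1)
      (by rw [conj_mul, x2]; simp) (by rw [C1_conj, card_cj]; exact h4)).1
    have c : M ≤ N[cj g L] := by
      have := cj_mono g hL.norm
      rwa [mem_norm.1 (hM.norm (mem_top g)), ← N_cj] at this
    rcases hL.min _ (inf_le_left : L ⊓ cj g L ≤ L) (normsI hL.norm c) with e | e
    · have : g * x * g⁻¹ ∈ L ⊓ cj g L := ⟨b, conj_mem_cj g a⟩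
      rw [e, mem_bot] at this
      exact absurd (by simpa using this) x1
    · exact mem_norm.2 (eq_of_le_of_card_ge (e.ge.trans inf_le_right) (card_cj _ _).le).symm
  have e := hM.map_eq hLM hn hL.ne
  exact map_injective M.subtype_injective (by
    rw [map_subtype_top]; exact (map_subtype_le K).antisymm (e.ge.trans hLK))

theorem inv15 : (univ.filter fun a : alternatingGroup (Fin 5) => a * a = 1 ∧ a ≠ 1).card = 15 := by
  decide +kernel

/-- Let G be a finite group containing an involution whose centralizer is elementary abelian of order 4. If G has no normal 2-complement and no normal elementary abelian 2-subgroup of order 2 or 4, then G is isomorphic to the alternating group of degree 5 (that is, to PSL(2, 5)). -/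
theorem result {G : Type*} [Group G] [Finite G] (x : G) (hx : orderOf x = 2)
    (hC4 : Nat.card ↥(Subgroup.centralizer ({x} : Set G)) = 4) (hCe : ∀ c ∈ Subgroup.centralizer ({x} : Set G), c ^ 2 = 1)
    (hnc : ¬ Cfsg.HasNormalPComplement 2 G)
    (hne : ∀ E : Subgroup G, E.Normal → Cfsg.IsElementaryAbelian 2 E → Nat.card ↥E ≠ 2 ∧ Nat.card ↥E ≠ 4) :
    Nonempty (G ≃* ↥(alternatingGroup (Fin 5))) := by
  classical
  have x2 : x * x = 1 := by rw [← sq, ← hx, pow_orderOf_eq_one]
  have x1 : x ≠ 1 := fun e => by rw [e, orderOf_one] at hx; omega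
  have px : IsPGroup 2 (zpowers x) := IsPGroup.of_card (n := 1) (by rw [Nat.card_zpowers, hx]; rfl)
  have o2 : Op 2 (⊤ : Subgroup G) = ⊥ := by
    by_contra h0
    obtain ⟨Z, hZ, hZ2⟩ := minnormal_exists h0 (pcore_normal _ _).2
    have pZ := (Op_pgroup 2 _).to_le hZ2
    obtain ⟨p, hp, hE⟩ := minnormal_solvable hZ le_rfl (pgroup_sol pZ)
    haveI : Z.Normal := normalizer_eq_top_iff.1 (top_le_iff.1 hZ.norm)
    obtain ⟨k, hk⟩ := pZ.exists_card_eq
    have k0 : k ≠ 0 := fun e => hZ.ne (card_eq_one.1 (by rw [hk, e, pow_zero]))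
    obtain rfl : p = 2 := by
      haveI := Fact.mk hp
      obtain ⟨l, hl⟩ := (hE.pg).exists_card_eq
      exact ((Nat.prime_dvd_prime_iff_eq Nat.prime_two hp).1 (Nat.prime_two.dvd_of_dvd_pow
        (hl ▸ hk ▸ dvd_pow_self 2 k0 : 2 ∣ p ^ l))).symm
    have h4 : #Z ≤ 4 := by
      by_cases hxZ : x ∈ Z
      · exact hC4 ▸ card_le_card fun z hz => mem_cent1.2
          (congrArg Subtype.val (hE.1.is_comm.comm ⟨z, hz⟩ ⟨x, hxZ⟩))
      have h2 := card_mul_relIndex (inf_le_right : Z ⊓ C1[x] ≤ _)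
      have h3 : (Z ⊓ C1[x]).relIndex C1[x] ≠ 1 := fun e => hxZ (relIndex_eq_one.1 e (mem_cent1.2 rfl)).1
      have := relIndex_pos (Z ⊓ C1[x]) C1[x]
      have h5 : #(Z ⊓ C1[x] : Subgroup G) ≤ 2 := by
        have : 2 ≤ (Z ⊓ C1[x]).relIndex C1[x] := by omega
        nlinarith
      exact (Loc.card_le_sq hE (hZ.norm trivial) x2).trans (Nat.pow_le_pow_left h5 2)
    have := hne Z inferInstance hE
    rw [hk] at this h4
    have : k < 3 := (Nat.pow_lt_pow_iff_right one_lt_two).1 (by omega)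
    interval_cases k <;> simp_all
  set O := pPrimeCore 2 G with hO
  have oO : Odd #O := Invol.odd_oddCore
  have inv : ∀ g : G, ∀ k ∈ O, g * x * g⁻¹ * k * (g * x * g⁻¹)⁻¹ = k⁻¹ := fun g k hk => by
    have := (Loc.fpf_invol (K := O) (norm_of_normal _ ⊤ trivial) x2 (coprime_TI (by
      rw [hC4]; exact (Nat.coprime_two_right.2 oO).pow_right 2))).2.2 (g⁻¹ * k * g)
      (conj_mem_of_norm' (norm_of_normal _ ⊤ trivial) hk)
    calc _ = g * (x * (g⁻¹ * k * g) * x⁻¹) * g⁻¹ := by group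
      _ = _ := by rw [this]; group
  have ab : O ≤ C[O] := (Loc.fpf_invol (K := O) (norm_of_normal _ ⊤ trivial) x2 (coprime_TI (by
      rw [hC4]; exact (Nat.coprime_two_right.2 oO).pow_right 2))).1
  let f := QuotientGroup.mk' O
  have hf : Function.Surjective f := QuotientGroup.mk'_surjective O
  have hk : f.ker = O := QuotientGroup.ker_mk' O
  have cf : C1[f x] = C1[x].map f := by
    have := Sig.map_inf_centralizer_of_coprime_ker (p := 2) (K := ⊤) f
      (by rw [hk, inf_top_eq]; exact Nat.coprime_two_right.2 oO) px (norm_of_normal _ _)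
    rw [top_inf_eq, map_top_of_surjective f hf, top_inf_eq, MonoidHom.map_zpowers] at this
    rw [← C_zpowers, ← C_zpowers, this]
  have c4 : #C1[f x] ∣ 4 := by rw [cf, ← hC4]; exact card_map_dvd _ _
  by_cases h0 : (C[O]).map f = ⊥
  · refine absurd (FG.hasNormalPComplement_iff_top.2 ?_) hnc
    have : C1[f x] = ⊤ := eq_top_iff.2 fun y _ => by
      obtain ⟨g, rfl⟩ := hf y
      have : f (g * x * g⁻¹ * x⁻¹) ∈ (C[O]).map f := mem_map_of_mem f fun k hk => by
        have a := inv g _ (inv_mem hk)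
        have b := inv 1 _ hk
        simp only [one_mul, inv_one, mul_one, inv_inv] at a b
        calc _ = (g * x * g⁻¹ * k⁻¹ * (g * x * g⁻¹)⁻¹) * (g * x * g⁻¹ * x⁻¹) := by rw [a]
          _ = g * x * g⁻¹ * x⁻¹ * (x * k⁻¹ * x⁻¹) := by group
          _ = _ := by rw [← conj_inv, b, inv_inv]
      rw [h0, mem_bot] at this
      simpa only [mem_cent1, map_mul, map_inv, mul_inv_eq_iff_eq_mul, one_mul] using this
    rw [this, card_top] at c4
    refine pHall_mk le_top (pcore_pgroup _ _) ?_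
    rw [Op'_top, relIndex_top_right, compl_compl]
    exact (pnat_pow_self Nat.prime_two 2).of_dvd c4
  obtain ⟨M, hM, hMC⟩ := minnormal_exists (M := ⊤) h0 (norm_of_normal _ _)
  haveI : M.Normal := normalizer_eq_top_iff.1 (top_le_iff.1 hM.norm)
  have hMC' : M.comap f ≤ C[O] := by
    have := comap_mono (f := f) hMC
    rwa [comap_map_eq, hk, sup_eq_left.2 ab] at this
  have hs : ¬ Group.IsSolvable M := fun hs => by
    obtain ⟨p, hp, hE⟩ := minnormal_solvable hM le_rfl hs
    haveI := Fact.mk hp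
    by_cases p2 : p = 2
    · subst p2
      obtain ⟨P, hP⟩ := Sylow_exists 2 (M.comap f)
      have h1 := pHall_map f hP
      rw [map_comap_eq_self_of_surjective hf] at h1
      have h2 := Hall_max h1 h1.le le_rfl (IsPGroup.pi (hE.pg))
      have h3 : M.comap f ≤ N[P] := by
        rw [h2, comap_map_eq, hk]
        exact sup_le le_normalizer (cents_norm (cents_symm (hP.le.trans hMC')))
      have h4 := Frattini_arg (M := ⊤) ⟨le_top, norm_of_normal _ _⟩ hP
      have h5 : P ≤ Op 2 ⊤ := pcore_max ⟨le_top, h4.ge.trans (sup_le h3 inf_le_right)⟩ hP.pi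
      rw [o2, le_bot_iff] at h5
      exact hM.ne (by rw [h2, h5, Subgroup.map_bot])
    · have := pcore_max ⟨le_top, hM.norm⟩ (p'group_of_ne (hE.pg) p2)
      change M ≤ Op' 2 ⊤ at this
      rw [Op'_top, Solv.pPrimeCore_quotient_pPrimeCore] at this
      exact hM.ne (le_bot_iff.1 this)
  have fx1 : f x ≠ 1 := fun e => by
    have : x ∈ O := hk ▸ e
    have := O.orderOf_dvd_natCard this
    rw [hx] at this; exact (Nat.not_even_iff_odd.2 oO) (even_iff_two_dvd.2 this)
  have fx2 : f x * f x = 1 := by rw [← map_mul, x2, map_one]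
  obtain ⟨h1, h2, h3⟩ := simple_of fx2 fx1 (Nat.le_of_dvd (by norm_num) c4) hM hs
  have O0 : O = ⊥ := eq_bot_iff.2 fun k hk' => by
    have : k ∈ O ⊓ C1[x] := ⟨hk', mem_cent1.2 (hMC' h1 k hk')⟩
    rwa [coprime_TI (by rw [hC4]; exact (Nat.coprime_two_right.2 oO).pow_right 2)] at this
  have e : G ≃* G ⧸ O := .ofBijective f ⟨(MonoidHom.ker_eq_bot_iff f).1 (hk.trans O0), hf⟩
  have c4' : #C1[f x] = 4 := le_antisymm (Nat.le_of_dvd (by norm_num) c4) (by
    rw [cf, card_map_of_injective ((MonoidHom.ker_eq_bot_iff f).1 (hk.trans O0)), hC4])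
  have hV : C1[f x] ≤ M := by
    have := card_dvd_of_le (inf_le_right : M ⊓ C1[f x] ≤ _)
    rw [c4'] at this
    have h5 := Nat.le_of_dvd (by norm_num) this
    refine (eq_of_le_of_card_ge inf_le_right ?_).ge.trans inf_le_left
    rw [c4']
    by_contra hc
    rw [show #(M ⊓ C1[f x] : Subgroup _) = 3 by omega] at this; omega
  let y : M := ⟨f x, h1⟩
  have ey : C1[y] = (C1[f x]).subgroupOf M := by
    ext z; simp only [mem_cent1, mem_subgroupOf, Subtype.ext_iff]; rfl
  have cy : #C1[y] = 4 := by rw [ey, Nat.card_congr (subgroupOfEquivOfLe hV).toEquiv, c4']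
  have hexp : Monoid.exponent C1[y] = 2 := by
    haveI : Nontrivial C1[y] := Finite.one_lt_card_iff_nontrivial.1 (by omega)
    refine (Monoid.exponent_eq_prime_iff Nat.prime_two).2 fun z z1 => orderOf_eq_prime ?_ z1
    obtain ⟨w, hw, e⟩ : (z.1.1 : G ⧸ O) ∈ C1[x].map f := cf ▸ (ey ▸ z.2 : z.1 ∈ (C1[f x]).subgroupOf M)
    exact Subtype.ext (Subtype.ext (show z.1.1 ^ 2 = 1 by rw [← e, ← map_pow, hCe w hw, map_one]))
  obtain ⟨a⟩ := S3278.result y (orderOf_eq_prime (Subtype.ext (by rw [Subgroup.coe_pow, sq]; exact fx2))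
    fun c => fx1 (congrArg Subtype.val c)) C1[y] le_rfl ⟨cy, hexp⟩ (by rw [relIndex_self]; decide)
    (by rw [subgroupOf_self]; infer_instance)
  have cM : #M = 60 := by
    rw [Nat.card_congr a.toEquiv, nat_card_alternatingGroup]; simp; rfl
  have hi : C1[f x].index ≤ 15 := by
    rw [← Gen2.card_carrier_mk, ← inv15, ← Nat.card_eq_finsetCard]
    have k : ∀ c : (ConjClasses.mk (f x)).carrier, ∃ g, g * f x * g⁻¹ = c := fun c =>
      isConj_iff.1 (ConjClasses.mk_eq_mk_iff_isConj.1 (ConjClasses.mem_carrier_iff_mk_eq.1 c.2).symm)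
    have m : ∀ c : (ConjClasses.mk (f x)).carrier, c.1 ∈ M := fun c => by
      obtain ⟨g, e⟩ := k c; exact e ▸ conj_mem_of_norm (hM.norm trivial) h1
    refine Nat.card_le_card_of_injective (fun c => ⟨a ⟨c, m c⟩, mem_filter.2 ⟨mem_univ _, ?_, fun e => ?_⟩⟩)
      fun c d e => Subtype.ext (Subtype.ext_iff.1 (a.injective (Subtype.ext_iff.1 e)) :)
    · obtain ⟨g, e⟩ := k c
      rw [← map_mul, a.map_eq_one_iff]
      exact Subtype.ext (show c.1 * c.1 = 1 by rw [← e, conj_mul, fx2]; simp)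
    · obtain ⟨g, e'⟩ := k c
      have : c.1 = 1 := congrArg Subtype.val (a.map_eq_one_iff.1 e)
      exact fx1 (by simpa [this] using e')
  have := C1[f x].card_mul_index
  have : M = ⊤ := eq_of_le_of_card_ge le_top (by rw [card_top, cM]; nlinarith)
  exact ⟨e.trans ((topEquiv.symm.trans (MulEquiv.subgroupCongr this.symm)).trans a)⟩

end Cfsg.Agent.S3277
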