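import Cfsg.Statements.S2133
import Cfsg.Agent.Comp.Tv
import Cfsg.Agent.Golay.Classes

set_option autoImplicit false
open Cfsg

namespace Cfsg.Agent.S2133

open Cfsg.Agent.Comp Cfsg.Agent.Golay

def L : List ℕ := [610967761205952369356358925541737541, 112509719980295121051305783925595601, 29415009036994604398546549813068919, 610972711791184720857040928538394722, 717412106806551736819267410091671586, 965128854020860192151391391390468128]


/-- The Mathieu group M₂₄ (the automorphism group of the length-24 binary code) has an involution whose centraliser is isomorphic to the centraliser of a transvection in SL(5, 2) (a group of shape 2^{1+6}:GL(3, 2)). -/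
theorem result (s : Matrix.SpecialLinearGroup (Fin 5) (ZMod 2)) (hs : (s : Matrix (Fin 5) (Fin 5) (ZMod 2)) = Matrix.transvection 0 1 1) : ∃ z : ↥Cfsg.M24, orderOf z = 2 ∧ Nonempty (↥(Subgroup.centralizer ({z} : Set ↥Cfsg.M24)) ≃* ↥(Subgroup.centralizer ({s} : Set (Matrix.SpecialLinearGroup (Fin 5) (ZMod 2))))) := by
  have h1 : CodesIn RM L CA := codes_cent rep_zA.1 (by decide +kernel)
  obtain ⟨e⟩ := equiv_of_lifts Known.TvP.lifts par24 h1
    (closureM h1 [21, 22, 15, 4] [] card_CA (by decide +kernel)) base_all (by decide +kernel) Known.TvP.card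
    card_CA (by decide)
  obtain ⟨f⟩ := (Tv.card_equiv s hs).2
  exact ⟨zA, order_zA, ⟨e.symm.trans f⟩⟩

end Cfsg.Agent.S2133
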