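import Cfsg.Statements.S2299
import Cfsg.Agent.Classical.SL2CharVal

set_option autoImplicit false
open Cfsg

namespace Cfsg.Agent.S2299

open Cfsg.Agent.Classical Cfsg.Agent.Char Cfsg.Agent.CharDeep Matrix

/-- Over a finite field F with q elements, q odd, every irreducible complex character of SL₂ has degree 1, q, q + 1, q − 1, (q + 1)/2 or (q − 1)/2; and when q ≥ 5 (so that these six numbers are distinct) there are exactly one irreducible character of degree 1, one of degree q, (q − 3)/2 of degree q + 1, (q − 1)/2 of degree q − 1, two of degree (q + 1)/2 and two of degree (q − 1)/2. -/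
theorem result {F : Type*} [Field F] [Fintype F] (hodd : Odd (Fintype.card F)) :
    (∀ χ : Matrix.SpecialLinearGroup (Fin 2) F → ℂ, Cfsg.IsIrrCharacter (Matrix.SpecialLinearGroup (Fin 2) F) χ →
      χ 1 = 1 ∨ χ 1 = (Fintype.card F : ℂ) ∨ χ 1 = (Fintype.card F : ℂ) + 1 ∨ χ 1 = (Fintype.card F : ℂ) - 1 ∨
        χ 1 = (((Fintype.card F + 1) / 2 : ℕ) : ℂ) ∨ χ 1 = (((Fintype.card F - 1) / 2 : ℕ) : ℂ)) ∧
    (5 ≤ Fintype.card F →
      Nat.card {χ : Cfsg.IrrCharacter (Matrix.SpecialLinearGroup (Fin 2) F) // (χ : Matrix.SpecialLinearGroup (Fin 2) F → ℂ) 1 = 1} = 1 ∧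
      Nat.card {χ : Cfsg.IrrCharacter (Matrix.SpecialLinearGroup (Fin 2) F) // (χ : Matrix.SpecialLinearGroup (Fin 2) F → ℂ) 1 = (Fintype.card F : ℂ)} = 1 ∧
      Nat.card {χ : Cfsg.IrrCharacter (Matrix.SpecialLinearGroup (Fin 2) F) // (χ : Matrix.SpecialLinearGroup (Fin 2) F → ℂ) 1 = (Fintype.card F : ℂ) + 1} = (Fintype.card F - 3) / 2 ∧
      Nat.card {χ : Cfsg.IrrCharacter (Matrix.SpecialLinearGroup (Fin 2) F) // (χ : Matrix.SpecialLinearGroup (Fin 2) F → ℂ) 1 = (Fintype.card F : ℂ) - 1} = (Fintype.card F - 1) / 2 ∧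
      Nat.card {χ : Cfsg.IrrCharacter (Matrix.SpecialLinearGroup (Fin 2) F) // (χ : Matrix.SpecialLinearGroup (Fin 2) F → ℂ) 1 = (((Fintype.card F + 1) / 2 : ℕ) : ℂ)} = 2 ∧
      Nat.card {χ : Cfsg.IrrCharacter (Matrix.SpecialLinearGroup (Fin 2) F) // (χ : Matrix.SpecialLinearGroup (Fin 2) F → ℂ) 1 = (((Fintype.card F - 1) / 2 : ℕ) : ℂ)} = 2) := by
  classical
  obtain ⟨t, ht⟩ := sl_exists_noEig (F := F)
  have h2 : (2 : F) ≠ 0 := two_ne_zero_iff_odd.2 (by rwa [Nat.card_eq_fintype_card])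
  have hg : Nat.gcd 2 (Nat.card F - 1) = 2 := by
    rw [Nat.card_eq_fintype_card]
    exact Nat.gcd_eq_left (by obtain ⟨k, hk⟩ := hodd; omega)
  refine ⟨fun χ hχ => ?_, fun hq => ⟨?_, ?_, ?_, ?_, ?_, ?_⟩⟩
  · rcases sl_irr_cases ht hχ with rfl | rfl | ⟨α, -, rfl⟩ | ⟨θ, -, rfl⟩ | ⟨α, -, -, h⟩ |
      ⟨θ, -, -, h⟩
    · simp
    · simp [Sts_one]
    · simp [Rs_one]
    · simp [Ps_one]
    · simp [h.Rs_one h2]
    · simp [h.Ps_one h2]
  · exact card_irr_eq_one (P := fun χ => χ 1 = 1) isIrrCharacter_one rfl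
      fun χ h1 h => sl_irr_deg_one (by omega) h1 h
  · exact card_irr_eq_one (P := fun χ => χ 1 = (Fintype.card F : ℂ)) isIrr_Sts Sts_one
      fun χ h1 h => sl_irr_deg_card h1 h
  · have := two_mul_card_irr_succ (F := F)
    rw [hg, Nat.card_eq_fintype_card (α := F)] at this
    omega
  · have := two_mul_card_irr_pred (F := F) (by omega)
    rw [hg, Nat.card_eq_fintype_card (α := F)] at this
    omega
  · obtain ⟨α, h1, h3, h4⟩ := exists_quadratic_mulChar h2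
    obtain ⟨χ, hχ⟩ := (exists_half_Rs h1 h3).1
    refine card_irr_half (P := fun χ => χ 1 = (((Fintype.card F + 1) / 2 : ℕ) : ℂ)) hχ
      fun χ' h' => ⟨fun h => ?_, fun h => h.Rs_one h2⟩
    obtain ⟨β, e1, e2, e3⟩ := sl_irr_deg_half_succ hodd hq h' h
    rwa [h4 β e1 e2] at e3
  · obtain ⟨α, h1, h3, h4⟩ := exists_quadratic_hom h2 ht
    obtain ⟨χ, hχ⟩ := (exists_half_Ps ht h1 h3).1
    refine card_irr_half (P := fun χ => χ 1 = (((Fintype.card F - 1) / 2 : ℕ) : ℂ)) hχ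
      fun χ' h' => ⟨fun h => ?_, fun h => h.Ps_one h2⟩
    obtain ⟨β, e1, e2, e3⟩ := sl_irr_deg_half_pred ht hodd hq h' h
    rwa [h4 β e1 e2] at e3

end Cfsg.Agent.S2299
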