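import Cfsg.Statements.S4504
import Cfsg.Agent.CH.Low5
import Cfsg.Agent.CH.Low1
import Cfsg.Agent.CharDeep.Gallagher
import Cfsg.Agent.Small.Princ

set_option autoImplicit false
open Cfsg

namespace Cfsg.Agent.S4504

open Cfsg.Agent.Small Cfsg.Agent.CH.Low Cfsg.Agent.Char Cfsg.Agent.CharDeep in

/-- Let G be a finite group whose order is divisible by the prime p exactly once and which has no normal subgroup of order p. If G has a faithful character of degree exactly (p − 1)/2, then G modulo its centre is isomorphic to PSL(2, p). -/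
theorem result {G : Type*} [Group G] [Finite G] (p : ℕ) (hp : p.Prime) (hdiv : p ∣ Nat.card G) (hsq : ¬ p ^ 2 ∣ Nat.card G) (hnn : ∀ H : Subgroup G, H.Normal → Nat.card H ≠ p) (χ : G → ℂ) (hχ : Cfsg.IsCharacter G χ) (hfaith : ∀ g : G, χ g = χ 1 → g = 1) (hdeg : 2 * Cfsg.charDegree χ + 1 = p) : Nonempty ((G ⧸ Subgroup.center G) ≃* Matrix.ProjectiveSpecialLinearGroup (Fin 2) (ZMod p)) := by
  have : Fact p.Prime := ⟨hp⟩
  obtain ⟨x, K, h⟩ := exists_defOne_of_dvd hdiv hsq
  have hn : ¬ (Subgroup.zpowers x).Normal := fun e => hnn _ e (by rw [Nat.card_zpowers, h.ord])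
  have := Fintype.ofFinite K
  have := Fintype.ofFinite G
  have := Fintype.ofFinite (Subgroup.normalClosure {x})
  obtain ⟨φ₀, h1, h2⟩ := h.exists_nonlinear hn hχ hfaith
  obtain ⟨K', h'⟩ := h.exists_defOne_subgroup (H := Subgroup.normalClosure {x})
    (Subgroup.subset_normalClosure rfl)
  have := Fintype.ofFinite K'
  have h3 := h'.le_two_mul_degree_of_gen h.eq_top_normalClosure h1
  have h4 : (χ 1).re ≤ (φ₀.1 1).re := by
    rw [hχ.apply_one_eq_charDegree, φ₀.2.apply_one_eq_charDegree]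
    exact_mod_cast (by omega : charDegree χ ≤ charDegree φ₀.1)
  have h5 := eq_of_constituent_of_re_le (hχ.restrict _) φ₀.2 h2 h4
  have hres : IsIrrCharacter _ fun g : Subgroup.normalClosure {x} => χ g := h5 ▸ φ₀.2
  have hd : charDegree φ₀.1 = charDegree χ := by rw [← h5]; rfl
  have hpos := φ₀.2.charDegree_pos
  have hζ : IsIrrCharacter G χ := by
    obtain ⟨ψ, hψ, e1, e2⟩ := exists_constituent_comp (Subgroup.subtype _) hχ.isClassFunction h2
    rw [eq_of_constituent_of_re_le hχ hψ e1 (h4.trans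
      ((hψ.isCharacter.restrict _).apply_one_re_le_of_classInner_ne_zero φ₀.2 e2))]
    exact hψ
  have hker : charKer χ = ⊥ := eq_bot_iff.2 fun g hg => hfaith g (hχ.mem_charKer.1 hg)
  obtain ⟨θ, X, φ, δ, ε, a, s, ha, h6 | h6⟩ := h.low_cases (χ := ⟨χ, hζ⟩) (by simp only; omega)
    fun e => ne_one h (hfaith x e)
  swap
  · simp only at h6; omega
  obtain rfl : χ = (φ a).1 := by rw [ha]
  have hE : Nat.card E[h] ≠ 1 := fun e => by
    have h7 := s.mem_charCenter_of_card a h6.1 h6.2 e
    rw [hζ.charCenter_eq_center hker] at h7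
    exact hn (h.normal_of_forall_mem_Nx fun g => mem_Nx_of_comm
      (Subgroup.mem_center_iff.1 h7 _).symm)
  have hE0 : 0 < Nat.card E[h] := Nat.card_pos
  obtain ⟨-, h7, h8⟩ := s.core a h6.1 h6.2 (by omega) (by omega) fun β e1 e2 => by
    have h7 : IsIrrCharacter G β.1 ∧ ∀ n ∈ Subgroup.normalClosure {x}, β.1 n = β.1 1 := by
      have := β.2.isClassFunction.normal_charKer
      refine ⟨β.2, fun n hn => β.2.isCharacter.mem_charKer.1 (Subgroup.normalClosure_le_normal
        (N := charKer β.1) ?_ hn)⟩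
      rintro _ rfl
      exact β.2.isCharacter.mem_charKer.2 e2
    have h8 := gallagher_bijOn_one _ hχ hres
    rw [classInner_mul_left] at e1
    have h9 := hζ.eq_of_classInner_ne_zero (h8.mapsTo h7).1 (by
      convert e1 using 2
      ext g
      simp [mul_comm])
    exact Subtype.ext (h8.injOn h7 ⟨isIrrCharacter_one, fun _ _ => rfl⟩
      (h9.symm.trans (by ext g; simp)))
  have hK : K ≤ Subgroup.center G := hζ.charCenter_eq_center hker ▸ h8
  obtain ⟨F, _, _, _, f, f1, f2⟩ := exists_pgl_of_char h hK (by omega) hζ hdeg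
  obtain rfl : K = Subgroup.center G := le_antisymm hK (center_le h hn)
  obtain ⟨h₁, hE', hO, hs⟩ := quot_center h hχ hfaith (by omega) hn
  refine psl_of_pgl h₁ (by omega) hO hs (hE' ▸ h7) (QuotientGroup.lift _ f f2) ?_ (ZMod.card p)
  rw [← MonoidHom.ker_eq_bot_iff]
  exact Solv.eq_bot_of_pPrimeCore_eq_bot hO (hp.coprime_iff_not_dvd.2 fun e =>
    f1 (h₁.mem_of_dvd_card _ e)).symm

end Cfsg.Agent.S4504
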