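import Cfsg.Statements.S4765
import Cfsg.Agent.Classical.SL2CharDeg

set_option autoImplicit false
open Cfsg

namespace Cfsg.Agent.S4765

open Cfsg.Agent.Classical Cfsg.Agent.Char Cfsg.Agent.CharDeep Matrix

/-- Let F be a finite field of characteristic p with at least 4 elements. Then PSL(2,F) has exactly one irreducible complex character of degree divisible by p, and its degree is the order of F. -/
theorem result (p : ℕ) [Fact p.Prime] (F : Type*) [Field F] [Fintype F] [CharP F p] (hF : 4 ≤ Fintype.card F) : Nat.card {χ : Cfsg.IrrCharacter (Matrix.ProjectiveSpecialLinearGroup (Fin 2) F) // p ∣ Cfsg.charDegree (χ : Matrix.ProjectiveSpecialLinearGroup (Fin 2) F → ℂ)} = 1 ∧ ∀ χ : Cfsg.IrrCharacter (Matrix.ProjectiveSpecialLinearGroup (Fin 2) F), p ∣ Cfsg.charDegree (χ : Matrix.ProjectiveSpecialLinearGroup (Fin 2) F → ℂ) → Cfsg.charDegree (χ : Matrix.ProjectiveSpecialLinearGroup (Fin 2) F → ℂ) = Fintype.card F := by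
  classical
  have hp : p ∣ Fintype.card F := by simpa using char_dvd_card F p
  have hp1 := (Fact.out : p.Prime).one_lt
  have key : ∀ χ : Matrix.ProjectiveSpecialLinearGroup (Fin 2) F → ℂ, IsIrrCharacter _ χ →
      p ∣ charDegree χ → (fun g => χ (pslMk F g)) = Sts F := fun χ hχ h => by
    have e : charDegree (fun g => χ (pslMk F g)) = charDegree χ := by simp [charDegree]
    refine (charDegree_sl_dvd (hχ.comp_of_surjective _ pslMk_surjective)).resolve_right ?_
    rw [e]
    rintro (h1 | h1)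
    · exact hp1.ne' (Nat.dvd_one.1 ((Nat.dvd_add_right hp).1 (h.trans h1)))
    · exact not_char_dvd_card_pred F p (by simpa using h.trans h1)
  obtain ⟨φ, h1, h2⟩ := exists_irr_PSL (isIrr_Sts (F := F))
    (by rw [Sts_scal isScal_neg_one, Sts_one])
  have hφ : charDegree φ = Fintype.card F :=
    charDegree_eq_of_apply_one (by rw [← Sts_one, ← h2, map_one])
  refine ⟨Nat.card_eq_one_iff_exists.2 ⟨⟨⟨φ, h1⟩, hφ ▸ hp⟩, fun χ =>
    Subtype.ext (Subtype.ext (funext fun g => ?_))⟩, fun χ h => ?_⟩
  · obtain ⟨g, rfl⟩ := pslMk_surjective g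
    exact (congrFun (key _ χ.1.2 χ.2) g).trans (h2 g).symm
  · exact charDegree_eq_of_apply_one (by rw [← Sts_one, ← key _ χ.2 h]; simp)

end Cfsg.Agent.S4765
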