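import Cfsg.Statements.S0910
import Cfsg.Agent.Block.Galois
import Cfsg.Agent.Block.Cover
import Cfsg.Agent.Char.Burnside

set_option autoImplicit false
open Cfsg

namespace Cfsg.Agent.S0910

open Cfsg.Agent.Block Cfsg.Agent.BMod Cfsg.Agent.Char MonoidAlgebra


/-- Let G be a non-abelian finite simple group and p a prime. If an irreducible character χ lies in the principal block (relative to a maximal ideal of the algebraic integers containing p) and χ 1 is a power of p, then χ is the principal character. -/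
theorem result {G : Type*} [Group G] [Finite G] (p : ℕ) [Fact p.Prime] (M : Ideal Cfsg.AlgInt) (hM : Cfsg.IsPModular p M) [IsSimpleGroup G] (hna : ∃ a b : G, a * b ≠ b * a) (χ : Cfsg.IrrCharacter G) (hχ : χ ∈ Cfsg.principalBlock M G) (k : ℕ) (hdeg : (χ : G → ℂ) 1 = (p : ℂ) ^ k) : (χ : G → ℂ) = fun _ => 1 := by
  have : PMod p M := ⟨hM⟩
  have hp : p.Prime := Fact.out
  by_contra hne
  by_cases hG : p ∣ Nat.card G
  swap
  · have := isBlockUnion_of_not_dvd (M := M) hG {irrOne G} _ rfl χ hχ
    exact hne (congrArg Subtype.val this)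
  obtain ⟨P⟩ : Nonempty (Sylow p G) := inferInstance
  have : Nontrivial P := (Subgroup.nontrivial_iff_ne_bot _).2 (P.ne_bot_of_dvd_card hG)
  have := P.isPGroup'.center_nontrivial
  obtain ⟨z, hz⟩ := exists_ne (1 : Subgroup.center P)
  have hzC : ((z : P) : G) ∈ Subgroup.centralizer ((P : Subgroup G) : Set G) := fun g hg =>
    congrArg Subtype.val (Subgroup.mem_center_iff.1 z.2 ⟨g, hg⟩)
  have h1 := not_dvd_index_centralizer P hzC
  have h2 := red_div_of_principal hχ h1
  have h3 : charDegree (χ : G → ℂ) = p ^ k := deg_eq_of_eq (by rw [hdeg]; push_cast; rfl)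
  rcases χ.2.eq_zero_or_mem_charCenter ((z : P) : G) (by
    rw [h3]; exact (hp.coprime_iff_not_dvd.2 h1).pow_left k) with h | h
  · simp [h] at h2
  · have h4 := χ.2.isCharacter.charCenter_le_center (χ.2.charKer_eq_bot_of_simple hne) h
    rcases (inferInstance : (Subgroup.center G).Normal).eq_bot_or_eq_top with h5 | h5
    · rw [h5, Subgroup.mem_bot] at h4
      exact hz (Subtype.ext (Subtype.ext h4))
    · obtain ⟨a, b, hab⟩ := hna
      exact hab (Subgroup.mem_center_iff.1 (h5 ▸ Subgroup.mem_top b) a)

end Cfsg.Agent.S0910
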