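import Cfsg.Statements.S0904
import Cfsg.Agent.S0910
import Cfsg.Agent.Block.Vanish

set_option autoImplicit false
open Cfsg

namespace Cfsg.Agent.S0904

open Cfsg.Agent.Block Cfsg.Agent.BMod Cfsg.Agent.Char MonoidAlgebra

lemma not_dvd_and {G : Type*} [Group G] [Finite G] [IsSimpleGroup G] {p q r a b : ℕ} (hp : p.Prime)
    (hq : q.Prime) [hr : Fact r.Prime] (hqr : q ≠ r) (hpr : p ≠ r)
    (hna : ∃ a b : G, a * b ≠ b * a) (hcard : Nat.card G = p ^ a * q ^ b * r) {y : G}
    (h1 : p ∣ orderOf y) (h2 : r ∣ orderOf y) : False := by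
  classical
  have := Fact.mk hp
  have := Fact.mk hq
  obtain ⟨M, hM⟩ := exists_pmod' p
  obtain ⟨Mq, hMq⟩ := exists_pmod' q
  obtain ⟨Mr, hMr⟩ := exists_pmod' r
  have h := sum_block_orth_weak (M := M) (isPBlock_principalBlock (G := G)).isBlockUnion (g := 1)
    (h := y⁻¹) (by simp [hp.ne_one]) (by rwa [orderOf_inv])
  have h3 := congrArg (red Mq) h
  rw [red_sum _ fun χ _ => by
    split_ifs; exacts [mul_mem (irr_mem_O _ _) (irr_mem_O _ _), zero_mem _],
    Finset.sum_eq_single (irrOne G) (fun χ _ hχ => ?_) (by simp)] at h3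
  · rw [if_pos irrOne_mem_principalBlock] at h3
    simp [irrOne] at h3
  split_ifs with hB
  swap
  · exact red_zero
  rw [red_mul (irr_mem_O _ _) (irr_mem_O _ _), inv_inv, ← deg_cast_irr, red_natCast]
  by_cases h4 : q ∣ charDegree (χ : G → ℂ)
  · rw [(natCast_F_eq_zero_iff _).2 h4, zero_mul]
  have h5 := χ.2.charDegree_dvd_card
  by_cases h6 : r ∣ charDegree (χ : G → ℂ)
  · have h7 : (Nat.card G).factorization r = 1 := by
      rw [hcard, Nat.factorization_mul (by positivity [hp.pos, hq.pos]) hr.out.ne_zero,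
        Nat.factorization_mul (by positivity [hp.pos]) (by positivity [hq.pos])]
      simp [hp.factorization_pow, hq.factorization_pow, hpr, hqr, hr.out.factorization_self,
        hp.factorization, hq.factorization]
    rw [apply_eq_zero_of_defect_zero (le_antisymm (factorization_deg_le r χ) (h7 ▸
      (hr.out.dvd_iff_one_le_factorization (deg_ne_zero χ.2)).1 h6)) h2 Mr, red_zero, mul_zero]
  · rw [hcard] at h5
    have h7 := ((hr.out.coprime_iff_not_dvd.2 h6).symm.dvd_mul_right.1 h5)
    have h8 := (((hq.coprime_iff_not_dvd.2 h4).symm.pow_right b).dvd_mul_right.1 h7)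
    obtain ⟨k, -, hk⟩ := (Nat.dvd_prime_pow hp).1 h8
    exact absurd (Subtype.ext (S0910.result p M hM.out hna χ hB k (by
      rw [← deg_cast_irr, hk]; push_cast; rfl))) hχ

/-- Let G be a finite simple group of order p ^ a * q ^ b * r with p, q, r distinct primes. Then every Sylow r-subgroup S of G satisfies C_G(S) = S. -/
theorem result {G : Type*} [Group G] [Finite G] [IsSimpleGroup G] (p q r a b : ℕ) (hp : p.Prime) (hq : q.Prime) [Fact r.Prime] (hpq : p ≠ q) (hpr : p ≠ r) (hqr : q ≠ r) (hcard : Nat.card G = p ^ a * q ^ b * r) (S : Sylow r G) : Subgroup.centralizer (S : Set G) = (S : Subgroup G) := by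
  have hr : r.Prime := Fact.out
  have h7 : (Nat.card G).factorization r = 1 := by
    rw [hcard, Nat.factorization_mul (by positivity [hp.pos, hq.pos]) hr.ne_zero,
      Nat.factorization_mul (by positivity [hp.pos]) (by positivity [hq.pos])]
    simp [hp.factorization_pow, hq.factorization_pow, hpr, hqr, hr.factorization_self,
      hp.factorization, hq.factorization]
  have hS : Nat.card S = r := by rw [S.card_eq_multiplicity, h7, pow_one]
  have hcyc : IsCyclic S := isCyclic_of_prime_card hS
  have hle : (S : Subgroup G) ≤ Subgroup.centralizer (S : Set G) :=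
    Subgroup.le_centralizer (S : Subgroup G)
  by_cases hna : ∃ a b : G, a * b ≠ b * a
  swap
  · push Not at hna
    have : (S : Subgroup G).Normal := ⟨fun n hn g => by rwa [hna g n, mul_inv_cancel_right]⟩
    rcases this.eq_bot_or_eq_top with h | h
    · rw [h, Subgroup.card_bot] at hS; exact absurd hS.symm hr.ne_one
    · exact le_antisymm (h ▸ le_top) hle
  obtain ⟨s, hs⟩ := exists_prime_orderOf_dvd_card' (G := S) r hS.symm.dvd
  have key : ∀ t : ℕ, t.Prime → t ≠ r → t ∣ Nat.card (Subgroup.centralizer (S : Set G)) →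
      ∃ y : G, t ∣ orderOf y ∧ r ∣ orderOf y := fun t ht htr h => by
    have := Fact.mk ht
    obtain ⟨x, hx⟩ := exists_prime_orderOf_dvd_card' t h
    rw [← Subgroup.orderOf_coe] at hx hs
    have hc : Commute (s : G) x := x.2 s s.2
    refine ⟨s * x, ?_⟩
    rw [hc.orderOf_mul_eq_mul_orderOf_of_coprime (by
      rw [hx, hs]; exact (Nat.coprime_primes hr ht).2 htr.symm), hx, hs]
    exact ⟨dvd_mul_left _ _, dvd_mul_right _ _⟩
  have h1 : ¬ p ∣ Nat.card (Subgroup.centralizer (S : Set G)) := fun h => by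
    obtain ⟨y, h1, h2⟩ := key p hp hpr h
    exact not_dvd_and hp hq hqr hpr hna hcard h1 h2
  have h2 : ¬ q ∣ Nat.card (Subgroup.centralizer (S : Set G)) := fun h => by
    obtain ⟨y, h1, h2⟩ := key q hq hqr h
    exact not_dvd_and hq hp hpr hqr hna (by rw [hcard, mul_comm (p ^ a)]) h1 h2
  have h3 := Subgroup.card_subgroup_dvd_card (Subgroup.centralizer (S : Set G))
  rw [hcard, mul_assoc] at h3
  have h4 := ((hq.coprime_iff_not_dvd.2 h2).symm.pow_right b).dvd_mul_left.1
    (((hp.coprime_iff_not_dvd.2 h1).symm.pow_right a).dvd_mul_left.1 h3)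
  exact (Subgroup.eq_of_le_of_card_ge hle ((Nat.le_of_dvd hr.pos h4).trans hS.ge)).symm

end Cfsg.Agent.S0904
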