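import Cfsg.Statements.S0813
import Cfsg.Agent.AutCl.PSLOut

set_option autoImplicit false
open Cfsg

namespace Cfsg.Agent.S0813

/-- |Aut(PSL_n(q))|, q = p^f: for n ≥ 3 it is 2 f |PGL_n(q)|, and for n = 2 (q ≥ 4) it is f |PGL_2(q)|. -/
theorem result {F : Type*} [Field F] [Fintype F] (p f : ℕ) [Fact p.Prime] (hf : 1 ≤ f) (hF : Fintype.card F = p ^ f) (n : ℕ) (hn : 2 ≤ n) (h2 : n = 2 → 4 ≤ p ^ f) : Nat.card (MulAut (Matrix.ProjectiveSpecialLinearGroup (Fin n) F)) = (if n = 2 then 1 else 2) * f * Nat.card (Matrix.ProjGenLinGroup (Fin n) F) := by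
  open Cfsg.Agent.AutCl in
  haveI := charP_of_card_eq hF
  rw [← card_range_diagAut (p := p) (by simpa using hn)]
  rcases hn.eq_or_lt with rfl | h
  · obtain ⟨π, hs, hk, -⟩ := exists_autHom_two (F := F) (p := p)
    rw [← π.ker.card_mul_index, Subgroup.index_ker, MonoidHom.range_eq_top.2 hs, Subgroup.card_top,
      card_ringAut hF, hk]
    simp [mul_comm]
  · obtain ⟨π, hs, hk, -⟩ := exists_autHom_three (F := F) (p := p) (n := n) h
    rw [← π.ker.card_mul_index, Subgroup.index_ker, MonoidHom.range_eq_top.2 hs, Subgroup.card_top,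
      Nat.card_prod, card_ringAut hF, hk, if_neg h.ne']
    simp only [Nat.card_eq_fintype_card, Fintype.card_multiplicative, ZMod.card]
    ring

end Cfsg.Agent.S0813
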