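import Cfsg.Statements.S4273
import Cfsg.Agent.AB.J1f
import Cfsg.Agent.AB.JTW
import Cfsg.Agent.AB.Zs
import Cfsg.Agent.AB.SolC
import Cfsg.Agent.S0813
import Cfsg.Agent.S0204
import Cfsg.Agent.BG.S12Aux
import Cfsg.Agent.Small.Simp
import Cfsg.Agent.GW.Down
import Cfsg.Agent.PGrp.MaxClass

set_option autoImplicit false
open Cfsg

namespace Cfsg.Agent.S4273


open Subgroup Cfsg.Agent.BG Cfsg.Agent.AB Cfsg.Agent.Sig Cfsg.Agent.Invol Cfsg.Agent.Classical

local notation "Sol" => Group.IsSolvable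
set_option linter.unusedSectionVars false

variable {G : Type*} [Group G] [Finite G] [IsSimpleGroup G] {S H P : Subgroup G} {x t : G} {p : ℕ}

theorem seven (hG : ¬ IsMulCommutative G) (hS : SylowIn 2 S ⊤) (ab : IsMulCommutative S) (h8 : #S = 8) :
    7 ∣ #N[S] := by
  have : Fact (Nat.Prime 3) := ⟨Nat.prime_three⟩
  by_contra n7
  obtain ⟨R, hR⟩ := Sylow_exists 3 N[S]
  have hc : N[S] ≤ C[S] ⊔ R := relIndex_eq_one.1 (by
    by_contra n
    obtain ⟨q, hq, d⟩ := Nat.exists_prime_and_dvd n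
    have := Fact.mk hq
    by_cases q3 : q = 3
    · exact hR.not_dvd (q3 ▸ d.trans (relIndex_dvd_of_le_left _ le_sup_right))
    by_cases q2 : q = 2
    · exact (pHall_subl (normG S) le_top hS).not_dvd (q2 ▸ d.trans (relIndex_dvd_of_le_left _
        (ab.cent.trans le_sup_left)))
    obtain ⟨Q, hQ⟩ := Sylow_exists q N[S]
    refine hQ.not_dvd (d.trans (relIndex_dvd_of_le_left _ (le_trans (fun g hg => by_contra fun r => ?_) le_sup_left)))
    obtain ⟨k, hk⟩ := hQ.pg ⟨g, hg⟩
    obtain ⟨b, h1, h2, h3⟩ := Transfer.exists_dvd_pow_sub_one (p := 2) (n := 3) h8 hq q2 (congrArg Subtype.val hk)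
      (hQ.le hg) r
    have := hq.two_le
    interval_cases b
    · exact absurd (Nat.le_of_dvd one_pos h3) (by omega)
    · exact q3 ((Nat.prime_dvd_prime_iff_eq hq Nat.prime_three).1 h3)
    · obtain rfl := (Nat.prime_dvd_prime_iff_eq hq Nat.prime_seven).1 h3
      exact n7 ((pgroup_pdiv hQ.pg fun e => r (by rw [e, mem_bot] at hg; exact hg ▸ one_mem _)).trans
        (card_dvd_of_le hQ.le)))
  have m := Transfer.card_modEq_card_inf_centralizer hR.pg hR.le
  obtain ⟨⟨x, xS, xR⟩, x1⟩ := ne_bot_iff_exists_ne_one.1 (show S ⊓ C[R] ≠ ⊥ from fun e => by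
    rw [e, card_bot, h8] at m; exact absurd m (by decide))
  have xN : x ∈ C[⊤ ⊓ N[S]] := le_cent1_iff.1 ((inf_le_right.trans hc).trans (sup_le (cent_le_cent1 xS)
    (le_cent1_iff.2 xR)))
  have hO := Op'_simple (L := (⊤ : Subgroup G)) topEquiv.isSimpleGroup ((h8 ▸ by decide : 2 ∣ #S).trans
    (card_dvd_of_le le_top))
  refine hG (center_eq_top_iff.1 ((IsSimpleGroup.eq_bot_or_eq_top_of_normal _ inferInstance).resolve_left fun e => x1
    (Subtype.ext (mem_bot.1 (e ▸ mem_center_iff.2 fun g => ?_)))))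
  have := zs_elt hS ab xS xN (mem_top g)
  rw [hO, mem_bot, mul_inv_eq_one, mul_inv_eq_iff_eq_mul] at this
  exact this.symm

set_option synthInstance.maxSize 1000 in
set_option synthInstance.maxHeartbeats 200000 in
theorem arith (p : ℕ) (h : p < 20) (hp : p.Prime) (h2 : p ≠ 2) : ∀ k < 19, k ∣ p - 1 → k ≠ 1 →
    Nat.lcm (k * (8 * p)) 7 ∣ 175560 → ∀ n < 3658, n * Nat.lcm (k * (8 * p)) 7 ∣ 175560 → n % p = 1 → n = 1 := by
  suffices ∀ k < 19, k ∣ p - 1 → k ≠ 1 → Nat.lcm (k * (8 * p)) 7 ∣ 175560 → ∀ a < 60, ∀ b < 64,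
      (64 * a + b) * Nat.lcm (k * (8 * p)) 7 ∣ 175560 → (64 * a + b) % p = 1 → 64 * a + b = 1 from
    fun k a b c d n e => by
      have := this k a b c d (n / 64) (by omega) (n % 64) (by omega)
      rwa [Nat.div_add_mod] at this
  interval_cases p <;> first | (exfalso; revert hp h2; decide) | decide +kernel

variable (hG : Nat.card G = 175560)
include hG

theorem ncyc : ¬ IsCyclic G := Small.not_isCyclic_of_card (by rw [hG]; norm_num)
theorem ncomm : ¬ IsMulCommutative G := fun h =>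
  let ⟨x, y, r⟩ := Small.exists_not_comm (ncyc hG); r (h.is_comm.comm x y)

theorem dvd (H : Subgroup G) : #H ∣ 175560 := hG ▸ card_subgroup_dvd_card H

theorem primes (hp : p.Prime) (h2 : p ≠ 2) (h : p ∣ 175560) : p < 20 ∧ ¬ p * p ∣ 175560 := by
  rw [show 175560 = 2 ^ 3 * 3 * 5 * 7 * 11 * 19 by norm_num] at h
  simp only [hp.dvd_mul, hp.prime.dvd_pow_iff_dvd (by decide : 3 ≠ 0)] at h
  have : p ≤ 19 := by rcases h with ((((h | h) | h) | h) | h) | h <;> exact (Nat.le_of_dvd (by decide) h).trans (by decide)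
  exact ⟨by omega, by interval_cases p <;> first | decide | (revert hp h2; decide)⟩

theorem syl (hp : p.Prime) (h2 : p ≠ 2) (hP : #P = p) : SylowIn p P ⊤ := by
  have := Fact.mk hp
  refine pHall_mk le_top (pgroup_of_card (k := 1) (by simpa using hP)).pi ((p'natE hp).2 fun d => ?_)
  have e := P.card_mul_index
  rw [relIndex_top_right] at d
  exact (primes hG hp h2 (hP ▸ dvd hG P)).2 (by rw [← hG, ← e, hP]; exact Nat.mul_dvd_mul_left _ d)

theorem core (hp : p.Prime) (h2 : p ≠ 2) (hP : #P = p) (h8 : 8 ∣ #C[P]) (h7 : 7 ∣ #N[P]) : False := by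
  have := Fact.mk hp
  obtain ⟨Q, rfl⟩ := sylow_of_sylowIn_top (syl hG hp h2 hP)
  have cyc := prime_cyclic (hP ▸ hp)
  have pd : p ∣ 175560 := hP ▸ dvd hG _
  have k := card_dvd_of_injective _ (QuotientGroup.kerLift_injective (Q : Subgroup G).normalizerMonoidHom)
  rw [normalizerMonoidHom_ker, ← index, ← relIndex, cyc.card_mulAut, hP, Nat.totient_prime hp] at k
  have k1 := mt relIndex_eq_one.1 (Small.not_le_centralizer (ncyc hG) (hG ▸ pd) Q)
  have e1 := card_mul_relIndex (cent_sub (Q : Subgroup G))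
  have e2 := N[(Q : Subgroup G)].index_mul_card
  have d : 8 * p ∣ #C[(Q : Subgroup G)] := Nat.Coprime.mul_dvd_of_dvd_of_dvd
    (Nat.Coprime.pow_left 3 ((Nat.coprime_primes Nat.prime_two hp).2 h2.symm)) h8
    (hP.symm.dvd.trans (card_dvd_of_le cyc.isMulCommutative.cent))
  have d2 := Nat.lcm_dvd ((Nat.mul_dvd_mul_left _ d).trans ((mul_comm _ _).trans e1).dvd) h7
  have d3 := (Nat.mul_dvd_mul_left N[(Q : Subgroup G)].index d2).trans (e2.trans hG).dvd
  have m := card_sylow_modEq_one p G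
  have lt := (primes hG hp h2 pd).1
  have p3 : 3 ≤ p := by have := hp.two_le; omega
  have kl := Nat.le_of_dvd (by omega) k
  have k0 : 2 ≤ C[(Q : Subgroup G)].relIndex N[(Q : Subgroup G)] := by
    have : C[(Q : Subgroup G)].relIndex N[(Q : Subgroup G)] ≠ 0 := index_ne_zero_of_finite; omega
  rw [Q.card_eq_index_normalizer, Nat.ModEq, Nat.mod_eq_of_lt hp.one_lt] at m
  have := arith p lt hp h2 _ (by omega) k k1 ((Dvd.intro_left _ rfl).trans d3) _ (by
    have := Nat.le_of_dvd (by decide) ((Nat.mul_dvd_mul_left _ (Nat.dvd_lcm_left _ _)).trans d3)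
    have := (Nat.mul_le_mul_left _ (Nat.mul_le_mul k0 (Nat.mul_le_mul_left 8 p3))).trans this
    omega) d3 m
  rw [index_eq_one, normalizer_eq_top_iff] at this
  rcases this.eq_bot_or_eq_top with r | r <;> rw [r] at hP
  · exact hp.ne_one (by simpa using hP.symm)
  · rw [card_top, hG] at hP; omega

theorem no_cent (hS : SylowIn 2 S ⊤) (ab : IsMulCommutative S) (h8 : #S = 8) (hp : p.Prime) (h2 : p ≠ 2)
    (hP : #P = p) : ¬ S ≤ C[P] := fun h => by
  have := Fact.mk hp
  have n7 : ¬ 7 ∣ #C[S] := fun d => by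
    obtain ⟨y, hy, o⟩ := Cauchy Nat.prime_seven d
    have c := (Nat.card_zpowers y).trans o
    exact core hG Nat.prime_seven (by decide) c (h8 ▸ card_dvd_of_le (cents_symm (zpowers_le.2 hy)))
      (c ▸ card_dvd_of_le (normG _))
  have f := Frattini_arg (cent_normal S) (pHall_subl (cents_symm h) le_top (syl hG hp h2 hP))
  have d := card_sup_dvd (.inr (inf_le_left.trans (cent_normal S).norm) : _ ∨ N[S] ⊓ N[P] ≤ N[C[S]])
  rw [f] at d
  exact core hG hp h2 hP (h8 ▸ card_dvd_of_le h) (((Nat.prime_seven.dvd_mul.1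
    ((seven (ncomm hG) hS ab h8).trans d)).resolve_left n7).trans (card_dvd_of_le inf_le_right))

theorem card_syl (hS : SylowIn 2 S ⊤) : #S = 8 := by
  rw [card_Sylow hS, card_top, hG, show 175560 = 2 ^ 3 * 21945 by norm_num,
    Nat.factorization_mul (by decide) (by decide), Nat.prime_two.factorization_pow]
  simp [Nat.factorization_eq_zero_of_not_dvd (by decide : ¬ 2 ∣ 21945)]

theorem not_psl {F : Type} [Field F] [Fintype F] (e : G ≃* Matrix.ProjectiveSpecialLinearGroup (Fin 2) F) : False := by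
  have c := card_PSL2_mul (F := F)
  rw [← Nat.card_congr e.toEquiv, hG] at c
  obtain ⟨p, _, n, hp, hn⟩ := FiniteField.card' F
  rw [Nat.card_eq_fintype_card, hn] at c
  have q56 : p ^ (n : ℕ) ≠ 56 := fun r => by
    have h2 := Nat.prime_two.dvd_of_dvd_pow (r ▸ by decide : 2 ∣ p ^ (n : ℕ))
    have h7 := Nat.prime_seven.dvd_of_dvd_pow (r ▸ by decide : 7 ∣ p ^ (n : ℕ))
    rw [← (Nat.prime_dvd_prime_iff_eq Nat.prime_two hp).1 h2] at h7
    exact absurd h7 (by decide)
  generalize p ^ (n : ℕ) = q at *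
  have : q < 72 := by
    by_contra! r
    have := Nat.le_of_dvd two_pos (Nat.gcd_dvd_left 2 (q - 1))
    have : 72 * 71 * 73 ≤ q * (q - 1) * (q + 1) := by gcongr <;> omega
    omega
  interval_cases q <;> simp_all

theorem hab : ∀ Q : Subgroup G, IsPGroup 2 Q → IsMulCommutative Q := by
  obtain ⟨P⟩ : Nonempty (Sylow 2 G) := inferInstance
  refine hab_of_sylow P (by_contra fun n => ?_)
  have c8 := card_syl hG (sylowIn_top P)
  obtain ⟨x, hx⟩ : ∃ x : P, centralizer ({x} : Set P) ≠ ⊤ := by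
    by_contra! r
    exact n (.of_comm fun a b => mem_cent1.1 ((r b).ge (mem_top a)))
  obtain ⟨a, y, k, h⟩ := PGrp.isMC_of_card_centralizer P.isPGroup' n x (by
    have d := card_subgroup_dvd_card (centralizer ({x} : Set P))
    have := mt (eq_top_of_card_eq _) hx
    rw [c8] at d this
    have := Nat.le_of_dvd (by decide) d
    generalize #(centralizer ({x} : Set P)) = m at *
    interval_cases m <;> omega)
  obtain rfl : k = 2 := Nat.succ_injective (Nat.pow_right_injective le_rfl (h.card.symm.trans c8 : 2 ^ _ = 2 ^ 3))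
  rcases h.dqs_cases with e | ⟨⟨e⟩⟩ | ⟨k, h3, h4, -⟩
  · rcases GW.gw_simple (G := G) ⟨P, _, by decide, e⟩ with ⟨q, F, i1, i2, -, -, -, ⟨f⟩⟩ | ⟨⟨f⟩⟩
    · exact not_psl hG f
    · rw [Nat.card_congr f.toEquiv, Nat.card_eq_fintype_card, card_alternatingGroup] at hG
      exact absurd hG (by decide)
  · obtain ⟨V, hV⟩ := S0204.result (ncyc hG)
    obtain ⟨g, -, hg⟩ := Sylow_Jsub (sylowIn_top P) (le_top : V ≤ ⊤) (isPGroup_of_isKleinFour hV)
    obtain ⟨a, b, -, -, -, a1, b1, ab, m⟩ := exists_of_isKleinFour (GW.four_cj hV g)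
    have k : ∀ a b : QuaternionGroup 2, a * a = 1 → b * b = 1 → a ≠ 1 → b ≠ 1 → a = b := by decide
    have s : ∀ a (h : a ∈ cj g V), e ⟨a, hg h⟩ * e ⟨a, hg h⟩ = 1 := fun a h => by
      rw [← map_mul, map_eq_one_iff e e.injective]; exact Subtype.ext (mul_self_of_mem_four (GW.four_cj hV g) h)
    exact ab (congrArg Subtype.val (e.injective (k _ _ (s a ((m a).2 (by simp))) (s b ((m b).2 (by simp)))
      (by simpa using a1) (by simpa using b1))))
  · rw [c8] at h4
    have := Nat.pow_le_pow_right two_pos (by omega : 4 ≤ k + 1)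
    omega

theorem iso : Cfsg.Spor.IsoJ1 G := by
  have nc := ncomm hG
  obtain ⟨t, ht, ns⟩ : ∃ t : G, orderOf t = 2 ∧ ¬ Sol C1[t] := by
    by_contra! r
    obtain ⟨F, _, _, -, ⟨e⟩⟩ := absol_simple nc (hab hG) fun t ht => pLayerIn_eq_bot_of_isSolvable (r t ht)
    exact not_psl hG e
  obtain ⟨-, P, tP, hP⟩ := twoCentral_of_hab (hab hG) ht
  have hS := sylowIn_top P
  have c8 := card_syl hG hS
  have ab := hab hG P P.isPGroup'
  have PC : (P : Subgroup G) ≤ C1[t] := fun x hx => mem_cent1.2 (hP x hx)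
  have el : Abelem 2 (P : Subgroup G) := by
    by_contra n
    have := (klein_of_rank nc P ab fun E hE h => lt_of_le_of_ne ((card_le_card hE).trans c8.le) fun r =>
      n (eq_of_le_of_card_ge hE (by omega) ▸ h)).card_four
    omega
  have c2 : #(zpowers t) = 2 := (Nat.card_zpowers t).trans ht
  obtain ⟨K, hK⟩ := abelem_splits el (zpowers_le.2 tP)
  have ct : C1[t] ≤ C[zpowers t] := (C_zpowers t).ge
  obtain ⟨E, hE⟩ := s12_Gaschutz (M := C1[t]) ⟨zpowers_le.2 (cent1_self t), cents_norm ct⟩ inferInstance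
    (zpowers_le.2 tP) PC (by rw [c2]; exact Nat.prime_two.coprime_iff_not_dvd.2 (pHall_subl PC le_top hS).not_dvd) hK.sup hK.inf
  replace hE : Dprod (zpowers t) E C1[t] := ⟨hE.sup, hE.ler.trans ct, hE.inf⟩
  have cE := hE.card
  have dE : #E ∣ 87780 := Nat.dvd_of_mul_dvd_mul_left two_pos (by rw [c2] at cE; rw [cE]; exact dvd hG _)
  have sol : ∀ H ≤ E, ¬ 4 ∣ #H → Sol H := fun H hH n => by
    have d := (card_dvd_of_le hH).trans dE
    have : #H ∣ 2 * 3 * 5 * 7 * 11 * 19 := by
      obtain ⟨c, hc⟩ := d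
      obtain ⟨c, rfl⟩ : 2 ∣ c := by
        by_contra r
        exact n (Nat.Coprime.dvd_of_dvd_mul_right (Nat.Coprime.pow_left 2 (Nat.prime_two.coprime_iff_not_dvd.2 r))
          (hc ▸ by decide))
      exact ⟨c, by linarith⟩
    have := IsZGroup.of_squarefree (Squarefree.squarefree_of_dvd this (by
      rw [Nat.squarefree_iff_nodup_primeFactorsList (by decide)]; simp))
    infer_instance
  have nsE : ¬ Sol E := fun h => ns (hE.sup ▸ solvableY (.inr hE.sdprod.norm) (abelian_sol inferInstance) h)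
  have hO : Op' 2 E = ⊥ := by
    by_contra n
    obtain ⟨p, hp, d⟩ := Nat.exists_prime_and_dvd (cardG_gt1 n).ne'
    have := Fact.mk hp
    have no := (pcore_pgroup {2}ᶜ E).not_dvd Nat.prime_two (by simp)
    have p2 : p ≠ 2 := fun r => no (r ▸ d)
    obtain ⟨x, hx, o⟩ := Cauchy hp d
    have c := (Nat.card_zpowers x).trans o
    have xE := (zpowers_le.2 hx).trans (pcore_sub _ E)
    have f := Frattini_arg (pcore_normal _ E) (pHall_subl (zpowers_le.2 hx) le_top (syl hG hp p2 c))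
    have d4 : 4 ∣ #(E ⊓ C[zpowers x]) := by_contra fun r => nsE (f ▸ solvableY (.inr (inf_le_left.trans
      (pcore_normal _ E).norm)) (sol _ (pcore_sub _ _) fun r => no ((by decide : 2 ∣ 4).trans r)) (der1_sol (solvableS
        (le_inf ((der_sub _).trans inf_le_left) (der1_cent_cyclic inferInstance inf_le_right)) (sol _ inf_le_left r))))
    have d8 : 8 ∣ #C[zpowers x] := by
      refine .trans ?_ (card_dvd_of_le (sup_le (cents_symm (xE.trans hE.cent)) inf_le_right :
        zpowers t ⊔ E ⊓ C[zpowers x] ≤ _))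
      rw [card_sup_TI (.inr (cents_norm (inf_le_left.trans hE.cent))) (le_bot_iff.1 (hE.inf ▸ inf_le_inf_left _
        inf_le_left)), c2]
      exact Nat.mul_dvd_mul_left 2 d4
    obtain ⟨Q, hQ⟩ := Sylow_exists 2 C[zpowers x]
    obtain ⟨R, hR, QR⟩ := Sylow_superset (le_top : Q ≤ ⊤) hQ.pg
    have : 8 ∣ #Q := Nat.Coprime.dvd_of_dvd_mul_right (Nat.Coprime.pow_left 3
      (Nat.prime_two.coprime_iff_not_dvd.2 hQ.not_dvd)) (card_mul_relIndex hQ.le ▸ d8)
    obtain rfl := eq_of_le_of_card_ge QR (card_syl hG hR ▸ Nat.le_of_dvd Nat.card_pos this)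
    exact no_cent hG hR (hab hG _ hR.pg) (card_syl hG hR) hp p2 c hQ.le
  have d4 : 4 ∣ #E := by_contra fun r => nsE (sol E le_rfl r)
  obtain ⟨T⟩ : Nonempty (Sylow 2 E) := inferInstance
  have n8 : ¬ 8 ∣ #E := fun r => absurd (r.trans dE) (by decide)
  have kT : IsKleinFour (T : Subgroup E) := by
    have c4 : #(T : Subgroup E) = 4 := by
      obtain ⟨k, hk⟩ := T.isPGroup'.exists_card_eq
      have d1 := T.not_dvd_index
      have d2 := (T : Subgroup E).card_mul_index
      rw [hk] at d2 ⊢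
      have : k < 3 := by_contra fun r => n8 (d2 ▸ (pow_dvd_pow 2 (by omega : 3 ≤ k)).mul_right _)
      interval_cases k <;> omega
    have : Nontrivial (T : Subgroup E) := Finite.one_lt_card_iff_nontrivial.1 (by omega)
    refine ⟨c4, (Monoid.exponent_eq_prime_iff Nat.prime_two).2 fun g hg => orderOf_eq_prime ?_ hg⟩
    obtain ⟨a, -, ha⟩ := Sylow_Jsub hS le_top (T.isPGroup'.map E.subtype)
    have := el.pow (ha (conj_mem_cj a (mem_map_of_mem E.subtype g.2)))
    rw [conj_pow, conj_eq_one_iff] at this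
    exact Subtype.ext (Subtype.ext this)
  obtain ⟨L, hL, -, -, h3, h4⟩ := GW.GWH.struct GW.gw_simple (G := E) ⟨T, 2, le_rfl, IsKleinFour.nonempty_mulEquiv⟩
    ((Subgroup.map_eq_bot_iff_of_injective _ E.subtype_injective).1 ((Op'_eq 2 E).symm.trans hO)) nsE
  have dL := (card_subgroup_dvd_card L).trans dE
  rcases h4 with ⟨q, F, i1, i2, hq, oq, q3, ⟨f⟩⟩ | ⟨⟨f⟩⟩
  swap
  · rw [Nat.card_congr f.toEquiv, Nat.card_eq_fintype_card, card_alternatingGroup] at dL
    exact absurd dL (by decide)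
  have cL := card_PSL2_mul (F := F)
  rw [← Nat.card_congr f.toEquiv, Nat.card_eq_fintype_card (α := F), hq,
    Nat.gcd_eq_left (by obtain ⟨k, rfl⟩ := oq; omega)] at cL
  obtain ⟨p, _, n, hp, hn⟩ := FiniteField.card' F
  have := Fact.mk hp
  have n1 : (n : ℕ) = 1 := by
    have qd : p ^ (n : ℕ) ∣ 175560 := by
      rw [← hn, hq]; exact ((dvd_mul_right _ _).mul_right _).trans (cL ▸ Nat.mul_dvd_mul_left 2 dL)
    have p2 : p ≠ 2 := by rintro rfl; exact (Nat.not_even_iff_odd.2 oq) (hq ▸ hn ▸ even_two.pow_of_ne_zero n.2.ne')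
    by_contra r
    exact (primes hG hp p2 ((dvd_pow_self p n.2.ne').trans qd)).2
      (pow_two p ▸ (pow_dvd_pow p (by have := n.pos; omega : 2 ≤ (n : ℕ))).trans qd)
  have cA := S0813.result (F := F) p n n.2 hn 2 le_rfl fun _ => hn ▸ hq ▸ q3
  rw [card_PGL2, Nat.card_eq_fintype_card (α := F), hq, ← cL, n1, if_pos rfl, one_mul, one_mul] at cA
  have hρ : Function.Injective ((MulAut.congr f).toMonoidHom.comp (MulAut.conjNormal (H := L))) :=
    (MulAut.congr f).injective.comp ((injective_iff_map_eq_one _).2 fun g hg => mem_bot.1 (h3 ▸ mem_cent.2 fun y hy => by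
      have := congrArg Subtype.val (DFunLike.congr_fun hg ⟨y, hy⟩)
      simp only [MulAut.conjNormal_apply, MulAut.one_apply, mul_inv_eq_iff_eq_mul] at this
      exact this.symm))
  have d := card_dvd_of_injective _ hρ
  have q3' : 3 ≤ Nat.card F := by rw [Nat.card_eq_fintype_card, hq]; exact q3.le
  have l4 := Nat.card_congr f.toEquiv ▸ psl_four_dvd q3'
  obtain rfl : L = ⊤ := by
    obtain ⟨c, hc⟩ := card_subgroup_dvd_card L
    rw [cA, hc, mul_comm 2] at d
    rcases (Nat.dvd_prime Nat.prime_two).1 (Nat.dvd_of_mul_dvd_mul_left Nat.card_pos d) with rfl | rfl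
    · exact eq_top_of_card_eq L (by omega)
    · exact absurd (hc ▸ Nat.mul_dvd_mul_right l4 2) n8
  obtain ⟨e⟩ := prod_equiv ht hE
  rcases jtw' (simple_perfect nc) (hab hG) ht q3' (e.trans ((MulEquiv.refl _).prodCongr (topEquiv.symm.trans f))) with
    ⟨m, -, -, r⟩ | ⟨-, h, -⟩
  · have : 3 ^ 2 ∣ 175560 := hG ▸ r ▸ (((pow_dvd_pow_of_dvd (dvd_pow_self 3 (by omega)) 2).trans
      (pow_dvd_pow _ (by decide))).mul_right _).mul_right _
    exact absurd this (by decide)
  · exact h.iso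

omit hG

/-- Uniqueness of the simple group of order 175560: any two finite simple groups of order 175560 are isomorphic. -/
theorem result {G : Type*} {H : Type*} [Group G] [Finite G] [IsSimpleGroup G] [Group H] [Finite H] [IsSimpleGroup H] (hG : Nat.card G = 175560) (hH : Nat.card H = 175560) : Nonempty (G ≃* H) := by
  obtain ⟨a⟩ := iso hG
  obtain ⟨b⟩ := iso hH
  exact ⟨a.trans b.symm⟩

end Cfsg.Agent.S4273
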