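import Cfsg.Statements.S0885
import Cfsg.Agent.Perm.ZassFeit

set_option autoImplicit false
open Cfsg

namespace Cfsg.Agent.S0885

open MulAction Perm

/-- Let G be a finite Zassenhaus group on Ω with h + 1 points whose two-point stabilizer E has odd order e, and let H be the subgroup of the stabilizer of a consisting of the identity and the elements fixing no point other than a (given here as a subgroup of the stabilizer of order one less than the number of points whose non-identity elements fix only a; it is the Frobenius kernel of the stabilizer). Then either h - 1 ≤ 2 * e, or H is a non-abelian 2-group whose commutator subgroup has index at most 4 * e ^ 2 + 1 in H. -/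
theorem result {G Ω : Type*} [Group G] [Finite G] [MulAction G Ω] [Fintype Ω] (hZ : Cfsg.IsZassenhausGroup G Ω) {a b : Ω} (hab : a ≠ b) (h e : ℕ) (hh : Fintype.card Ω = h + 1) (he : Nat.card ↥(MulAction.stabilizer G a ⊓ MulAction.stabilizer G b : Subgroup G) = e) (hodd : Odd e) (H : Subgroup G) (hHa : H ≤ MulAction.stabilizer G a) (hHcard : Nat.card H + 1 = Fintype.card Ω) (hHfix : ∀ u ∈ H, u ≠ 1 → ∀ c : Ω, u • c = c → c = a) : h - 1 ≤ 2 * e ∨ (IsPGroup 2 H ∧ (∃ u v : H, u * v ≠ v * u) ∧ (commutator H).index ≤ 4 * e ^ 2 + 1) := by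
  haveI := Fintype.ofFinite G
  have hF := Zass.mem_kernel_iff_of_card hZ hab hHa hHcard hHfix
  refine or_iff_not_imp_left.2 fun hn => ?_
  obtain ⟨h1, h2, h3⟩ := Zass.feit hab _ rfl hZ hF (he ▸ hodd)
    (by rw [Nat.card_eq_fintype_card (α := Ω)]; omega)
  refine ⟨h1, by_contra fun hc => h2 ?_, ?_⟩
  · push_neg at hc
    exact le_bot_iff.1 (Subgroup.commutator_le.2 fun x hx y hy => commutatorElement_eq_one_iff_mul_comm.2
      (congrArg Subtype.val (hc ⟨x, hx⟩ ⟨y, hy⟩)))
  · rwa [← Subgroup.map_subtype_commutator, Subgroup.relIndex, Subgroup.subgroupOf,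
      Subgroup.comap_map_eq_self_of_injective H.subtype_injective, he] at h3

end Cfsg.Agent.S0885
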