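import Cfsg.Statements.S0977
import Cfsg.Agent.Small.Low

set_option autoImplicit false
open Cfsg

namespace Cfsg.Agent.S0977

open Cfsg.Agent.Small Cfsg.Agent.Char Cfsg.Agent.Invol

theorem five {n e k : ℕ} {M : Multiset ℤ} {d : ℤ} (h : PData 4320 5 n e k M d) :
    e = 4 ∧ k = 1 ∧ (∃ z ∈ d ::ₘ M, z.natAbs = 4) ∧ ∀ z ∈ d ::ₘ M, z.natAbs = 4 ∨ 6 < z.natAbs := by
  by_contra hc
  have := h.ex (R := 66) (f := fun _ e k l => !decide (e = 4 ∧ k = 1 ∧ (∃ z ∈ l, z.natAbs = 4) ∧
    ∀ z ∈ l, z.natAbs = 4 ∨ 6 < z.natAbs)) (by omega) (by omega) fun l hl => by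
      subst hl
      simpa only [Bool.not_eq_eq_eq_not, Bool.not_true, decide_eq_false_iff_not,
        Multiset.cons_coe, Multiset.mem_coe] using hc
  revert this
  decide +kernel

/-- No finite simple group has order 4320 = 2^5 * 3^3 * 5. -/
theorem result {G : Type*} [Group G] [Finite G] [IsSimpleGroup G] : Nat.card G ≠ 4320 := by
  intro h
  have hG : ¬ IsCyclic G := not_isCyclic_of_card (by rw [h]; norm_num)
  have := Fact.mk Nat.prime_five
  obtain ⟨y, K, h5⟩ := exists_defOne_of_dvd (G := G) (p := 5) (by rw [h]; norm_num)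
    (by rw [h]; norm_num)
  have := Fintype.ofFinite K
  obtain ⟨X, φ, δ, ε, s⟩ := h5.exists_pshape
  obtain ⟨e5, k5, ⟨a, ha, a4⟩, hd⟩ := five (h ▸ s.pdata hG)
  obtain rfl := Subgroup.card_eq_one.1 k5
  obtain ⟨ψ, hb, ψ1, d4⟩ := s.exists_of_mem ha
  rw [a4] at d4
  have hψ := ψ.2.isCharacter
  have ψ4 : ψ.1 1 = 4 := by rw [hψ.apply_one_eq_charDegree, ← d4]; rfl
  have h0 : fixd 5 y ψ.1 = 0 := by
    rcases (s.mem_blk ψ).1 hb with hX | ⟨a, rfl⟩
    · rcases s.δ_sign ψ hX with e | e
      · have := s.X_pos hX e; omega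
      · have := s.X_neg hX e; omega
    · rcases s.ε_sign with e | e
      · have := s.φ_pos a e; omega
      · have := s.φ_neg a e; omega
  obtain ⟨z, z2, hz⟩ := h5.exists_orderOf_expo (m := 2) (by omega) (by rw [e5]; decide)
  have z0 := apply_eq_zero_of_fixd h5.ord hψ h0 (n := z) fun e => by simp [e] at hz
  obtain ⟨t, ht, hc, hne⟩ := exists_commute_conj hG z2
  have t2 := (Small.orderOf_eq_of_isConj ht).symm.trans z2
  have t0 := (hψ.isClassFunction.apply_eq_of_isConj ht).symm.trans z0
  have hV := isKleinFour_closure (mul_self_of z2) (mul_self_of t2) hc (ne_one_of z2)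
    (ne_one_of t2) hne.symm
  have mV := mem_closure_four_iff (mul_self_of z2) (mul_self_of t2) hc
  have zt : (z : G) * t ≠ 1 := fun e => hne (by
    rw [← mul_self_of z2] at e; exact mul_left_cancel e)
  have h1 : ψ.1 (z * t) = 0 := by
    classical
    have := fx_finset hψ Function.injective_id (H := Subgroup.closure {(z : G), t})
      {1, (z : G), t, z * t} fun g => by simp [mV, eq_comm]
    have n1 : (1 : G) ∉ ({(z : G), t, z * t} : Finset G) := by
      simp [(ne_one_of z2).symm, (ne_one_of t2).symm, zt.symm]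
    have n2 : (z : G) ∉ ({t, z * t} : Finset G) := by simp [hne.symm, ne_one_of t2]
    have n3 : t ∉ ({z * t} : Finset G) := by simp [ne_one_of z2]
    rw [Finset.sum_insert n1, Finset.sum_insert n2, Finset.sum_insert n3, Finset.sum_singleton,
      Finset.card_insert_of_notMem n1, Finset.card_insert_of_notMem n2,
      Finset.card_insert_of_notMem n3, Finset.card_singleton] at this
    simp only [id, ψ4, z0, t0] at this
    have e : ψ.1 (z * t) = ((4 * fx ψ.1 (Subgroup.closure {(z : G), t}) - 4 : ℤ) : ℂ) := by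
      push_cast at this ⊢; linear_combination this
    have b := natAbs_le_of_apply hψ e
    have n4 := mt (eq_one_of_norm hG ψ1 (g := z * t)) zt
    rw [hψ.mem_charCenter, e, ψ4] at n4
    rw [e]
    generalize fx ψ.1 (Subgroup.closure {(z : G), t}) = f at *
    have : f ≤ 2 := by omega
    interval_cases f <;> simp_all
  have hΛ := hψ.altSq
  have Λ6 : altSq ψ.1 1 = 6 := by rw [altSq, mul_one, ψ4]; norm_num
  have h2 := fx_const hΛ (H := Subgroup.closure {(z : G), t}) (a := -2) fun g hg g1 => by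
    rw [altSq, mul_self_of_mem_four hV hg, ψ4]
    rcases (mV g).1 hg with rfl | rfl | rfl | rfl
    · exact absurd rfl g1
    all_goals simp only [z0, t0, h1]; norm_num
  rw [hV.card_four, Λ6] at h2
  have h3 : (fx (altSq ψ.1) (Subgroup.closure {(z : G), t}) : ℂ) = 0 := by
    push_cast at h2; linear_combination -h2 / 4
  have h4 := fx_anti hΛ (le_top (a := Subgroup.closure {(z : G), t}))
  have := degree_mem_of_fx (fun n => n = 0 ∨ n = 4 ∨ n = 5 ∨ 6 < n) (by simp) (fun χ χ1 n hn => by
    have := χ.2.charDegree_pos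
    by_cases h6 : 5 ∣ charDegree χ.1
    · omega
    · obtain ⟨w, hw, e⟩ := s.exists_natAbs (χ := χ) (by convert h5.mem_blk_of_not_dvd h6) χ1
      have := hd w hw
      omega) hΛ (by norm_cast at h3; omega)
  simp [charDegree, Λ6] at this

end Cfsg.Agent.S0977
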