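import Cfsg.Statements.S0983
import Cfsg.Agent.Small.Low
import Cfsg.Agent.S0977

set_option autoImplicit false
open Cfsg

namespace Cfsg.Agent.S0983

def cert : List (ℕ × ℕ × ℕ) :=
  [(0,2,911), (1,19,0), (1,83,0), (0,2,457), (1,61,0), (0,2,229), (1,131,0), (1,17,0), (0,2,919),
  (1,23,0), (1,307,0), (0,2,461), (1,71,0), (1,11,0), (1,37,0), (0,2,463), (1,103,0), (0,2,29),
  (0,2,929), (1,31,0), (1,19,0), (0,2,233), (1,311,0), (0,2,467), (1,17,0), (1,13,0), (0,2,937),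
  (1,67,0), (1,313,0), (1,47,0), (0,2,941), (1,157,0), (1,41,0), (0,2,59), (1,7,0), (1,43,0),
  (0,2,947), (1,79,0), (1,73,0), (1,19,0), (1,317,0), (1,17,0), (0,2,953), (1,53,0), (1,191,0),
  (0,2,239), (1,29,0), (0,2,479), (1,137,0), (2,2,8), (0,2,31), (1,37,0), (1,107,0), (0,2,241),
  (1,193,0), (1,23,0), (0,2,967), (0,2,11), (1,19,0), (1,97,0), (0,2,971), (0,2,3), (1,139,0),
  (0,2,487), (1,13,0), (0,2,61), (0,2,977), (1,163,0), (1,89,0), (2,7,2), (1,109,0), (0,2,491),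
  (0,2,983), (1,41,0), (1,197,0), (1,29,0), (1,47,0), (1,19,0), (1,43,0), (1,11,0), (0,2,991),
  (0,2,31), (1,331,0), (1,71,0), (1,199,0), (1,83,0), (0,2,997), (0,2,499), (1,37,0), (0,2,5),
  (1,13,0), (1,167,0), (1,59,0), (0,2,251), (1,67,0), (0,2,503), (1,53,0), (1,7,0), (0,2,1009),
  (1,101,0), (1,337,0), (1,23,0), (0,2,1013), (2,13,2), (1,29,0), (0,2,127), (1,113,0), (0,2,509),
  (0,2,1019), (0,0,0), (0,2,1021), (1,73,0), (1,31,0), (0,2,2), (1,41,0), (1,19,0), (1,79,0),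
  (0,2,257), (2,7,3), (1,103,0), (0,2,1031), (1,43,0), (0,2,1033), (1,47,0), (1,23,0), (1,37,0),
  (1,61,0), (1,173,0), (0,2,1039), (1,13,0), (1,347,0), (0,2,521), (1,149,0), (1,29,0), (1,19,0),
  (0,2,523), (1,349,0), (0,2,131), (0,2,1049), (1,7,0), (0,2,1051), (0,2,263), (1,13,0), (1,31,0),
  (1,211,0), (1,11,0), (1,151,0), (0,2,23), (1,353,0), (1,53,0), (0,2,1061), (1,59,0), (0,2,1063),
  (1,19,0), (1,71,0), (1,41,0), (1,97,0), (1,89,0), (0,2,1069), (1,107,0), (1,17,0), (0,2,67),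
  (1,37,0), (1,179,0), (1,43,0), (0,2,269), (1,359,0), (1,11,0), (1,83,0), (0,0,0), (1,47,0),
  (0,2,541), (2,19,2), (0,2,271), (1,31,0), (1,181,0), (0,2,1087), (0,2,17), (2,11,2), (1,109,0),
  (0,2,1091), (1,7,0), (0,2,1093), (0,2,547), (1,73,0), (0,2,137), (0,2,1097), (1,61,0),
  (1,157,0), (1,11,0), (1,367,0), (1,29,0), (0,2,1103), (1,23,0), (1,17,0), (1,79,0), (1,41,0),
  (0,2,277), (0,2,1109), (1,37,0), (1,101,0), (0,2,139), (1,53,0), (0,2,557), (1,223,0), (1,31,0),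
  (0,2,1117), (1,43,0), (1,373,0), (1,7,0), (1,59,0), (1,17,0), (0,2,1123), (0,2,281), (2,5,3),
  (0,2,563), (1,23,0), (1,47,0), (0,2,1129), (1,113,0), (1,29,0), (0,2,283), (1,103,0), (1,7,0),
  (1,227,0), (0,2,71), (1,379,0), (0,2,569), (1,67,0), (1,19,0), (1,163,0), (0,2,571), (1,127,0),
  (1,13,0), (1,229,0), (1,191,0), (1,37,0), (1,41,0), (1,383,0), (1,23,0), (0,2,1151), (0,2,3),
  (0,2,1153), (0,2,577), (3,7,11), (0,2,17), (1,89,0), (1,193,0), (1,61,0), (1,29,0), (1,43,0),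
  (1,83,0), (0,2,1163), (1,97,0), (1,233,0), (1,53,0), (1,389,0), (0,2,73), (1,167,0), (1,13,0),
  (0,2,1171), (0,2,293), (1,23,0), (0,2,587), (1,47,0), (2,7,2), (1,107,0), (1,31,0), (1,131,0),
  (1,59,0), (0,2,1181), (1,197,0), (2,13,2), (0,2,37), (1,79,0), (0,2,593), (0,2,1187), (1,11,0),
  (1,41,0), (1,17,0), (1,397,0), (0,2,149), (0,2,1193), (1,199,0), (1,239,0), (1,23,0), (1,19,0),
  (0,2,599), (1,109,0), (1,3,0), (0,2,1201), (0,2,601), (1,401,0), (1,43,0), (1,241,0), (1,67,0),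
  (1,71,0), (0,2,151), (1,31,0), (2,11,2), (1,173,0), (1,101,0), (0,2,1213), (0,2,607), (2,3,5),
  (0,2,19), (0,2,1217), (1,29,0), (1,53,0), (1,61,0), (1,37,0), (1,47,0), (0,2,1223), (1,17,0),
  (2,5,2), (0,2,613), (1,409,0), (0,2,307), (0,2,1229), (1,41,0), (0,2,1231), (1,11,0), (1,137,0),
  (0,2,617), (1,19,0), (1,103,0), (0,2,1237), (0,2,619), (1,59,0), (1,31,0), (1,73,0), (1,23,0),
  (1,113,0), (0,2,311), (1,83,0), (1,89,0), (1,43,0), (1,13,0), (0,2,1249), (0,2,5), (1,139,0),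
  (0,2,313), (1,179,0), (1,19,0), (1,251,0), (0,2,157), (1,419,0), (1,37,0), (0,2,1259), (1,5,0),
  (1,97,0), (0,2,631), (1,421,0), (0,2,79), (1,23,0), (1,211,0), (1,181,0), (0,2,317), (1,47,0),
  (1,127,0), (1,41,0), (1,53,0), (1,67,0), (1,13,0), (1,17,0), (1,29,0), (0,2,1277), (1,71,0),
  (0,2,1279), (0,2,5), (1,61,0), (0,2,641), (0,2,1283), (1,107,0), (1,257,0), (0,2,643), (1,11,0),
  (1,23,0), (0,2,1289), (1,43,0), (0,2,1291), (1,19,0), (1,431,0), (0,2,647), (1,37,0), (0,2,3),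
  (0,2,1297), (1,59,0), (1,433,0), (1,13,0), (0,2,1301), (1,31,0), (0,2,1303), (0,2,163),
  (1,29,0), (0,2,653), (0,2,1307), (1,109,0), (1,17,0), (1,131,0), (1,23,0), (0,2,41), (1,101,0),
  (1,73,0), (1,263,0), (1,47,0), (1,439,0), (0,2,659), (0,2,1319), (1,11,0), (0,2,1321),
  (0,2,661), (2,7,2), (0,2,331), (1,53,0), (1,17,0), (0,2,1327), (0,2,83), (1,443,0), (1,19,0),
  (0,2,11), (1,37,0), (1,43,0), (1,29,0), (1,89,0), (0,2,167), (1,191,0), (1,223,0), (1,103,0),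
  (1,67,0), (1,149,0), (1,61,0), (1,79,0), (1,7,0), (1,269,0), (0,2,673), (1,449,0), (0,2,337),
  (1,71,0), (0,0,0), (1,193,0), (0,2,13), (1,41,0), (0,2,677), (1,271,0), (1,113,0), (1,59,0),
  (1,97,0), (1,151,0), (1,17,0), (0,2,1361), (1,227,0), (1,47,0), (1,31,0), (3,13,7), (0,2,683),
  (0,2,1367), (1,19,0), (0,2,37), (1,137,0), (1,457,0), (0,2,7), (0,2,1373), (1,229,0), (1,11,0),
  (0,2,43), (1,17,0), (1,53,0), (1,197,0), (1,23,0), (0,2,1381), (0,2,691), (1,461,0), (0,2,173),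
  (1,277,0), (1,11,0), (1,73,0), (0,2,347), (1,463,0), (1,139,0), (1,107,0), (1,29,0), (1,199,0),
  (1,41,0), (1,31,0), (0,2,349), (1,127,0), (1,233,0), (0,2,1399), (1,7,0), (1,467,0), (0,2,701),
  (1,61,0), (0,0,0), (1,281,0), (1,37,0), (1,67,0), (0,2,11), (0,2,1409), (1,47,0), (1,83,0),
  (0,2,353), (1,157,0), (1,101,0), (1,283,0), (1,59,0), (1,109,0), (0,2,709), (1,43,0), (1,71,0),
  (1,29,0), (1,79,0), (0,2,1423), (0,2,89), (1,19,0), (1,31,0), (0,2,1427), (1,17,0), (0,2,1429),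
  (1,13,0), (1,53,0), (0,2,179), (0,2,1433), (1,239,0), (1,41,0), (0,2,359), (1,479,0), (0,2,719),
  (0,2,1439), (1,5,0), (1,131,0), (1,103,0), (1,37,0), (0,2,19), (2,17,2), (1,241,0), (0,2,1447),
  (0,2,181), (1,23,0), (1,29,0), (0,2,1451), (2,11,2), (0,2,1453), (0,2,727), (1,97,0), (1,13,0),
  (1,47,0), (0,2,3), (0,2,1459), (1,73,0), (1,487,0), (1,43,0), (1,19,0), (1,61,0), (1,293,0),
  (0,2,733), (1,163,0), (0,2,367), (1,113,0), (1,5,0), (0,2,1471), (0,2,23), (1,491,0), (1,67,0),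
  (1,59,0), (1,41,0), (1,211,0), (0,2,739), (1,29,0), (1,37,0), (0,2,1481), (1,19,0), (0,2,1483),
  (1,53,0), (1,11,0), (0,2,743), (0,2,1487), (1,31,0), (0,2,1489), (1,149,0), (1,71,0), (0,2,373),
  (0,2,1493), (1,83,0), (1,23,0), (1,17,0), (1,499,0), (1,107,0), (0,2,1499), (2,5,3), (1,79,0),
  (0,2,751), (1,167,0), (0,2,47), (1,43,0), (1,251,0), (1,137,0), (1,29,0), (1,503,0), (1,151,0),
  (0,2,1511), (0,0,0), (1,89,0), (0,2,757), (1,101,0), (0,2,379), (1,41,0), (0,0,0), (1,31,0),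
  (1,19,0), (2,13,2), (0,2,761), (0,2,1523), (1,127,0), (1,61,0), (1,109,0), (1,509,0), (0,2,191),
  (1,139,0), (1,17,0), (0,2,1531), (0,2,383), (1,73,0), (1,59,0), (1,307,0), (0,2,3), (1,53,0),
  (0,2,769), (1,19,0), (1,7,0), (1,67,0), (1,257,0), (0,2,1543), (0,2,193), (1,103,0), (0,2,773),
  (1,17,0), (1,43,0), (0,2,1549), (1,31,0), (1,47,0), (0,2,97), (0,2,1553), (1,37,0), (1,311,0),
  (0,2,389), (1,173,0), (1,41,0)]

theorem cert_ok : Small.sweep 79 [4080, 4320, 5400, 5616, 6048, 6072] cert 911 = true := by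
  decide +kernel

/-- A non-abelian finite simple group of order greater than 3640 and at most 6232 has order 4080, 5616, 6048 or 6072. -/
theorem result {G : Type*} [Group G] [Finite G] [IsSimpleGroup G] (hG : ¬ IsMulCommutative G) (h1 : 3640 < Nat.card G) (h2 : Nat.card G ≤ 6232) : Nat.card G = 4080 ∨ Nat.card G = 5616 ∨ Nat.card G = 6048 ∨ Nat.card G = 6072 := by
  have hG := Small.not_isCyclic_of_not_comm hG
  have h3 := S0977.result (G := G)
  have h4 := Small.card_ne_5400 (G := G)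
  have := Small.mem_of_sweep hG (by omega) cert 911 cert_ok (by omega)
    (by rw [show cert.length = 648 by decide +kernel]; omega)
  simp only [List.mem_cons, List.not_mem_nil, or_false] at this
  omega

end Cfsg.Agent.S0983
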