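import Cfsg.Statements.S1946
import Cfsg.Agent.FG.PNil
import Cfsg.Agent.Loc.Comm

set_option autoImplicit false
open Cfsg

namespace Cfsg.Agent.S1946

open Cfsg.Agent.Loc Subgroup

/-- Let P be a Sylow p-subgroup of the finite group G. Then G has a normal p-complement if and only if P controls the fusion of its elements of order dividing p (dividing 4 when p = 2): whenever such an element a of P has a G-conjugate g a g⁻¹ in P, that conjugate is already x a x⁻¹ for some x in P. -/
theorem result {G : Type*} [Group G] [Finite G] {p : ℕ} [Fact p.Prime] (P : Sylow p G) :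
    Cfsg.HasNormalPComplement p G ↔
      ∀ a ∈ (P : Subgroup G), (a ^ p = 1 ∨ (p = 2 ∧ a ^ 4 = 1)) → ∀ g : G, g * a * g⁻¹ ∈ (P : Subgroup G) →
        ∃ x ∈ (P : Subgroup G), g * a * g⁻¹ = x * a * x⁻¹ := by
  refine ⟨fun h a ha _ g hg => ?_, fun h => FG.pnil_of_small P fun Q g hQ hg h1 h2 => ?_⟩
  · obtain ⟨z, hz, e⟩ := Transfer.exists_sylow_conj_eq_of_hasNormalPComplement h P g
    exact ⟨z, hz, e a ha hg⟩
  haveI := P.isPGroup'.isNilpotent
  refine Transfer.eq_bot_of_le_commutator_of_isNilpotent hQ (h1.trans ((commutator_mono h2 le_rfl).trans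
    (commutator_closure_left_le (fun a ha => normalizer_commutator_ge_left _ _ ha.1) fun a ha y hy => ?_)))
  obtain ⟨x, hx, e⟩ := h a (hQ ha.1) ha.2 y (hQ (conj_mem_of_mem_normalizer (zpowers_le.2 hg hy) ha.1))
  have := commutator_mem_commutator ha.1 hx
  rw [← commutatorElement_inv, commutatorElement_def] at this ⊢
  rwa [e]

end Cfsg.Agent.S1946
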