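import Cfsg.Statements.S0540
import Cfsg.Agent.SolvStr.Subnormal

set_option autoImplicit false
open Pointwise
open Cfsg

namespace Cfsg.Agent.S0540

open Subgroup Cfsg.Agent.SolvStr Cfsg.Agent.Solv

/-- A uniqueness lemma of zipper type. Let A be a subgroup of a finite group G and U a nonempty family of subgroups. For V in U write S(V) for the set of conjugates of A that lie in V and are subnormal in V. Assume: A belongs to S(V) for every V in U; a member of some S(W) that lies in V belongs to S(V); and for all V, W in U the normalizer of the join of S(V) ∩ S(W) lies in some member of U. Then U has a greatest element. -/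
theorem result {G : Type*} [Group G] [Finite G] (A : Subgroup G) (U : Set (Subgroup G)) (hU : U.Nonempty) (S : Subgroup G → Set (Subgroup G)) (hS : ∀ V B : Subgroup G, B ∈ S V ↔ (∃ g : G, B = MulAut.conj g • A) ∧ B ≤ V ∧ (B.subgroupOf V).IsSubnormal) (h1 : ∀ V ∈ U, A ∈ S V) (h2 : ∀ V ∈ U, ∀ W ∈ U, ∀ B ∈ S W, B ≤ V → B ∈ S V) (h3 : ∀ V ∈ U, ∀ W ∈ U, ∃ X ∈ U, Subgroup.normalizer ((sSup (S V ∩ S W) : Subgroup G) : Set G) ≤ X) : ∃ M ∈ U, ∀ V ∈ U, V ≤ M := by
  have hsub : ∀ V B, B ∈ S V → SubnIn B V := fun V B h => ((hS V B).1 h).2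
  have hconj : ∀ V, ∀ B ∈ S V, ∀ g ∈ V, MulAut.conj g • B ∈ S V := by
    intro V B hB g hg
    obtain ⟨⟨x, rfl⟩, h⟩ := (hS V B).1 hB
    exact (hS V _).2 ⟨⟨g * x, conj_smul_conj_smul _ _ _⟩, SubnIn.conj_of_mem h hg⟩
  have hnorm : ∀ V, V ≤ normalizer ((sSup (S V) : Subgroup G) : Set G) := by
    intro V
    rw [le_normalizer_iff]
    intro x hx
    rw [← conj_smul_le_iff, conj_smul_eq_map, map_le_iff_le_comap]
    refine sSup_le fun Y hY => ?_
    rw [← map_le_iff_le_comap, ← conj_smul_eq_map]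
    exact le_sSup (hconj V Y hY x hx)
  have hmax : ∀ V ∈ U, ∃ M, Maximal (· ∈ U) M ∧ V ≤ M := fun V hV => by
    obtain ⟨M, h1, h2⟩ := exists_maximal_ge_of_wellFoundedGT (· ∈ U) V hV
    exact ⟨M, h2, h1⟩
  -- any two maximal elements coincide
  have huniq : ∀ (T : Set (Subgroup G)) (M₁ M₂ : Subgroup G), Maximal (· ∈ U) M₁ →
      Maximal (· ∈ U) M₂ → T = S M₁ ∩ S M₂ → M₁ = M₂ := by
    intro T
    induction T using WellFoundedGT.induction with
    | ind T ih =>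
    intro M₁ M₂ hM₁ hM₂ hT
    obtain ⟨X, hX, hNX⟩ := h3 M₁ hM₁.1 M₂ hM₂.1
    obtain ⟨M₃, hM₃, hXM⟩ := hmax X hX
    rw [← hT] at hNX
    have step : ∀ M, Maximal (· ∈ U) M → T ⊆ S M → M = M₃ := by
      intro M hM hTM
      by_cases hc : S M ⊆ T
      · have hTM' : T = S M := Set.Subset.antisymm hTM hc
        have h4 : M ≤ M₃ := by
          refine ((hnorm M).trans ?_).trans hXM
          rwa [← hTM']
        exact le_antisymm h4 (hM.2 hM₃.1 h4)
      · obtain ⟨Y, hY, hYT, hYn⟩ := exists_le_normalizer_sSup_in (V := M) (hsub M) (hconj M)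
          (S₀ := T) ⟨hTM, hc⟩
        refine ih (S M ∩ S M₃) ⟨fun B hB => ⟨hTM hB, ?_⟩, fun h => hYT (h ⟨hY, ?_⟩)⟩ M M₃ hM hM₃ rfl
        · exact h2 M₃ hM₃.1 M hM.1 B (hTM hB)
            ((((le_sSup hB).trans le_normalizer).trans hNX).trans hXM)
        · exact h2 M₃ hM₃.1 M hM.1 Y hY ((hYn.trans hNX).trans hXM)
    rw [step M₁ hM₁ (hT ▸ Set.inter_subset_left), step M₂ hM₂ (hT ▸ Set.inter_subset_right)]
  obtain ⟨V₀, hV₀⟩ := hU
  obtain ⟨M, hM, -⟩ := hmax V₀ hV₀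
  refine ⟨M, hM.1, fun V hV => ?_⟩
  obtain ⟨M', hM', hVM⟩ := hmax V hV
  rwa [huniq _ M M' hM hM' rfl]

end Cfsg.Agent.S0540
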