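import Cfsg.Statements.S2947
import Cfsg.Agent.Invol.More

set_option autoImplicit false
open Cfsg

namespace Cfsg.Agent.S2947

/-- Let G be a finite group of characteristic 2 type in which every 2-local subgroup is solvable and the centralizer of Ω₁(Z(S)) lies in N_G(S) for every Sylow 2-subgroup S; suppose O₂(G) = 1, fix a Sylow 2-subgroup S and a 2-local subgroup M containing N_G(J(S)) (J the Thompson subgroup generated by the elementary abelian 2-subgroups of largest order). Then M is strongly embedded in G (a proper subgroup of even order whose intersection with each conjugate by an element outside M has odd order) if and only if no nontrivial 2-subgroup of M lies in a 2-local subgroup of G not contained in M. -/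
theorem result {G : Type*} [Group G] [Finite G] (hL : Cfsg.IsCharacteristicTwoType G) (hN : ∀ N : Subgroup G, Cfsg.IsTwoLocal N → Group.IsSolvable ↥N)
    (hZ : ∀ S : Sylow 2 G, Subgroup.centralizer (Cfsg.omegaCenterOf (S : Subgroup G) : Set G) ≤ Subgroup.normalizer ((S : Subgroup G) : Set G)) (hO : Cfsg.pCore 2 G = ⊥) (S : Sylow 2 G) (M : Subgroup G) (hM : Cfsg.IsTwoLocal M)
    (hMJ : Subgroup.normalizer (Cfsg.thompsonSubgroupOf 2 (S : Subgroup G) : Set G) ≤ M) :
    Cfsg.IsStronglyEmbedded M ↔ Cfsg.straddlingTwoSubgroups M = ∅ := by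
  open Cfsg.Agent.Invol in
  constructor
  · intro h
    rw [Set.eq_empty_iff_forall_notMem]
    rintro T ⟨hT, hT0, hTM, L, ⟨R, hR, hR0, rfl⟩, hTL, hLM⟩
    apply hLM
    obtain ⟨t, htT, ht⟩ := exists_invol_mem_of_isPGroup hT hT0
    have hp : IsPGroup 2 (R ⊔ Subgroup.zpowers t : Subgroup G) :=
      IsPGroup.to_sup_of_normal_left' hR (hT.to_le ((Subgroup.zpowers_le).2 htT))
        (((Subgroup.zpowers_le).2 htT).trans hTL)
    have := SE.le_of_isPGroup h hp (hTM htT) ht (Subgroup.mem_sup_right (Subgroup.mem_zpowers t))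
    exact SE.normalizer_le h (le_sup_left.trans this) hR hR0
  · intro h
    rw [Set.eq_empty_iff_forall_notMem] at h
    obtain ⟨T, hT, hT0, rfl⟩ := hM
    refine se_of_normalizers ?_ ?_ fun X hXM hX h0 => ?_
    · intro htop
      have : T.Normal := Subgroup.normalizer_eq_top_iff.1 htop
      exact hT0 (Solv.eq_bot_of_pCore_eq_bot hO hT)
    · obtain ⟨t, htT, ht⟩ := exists_invol_mem_of_isPGroup hT hT0
      exact ⟨t, Subgroup.le_normalizer htT, ht⟩
    · by_contra hn
      exact h X ⟨hX, h0, hXM, _, ⟨X, hX, h0, rfl⟩, Subgroup.le_normalizer, hn⟩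

end Cfsg.Agent.S2947
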