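import Cfsg.Statements.S0252
import Cfsg.Agent.Classical.PSL2Basic

set_option autoImplicit false
open Cfsg

namespace Cfsg.Agent.S0252

open Cfsg.Agent.Classical

/-- PSL_2(4) is isomorphic to A_5. -/
theorem result {F : Type*} [Field F] [Fintype F] (hF : Fintype.card F = 4) : Nonempty (Matrix.ProjectiveSpecialLinearGroup (Fin 2) F ≃* alternatingGroup (Fin 5)) := by
  rw [← Nat.card_eq_fintype_card] at hF
  have := card_PSL2_mul (F := F)
  rw [hF] at this
  norm_num at this
  exact nonempty_equiv_alternating_of_injective (α := P1 F) (by rw [card_P1, hF])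
    (MulAction.toPermHom _ _) MulAction.toPerm_injective (by rw [this]; rfl)

end Cfsg.Agent.S0252
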