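import Cfsg.Statements.S0981
import Cfsg.Agent.Small.Low

set_option autoImplicit false
open Cfsg

namespace Cfsg.Agent.S0981

open Cfsg.Agent.Small Cfsg.Agent.Char

theorem data {n e k : ℕ} {M : Multiset ℤ} {d : ℤ} (h : PData 4080 17 n e k M d) :
    e = 2 ∧ k = 1 ∧ -16 ∈ d ::ₘ M := by
  by_contra hc
  have := h.ex (R := 64) (f := fun _ e k l => !decide (e = 2 ∧ k = 1 ∧ -16 ∈ l)) (by omega)
    (by omega) fun l hl => by
      subst hl
      simpa only [Bool.not_eq_eq_eq_not, Bool.not_true, decide_eq_false_iff_not,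
        Multiset.cons_coe, Multiset.mem_coe] using hc
  revert this
  decide +kernel

/-- A simple group of order 4080 is isomorphic to the projective special linear group of dimension 2 over the field with 16 elements. -/
theorem result {G : Type*} [Group G] [Finite G] [IsSimpleGroup G] (h : Nat.card G = 4080) {F : Type*} [Field F] [Fintype F] (hF : Fintype.card F = 16) : Nonempty (G ≃* Matrix.ProjectiveSpecialLinearGroup (Fin 2) F) := by
  have hG : ¬ IsCyclic G := not_isCyclic_of_card (by rw [h]; norm_num)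
  have : Fact (Nat.Prime 17) := ⟨by norm_num⟩
  obtain ⟨y, K, h5⟩ := exists_defOne_of_dvd (G := G) (p := 17) (by rw [h]; norm_num)
    (by rw [h]; norm_num)
  have := Fintype.ofFinite K
  obtain ⟨X, φ, δ, ε, s⟩ := h5.exists_pshape
  obtain ⟨e5, k5, hd⟩ := data (h ▸ s.pdata hG)
  obtain rfl := Subgroup.card_eq_one.1 k5
  obtain ⟨ψ, -, ψ1, d⟩ := s.exists_of_mem hd
  exact equiv_PSL_of_SL (h5.equiv_SL_of_degree e5 (by omega) ψ.2 (by rw [← d]; rfl)
    (charKer_eq_bot' ψ1)) hF

end Cfsg.Agent.S0981
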