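import Cfsg.Statements.S1011
import Cfsg.Agent.Small.Low
import Cfsg.Agent.Small.A7b

set_option autoImplicit false
open Cfsg

namespace Cfsg.Agent.S1011

open Cfsg.Agent.Small Cfsg.Agent.Char Cfsg.Agent.Invol

theorem data {n e k : ℕ} {M : Multiset ℤ} {d : ℤ} (h : PData 504 7 n e k M d) :
    k = 1 ∧ d = 9 ∧ ∀ z ∈ M, z = 8 := by
  by_contra hc
  have := h.ex (R := 23) (f := fun _ _ k l => !decide (k = 1 ∧ l.head? = some 9 ∧
    ∀ z ∈ l.tail, z = 8)) (by omega) (by omega) fun l hl => by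
      subst hl
      simpa only [Bool.not_eq_eq_eq_not, Bool.not_true, decide_eq_false_iff_not, List.head?_cons,
        Option.some.injEq, List.tail_cons, Multiset.mem_coe] using hc
  revert this
  decide +kernel

/-- A simple group of order 504 is isomorphic to the projective special linear group of dimension 2 over the field with 8 elements. -/
theorem result {G : Type*} [Group G] [Finite G] [IsSimpleGroup G] (h : Nat.card G = 504) {F : Type*} [Field F] [Fintype F] (hF : Fintype.card F = 8) : Nonempty (G ≃* Matrix.ProjectiveSpecialLinearGroup (Fin 2) F) := by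
  have hG : ¬ IsCyclic G := not_isCyclic_of_card (by rw [h]; norm_num)
  have := Fact.mk Nat.prime_seven
  have := Fact.mk Nat.prime_two
  obtain ⟨y, K, h7⟩ := exists_defOne_of_dvd (G := G) (p := 7) (by rw [h]; norm_num)
    (by rw [h]; norm_num)
  have := Fintype.ofFinite K
  obtain ⟨X, φ, δ, ε, s⟩ := h7.exists_pshape
  obtain ⟨k7, h9, h8⟩ := data (h ▸ s.pdata hG)
  have n1 : ∀ g : G, ∀ r : ℕ, r.Prime → r ≠ 2 → orderOf g ≠ 2 * r := fun g r hr r2 e => by
    have n7 : ¬ 7 ∣ orderOf g := fun h => by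
      have := h7.dvd_card_of_orderOf (q := 2) (by decide) h (by omega)
      omega
    have h1 : r ∣ 2 ^ 3 * 3 ^ 2 * 7 := (Dvd.intro_left 2 e.symm).trans
      (show _ ∣ 504 from h ▸ orderOf_dvd_natCard g)
    simp only [hr.dvd_mul, hr.prime.dvd_pow_iff_dvd (n := 3) (by omega),
      hr.prime.dvd_pow_iff_dvd (n := 2) (by omega), Nat.prime_dvd_prime_iff_eq hr Nat.prime_two,
      Nat.prime_dvd_prime_iff_eq hr Nat.prime_three,
      Nat.prime_dvd_prime_iff_eq hr Nat.prime_seven] at h1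
    refine s.not_dvd_dvd (a := 3) (b := 2) (m := 63) (n := 56) Nat.prime_two Nat.prime_three h
      (by decide) h (by decide) (fun χ hχ χ1 => .inl ?_) (.inr ?_) n7 (by omega) (by omega)
    · rw [← s.natAbs_X hχ, h8 _ (mem_sdeg.2 ⟨χ, hχ, χ1, rfl⟩)]; decide
    · rw [← s.natAbs_φ, h9]; decide
  have h16 : ¬ 16 ∣ Nat.card G := by rw [h]; decide
  have n3 : ∀ u z : G, orderOf z = 2 → Odd (orderOf u) → Commute u z → u = 1 :=
    fun u z z2 ho h1 => by_contra fun u1 => by
      obtain ⟨p, hp, hd⟩ := Nat.exists_prime_and_dvd (mt orderOf_eq_one_iff.1 u1)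
      have h3 : orderOf (u ^ (orderOf u / p)) = p := orderOf_pow_orderOf_div (orderOf_pos u).ne' hd
      refine n1 (u ^ (orderOf u / p) * z) p hp (by rintro rfl; exact ho.not_two_dvd_nat hd) ?_
      rw [(h1.pow_left _).orderOf_mul_eq_mul_orderOf_of_coprime (by
        rw [h3, z2]; exact Nat.coprime_two_right.2 (ho.of_dvd_nat hd)), h3, z2, mul_comm]
  have n2 : ∀ w : G, orderOf w ≠ 4 := fun w hw => by
    obtain ⟨cj, f, hf, fw⟩ := exists_dih8 hG (by rw [h]; norm_num) h16 hw
    obtain ⟨z2, s2⟩ := invol_dih hf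
    have fz : f (.r 2) = w ^ 2 := by rw [← fw, ← map_pow]; rfl
    rcases exists_inverted h16 hf (fun i u ho h1 _ => n3 u _ z2 ho h1) with d8 | ⟨u, u1, ho, hu⟩
    · have := d8.card_of_conj (fz ▸ cj _ (s2 0)) (fz ▸ cj _ (s2 1))
      omega
    refine u1 (n3 u _ z2 ho ?_)
    have e : f (.r 2) = f (.sr 0) * f (.sr 2) := by rw [← map_mul]; rfl
    rw [Commute, SemiconjBy, eq_comm, ← mul_inv_eq_iff_eq_mul]
    calc _ = f (.sr 0) * (f (.sr 2) * u * (f (.sr 2))⁻¹) * (f (.sr 0))⁻¹ := by rw [e]; group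
      _ = (f (.sr 0) * u * (f (.sr 0))⁻¹)⁻¹ := by rw [hu 2]; group
      _ = u := by rw [hu 0, inv_inv]
  obtain ⟨S⟩ : Nonempty (Sylow 2 G) := inferInstance
  have hS := card_sylow_eight (by rw [h]; norm_num) h16 S
  have sq : ∀ a ∈ (S : Subgroup G), a * a = 1 := fun a ha => by
    obtain ⟨k, hk, e⟩ := (Nat.dvd_prime_pow Nat.prime_two (m := 3)).1 
      (show _ ∣ 8 from hS ▸ Subgroup.orderOf_dvd_natCard _ ha)
    rw [← pow_two, ← orderOf_dvd_iff_pow_eq_one, e]
    interval_cases k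
    · decide
    · decide
    · exact absurd e (n2 a)
    · exact absurd (by rw [orderOf_pow' _ two_ne_zero, e]; rfl) (n2 (a ^ 2))
  refine equiv_PSL_of_SL (equiv_SL_of_centralizer S hS (by omega) h
    (centric_of_orderOf S (fun a ha b hb => ?_) n1)) hF
  rw [← inv_eq_of_mul_eq_one_right (sq _ (mul_mem ha hb)), mul_inv_rev,
    inv_eq_of_mul_eq_one_right (sq a ha), inv_eq_of_mul_eq_one_right (sq b hb)]

end Cfsg.Agent.S1011
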