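import Cfsg.Statements.S2116
import Cfsg.Agent.Known.A6Mul
import Cfsg.Agent.Known.A6Eq
import Cfsg.Agent.Known.A7Mul
import Cfsg.Agent.Known.A7Eq

namespace Cfsg.Agent.S2116

open Cfsg.Agent.Known

theorem result (n : ℕ) (hn : n = 6 ∨ n = 7) : Cfsg.HasCyclicSchurMultiplier (alternatingGroup (Fin n)) 6 := by
  rcases hn with rfl | rfl
  · exact A6T.equiv.elim fun e => Schur.hasSchurMultiplier_congr_left A6T.mult e.symm
  · exact A7T.equiv.elim fun e => Schur.hasSchurMultiplier_congr_left A7T.mult e.symm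

end Cfsg.Agent.S2116
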