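import Cfsg.Statements.S4594
import Cfsg.Agent.FG.Q4b
import Cfsg.Agent.S0483
import Cfsg.Agent.S2116
import Cfsg.Agent.Schur.Hopf
import Cfsg.Agent.Transfer.Hall
import Cfsg.Agent.Gen2.Basic
import Cfsg.Agent.SE.Bender

set_option autoImplicit false
open Cfsg

namespace Cfsg.Agent.S4594

open Subgroup FG

/-- Let G be a finite quasisimple group with a non-abelian Sylow 2-subgroup P whose centre has index 4 in P. Then P has order 8, and G is isomorphic to the alternating group on 7 letters, or G has centre of order 3 with central quotient isomorphic to the alternating group on 7 letters, or the central quotient of G is isomorphic to PSL(2, F) for some finite field F of odd order. -/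
theorem result {G : Type*} [Group G] [Finite G] (hq : Cfsg.IsQuasisimple G) (P : Sylow 2 G) (hna : ¬ IsMulCommutative (P : Subgroup G)) (hZ : (Subgroup.center (P : Subgroup G)).index = 4) :
    Nat.card (P : Subgroup G) = 8 ∧
      (Nonempty (G ≃* alternatingGroup (Fin 7)) ∨
       (Nat.card (Subgroup.center G) = 3 ∧ Nonempty (G ⧸ Subgroup.center G ≃* alternatingGroup (Fin 7))) ∨
       ∃ (F : Type) (_ : Field F) (_ : Fintype F), Odd (Fintype.card F) ∧ Nonempty (G ⧸ Subgroup.center G ≃* Matrix.ProjectiveSpecialLinearGroup (Fin 2) F)) := by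
  obtain ⟨hp, hs⟩ := hq
  obtain ⟨z, h⟩ := q4_of_index hna hZ
  have nq : ¬ IsMulCommutative (G ⧸ center G) := Group.IsPerfect.not_isMulCommutative _
  set π := QuotientGroup.mk' (center G) with hπ
  have sπ : Function.Surjective π := QuotientGroup.mk'_surjective _
  have kπ : ∀ {g}, π g = 1 ↔ g ∈ center G := QuotientGroup.eq_one_iff _
  have zN : ∀ c ∈ center G, c ∈ (P : Subgroup G) → c = 1 ∨ c = z := fun c hc hP => (Invol.mem_zpowers_invol h.zz).1
    (commutator_le.2 (fun a ha b hb => by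
      rcases h.comm a ha b hb with e | e
      · exact commutatorElement_eq_one_iff_mul_comm.2 e ▸ one_mem _
      · rw [commutatorElement_def, e, mul_assoc b, h.zc a ha, mul_assoc b, mul_inv_cancel_right, h.zc b hb,
          mul_inv_cancel_right]
        exact mem_zpowers z) (Transfer.mem_commutator_sylow_of_mem_center P hc Group.IsPerfect.mem_commutator hP))
  have eight : (∀ y ∈ (P : Subgroup G), y ∈ Cs P → y = 1 ∨ y = z) → Nat.card (P : Subgroup G) = 8 := fun k => by
    rw [← (center (P : Subgroup G)).card_mul_index, hZ, show center (P : Subgroup G) = zpowers ⟨z, h.zP⟩ from ?_,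
      Nat.card_zpowers, orderOf_mk, Invol.orderOf_two_iff.2 ⟨h.zz, h.z1⟩]
    refine le_antisymm (fun y hy => ?_) (zpowers_le.2 (mem_center_iff.2 fun y => Subtype.ext (h.zc y y.2)))
    rcases k y y.2 fun x hx => congrArg Subtype.val (mem_center_iff.1 hy ⟨x, hx⟩) with e | e
    · exact (show y = 1 from Subtype.ext e) ▸ one_mem _
    · exact (show y = ⟨z, h.zP⟩ from Subtype.ext e) ▸ mem_zpowers _
  have mp : ∀ {x}, x ∈ Cs P → π x ∈ Cs (P.mapSurjective sπ) := by
    rintro x hx _ ⟨y, hy, rfl⟩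
    rw [← map_mul, hx y hy, map_mul]
  by_cases hz : z ∈ center G
  · have ab : ∀ a ∈ (P.mapSurjective sπ : Subgroup _), a ∈ Cs (P.mapSurjective sπ) := by
      rintro _ ⟨a, ha, rfl⟩ _ ⟨b, hb, rfl⟩
      rcases h.comm b hb a ha with e | e <;> rw [← map_mul, e] <;> simp [kπ.2 hz]
    have st := fun A hA h0 hsc => LieM.struct_of (fun {_ _ _} => S2775.result) nq (P.mapSurjective sπ) (A := A) hA h0 hsc
    obtain ⟨a, ha, b, hb, n⟩ := h.ex
    have nb : (P.mapSurjective sπ : Subgroup _) ≠ ⊥ := fun e =>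
      n (mem_center_iff.1 (kπ.1 (mem_bot.1 (e ▸ mem_map_of_mem π hb))) a)
    have el := (st _ ⟨⟨fun a b => Subtype.ext (ab b b.2 a a.2)⟩⟩ nb ⟨le_rfl, fun _ _ _ e => e⟩).2.1
    set K := (P.mapSurjective sπ : Subgroup _).comap π
    have k : ∀ y ∈ (P : Subgroup G), y ∈ Cs P → y ∈ center G := fun y hy c => by
      have hA : (K ⊓ centralizer (K : Set G)).map π ≤ P.mapSurjective sπ := map_le_iff_le_comap.2 inf_le_left
      have : (K ⊓ centralizer (K : Set G)).map π = ⊥ := by_contra fun h0 => by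
        refine ((st _ ⟨⟨fun a b => Subtype.ext (ab b (hA b.2) a (hA a.2))⟩⟩ h0 ⟨hA, ?_⟩).1 _
          (mem_map_of_mem π hb) (el _ (mem_map_of_mem π hb))).elim fun w ⟨hw, e⟩ => ?_
        swap
        · have := mem_center_iff.1 (QuotientGroup.eq.1 e) a
          rw [← mul_assoc, (inv_mem hw).2 a (mem_map_of_mem π ha), mul_assoc, mul_assoc] at this
          exact n (mul_left_cancel this)
        rintro _ ⟨x, hx, rfl⟩ g hg
        obtain ⟨m, hm, e⟩ := fus (ab _ hx.1) (ab _ hg)
        obtain ⟨m, rfl⟩ := sπ m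
        have f : ∀ m : G, π m ∈ normalizer ((P.mapSurjective sπ : Subgroup (G ⧸ center G)) : Set (G ⧸ center G)) → ∀ y ∈ K, m * y * m⁻¹ ∈ K :=
          fun m hm y hy => by simpa [K] using (mem_normalizer_iff.1 hm _).1 hy
        refine ⟨m * x * m⁻¹, ⟨f m hm x hx.1, fun y hy => ?_⟩, by simpa using e⟩
        have := hx.2 _ (f m⁻¹ (by simpa using inv_mem hm) y hy)
        calc y * (m * x * m⁻¹) = m * (m⁻¹ * y * m⁻¹⁻¹ * x) * m⁻¹ := by group
          _ = _ := by rw [this]; group
      refine kπ.1 (mem_bot.1 (this ▸ mem_map_of_mem π ⟨mem_map_of_mem π hy, fun x ⟨x', hx', e⟩ => ?_⟩))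
      rw [← mul_inv_cancel_left x' x, mul_assoc, ← mem_center_iff.1 (QuotientGroup.eq.1 e) y, ← mul_assoc, c x' hx',
        mul_assoc]
    refine ⟨eight fun y hy c => zN y (k y hy c) hy, .inr (.inr ?_)⟩
    have := (nontrivial_iff_ne_bot _).2 nb
    refine (AB.psl_of_klein (P.mapSurjective sπ) ⟨?_, (Monoid.exponent_eq_prime_iff Nat.prime_two).2
      fun g g1 => Invol.orderOf_two_iff.2 ⟨Subtype.ext (el g g.2), g1⟩⟩).imp fun F ⟨_, _, e, _, f⟩ =>
        ⟨_, _, Nat.odd_iff.2 (by omega), f⟩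
    · rw [← hZ, show center (P : Subgroup G) = (π.domRestrict (P : Subgroup G)).ker from ?_, index_ker,
        MonoidHom.domRestrict_range]
      · rfl
      exact le_antisymm (fun (y : (P : Subgroup G)) hy => kπ.2 (k y.1 y.2 fun x hx => congrArg Subtype.val (mem_center_iff.1 hy ⟨x, hx⟩)))
        fun y hy => mem_center_iff.2 fun x => Subtype.ext (mem_center_iff.1 (kπ.1 hy) x)
  have h' : Q4 (P.mapSurjective sπ) (π z) := ⟨mem_map_of_mem π h.zP, mt kπ.1 hz, by rw [← map_mul, h.zz, map_one],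
    mp h.zc, by
      rintro _ ⟨a, ha, rfl⟩ _ ⟨b, hb, rfl⟩
      simpa only [← map_mul] using (h.comm a ha b hb).imp (congrArg π) (congrArg π), by
      obtain ⟨a, ha, b, hb, n⟩ := h.ex
      refine ⟨_, mem_map_of_mem π ha, _, mem_map_of_mem π hb, fun e => hz (kπ.1 ?_)⟩
      rwa [← map_mul, (h.comm a ha b hb).resolve_left n, map_mul, map_mul, mul_eq_left] at e, by
      rintro _ ⟨a, ha, rfl⟩ _ ⟨b, hb, rfl⟩ n _ ⟨x, hx, rfl⟩
      simpa only [← map_mul] using (h.three a ha b hb (fun e => n (by rw [← map_mul, e, map_mul])) x hx).imp mp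
        (.imp mp (.imp mp mp))⟩
  have z1 : ∀ c ∈ center G, c ∈ (P : Subgroup G) → c = 1 := fun c hc hP => (zN c hc hP).resolve_right fun e => hz (e ▸ hc)
  refine ⟨eight fun y hy c => (h'.center_two nq (mem_map_of_mem π hy) (mp c)).imp (fun e => z1 y (kπ.1 e) hy) fun e =>
    inv_mul_eq_one.1 (z1 _ (QuotientGroup.eq.1 e) (mul_mem (inv_mem hy) h.zP)), ?_⟩
  obtain ⟨n, hn, e⟩ := h'.dihedral nq
  have o : oddCore (G ⧸ center G) = ⊥ := SE.oddCore_simple (even_iff_two_dvd.2
    (Invol.orderOf_two_iff.2 ⟨h'.zz, h'.z1⟩ ▸ orderOf_dvd_natCard _))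
  have f := ((QuotientGroup.quotientMulEquivOfEq o).trans QuotientGroup.quotientBot).symm
  obtain ⟨F, _, _, od, -, ⟨e⟩⟩ | ⟨⟨e⟩⟩ := S0483.result _ n hn e
  · exact .inr (.inr ⟨F, _, _, od, ⟨f.trans e⟩⟩)
  have e := f.trans e
  have ke : (e.toMonoidHom.comp π).ker = center G := by ext; simp [kπ]
  obtain ⟨φ, hφ⟩ := Schur.exists_surj_ker (S2116.result 7 (.inr rfl)) (σ := e.toMonoidHom.comp π)
    ⟨e.surjective.comp sπ, ke.le, by simp⟩
  have d := card_dvd_of_surjective φ hφ
  rw [ke, Nat.card_eq_fintype_card (α := Multiplicative _), Fintype.card_multiplicative, ZMod.card] at d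
  have n2 : ¬ 2 ∣ Nat.card (center G) := fun d => by
    obtain ⟨c, hc⟩ := exists_prime_orderOf_dvd_card' 2 d
    rw [← orderOf_coe] at hc
    exact (Invol.orderOf_two_iff.1 hc).2 (z1 c c.2 (Gen2.mem_sylow_of_le_cent P ⟨1, hc⟩
      fun g _ => Gen2.mem_cent.2 (mem_center_iff.1 c.2 g)))
  have := Nat.le_of_dvd (by decide) d
  interval_cases k : Nat.card (center G) <;> try omega
  · exact .inl ⟨((QuotientGroup.quotientMulEquivOfEq (card_eq_one.1 k)).trans QuotientGroup.quotientBot).symm.trans e⟩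
  · exact .inr (.inl ⟨rfl, ⟨e⟩⟩)

end Cfsg.Agent.S4594
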