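import Cfsg.Statements.S0228
import Cfsg.Agent.Invol.Basic
import Mathlib.GroupTheory.SpecificGroups.Alternating
import Mathlib.GroupTheory.IndexNormal
import Mathlib.GroupTheory.SpecificGroups.Cyclic

set_option autoImplicit false
open Cfsg

namespace Cfsg.Agent.S0228

/-- A group of order 12 in which no involution is central is isomorphic to the alternating group on four letters. -/
theorem result {G : Type*} [Group G] [Finite G] (hG : Nat.card G = 12) (hz : ∀ z : G, orderOf z = 2 → z ∉ Subgroup.center G) : Nonempty (G ≃* alternatingGroup (Fin 4)) := by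
  open Cfsg.Agent.Invol in
  have : Fact (Nat.Prime 3) := ⟨Nat.prime_three⟩
  obtain ⟨x, hx⟩ := exists_prime_orderOf_dvd_card' (G := G) 3 (by rw [hG]; norm_num)
  set P := Subgroup.zpowers x with hP
  have hPc : Nat.card P = 3 := by rw [Nat.card_zpowers, hx]
  have hPi : P.index = 4 := by
    have := P.card_mul_index
    rw [hPc, hG] at this
    omega
  have hcore : P.normalCore = ⊥ := by
    rcases (Subgroup.eq_bot_or_eq_top_of_prime_card (P.normalCore.subgroupOf P) (hp := ⟨hPc ▸ Nat.prime_three⟩)) with h | h
    · rwa [Subgroup.subgroupOf_eq_bot, disjoint_iff, inf_eq_left.2 P.normalCore_le] at h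
    · exfalso
      rw [Subgroup.subgroupOf_eq_top] at h
      have hn : ∀ g : G, g * x * g⁻¹ ∈ P := fun g => P.normalCore_le
        (Subgroup.Normal.conj_mem inferInstance x (h (Subgroup.mem_zpowers x)) g)
      -- the class of `x` has at most two elements
      have hcl : Nat.card {y : G // IsConj x y} ≤ 2 := by
        have : Nat.card {y : P // y ≠ 1} = 2 := by
          classical
          have := Fintype.ofFinite P
          rw [Nat.card_eq_fintype_card, Fintype.card_subtype_compl, Fintype.card_subtype_eq,
            ← Nat.card_eq_fintype_card, hPc]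
        rw [← this]
        refine Nat.card_le_card_of_injective (fun y => ⟨⟨y.1, ?_⟩, ?_⟩) ?_
        · obtain ⟨g, hg⟩ := isConj_iff.1 y.2
          exact hg ▸ hn g
        · intro h
          have h1 : y.1 = 1 := congrArg Subtype.val h
          have := orderOf_of_isConj y.2
          rw [h1, hx, orderOf_one] at this
          omega
        · intro a b h
          exact Subtype.ext (by simpa using h)
      have h2 := card_class_mul_card_centralizer x
      set C := Subgroup.centralizer ({x} : Set G)
      have h3 : 3 ∣ Nat.card C := hx ▸ Subgroup.orderOf_dvd_natCard C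
        (mem_centralizer_singleton.2 (Commute.refl x))
      have hCe : Even (Nat.card C) := by
        rw [hG] at h2
        have : Nat.card {y : G // IsConj x y} = 1 ∨ Nat.card {y : G // IsConj x y} = 2 := by
          have : Nat.card {y : G // IsConj x y} ≠ 0 := by
            intro h0; rw [h0] at h2; omega
          omega
        rw [Nat.even_iff]
        rcases this with h | h <;> rw [h] at h2 <;> omega
      obtain ⟨z, hzC, hz2⟩ := exists_invol_mem_of_even hCe
      have hzx := mem_centralizer_singleton.1 hzC
      -- `x * z` generates a subgroup of index two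
      have ho : orderOf (x * z) = 6 := by
        rw [hzx.symm.orderOf_mul_eq_mul_orderOf_of_coprime (by rw [hx, hz2]; norm_num), hx, hz2]
      have hidx : (Subgroup.zpowers (x * z)).index = 2 := by
        have := (Subgroup.zpowers (x * z)).card_mul_index
        rw [Nat.card_zpowers, ho, hG] at this
        omega
      have hN := Subgroup.normal_of_index_eq_two hidx
      have hz3 : (x * z) ^ 3 = z := by
        rw [hzx.symm.mul_pow, ← hx, pow_orderOf_eq_one, one_mul, hx, pow_succ, pow_two,
          mul_self_of hz2, one_mul]
      apply hz z hz2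
      rw [Subgroup.mem_center_iff]
      intro g
      obtain ⟨k, hk⟩ := Subgroup.mem_zpowers_iff.1
        (hN.conj_mem _ (Subgroup.mem_zpowers (x * z)) g)
      have h4 : g * z * g⁻¹ = z ^ k := by
        conv_lhs => rw [← hz3, ← conj_pow, ← hk, ← zpow_natCast, ← zpow_mul, mul_comm k, zpow_mul,
          zpow_natCast, hz3]
      have h5 : z ^ k = z := by
        have h2 : z ^ (2 : ℤ) = 1 := by rw [zpow_two, mul_self_of hz2]
        rcases Int.even_or_odd' k with ⟨m, rfl | rfl⟩
        · exfalso
          have := orderOf_conj' g z
          rw [h4, zpow_mul, h2, one_zpow, orderOf_one, hz2] at this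
          omega
        · rw [zpow_add, zpow_mul, h2, one_zpow, one_mul, zpow_one]
      exact mul_inv_eq_iff_eq_mul.1 (h4.trans h5)
  have hq : Nat.card (G ⧸ P) = 4 := hPi
  have := Fintype.ofFinite (G ⧸ P)
  let e : (G ⧸ P) ≃ Fin 4 := Fintype.equivFinOfCardEq (by rw [← Nat.card_eq_fintype_card, hq])
  let f : G →* Equiv.Perm (Fin 4) := (e.permCongrHom).toMonoidHom.comp (MulAction.toPermHom G (G ⧸ P))
  have hf : Function.Injective f := by
    refine e.permCongrHom.injective.comp ?_
    rw [← MonoidHom.ker_eq_bot_iff, ← Subgroup.normalCore_eq_ker, hcore]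
  have hr : f.range = alternatingGroup (Fin 4) := by
    apply Equiv.Perm.eq_alternatingGroup_of_index_eq_two
    have := f.range.card_mul_index
    rw [← Nat.card_congr (MonoidHom.ofInjective hf).toEquiv, hG, Nat.card_perm, Nat.card_fin] at this
    simp [Nat.factorial] at this
    omega
  exact ⟨(MonoidHom.ofInjective hf).trans (MulEquiv.subgroupCongr hr)⟩

end Cfsg.Agent.S0228
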