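import Cfsg.Statements.S0121
import Cfsg.Agent.Transfer.SylowIn

set_option autoImplicit false
open Cfsg

namespace Cfsg.Agent.S0121

/-- A p'-automorphism of a p-group acting trivially on a critical subgroup is trivial. -/
theorem result {G : Type*} [Group G] [Finite G] {p : ℕ} [Fact p.Prime] (hG : IsPGroup p G) (H : Subgroup G) (hH : H.Characteristic) (h1 : (frattini H).map H.subtype ≤ Subgroup.centralizer (H : Set G)) (h2 : ⁅H, (⊤ : Subgroup G)⁆ ≤ H ⊓ Subgroup.centralizer (H : Set G)) (h3 : Subgroup.centralizer (H : Set G) ≤ H) (a : MulAut G) (ha : Nat.Coprime (orderOf a) p) (h : ∀ x ∈ H, a x = x) : a = 1 := by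
  ext g
  have hc : g⁻¹ * a g ∈ H := by
    refine h3 fun x hx => ?_
    have e := h _ (Subgroup.Normal.conj_mem inferInstance x hx g)
    rw [map_mul, map_mul, map_inv, h x hx] at e
    calc x * (g⁻¹ * a g) = g⁻¹ * (g * x * g⁻¹) * a g := by group
      _ = g⁻¹ * (a g * x * (a g)⁻¹) * a g := by rw [e]
      _ = _ := by group
  have key : ∀ n : ℕ, (a ^ n) g = g * (g⁻¹ * a g) ^ n := by
    intro n
    induction n with
    | zero => simp
    | succ n ih =>
      rw [pow_succ', MulAut.mul_apply, ih, map_mul, map_pow, h _ hc, pow_succ', ← mul_assoc,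
        mul_inv_cancel_left]
  have h4 := key (orderOf a)
  rw [pow_orderOf_eq_one, MulAut.one_apply, left_eq_mul] at h4
  obtain ⟨k, hk⟩ := hG (g⁻¹ * a g)
  have h5 : orderOf (g⁻¹ * a g) = 1 := Nat.eq_one_of_dvd_coprimes (ha.pow_right k)
    (orderOf_dvd_of_pow_eq_one h4) (orderOf_dvd_of_pow_eq_one hk)
  exact (inv_mul_eq_one.1 (orderOf_eq_one_iff.1 h5)).symm

end Cfsg.Agent.S0121
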