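import Cfsg.Statements.S4272
import Cfsg.Agent.LieM.Gold10
import Cfsg.Agent.AB.EE
import Cfsg.Agent.Comp.Rigid

set_option autoImplicit false
set_option linter.unusedSectionVars false
set_option linter.unusedVariables false

open Cfsg

namespace Cfsg.Agent.S4272
section
open Subgroup MulAction Cfsg.Agent.BG Cfsg.Agent.GW Cfsg.Agent.Invol Cfsg.Agent.AB Cfsg.Agent.AB.E3 Cfsg.Agent.Classical
open scoped MatrixGroups

local notation "ZJ" => centerThompsonOf 3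

/-- Borel data in `L`. -/
structure RB {G : Type*} [Group G] (L U B : Subgroup G) : Prop where
  BL : B ≤ L
  max : ∀ M, B ≤ M → M ⊓ L ≤ B ∨ L ≤ M
  pU : IsPGroup 3 U
  U0 : U ≠ ⊥
  nU : U ⊴ B
  oB : Odd #B
  cen : ∀ z ∈ L, orderOf z = 3 → IsPGroup 3 (L ⊓ C1[z] : Subgroup G)
  ti : ∀ g ∈ L, ∀ z ∈ B, orderOf z = 3 → g * z * g⁻¹ ∈ B → g ∈ B
  cnj : ∀ z ∈ L, orderOf z = 3 → ∃ g ∈ L, g * z * g⁻¹ ∈ B

variable {G : Type*} [Group G] [Finite G] {t w : G} {L U B A : Subgroup G} {u s : L} {K : Subgroup L}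

theorem exists_rb {F : Type*} [Field F] [Finite F] (e : L ≃* PSL(2, F)) {m : ℕ} (hq : Nat.card F = 3 ^ (2 * m + 1)) :
    ∃ U B, RB L U B ∧ 2 * #B = Nat.card F * (Nat.card F - 1) := by
  have := Fintype.ofFinite F
  have : CharP F 3 := charP_of_card_eq_prime_pow (by rw [← Nat.card_eq_fintype_card, hq])
  have h2 : (2 : F) ≠ 0 := two_ne_zero_of_char F 3 (by decide)
  let j : PSL(2, F) →* G := L.subtype.comp e.symm.toMonoidHom
  have ji : Function.Injective j := L.subtype_injective.comp e.symm.injective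
  have jL : ∀ x, j x ∈ L := fun x => (e.symm x).2
  have js : ∀ x ∈ L, ∃ y, j y = x := fun x hx => ⟨e ⟨x, hx⟩, congrArg Subtype.val (e.symm_apply_apply _)⟩
  have o3 : ∀ z, orderOf (j z) = 3 → z ^ 3 = 1 ∧ z ≠ 1 := fun z h => by
    rw [orderOf_injective j ji] at h
    exact ⟨h ▸ pow_orderOf_eq_one z, by rintro rfl; simp at h⟩
  have H := unipAct_PSL (F := F) 3
  have q4 : Nat.card F % 4 = 3 := by rw [hq, pow_succ, pow_mul, Nat.mul_mod, Nat.pow_mod]; simp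
  have c := card_stabilizer_PSL (inf : P1 F)
  rw [gcd_two_pred_of_odd (by rw [Nat.odd_iff]; omega), ← card_map_of_injective ji] at c
  obtain ⟨P, hP⟩ := H.exists_sylow (not_char_dvd_card_P1 F 3) inf
  refine ⟨(H.U inf).map j, (stabilizer PSL(2, F) (inf : P1 F)).map j, ⟨?_, fun M hM => ?_, (H.isPGroup_U _).map _,
    ?_, ⟨map_mono fun x hx => (H.mem_U.1 hx).2, ?_⟩, ?_, fun z hz z3 => ?_, ?_, fun z hz z3 => ?_⟩, c⟩
  · rintro _ ⟨x, -, rfl⟩; exact jL x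
  · rcases (isCoatom_stabilizer_PSL (inf : P1 F)).le_iff.1 (map_le_iff_le_comap.1 hM) with r | r
    · exact .inr fun x hx => by obtain ⟨y, rfl⟩ := js x hx; exact (r ▸ mem_top _ : y ∈ M.comap j)
    · exact .inl fun x hx => by obtain ⟨y, rfl⟩ := js x hx.2; exact mem_map_of_mem _ (r ▸ (hx.1 : y ∈ M.comap j))
  · rw [Ne, map_eq_bot_iff_of_injective _ ji, ← hP]
    refine Sylow_ne_bot (sylowIn_top P) ?_
    have := card_PSL2_mul (F := F)
    rw [card_top]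
    refine (Nat.Coprime.dvd_mul_left (m := Nat.gcd 2 (Nat.card F - 1)) ?_).1 (this ▸ ?_)
    · rw [gcd_two_pred_of_odd (by rw [Nat.odd_iff]; omega)]; decide
    · exact ((char_dvd_card F 3).mul_right _).mul_right _
  · exact (map_mono (H.stabilizer_le_normalizer _)).trans (le_normalizer_map _)
  · obtain ⟨k, hk⟩ : ∃ k, Nat.card F = 4 * k + 3 := ⟨Nat.card F / 4, by omega⟩
    rw [hk, show 4 * k + 3 - 1 = 2 * (2 * k + 1) by omega, mul_left_comm, Nat.mul_right_inj two_ne_zero] at c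
    rw [c]; exact Odd.mul ⟨2 * k + 1, by ring⟩ ⟨k, rfl⟩
  · obtain ⟨z, rfl⟩ := js z hz
    have k : kap (pslι F z) = 4 := by
      rcases (pgl_pow_three_eq_one_iff (g := pslι F z)).1 (by rw [← map_pow, (o3 z z3).1, map_one]) with r | r
      · rw [r]; linear_combination (-1 : F) * (CharP.cast_eq_zero F 3 : ((3 : ℕ) : F) = 0)
      · rw [r, kap_one]
    refine ((pgroup_of_card ((Small.card_cent_unip h2 (o3 z z3).2 k).trans hq)).map j).to_le fun x hx => ?_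
    obtain ⟨x, rfl⟩ := js x hx.1
    exact mem_map_of_mem _ (mem_cent1.2 (ji (by simpa using mem_cent1.1 hx.2)))
  · rintro g hg _ ⟨z, hz, rfl⟩ z3 h
    obtain ⟨g, rfl⟩ := js g hg
    rw [← map_inv, ← map_mul, ← map_mul, mem_map_iff_mem ji, mem_stabilizer_iff, mul_smul, mul_smul, smul_eq_iff_eq_inv_smul] at h
    exact mem_map_of_mem _ (inv_mem_iff.1 (psl_unique_fixed 3 (o3 z z3).2 (o3 z z3).1 h hz))
  · obtain ⟨z, rfl⟩ := js z hz
    obtain ⟨x, hx⟩ := H.exists_le_U (not_char_dvd_card_P1 F 3) (isPGroup_zpowers (n := 1) (o3 z z3).1)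
    obtain ⟨g, hg⟩ := exists_smul_eq PSL(2, F) x inf
    refine ⟨j g, jL g, ?_⟩
    rw [← map_inv, ← map_mul, ← map_mul, mem_map_iff_mem ji, mem_stabilizer_iff, mul_smul, mul_smul, ← hg, inv_smul_smul,
      (H.mem_U.1 (hx (mem_zpowers z))).2]

namespace RB
variable (b : RB L U B) (h : WJ t L L u s K)
include b h

theorem Bt : B ≤ C1[t] := b.BL.trans h.LC

theorem loc (pA : IsPGroup 3 A) (A0 : A ≠ ⊥) (hD : B ≤ N[A]) (tA : t ∈ N[A]) :
    Sdprod (Op' 2 N[A]) (zpowers t) N[A] ∧ Op' 2 N[A] ⊓ C1[t] = B ∧ Op' 3 (Op' 2 N[A]) ⊓ C1[t] = ⊥ ∧ N[A] ⊓ L = B := by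
  have e : N[A] ⊓ L = B := by
    refine le_antisymm ((b.max _ hD).resolve_right fun r => A0 ?_) (le_inf hD b.BL)
    refine h.eq_bot_of_norm (odd_of_pg pA (by decide)) ?_
    rw [← h.dp.sdprod.sup]
    exact sup_le (zpowers_le.2 tA) r
  obtain ⟨sd, eC⟩ := shape h tA (e ▸ b.oB)
  rw [e] at eC
  have n : Op' 3 (Op' 2 N[A]) ⊓ C1[t] ⊴ B := ⟨eC ▸ inf_le_inf_right _ (pcore_sub _ _),
    normsI (norms_pcore _ (norms_pcore _ (normsG hD))) (normsG (b.Bt h))⟩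
  have p' := pgroupS (inf_le_left (b := C1[t])) (pcore_pgroup {3}ᶜ (Op' 2 N[A]))
  obtain ⟨z, hz, z3⟩ := Cauchy Nat.prime_three (pgroup_pdiv b.pU b.U0)
  exact ⟨sd, eC, trivg_of_pi ((b.cen z (b.BL (b.nU.1 hz)) z3).sub (le_inf (n.1.trans b.BL)
    (le_cent1_iff.2 (normal_pi_cent b.nU n b.pU.pi p' hz)))).pi p', e⟩

theorem step (pA : IsPGroup 3 A) (A0 : A ≠ ⊥) (hD : B ≤ N[A]) (tA : t ∈ N[A]) :
    ∃ P, SylowIn 3 P N[A] ∧ P ≠ ⊥ ∧ B ≤ N[ZJ P] ∧ t ∈ N[ZJ P] := by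
  obtain ⟨sd, eC, eY, -⟩ := b.loc h pA A0 hD tA
  set O := Op' 2 N[A]
  set Y := Op' 3 O
  have oO : Odd #O := odd_Op' _
  obtain ⟨P, hP, tP⟩ := coprime_Sylow_exists 3 sd.norm (cop_invol oO h.tt) (sol_z _ _)
  have hP' : SylowIn 3 P N[A] := pHall_trans_idx hP sd.lel (by
    rw [sd.relIndexl]; exact p'group_of_ne (pg_invol h.tt) (by decide))
  have tZ : zpowers t ≤ N[ZJ P] := Sig.norms_ZJ tP
  have ZP : ZJ P ≤ P := PLocal.ZJ_le 3 P
  have nY := pcore_normal {3}ᶜ O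
  have ZY : ZJ P ≤ N[Y] := ZP.trans (hP.le.trans nY.2)
  have tY : zpowers t ≤ N[Y] := norms_pcore _ sd.norm
  have nW : O ≤ N[Y ⊔ ZJ P] := (Sig.ZJ_fac (by decide) (odd_sol oO) (.inr oO) hP).trans
    (sup_le (normsG le_sup_left) (normsY (inf_le_left.trans nY.2) inf_le_right))
  have WO : Y ⊔ ZJ P ≤ O := sup_le nY.1 (ZP.trans hP.le)
  have pZ := hP.pg.sub ZP
  have sZ : SylowIn 3 (ZJ P) (Y ⊔ ZJ P) := pHall_of_compl (IsComplIn.mk' (.inl ZY) (sup_comm _ _)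
    (pgroup_p'_TI pZ (pcore_pgroup _ _))) pZ.pi (pcore_pgroup _ _)
  have c : IsPGroup 3 ((Y ⊔ ZJ P) ⊓ C1[t] : Subgroup G) := by
    rw [← C_zpowers, coprime_mulG_setI_cent ZY tY tZ (cop_invol (oddSg (inf_le_left.trans nY.1) oO) h.tt)
      (sol_z _ _), C_zpowers, eY, bot_sup_eq]
    exact pZ.sub inf_le_left
  refine ⟨P, hP', Sylow_ne_bot hP' ((pgroup_pdiv pA A0).trans (cardSg (normG A))), ?_, zpowers_le.1 tZ⟩
  exact (le_inf ((eC.ge.trans inf_le_left).trans nW) (b.Bt h)).trans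
    (uniq_syl (oddSg WO oO) h.tt (zpowers_le.1 (normsY tY tZ)) sZ (zpowers_le.1 tZ) c)

theorem exists_P : ∃ P, SylowIn 3 P ⊤ ∧ P ≠ ⊥ ∧ B ≤ N[ZJ P] ∧ t ∈ N[ZJ P] := by
  obtain ⟨A, ⟨pA, A0, hD, tA⟩, mx⟩ := arg_max_exists
    (P := fun A => IsPGroup 3 A ∧ A ≠ ⊥ ∧ B ≤ N[A] ∧ t ∈ N[A]) (fun A => (#N[A]).factorization 3)
    ⟨b.pU, b.U0, b.nU.2, cent_sub U (le_cent1_iff.1 (b.nU.1.trans (b.Bt h)))⟩
  obtain ⟨P, hP, P0, h1, h2⟩ := b.step h pA A0 hD tA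
  have le := mx _ ⟨hP.pg.sub (PLocal.ZJ_le 3 P), PLocal.ZJ_ne_bot hP.pg P0, h1, h2⟩
  have nZ : N[P] ≤ N[ZJ P] := Sig.norms_ZJ le_rfl
  obtain ⟨Q, hQ, PQ⟩ := Sylow_superset ((normG P).trans nZ) hP.pg
  have e : P = Q := eq_of_card_le PQ (by
    rw [card_Sylow hP, card_Sylow hQ]; exact Nat.pow_le_pow_right (by decide) le)
  refine ⟨P, Sylow_subnorm (pHall_subl (le_inf le_top (normG P)) (inf_le_right.trans nZ) (e ▸ hQ)), P0, h1, h2⟩

theorem nB (hw : w ∈ B) (ww : w * w = 1) : w = 1 := GW.eq_one_of_odd_sq (odd_of_mem b.oB hw) ww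

theorem key {v z : G} (vv : v * v = 1) (v1 : v ≠ 1) (vt : v ∈ C1[t]) (zv : z ∈ C1[v]) (z3 : orderOf z = 3) :
    ¬ Inv t z := fun hi => by
  obtain ⟨g, hg⟩ := isConj_iff.1 (h.cls (orderOf_eq_prime (by rw [pow_two, vv]) v1))
  have cj : ∀ a ∈ C1[v], g⁻¹ * a * g⁻¹⁻¹ ∈ C1[t] := fun a ha => by
    rw [← hg, C1_conj, mem_cj] at ha; rwa [inv_inv]
  have aa : g⁻¹ * t * g⁻¹⁻¹ * (g⁻¹ * t * g⁻¹⁻¹) = 1 := by
    rw [← pow_two, conj_pow, pow_two, h.tt]; group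
  have hi := hi.conj g⁻¹
  have z3' : orderOf (g⁻¹ * z * g⁻¹⁻¹) = 3 := by rw [BG.orderOf_conj', z3]
  have zL := h.inv_mem (cj z zv) (by rw [z3']; decide) (cj t (mem_cent1_comm.1 vt)) aa hi
  obtain ⟨a, aL, a2, -, ha⟩ := h.exists_L (cj t (mem_cent1_comm.1 vt)) aa
  have hi : Inv a _ := (ha _ (cj z zv)).trans hi
  obtain ⟨c, cL, hc⟩ := b.cnj _ zL z3'
  have hj := hi.conj c
  have o : orderOf (c * (g⁻¹ * z * g⁻¹⁻¹) * c⁻¹) = 3 := by rw [BG.orderOf_conj', z3']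
  have := b.nB h (b.ti _ (mul_mem (mul_mem cL aL) (inv_mem cL)) _ hc o (hj ▸ inv_mem hc))
    (by rw [conj_mul, a2]; group)
  rw [hj.eq_one (this ▸ Commute.one_left _) (by rw [o]; decide), orderOf_one] at o
  omega

theorem main [IsSimpleGroup G] {q n : ℕ} (hq : q = 3 ^ n) (hB : 2 * #B = q * (q - 1))
    (hG : Nat.card G = q ^ 3 * (q ^ 3 + 1) * (q - 1)) :
    ∃ M : Subgroup G, M ≠ ⊤ ∧ IsMultiplyPretransitive G (G ⧸ M) 2 := by
  classical
  obtain ⟨P, hP, P0, hD, tZ⟩ := b.exists_P h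
  obtain ⟨sd, eC, -, eB⟩ := b.loc h (hP.pg.sub (PLocal.ZJ_le 3 P)) (PLocal.ZJ_ne_bot hP.pg P0) hD tZ
  have PN : P ≤ N[ZJ P] := Sig.norms_ZJ (normG P)
  set M := N[ZJ P]
  set O := Op' 2 M
  have oO : Odd #O := odd_Op' _
  have om : ∀ x ∈ M, Odd (orderOf x) → x ∈ O := fun x hx ho => sub_normal_Hall (pHall_of_compl sd.compl
    (pcore_pgroup _ _) (by rw [compl_compl]; exact (pg_invol h.tt).pi)) sd.normal (zpowers_le.2 hx)
    (pnat_odd.2 (by rwa [Nat.card_zpowers])) (mem_zpowers x)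
  obtain ⟨w, wL, w2⟩ : ∃ w ∈ L, orderOf w = 2 := ⟨u, u.2, h.u2⟩
  obtain ⟨ww, w1⟩ := orderOf_two_iff.1 w2
  have wt := h.LC wL
  have wM : w ∉ M := fun r => w1 (b.nB h (eB.le ⟨r, wL⟩) ww)
  have c : zpowers w ≤ C[zpowers t] := by rw [C_zpowers]; exact zpowers_le.2 wt
  have nO : zpowers t ⊔ zpowers w ≤ N[O ⊓ cj w O] := by
    refine sup_le (normsI sd.norm (zpowers_le.2 ?_)) (zpowers_le.2 (BG.mem_norm.2 ?_))
    · rw [BG.mem_norm, ← cj_mul, ← mem_cent1.1 wt, cj_mul, BG.mem_norm.1 (zpowers_le.1 sd.norm)]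
    · rw [cj_inf, ← cj_mul, ww, cj_one, inf_comm]
  have p2 := pgroup_sup (.inr (cents_norm c)) (pg_invol h.tt) (pg_invol ww)
  have oD : Odd #(O ⊓ cj w O) := oddSg inf_le_left oO
  obtain ⟨R, hR, nR⟩ := coprime_Sylow_exists 3 nO (cop_two oD p2) (.inl (pgroup_sol p2))
  have oR := oddSg hR.le oD
  have cau : ∀ v, (∀ z ∈ R ⊓ C1[v], orderOf z ≠ 3) → R ⊓ C1[v] = ⊥ := fun v k => by
    by_contra ne
    obtain ⟨z, hz, z3⟩ := Cauchy Nat.prime_three (pgroup_pdiv (hR.pg.sub inf_le_left) ne)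
    exact k z hz z3
  have it := inv_of_cent_bot oR h.tt (nR (mem_sup_left (mem_zpowers t))) (cau t fun z hz z3 =>
    wM (inv_mem_iff.1 (hD (b.ti _ (inv_mem wL) z (eC.le ⟨(hR.le hz.1).1, hz.2⟩) z3
      (eC.le ⟨mem_cj_inv.1 (by rw [inv_inv]; exact (hR.le hz.1).2),
        C1[t].mul_mem (C1[t].mul_mem (inv_mem wt) hz.2) (inv_mem (inv_mem wt))⟩)))))
  have iw := inv_of_cent_bot oR ww (nR (mem_sup_right (mem_zpowers w)))
    (cau w fun z hz z3 => b.key h ww w1 wt hz.2 z3 (it z hz.1))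
  have R0 : R = ⊥ := by
    rw [← cau (t * w) fun z hz z3 => b.key h ?_ ?_ (mul_mem (cent1_self t) wt) hz.2 z3 (it z hz.1)]
    · exact (inf_eq_left.2 fun x hx => mem_C1.2 ((iw x hx).commute_mul (it x hx)).symm).symm
    · rw [mul_assoc, ← mul_assoc w, mem_cent1.1 wt, mul_assoc, ww, mul_one, h.tt]
    · exact fun r => h.tE (by rw [eq_inv_of_mul_eq_one_left r]; exact inv_mem wL)
  have d3 : ¬ 3 ∣ #(M ⊓ cj w M) := fun r => by
    obtain ⟨z, hz, z3⟩ := Cauchy Nat.prime_three r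
    exact (p'natE Nat.prime_three).1 (p'group_of_Hall_bot (R0 ▸ hR)) (z3 ▸ orderOf_dvd_cardG (show z ∈ O ⊓ cj w O from
      ⟨om z hz.1 (by rw [z3]; decide), mem_cj.2 (om _ (mem_cj.1 hz.2) (by
        rw [show w⁻¹ * z * w = w⁻¹ * z * w⁻¹⁻¹ by rw [inv_inv], BG.orderOf_conj', z3]; decide))⟩))
  have q1 : 1 ≤ q := hq ▸ Nat.one_le_pow _ _ (by decide)
  have d1 : q ^ 3 ∣ #M := by
    obtain ⟨P', rfl⟩ := sylow_of_sylowIn_top hP
    rw [hq, ← pow_mul]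
    exact (P'.pow_dvd_card_of_pow_dvd_card (by rw [pow_mul, ← hq, hG, mul_assoc]; exact dvd_mul_right _ _)).trans (cardSg PN)
  have d2 : q - 1 ∣ #M := by
    rw [← sd.card, Nat.card_zpowers, h.ht, mul_comm]
    exact (Dvd.intro_left q hB.symm).trans (mul_dvd_mul_left 2 (cardSg (eC.ge.trans inf_le_left)))
  have d := Nat.Coprime.mul_dvd_of_dvd_of_dvd (((Nat.coprime_self_sub_right q1).2 (Nat.coprime_one_right q)).pow_left 3) d1 d2
  have d' := Nat.Coprime.mul_dvd_of_dvd_of_dvd (hq ▸ (((Nat.prime_three.coprime_iff_not_dvd).2 d3).pow_left n).pow_left 3) d1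
    (cardSg (inf_le_left (b := cj w M)))
  have ci := M.index_mul_card
  have li : M.index ≤ q ^ 3 + 1 := by
    refine Nat.le_of_mul_le_mul_right ?_ (Nat.card_pos (α := M))
    rw [ci, hG, mul_comm (q ^ 3), mul_assoc]
    exact Nat.mul_le_mul_left _ (Nat.le_of_dvd Nat.card_pos d)
  have := Fintype.ofFinite (G ⧸ M)
  have ne : ((1 : G) : G ⧸ M) ≠ w := fun r => wM (by simpa using QuotientGroup.eq.1 r)
  refine ⟨M, fun r => wM (r ▸ mem_top w), Comp.isMultiplyPretransitive_of_card ⟨![((1 : G) : G ⧸ M), w], ?_⟩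
    (Nat.card_pos (α := (M ⊓ cj w M : Subgroup G))) (card_le_card fun g hg => ?_) ?_⟩
  · intro i j; fin_cases i <;> fin_cases j <;> simp [ne, ne.symm]
  · have k := Comp.mem_stabilizer_embedding.1 hg
    exact ⟨by simpa using QuotientGroup.eq.1 (k 0).symm, mem_cj.2 (by simpa [mul_assoc] using QuotientGroup.eq.1 (k 1).symm)⟩
  · rw [← Nat.card_eq_fintype_card, ← index_eq_card, ← ci, Nat.descFactorial_succ, Nat.descFactorial_one, mul_comm _ M.index,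
      mul_assoc]
    exact Nat.mul_le_mul_left _ ((Nat.mul_le_mul_right _ (by omega)).trans (Nat.le_of_dvd Nat.card_pos d'))

end RB

theorem no2 [IsSimpleGroup G] (hno : ∀ (Ω : Type) [Fintype Ω] [MulAction G Ω] [FaithfulSMul G Ω],
    ¬ IsMultiplyPretransitive G Ω 2) {Ω : Type*} [Finite Ω] [Nontrivial Ω] [MulAction G Ω]
    (h : IsMultiplyPretransitive G Ω 2) : False := by
  obtain ⟨n, ⟨e⟩⟩ := Finite.exists_equiv_fin Ω
  rw [is_two_pretransitive_iff] at h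
  let f : G →* Equiv.Perm (Fin n) := e.permCongrHom.toMonoidHom.comp (toPermHom G Ω)
  let i := MulAction.compHom (Fin n) f
  have k : ∀ (g : G) (x : Fin n), g • x = e (g • e.symm x) := fun _ _ => rfl
  have : FaithfulSMul G (Fin n) := ⟨fun {a b} hab => ?_⟩
  · refine hno (Fin n) (is_two_pretransitive_iff.2 fun hab hcd => ?_)
    obtain ⟨g, h1, h2⟩ := h (e.symm.injective.ne hab) (e.symm.injective.ne hcd)
    exact ⟨g, by rw [k, h1, e.apply_symm_apply], by rw [k, h2, e.apply_symm_apply]⟩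
  rcases IsSimpleGroup.eq_bot_or_eq_top_of_normal f.ker inferInstance with r | r
  · exact (f.ker_eq_bot_iff.1 r) (Equiv.ext hab)
  · obtain ⟨x, y, ne⟩ := exists_pair_ne Ω
    obtain ⟨g, h1, -⟩ := h ne ne.symm
    have := (k g (e x)).symm.trans (congrArg (· (e x)) (r ▸ mem_top g : g ∈ f.ker))
    exact absurd (h1.symm.trans (by simpa using this)) ne.symm

theorem psl [IsSimpleGroup G] (hno : ∀ (Ω : Type) [Fintype Ω] [MulAction G Ω] [FaithfulSMul G Ω],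
    ¬ IsMultiplyPretransitive G Ω 2) {F : Type*} [Field F] [Finite F] (e : G ≃* PSL(2, F)) : False := by
  let i := MulAction.compHom (P1 F) e.toMonoidHom
  have : Nontrivial (P1 F) := ⟨inf, pt 0, by simp⟩
  refine no2 hno (Ω := P1 F) (is_two_pretransitive_iff.2 fun hab hcd => ?_)
  obtain ⟨g, h1, h2⟩ := sl_exists_smul_eq_inf_zero hab
  obtain ⟨g', h3, h4⟩ := sl_exists_smul_eq_inf_zero hcd
  have k : ∀ x : P1 F, e.symm (pslMk F (g'⁻¹ * g)) • x = g'⁻¹ • g • x := fun x => by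
    rw [← mul_smul, ← pslMk_smul]; exact congrArg (· • x) (e.apply_symm_apply _)
  exact ⟨_, by rw [k, h1, ← h3, inv_smul_smul], by rw [k, h2, ← h4, inv_smul_smul]⟩

end
open Subgroup Cfsg.Agent.BG Cfsg.Agent.AB

/-- Let G be a finite non-abelian simple group whose Sylow 2-subgroups are abelian. If G admits no faithful doubly transitive action on a finite set, then G has order 175560 (the order of the first Janko group). -/
theorem result {G : Type*} [Group G] [Finite G] [IsSimpleGroup G] (hG : ¬ IsMulCommutative G) (P : Sylow 2 G) (hP : IsMulCommutative (P : Subgroup G)) (hno : ∀ (Ω : Type) [Fintype Ω] [MulAction G Ω] [FaithfulSMul G Ω], ¬ MulAction.IsMultiplyPretransitive G Ω 2) : Nat.card G = 175560 := by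
  rcases LieM.kn_of_ab hG P hP with ⟨M, hM⟩ | ⟨V, h1, h2, h3⟩ | ⟨A, hA, -, hS, t, E, L, h1, h2, h3, ⟨F, i1, i2, ho, h5, ⟨e⟩⟩, h4⟩
  · obtain ⟨F, i1, i2, n, -, -, ⟨e⟩, -⟩ := psl_of_se hG (hab_of_sylow P hP) hM
    exact (psl hno e).elim
  · obtain ⟨P, rfl⟩ := sylow_of_sylowIn_top h3
    obtain ⟨F, i1, i2, -, -, ⟨e⟩⟩ := psl_of_klein P (Gold.klein_of h1 h2)
    exact (psl hno e).elim
  have hab := hab_of_sylow P hP
  rw [← Nat.card_eq_fintype_card] at ho h5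
  have := Matrix.ProjectiveSpecialLinearGroup.rank_two_simple (F := F) h5
  obtain ⟨u, s, K, w⟩ := wj_of_psl (simple_perfect hG) hab h1 h2 h3 h4 ho e (Op'_simple e.isSimpleGroup
    (Nat.card_congr e.toEquiv ▸ (Dvd.intro 2 rfl).trans (psl_four_dvd h5.le)))
  obtain rfl := wj_eq (simple_perfect hG) w ho e
  obtain ⟨f⟩ := prod_equiv h1 w.dp
  rcases jtw' (simple_perfect hG) hab h1 h5.le (f.trans ((MulEquiv.refl _).prodCongr e)) with ⟨m, -, k1, k2⟩ | ⟨-, k, -⟩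
  · obtain ⟨U, B, b, c⟩ := exists_rb e k1
    obtain ⟨M, hM, k⟩ := b.main w rfl (k1 ▸ c) k2
    have := (QuotientGroup.nontrivial_iff (N := M)).2 hM
    exact (no2 hno k).elim
  · exact k.card

end Cfsg.Agent.S4272
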