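import Cfsg.Statements.S0037
import Cfsg.Agent.Frob.Basic
import Mathlib.Tactic.Group

set_option autoImplicit false
open Pointwise
open Cfsg

namespace Cfsg.Agent.S0037
open scoped commutatorElement

open Frob

theorem inf_frob {G : Type*} [Group G] {H H₀ : Subgroup G}
    (hH : Cfsg.IsFrobeniusComplement H) (hH₀ : Cfsg.IsFrobeniusComplement H₀) (h : H₀ ⊓ H ≠ ⊥) :
    Cfsg.IsFrobeniusComplement (H₀ ⊓ H) :=
  isFrobeniusComplement_iff.mpr ⟨h, fun h1 => hH.2.1 (eq_top_iff.mpr (h1 ▸ inf_le_right)),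
    fun _ _ hx hx1 hg => ⟨mem_of_conj_mem hH₀ hx.1 hx1 hg.1, mem_of_conj_mem hH hx.2 hx1 hg.2⟩⟩

theorem sub_frob {G : Type*} [Group G] {H U : Subgroup G}
    (hH : Cfsg.IsFrobeniusComplement H) (h : ∃ x ∈ U, x ≠ 1 ∧ x ∈ H) (h' : ¬ U ≤ H) :
    Cfsg.IsFrobeniusComplement (H.subgroupOf U) := by
  obtain ⟨x, hxU, hx1, hxH⟩ := h
  refine isFrobeniusComplement_iff.mpr ⟨fun h1 => hx1 ?_, fun h1 => h' ?_, fun g y hy hy1 hg => ?_⟩
  · have : (⟨x, hxU⟩ : U) ∈ H.subgroupOf U := hxH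
    rw [h1, Subgroup.mem_bot] at this
    exact congrArg Subtype.val this
  · exact Subgroup.subgroupOf_eq_top.mp h1
  · exact mem_of_conj_mem hH (g := (g : G)) (x := (y : G)) hy (fun h => hy1 (Subtype.ext h)) hg

/-- Of two Frobenius complements in one finite group, the one of smaller (or equal) order is conjugate to a subgroup of the other. -/
theorem result {G : Type*} [Group G] [Finite G] (H H₀ : Subgroup G)
    (hH : Cfsg.IsFrobeniusComplement H) (hH₀ : Cfsg.IsFrobeniusComplement H₀) (hle : Nat.card H₀ ≤ Nat.card H) :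
    ∃ g : G, MulAut.conj g • H₀ ≤ H := by
  by_contra hcon
  push Not at hcon
  have hcon' : ∀ g : G, ¬ H₀ ≤ MulAut.conj g • H := by
    intro g hg
    apply hcon g⁻¹
    intro x hx
    have := hg (mem_conj_smul.mp hx)
    rw [mem_conj_smul] at this
    convert this using 1; group
  obtain ⟨g, x, hx1, hx0, hxg⟩ := exists_conj_inf_ne_bot hH hH₀
  set H₁ := MulAut.conj g • H with hH₁def
  have hH₁ : IsFrobeniusComplement H₁ := IsFrobeniusComplement.conj hH g
  have hx₁ : x ∈ H₁ := mem_conj_smul.mpr hxg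
  have hD : IsFrobeniusComplement (H₀ ⊓ H₁) := inf_frob hH₁ hH₀ (fun h => hx1 (by
    have : x ∈ H₀ ⊓ H₁ := ⟨hx0, hx₁⟩
    rwa [h, Subgroup.mem_bot] at this))
  have hsub : frobeniusKernel (H₀ ⊓ H₁) ⊆ frobeniusKernel H₀ ∪ frobeniusKernel H₁ := by
    intro y hy
    by_contra hy'
    simp only [Set.mem_union, mem_frobeniusKernel] at hy' hy
    push Not at hy'
    obtain ⟨⟨hy1, a, ha⟩, -, b, hb⟩ := hy'
    rcases hy with hy | hy
    · exact hy1 hy
    have hya : a⁻¹ * y * a ≠ 1 := fun h => hy1 (by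
      calc y = a * (a⁻¹ * y * a) * a⁻¹ := by group
        _ = 1 := by rw [h]; group)
    have hz : a⁻¹ * y * a ∈ MulAut.conj (a⁻¹ * b) • H₁ :=
      mem_conj_smul.mpr (by convert hb using 1; group)
    have f1 := sub_frob hH₁ ⟨x, hx0, hx1, hx₁⟩ (hcon' g)
    have f2 := sub_frob (IsFrobeniusComplement.conj hH₁ (a⁻¹ * b)) ⟨_, ha, hya, hz⟩ (by
      rw [hH₁def, ← mul_smul, ← map_mul]; exact hcon' _)
    obtain ⟨u, w, hw1, hw2, hw3⟩ := exists_conj_inf_ne_bot f1 f2
    rw [Subgroup.mem_subgroupOf] at hw2 hw3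
    rw [mem_conj_smul] at hw2
    have h4 := inv_mul_mem_of_conj_mem hH₁ (fun h => hw1 (Subtype.ext h)) hw2 hw3
    apply hy (a * u)
    refine Subgroup.mem_inf.mpr ⟨?_, ?_⟩
    · have := H₀.mul_mem (H₀.mul_mem (H₀.inv_mem u.2) ha) u.2
      convert this using 1; group
    · have := H₁.mul_mem (H₁.mul_mem (H₁.inv_mem h4) hb) h4
      convert this using 1; group
  have h2 := Set.ncard_union_add_ncard_inter (frobeniusKernel H₀) (frobeniusKernel H₁)
  have h3 : 0 < (frobeniusKernel H₀ ∩ frobeniusKernel H₁).ncard :=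
    (Set.ncard_pos (Set.toFinite _)).mpr ⟨1, Or.inl rfl, Or.inl rfl⟩
  have h4 := Set.ncard_le_ncard hsub
  rw [← Nat.card_coe_set_eq (frobeniusKernel H₀), ← Nat.card_coe_set_eq (frobeniusKernel H₁),
    card_frobeniusKernel hH₁, card_frobeniusKernel hH₀] at h2
  rw [← Nat.card_coe_set_eq (frobeniusKernel _), card_frobeniusKernel hD] at h4
  have key : ∀ U : Subgroup G, H₀ ⊓ H₁ < U → 2 * U.index ≤ (H₀ ⊓ H₁).index := by
    intro U hU
    rw [← Subgroup.relIndex_mul_index hU.le]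
    apply Nat.mul_le_mul_right
    have e1 : (H₀ ⊓ H₁).relIndex U ≠ 1 := fun h => hU.not_ge (Subgroup.relIndex_eq_one.mp h)
    have e2 : (H₀ ⊓ H₁).relIndex U ≠ 0 := Subgroup.FiniteIndex.index_ne_zero
    omega
  have h5 := key H₀ (inf_lt_left.mpr (hcon' g))
  have h6 := key H₁ (inf_lt_right.mpr fun h => hcon' g (by
    have : H₁ = H₀ := Subgroup.eq_of_le_of_card_ge h (by rw [card_conj_smul]; exact hle)
    exact this.ge))
  omega

end Cfsg.Agent.S0037
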