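import Cfsg.Statements.S0046
import Cfsg.Agent.S0037
import Cfsg.Agent.Solv.Basic
import Cfsg.Agent.Transfer.SylowIn
import Mathlib.Tactic.Group

set_option autoImplicit false
open Cfsg

namespace Cfsg.Agent.S0046
open scoped commutatorElement

open Subgroup
open scoped Pointwise
universe u

theorem aux (n : ℕ) : ∀ (G : Type u) [Group G] [Finite G], Nat.card G = n →
    (∀ M : Subgroup G, IsCoatom M → Group.IsNilpotent M) → Group.IsSolvable G := by
  induction n using Nat.strong_induction_on with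
  | _ n ih =>
  intro G _ _ hn h
  have hprop : ∀ H : Subgroup G, H ≠ ⊤ → Group.IsNilpotent H := by
    intro H hH
    obtain ⟨M, hM, hHM⟩ := (eq_top_or_exists_le_coatom H).resolve_left hH
    have := h M hM
    exact Solv.isNilpotent_of_le hHM
  by_cases hs : ∃ N : Subgroup G, N.Normal ∧ N ≠ ⊥ ∧ N ≠ ⊤
  · obtain ⟨N, hN, hN1, hN2⟩ := hs
    have := hprop N hN2
    have : Group.IsSolvable (G ⧸ N) := by
      refine ih _ (hn ▸ Solv.card_quotient_lt hN1) (G ⧸ N) rfl fun M hM => ?_
      have h1 := h _ (isCoatom_comap_of_surjective (QuotientGroup.mk'_surjective N) hM)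
      have h2 := Solv.isNilpotent_map (QuotientGroup.mk' N) (M.comap (QuotientGroup.mk' N))
      rwa [map_comap_eq_self_of_surjective (QuotientGroup.mk'_surjective N)] at h2
    exact Solv.isSolvable_of_normal_of_quotient N
  push Not at hs
  by_contra hns
  have hnorm : ∀ D : Subgroup G, D ≠ ⊥ → D ≠ ⊤ → normalizer (D : Set G) ≠ ⊤ :=
    fun D h1 h2 h3 => h2 (hs D (normalizer_eq_top_iff.mp h3) h1)
  have hint : ∀ D : Subgroup G, D ≠ ⊥ → ∀ M K : Subgroup G, IsCoatom M → IsCoatom K →
      D ≤ M → D ≤ K → M = K := by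
    intro D
    induction D using WellFoundedGT.induction with
    | ind D ihD =>
    intro hD M K hM hK hDM hDK
    obtain ⟨M₀, hM₀, hNM⟩ := (eq_top_or_exists_le_coatom _).resolve_left
      (hnorm D hD (fun h1 => hM.1 (eq_top_iff.mpr (h1 ▸ hDM))))
    suffices key : ∀ K : Subgroup G, IsCoatom K → D ≤ K → K = M₀ by
      rw [key M hM hDM, key K hK hDK]
    intro K hK hDK
    rcases hDK.eq_or_lt with h1 | h1
    · exact ((hK.le_iff_eq hM₀.1).mp (h1 ▸ le_normalizer.trans hNM)).symm
    · have := h K hK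
      have h2 := Transfer.lt_inf_normalizer_of_isNilpotent h1
      exact ihD _ h2 (fun h3 => not_lt_bot (h3 ▸ h2)) K M₀ hK hM₀ inf_le_left
        (inf_le_right.trans hNM)
  have hcyc : ∀ x : G, zpowers x ≠ ⊤ := by
    intro x hx
    have : IsCyclic G := isCyclic_iff_exists_zpowers_eq_top.mpr ⟨x, hx⟩
    exact hns (Group.isSolvable_of_comm mul_comm')
  have hfrob : ∀ M : Subgroup G, IsCoatom M → M ≠ ⊥ → IsFrobeniusComplement M := by
    intro M hM hM1
    refine ⟨hM1, hM.1, fun g hg => ?_⟩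
    by_contra hne
    have h1 : IsCoatom (MulAut.conj g • M) :=
      (OrderIso.isCoatom_iff (MulAut.conj g).mapSubgroup M).mpr hM
    have h2 := hint _ hne M _ hM h1 inf_le_left inf_le_right
    have h3 : normalizer (M : Set G) = M :=
      (hM.le_iff_eq (hnorm M hM1 hM.1)).mp le_normalizer
    exact hg (h3 ▸ Solv.conj_smul_eq_self_iff.mp h2.symm)
  have hex : ∀ x : G, x ≠ 1 → ∃ M : Subgroup G, IsCoatom M ∧ M ≠ ⊥ ∧ x ∈ M := by
    intro x hx
    obtain ⟨M, hM, hxM⟩ := (eq_top_or_exists_le_coatom _).resolve_left (hcyc x)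
    refine ⟨M, hM, fun h1 => hx ?_, hxM (mem_zpowers x)⟩
    have := hxM (mem_zpowers x)
    rwa [h1, mem_bot] at this
  have hnt : Nontrivial G := by
    by_contra h1
    have := not_nontrivial_iff_subsingleton.mp h1
    exact hns inferInstance
  obtain ⟨x, hx⟩ := exists_ne (1 : G)
  obtain ⟨M, hM, hM1, -⟩ := hex x hx
  have h1 := Frob.card_frobeniusKernel (hfrob M hM hM1)
  have h2 : 1 < Nat.card (frobeniusKernel M) := by
    rw [h1]; exact one_lt_index_of_ne_top hM.1
  have := Finite.one_lt_card_iff_nontrivial.mp h2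
  obtain ⟨y, hy⟩ := exists_ne (⟨1, Or.inl rfl⟩ : frobeniusKernel M)
  have hy1 : (y : G) ≠ 1 := fun h => hy (Subtype.ext h)
  obtain ⟨K, hK, hK1, hyK⟩ := hex y hy1
  have hy2 := (Frob.mem_frobeniusKernel.mp y.2).resolve_left hy1
  rcases le_total (Nat.card M) (Nat.card K) with h3 | h3
  · obtain ⟨g, hg⟩ := S0037.result K M (hfrob K hK hK1) (hfrob M hM hM1) h3
    have h4 : IsCoatom (MulAut.conj g • M) :=
      (OrderIso.isCoatom_iff (MulAut.conj g).mapSubgroup M).mpr hM
    have h5 := (h4.le_iff_eq hK.1).mp hg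
    exact hy2 g (Solv.mem_conj_smul.mp (h5 ▸ hyK))
  · obtain ⟨g, hg⟩ := S0037.result M K (hfrob M hM hM1) (hfrob K hK hK1) h3
    exact hy2 g⁻¹ (by simpa using hg (Solv.conj_mem_conj_smul g hyK))

/-- Schmidt's Theorem on minimal non-nilpotent groups: a finite group in which every maximal subgroup is nilpotent is solvable. -/
theorem result {G : Type*} [Group G] [Finite G]
    (h : ∀ M : Subgroup G, IsCoatom M → Group.IsNilpotent M) : Group.IsSolvable G := by
  exact aux _ G rfl h

end Cfsg.Agent.S0046
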