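import Cfsg.Statements.S0060
import Mathlib.Tactic.Group

set_option autoImplicit false
open Pointwise
open Cfsg

namespace Cfsg.Agent.S0060
open scoped commutatorElement

/-- Brodkey's Theorem: in a finite group with abelian Sylow p-subgroups and no nontrivial normal p-subgroup, some conjugate of a Sylow p-subgroup meets it trivially. -/
theorem result {G : Type*} [Group G] [Finite G] (p : ℕ) [Fact p.Prime]
    (S : Sylow p G) (hS : IsMulCommutative S) (hOp : Cfsg.pCore p G = ⊥) :
    ∃ g : G, (S : Subgroup G) ⊓ MulAut.conj g • (S : Subgroup G) = ⊥ := by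
  classical
  obtain ⟨T, hT⟩ := exists_minimalFor_of_wellFoundedLT (fun _ : Sylow p G => True)
    (fun T : Sylow p G => (S : Subgroup G) ⊓ T) ⟨S, trivial⟩
  have hTc : IsMulCommutative T := by
    obtain ⟨g, rfl⟩ := MulAction.exists_smul_eq G S T
    rw [Sylow.coe_subgroup_smul, Subgroup.pointwise_smul_def]
    exact Subgroup.map_isMulCommutative _ _
  set D : Subgroup G := (S : Subgroup G) ⊓ T with hD
  set N : Subgroup G := Subgroup.centralizer (D : Set G) with hN
  have hSN : (S : Subgroup G) ≤ N :=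
    (S : Subgroup G).le_centralizer.trans (Subgroup.centralizer_le (fun x hx => hx.1))
  have hTN : (T : Subgroup G) ≤ N :=
    (T : Subgroup G).le_centralizer.trans (Subgroup.centralizer_le (fun x hx => hx.2))
  have key : ∀ U : Sylow p G, D ≤ U := by
    intro U
    have h1 : IsPGroup p ((U : Subgroup G).subgroupOf N) := U.2.comap_subtype
    obtain ⟨R, hR⟩ := h1.exists_le_sylow
    obtain ⟨n, hn⟩ := MulAction.exists_smul_eq N R (T.subtype hTN)
    have h2 : (S : Subgroup G) ⊓ ((n : G) • U : Sylow p G) ≤ D := by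
      intro x hx
      refine Subgroup.mem_inf.mpr ⟨hx.1, ?_⟩
      have hx2 : x ∈ (((n : G) • U : Sylow p G) : Subgroup G) := hx.2
      rw [Sylow.coe_subgroup_smul, Subgroup.mem_pointwise_smul_iff_inv_smul_mem] at hx2
      have h3 : (⟨x, hSN hx.1⟩ : N) ∈ ((n • R : Sylow p N) : Subgroup N) := by
        rw [Sylow.coe_subgroup_smul, Subgroup.mem_pointwise_smul_iff_inv_smul_mem]
        apply hR
        rw [Subgroup.mem_subgroupOf]
        simpa using hx2
      rw [hn] at h3
      exact h3
    have h4 : D ≤ (S : Subgroup G) ⊓ ((n : G) • U : Sylow p G) := hT.2 trivial h2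
    intro x hx
    have h5 : x ∈ (((n : G) • U : Sylow p G) : Subgroup G) := (h4 hx).2
    rw [Sylow.coe_subgroup_smul, Subgroup.mem_pointwise_smul_iff_inv_smul_mem] at h5
    have h6 : x * n = n * x := n.2 x hx
    have h7 : (MulAut.conj (n : G))⁻¹ • x = x := by
      simp [mul_assoc, h6]
    rwa [h7] at h5
  obtain ⟨g, rfl⟩ := MulAction.exists_smul_eq G S T
  refine ⟨g, ?_⟩
  rw [eq_bot_iff, ← hOp]
  have h8 : (S : Subgroup G).normalCore ≤ Cfsg.pCore p G :=
    le_sSup ⟨inferInstance, S.2.to_le (Subgroup.normalCore_le _)⟩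
  refine le_trans ?_ h8
  intro x hx b
  have := key (b⁻¹ • S) hx
  rw [Sylow.coe_subgroup_smul, Subgroup.mem_pointwise_smul_iff_inv_smul_mem] at this
  simpa using this

end Cfsg.Agent.S0060
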