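import Cfsg.Statements.S0079
import Cfsg.Agent.Transfer.Hall

set_option autoImplicit false
open Cfsg

namespace Cfsg.Agent.S0079

/-- A nilpotent Hall subgroup has a normal complement exactly when elements of it that are conjugate in the whole group are already conjugate inside it. -/
theorem result {G : Type*} [Group G] [Finite G] (H : Subgroup G) (hH : Group.IsNilpotent H) (hHall : Nat.Coprime (Nat.card H) H.index) : (∃ N : Subgroup G, N.Normal ∧ N.IsComplement' H) ↔ ∀ x ∈ H, ∀ y ∈ H, (∃ g : G, g * x * g⁻¹ = y) → ∃ h ∈ H, h * x * h⁻¹ = y := by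
  constructor
  · rintro ⟨N, hN, hc⟩ x hx y hy ⟨g, rfl⟩
    obtain ⟨⟨n, h⟩, rfl⟩ := hc.2 g
    refine ⟨h, h.2, ?_⟩
    have h1 : (h : G) * x * (h : G)⁻¹ ∈ H := mul_mem (mul_mem h.2 hx) (inv_mem h.2)
    have h2 : (n : G) * h * x * ((n : G) * h)⁻¹ * ((h : G) * x * (h : G)⁻¹)⁻¹ ∈ N := by
      have := mul_mem n.2 (hN.conj_mem _ (inv_mem n.2) ((h : G) * x * (h : G)⁻¹))
      simpa [mul_assoc] using this
    have h3 := Subgroup.disjoint_def.1 hc.disjoint h2 (mul_mem hy (inv_mem h1))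
    exact (mul_inv_eq_one.1 h3).symm
  · intro h
    refine Transfer.exists_normal_complement_of_forall_prime hHall fun p hp hd => ?_
    have := Fact.mk hp
    obtain ⟨T, hT⟩ := Transfer.exists_isSylowIn (p := p) H
    obtain ⟨P, rfl⟩ := (Transfer.isSylowIn_top_of_hall hHall hd hT).exists_sylow_of_top
    refine Transfer.hasNormalPComplement_of_controlsFusion P fun x hx g hg => ?_
    obtain ⟨y, hy, hy'⟩ := h x (hT.le hx) _ (hT.le hg) ⟨g, rfl⟩
    obtain ⟨t, ht, c, hc, rfl⟩ := hT.exists_mul_centralizer_of_isNilpotent hy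
    refine ⟨t, ht, ?_⟩
    rw [← hy']
    have := hc.1 x hx
    calc t * x * t⁻¹ = t * (x * c) * c⁻¹ * t⁻¹ := by group
      _ = t * c * x * (t * c)⁻¹ := by rw [this]; group

end Cfsg.Agent.S0079
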