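import Cfsg.Statements.S0214
import Cfsg.Agent.Invol.StrongEmb

set_option autoImplicit false
open Cfsg

namespace Cfsg.Agent.S0214

/-- Let H be a proper subgroup of the finite group G and P a nontrivial Sylow 2-subgroup of H. Then H is strongly embedded in G if and only if N_G(X) ≤ H for every nontrivial subgroup X of P. -/
theorem result {G : Type*} [Group G] [Finite G] (H : Subgroup G) (hH : H ≠ ⊤) (P : Sylow 2 ↥H) (hP : (P : Subgroup ↥H) ≠ ⊥) : Cfsg.IsStronglyEmbedded H ↔ (∀ X : Subgroup ↥H, X ≤ (P : Subgroup ↥H) → X ≠ ⊥ → Subgroup.normalizer ((X.map H.subtype : Subgroup G) : Set G) ≤ H) := by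
  open Cfsg.Agent.Invol in
  have : Fact (Nat.Prime 2) := ⟨Nat.prime_two⟩
  constructor
  · intro h X hXP hX n hn
    obtain ⟨t, htX, ht⟩ := exists_invol_mem_of_isPGroup (P.isPGroup'.to_le hXP) hX
    refine SE.mem_of_conj h t.2 (by rw [Subgroup.orderOf_coe, ht]) ?_
    exact Subgroup.map_subtype_le X ((Subgroup.mem_normalizer_iff.1 hn _).1 ⟨t, htX, rfl⟩)
  · intro h
    obtain ⟨t, -, ht⟩ := exists_invol_mem_of_isPGroup P.isPGroup' hP
    have hconj : ∀ (X : Subgroup G) (g : G), X ≠ ⊥ → X.map (MulAut.conj g).toMonoidHom ≠ ⊥ :=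
      fun X g hX h => hX ((Subgroup.map_eq_bot_iff_of_injective X (MulAut.conj g).injective).1 h)
    refine stronglyEmbedded_iff.2 ⟨hH, ⟨t, t.2, by rw [Subgroup.orderOf_coe, ht]⟩, fun s hsH hs g hg => ?_⟩
    refine mem_of_normalizer_le (p := 2) (fun X => X ≠ ⊥) (fun X Y hXY hX hY => hX (le_bot_iff.1 (hY ▸ hXY)))
      hconj (normalizer_le_of_sylow (fun X => X ≠ ⊥) hconj P ?_) g (Subgroup.zpowers s)
      (isPGroup_zpowers (n := 1) (by rw [pow_one, pow_two, mul_self_of hs]))
      (by simpa using ne_one_of hs) ((Subgroup.zpowers_le).2 hsH) ?_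
    · intro X hXP hX
      have hXH : X ≤ H := hXP.trans (Subgroup.map_subtype_le _)
      have := h (X.subgroupOf H) (fun x hx => by
        obtain ⟨y, hy, hxy⟩ := hXP hx
        rwa [← Subtype.ext hxy]) (by
        intro h0
        apply hX
        rw [← Subgroup.map_subgroupOf_eq_of_le hXH, h0, Subgroup.map_bot])
      rwa [Subgroup.map_subgroupOf_eq_of_le hXH] at this
    · rw [MonoidHom.map_zpowers, Subgroup.zpowers_le]
      exact hg

end Cfsg.Agent.S0214
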