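import Cfsg.Statements.S0223
import Cfsg.Agent.Invol.StrongEmb

set_option autoImplicit false
open Cfsg

namespace Cfsg.Agent.S0223

/-- Let H be a proper subgroup of even order of the finite group G. Then H is strongly embedded if and only if (i) C_G(t) ≤ H for every involution t of H and (ii) H controls fusion of its involutions: involutions of H conjugate in G are conjugate in H. -/
theorem result {G : Type*} [Group G] [Finite G] (H : Subgroup G) (hH : H ≠ ⊤) (heven : Even (Nat.card H)) : Cfsg.IsStronglyEmbedded H ↔ ((∀ t ∈ H, orderOf t = 2 → Subgroup.centralizer ({t} : Set G) ≤ H) ∧ (∀ t ∈ H, ∀ s ∈ H, orderOf t = 2 → orderOf s = 2 → IsConj t s → ∃ h ∈ H, h * t * h⁻¹ = s)) := by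
  open Cfsg.Agent.Invol in
  constructor
  · intro h
    refine ⟨fun t htH ht g hg => SE.mem_of_commute h htH ht (mem_centralizer_singleton.1 hg),
      fun t htH s hsH ht hs hc => ?_⟩
    obtain ⟨g, rfl⟩ := isConj_iff.1 hc
    exact ⟨g, SE.mem_of_conj h htH ht hsH, rfl⟩
  · rintro ⟨h1, h2⟩
    refine stronglyEmbedded_iff.2 ⟨hH, exists_invol_mem_of_even heven, fun t htH ht g hg => ?_⟩
    obtain ⟨h, hh, he⟩ := h2 t htH _ hg ht (by rw [orderOf_conj', ht]) (isConj_iff.2 ⟨g, rfl⟩)
    have : h⁻¹ * g ∈ H := by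
      refine h1 t htH ht (mem_centralizer_singleton.2 ?_)
      show h⁻¹ * g * t = t * (h⁻¹ * g)
      calc h⁻¹ * g * t = h⁻¹ * (g * t * g⁻¹) * g := by group
        _ = _ := by rw [← he]; group
    exact (mul_mem_cancel_left (inv_mem hh)).1 this

end Cfsg.Agent.S0223
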