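import Cfsg.Statements.S0303
import Cfsg.Agent.Classical.LowIso

set_option autoImplicit false
open Cfsg

namespace Cfsg.Agent.S0303

open Cfsg.Agent.Classical Cfsg.Agent.Geom Cfsg.Agent.Geom.Formed Module

/-- PΩ^-_6(q) is isomorphic to PSU_4(q). -/
theorem result {F K : Type*} [Field F] [Fintype F] [Field K] [Fintype K] {q : ℕ} (hF : Fintype.card F = q) (hK : Fintype.card K = q ^ 2) (a b : F) (hab : ∀ z₁ z₂ : F, z₁ ^ 2 + a * z₁ * z₂ + b * z₂ ^ 2 = 0 → z₁ = 0 ∧ z₂ = 0) : Nonempty (Cfsg.POmega F (Cfsg.quadFormMinus 2 F a b) ≃* Cfsg.PSU 4 K q) := by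
  obtain ⟨f, hf⟩ := exists_hom_O6m hK hF hab
  have := Fact.mk hK
  have hn := quadMinus_nondeg F 2 (disc_ne_zero_of_anisotropic hab)
  have hw := quadMinus_wittIndex F 2 hab
  have h2 := two_le_of_card_eq_sq hK
  have hp := commutator_SU_eq_top (F := K) (q := q) (n := 4) (by simp) (by simp)
  have : Group.IsPerfect (SU 4 K q) := ⟨hp⟩
  rw [← Nat.card_eq_fintype_card] at hF hK
  let z : SU 4 K q := ⟨-1, fun u v => by
    change hermForm 4 K q ((-1 : Matrix _ _ K).mulVec u) ((-1 : Matrix _ _ K).mulVec v) = _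
    simp [Matrix.neg_mulVec]⟩
  obtain ⟨e⟩ := low_iso hn (notExc_of_finrank (by simp)) (by simp) f (z := z)
    (fun h => Subtype.ext (sl_neg_one_eq (two_eq_zero_iff_even.2 (by
      rw [hK, ← hF]; exact (two_eq_zero_iff_even.1 h).pow_of_ne_zero two_ne_zero))))
    (Subgroup.mem_center_iff.2 fun g => Subtype.ext (by simp [z]))
    (fun g hg => (hf g hg).imp Subtype.ext Subtype.ext) (hom_units_int_of_perfect hp) (by
      have h1 := card_SU_mul (F := K) (q := q) (n := 4) (by simp)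
      refine Nat.eq_of_mul_eq_mul_left (Nat.succ_pos q) ?_
      rw [card_isom_minus 2 hn hw (by simp), mul_left_comm _ 2, h1, card_GU, hF]
      simp [Finset.prod_range_succ, show ¬ Even 3 by decide]
      ring) (Group.IsPerfect.center_quotient_center_eq_bot _)
  rw [← coe_quadMinus]
  exact ⟨(pOmegaEquiv _).trans e⟩

end Cfsg.Agent.S0303
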