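import Cfsg.Statements.S0336
import Cfsg.Agent.S2754
import Cfsg.Agent.LieM.Gold3
import Cfsg.Agent.SZ.Main
import Mathlib.Tactic.Group

set_option autoImplicit false
open Cfsg

namespace Cfsg.Agent.S0336
open scoped commutatorElement

open Cfsg.Agent.LieM

/-- A finite non-abelian simple group of order prime to `3` has the order of a Suzuki
group `q²(q²+1)(q-1)`, `q = 2^(2m+1)`, `m ≥ 1` (stated with the order-level predicate `IsSuzuki`). -/
theorem result {G : Type*} [Group G] [Finite G] [IsSimpleGroup G]
    (hG : ∃ a b : G, a * b ≠ b * a) (h3 : ¬ 3 ∣ Nat.card G) : Cfsg.IsSuzuki G := by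
  have hna : ¬ IsMulCommutative G := fun h => by
    obtain ⟨a, b, hab⟩ := hG
    exact hab (h.is_comm.comm a b)
  exact Suz.isSuzuki_of_iso inferInstance (isoSuzuki_of_gold
    ((Cfsg.Agent.S2754.result hna).1 (not_involves_of_three h3 (by norm_num))) h3)

end Cfsg.Agent.S0336
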