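import Cfsg.Statements.S0464
import Cfsg.Agent.S1700
import Cfsg.Agent.Spor.ThS

set_option autoImplicit false
open Cfsg

namespace Cfsg.Agent.S0464

theorem emb {G A K L : Type} [Group G] [Group A] [Group K] [Group L] (ρ : G →* A) (hρ : Function.Injective ρ)
    (ι : K →* G) (hι : Function.Injective ι) (κ : L →* K) (hκ : Function.Injective κ) {n a b : ℕ}
    (hn : ι.range.index = n) (ha : IsSimpleGroup G ∧ Nat.card G = a) (hb : IsSimpleGroup L ∧ Nat.card L = b) :
    ∃ H : Subgroup A, (IsSimpleGroup H ∧ Nat.card H = a) ∧ ∃ K' : Subgroup H, K'.index = n ∧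
      ∃ L' : Subgroup H, L' ≤ K' ∧ IsSimpleGroup L' ∧ Nat.card L' = b := by
  have e : G ≃* ρ.range := MonoidHom.ofInjective hρ
  refine ⟨ρ.range, Spor.simple_card_congr ha e, ι.range.map (e : G →* ρ.range),
    (Subgroup.index_map_of_bijective (f := (e : G →* ρ.range)) e.bijective _).trans hn,
    (((e : G →* ρ.range).comp ι).comp κ).range, ?_,
    Spor.simple_card_congr hb (MonoidHom.ofInjective ((e.injective.comp hι).comp hκ))⟩
  rintro _ ⟨x, rfl⟩
  exact ⟨_, ⟨κ x, rfl⟩, rfl⟩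

/-- The Thompson group exists as a group of 248 × 248 matrices over the field with three elements: a simple subgroup of GL(248, 3) of order 90745943887872000, possessing a subgroup of index 143127000 which contains a simple subgroup of the order of a triality-twisted D4 group. -/
theorem result : ∃ H : Subgroup (GL (Fin 248) (ZMod 3)), Cfsg.IsTh H ∧ ∃ K : Subgroup H, K.index = 143127000 ∧ ∃ L : Subgroup H, L ≤ K ∧ Cfsg.Is3D4 L := by
  obtain ⟨κ, h⟩ := Spor.ThL.lifts _ _ (Spor.renG_rels (g := Spor.ThK.g) (ren := Spor.sing (List.range 7))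
    (Spor.ThK.invOk.rels Spor.ThK.hg (by decide +kernel) (by decide +kernel)))
  obtain ⟨ρ, hρ⟩ : ∃ ρ : Cfsg.Spor.Th →* GL (Fin 248) (ZMod 3), Function.Injective ρ :=
    (fun (K p : ℕ) (h1 : K = 248) (h2 : p = 3) (ρ : Cfsg.Spor.Th →* (Matrix (Fin K) (Fin K) (ZMod p))ˣ)
      (hρ : Function.Injective ρ) => by subst h1 h2; exact ⟨ρ, hρ⟩) _ _ rfl rfl Spor.ThG.ρ Spor.ThG.main.2.1
  have := Spor.ThS.simple
  have hκ : Function.Injective κ := Spor.injective_of_simple κ (x := Spor.ThL.g 0) (by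
    rw [h 0 (by decide)]
    exact Spor.ThA.pa.ne_one (w := [0]) 1 (by decide) (by decide +kernel) ∘ fun e => (one_mul _).trans e)
  obtain ⟨H, h0, K, h1, L, h2, h3, h4⟩ := emb ρ hρ _ Spor.ThG.main.2.2.1 κ hκ Spor.ThG.main.1 S1700.result
    ⟨Spor.ThS.simple, Spor.ThL.card⟩
  exact ⟨H, h0, K, h1, L, h2, h3, 2, Nat.prime_two.isPrimePow, h4.trans (by norm_num)⟩

end Cfsg.Agent.S0464
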