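import Cfsg.Statements.S0486
import Cfsg.Agent.Ly.U3

set_option autoImplicit false
open Cfsg

namespace Cfsg.Agent.S0486

open Cfsg.Agent.BG

/-- A finite simple group whose Sylow 2-subgroups are isomorphic to a Sylow 2-subgroup of the projective special
unitary group of dimension 3 over the field with 16 elements is isomorphic to that unitary group. -/
theorem result {G : Type*} [Group G] [Finite G] [IsSimpleGroup G]
    {F : Type*} [Field F] [Fintype F] (hF : Fintype.card F = 16) (S : Sylow 2 G) (P : Sylow 2 (Cfsg.PSU 3 F 4))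
    (hS : Nonempty ((S : Subgroup G) ≃* (P : Subgroup (Cfsg.PSU 3 F 4)))) :
    Nonempty (G ≃* Cfsg.PSU 3 F 4) := by
  obtain ⟨e⟩ := hS
  obtain ⟨Z, h⟩ := Ly.u3s_of_iso (n := 2) le_rfl hF P e
  have nab := h.nab (by norm_num)
  exact h.psu (by norm_num) (sylowIn_top S) (Gold.se_of_su (fun k => nab fun x _ => ⟨fun y _ => k.1.1 _ _, fun y _ => k.1.1 _ _⟩)
    ⟨sylowIn_top S, h.cZ, h.le, h.cen, h.om⟩ fun k => nab (le_inf h.cen (abelian_iff.1 k))).1 hF

end Cfsg.Agent.S0486
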