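import Cfsg.Statements.S0504
import Cfsg.Agent.S1221
import Cfsg.Agent.Sig.Sf5
import Cfsg.Agent.S1292

set_option autoImplicit false
open Cfsg

namespace Cfsg.Agent.S0504

open Subgroup Cfsg.Agent.BG Cfsg.Agent.Sig

/-- Let G be a finite group containing an elementary abelian subgroup of order 8, with no nontrivial normal subgroup of
odd order, not of component type, and with a Sylow 2-subgroup whose commuting graph of Klein four-subgroups is
connected. Then every 2-local subgroup H of G satisfies C_H(O₂(H)) ≤ O₂(H). -/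
theorem result {G : Type*} [Group G] [Finite G]
    (h3 : ¬ Cfsg.PRankLE 2 2 G) (hO : Cfsg.oddCore G = ⊥) (hc : ¬ Cfsg.IsComponentType G) (S : Sylow 2 G)
    (hS : Cfsg.IsFourConnected (S : Subgroup G)) : Cfsg.IsCharacteristicTwoType G := by
  have hc' : ∀ t : G, orderOf t = 2 → pLayerIn 2 C1[t] = ⊥ := fun t ht => by
    rw [pLayerIn_eq_bot_iff', pLayer_eq_bot_iff]
    by_contra h
    refine hc ⟨t, ht, by_contra fun h' => h (le_bot_iff.1 (sSup_le fun K hK => (h' ⟨K, hK⟩).elim))⟩
  obtain ⟨E₀, hE₀, h3'⟩ := exists_abelem_of_rank_top h3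
  obtain ⟨g, -, hES⟩ := Sylow_Jsub (sylowIn_top S) (le_top : E₀ ≤ ⊤) hE₀.pg
  have hE := abelemJ g hE₀
  rw [← card_cj g] at h3'
  have hU := uni_of_fourConnected (fun A _ hA => sf_two hc' hA) hS hE hES (sq_le_of_cube h3')
  have := hU.le_core hc' (sylowIn_top S) hE hES h3' fun H hH => Cfsg.Agent.S1221.result H hH
  rw [hO, le_bot_iff] at this
  refine ⟨even_iff_two_dvd.2 ((pgroup_pdiv hE.pg (ne_bot_of_sq (sq_le_of_cube h3'))).trans (card_subgroup_dvd_card _)),
    fun T hT hT1 => ?_⟩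
  have k := S1292.result (fun t ht => by
    rw [← fstarIn_eq_pcIn_iff_sub, fstarIn_eq_pcIn_iff_xeIn, xeIn, hc' t ht, bot_sup_eq, ppIn, ← Op'_eq]
    exact (this ▸ hU : Uni _ _ ⊥).core_eq_bot (sylowIn_top S) hE hES (sq_le_of_cube h3') ht) T hT hT1
  rw [IsOfCharacteristicTwo, ← k]
  exact centralizer_fstar_le

end Cfsg.Agent.S0504
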