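import Cfsg.Statements.S0556
import Cfsg.Agent.BG.Aux13
import Cfsg.Agent.S0035
import Cfsg.Agent.Frob.Basic

set_option autoImplicit false
open Cfsg

namespace Cfsg.Agent.S0556

open Subgroup Cfsg.Agent.BG

theorem frob_case {G : Type*} [Group G] [Finite G] {A : Subgroup G} (hA : IsCoatom A)
    (hc : IsMulCommutative A) (hF : IsFrobeniusComplement A) : derivedSeries G 2 = ⊥ := by
  obtain ⟨K, -, hK, hs⟩ := Cfsg.Agent.S0035.result A hF
  rw [isComplement'_iff_sdprod] at hs
  have irr : ∀ U ≤ K, A ≤ N[U] → U = ⊥ ∨ U = K := fun U hU hn => by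
    by_cases h : U ≤ A
    · exact Or.inl (le_bot_iff.1 ((le_inf hU h).trans hs.inf.le))
    · right
      have e := (maxSub_top.2 hA).sup_eq le_top h
      have := group_modl (H := K) (Or.inr hn) hU
      rw [sup_comm, e, inf_top_eq, hs.inf, sup_bot_eq] at this
      exact this.symm
  have hK1 : K ≠ ⊥ := fun e => hA.1 (by have := hs.sup; rwa [e, bot_sup_eq] at this)
  have hco : (#K).Coprime #A := by
    rw [← hs.relIndexr, relIndex_top_right]; exact (Frob.coprime_card_index hF).symm
  obtain ⟨p, hp, hpd⟩ := exists_prime_dvd_card hK1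
  have := Fact.mk hp
  obtain ⟨P, hP, hn⟩ := coprime_Sylow_exists p hs.norm hco (Or.inl (abelian_sol hc))
  have hPK : P = K := (irr P hP.le hn).resolve_left (Sylow_ne_bot hP hpd)
  have hab : ⁅K, K⁆ = ⊥ := (irr _ (der_sub K) (norms_der hs.norm)).resolve_right
    (sol_der1_proper (pgroup_sol (hPK ▸ hP.pg)) hK1).ne
  have h1 : ⁅(⊤ : Subgroup G), (⊤ : Subgroup G)⁆ ≤ K := by
    have := der_sup_le hs.norm
    rwa [hs.sup, der1_eq_bot.2 hc, sup_bot_eq] at this
  exact le_bot_iff.1 ((dergS h1).trans hab.le)

/-- If a finite group has a maximal subgroup that is abelian, then the third term of its derived series is trivial (so the group is solvable of derived length at most three). -/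
theorem result {G : Type*} [Group G] [Finite G] (A : Subgroup G) (hA : IsCoatom A) [IsMulCommutative A] : derivedSeries G 3 = ⊥ := by
  have hc : IsMulCommutative A := inferInstance
  have hM := maxSub_top.2 hA
  by_cases hn : N[A] ≤ A
  swap
  · obtain ⟨x, hx, hx'⟩ := SetLike.not_le_iff_exists.1 hn
    have h1 : ⁅(⊤ : Subgroup G), (⊤ : Subgroup G)⁆ ≤ A := by
      have := der_sup_le (zpowers_le.2 hx)
      rwa [hM.sup_eq le_top (by rwa [zpowers_le]), der1_eq_bot.2 (abelian_zpowers x),
        sup_bot_eq] at this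
    have h2 : derivedSeries G 2 = ⊥ := le_bot_iff.1 ((dergS h1).trans (der1_eq_bot.2 hc).le)
    rw [derivedSeries_succ, h2]; simp
  have hZ : center G ≤ A := (cent_top.ge.trans ((centS le_top).trans (cent_sub A))).trans hn
  have hs := QuotientGroup.mk'_surjective (center G)
  have hcm : (A.map (QuotientGroup.mk' (center G))).comap (QuotientGroup.mk' (center G)) = A := by
    rw [comap_map_eq, QuotientGroup.ker_mk', sup_eq_left.2 hZ]
  have hA' : IsCoatom (A.map (QuotientGroup.mk' (center G))) := by
    refine ⟨fun e => hA.1 (by rw [← hcm, e, comap_top]), fun B hB => ?_⟩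
    have : A < B.comap (QuotientGroup.mk' (center G)) := by
      rw [← hcm]; exact comap_lt_comap_of_surjective hs |>.2 hB
    rw [← map_comap_eq_self_of_surjective hs B, hA.2 _ this, ← MonoidHom.range_eq_map,
      MonoidHom.range_eq_top.2 hs]
  have hF : IsFrobeniusComplement (A.map (QuotientGroup.mk' (center G))) := by
    refine Frob.isFrobeniusComplement_iff.2 ⟨fun e => ?_, hA'.1, fun g x hx h1 hg => ?_⟩
    · have : A = center G := by rw [← hcm, e, MonoidHom.comap_bot, QuotientGroup.ker_mk']
      exact hA.1 (top_le_iff.1 ((norm_of_normal (center G) ⊤).trans (this ▸ hn)))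
    · obtain ⟨g, rfl⟩ := hs g
      obtain ⟨x, hx, rfl⟩ := hx
      have hg' : x ∈ cj g A := by
        rw [mem_cj, ← hcm, mem_comap, map_mul, map_mul, map_inv]; exact hg
      by_contra hgA
      have h2 : ¬ cj g A ≤ A := fun h => hgA (mem_map_of_mem _ (hn (mem_norm_of_cj_le h)))
      refine h1 ((QuotientGroup.eq_one_iff x).2 ?_)
      rw [← cent_top, ← hM.sup_eq le_top h2, cent_sup]
      exact ⟨abelian_iff.1 hc hx, abelian_iff.1 (abelian_cj g hc) hg'⟩
  have h2 := frob_case hA' (isog_abelian ⟨MulEquiv.refl _⟩ inferInstance) hF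
  have h3 : derivedSeries G 2 ≤ center G := by
    have := map_derivedSeries_eq hs 2
    rwa [h2, Subgroup.map_eq_bot_iff, QuotientGroup.ker_mk'] at this
  rw [derivedSeries_succ]
  exact commG1.2 (h3.trans (cent_top.ge.trans (centS le_top)))

end Cfsg.Agent.S0556
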