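import Cfsg.Statements.S0558
import Cfsg.Agent.BG.Constt
import Cfsg.Agent.BG.Aux13
import Cfsg.Agent.S0079

set_option autoImplicit false
open Cfsg

namespace Cfsg.Agent.S0558

open Subgroup Cfsg.Agent.BG

variable {G : Type*} [Group G] [Finite G]

theorem comm_of_pi {H : Subgroup G} (hH : Group.IsNilpotent H) {π : Set ℕ} {a b : G} (ha : a ∈ H)
    (hb : b ∈ H) (pa : PiElt π a) (pb : PiElt πᶜ b) : a * b = b * a :=
  le_cent_iff.1 (sub_nilpotent_cent2 hH (zpowers_le.2 ha) (zpowers_le.2 hb)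
    (pnat_coprime (p_elt_zpowers.2 pa) (p_elt_zpowers.2 pb))) a (mem_zpowers a) b (mem_zpowers b)

theorem fus {H R : Subgroup G} (hH : Group.IsNilpotent H) {r : ℕ} [Fact r.Prime]
    (hR : SylowIn r R ⊤) (hn : N[R] = H) {z g : G} (hz : z ∈ H) (hz' : g * z * g⁻¹ ∈ H)
    (pz : PiElt {r}ᶜ z) : ∃ h ∈ H, ∃ c ∈ C1[z], g = h * c := by
  have hRH : R ≤ H := hn ▸ normG R
  have key : ∀ w ∈ H, PiElt {r}ᶜ w → R ≤ C1[w] := fun w hw pw a ha =>
    mem_cent1.2 (comm_of_pi hH (hRH ha) hw (mem_p_elt hR.pi ha) pw)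
  have h2 : cj g⁻¹ R ≤ C1[z] := by
    rw [cj_le_iff, inv_inv, ← C1_conj]
    exact key _ hz' (p_eltJ.2 pz)
  obtain ⟨c, hc, e⟩ := Sylow_trans (pHall_subl (key z hz pz) le_top hR)
    (pHall_subl h2 le_top (pHallJsub (mem_top g⁻¹) hR))
  refine ⟨g * c, ?_, c⁻¹, inv_mem hc, by group⟩
  rw [← hn, mem_norm, cj_mul, ← e, cj_cj_inv]

/-- Let H be a subgroup of a finite group G that is not a Sylow subgroup of G for any prime, and suppose that for every prime p dividing the order of H and every Sylow p-subgroup P of H the normalizer of P in G is exactly H. Then some normal subgroup of G is a complement to H. -/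
theorem result {G : Type*} [Group G] [Finite G] (H : Subgroup G) (hnot : ∀ p : ℕ, p.Prime → ∀ P : Sylow p G, (P : Subgroup G) ≠ H) (hnorm : ∀ p : ℕ, p.Prime → p ∣ Nat.card H → ∀ P : Sylow p H, Subgroup.normalizer (((P : Subgroup H).map H.subtype : Subgroup G) : Set G) = H) : ∃ N : Subgroup G, N.Normal ∧ Subgroup.IsComplement' N H := by
  have hN : ∀ p, p.Prime → p ∣ #H → ∃ P, SylowIn p P H ∧ SylowIn p P ⊤ ∧ N[P] = H := by
    intro p hp hd
    have := Fact.mk hp
    obtain ⟨P⟩ : Nonempty (Sylow p H) := inferInstance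
    have e := hnorm p hp hd P
    exact ⟨_, sylowIn_of_sylow P, Sylow_subnorm (by rw [top_inf_eq, e]; exact sylowIn_of_sylow P), e⟩
  have nH : Group.IsNilpotent H := nil_of_Sylow_normal fun p hp hd =>
    let ⟨P, h1, _, h3⟩ := hN p hp hd; ⟨P, h1, h3.ge⟩
  have hall : IsPiHallOf (primesOf #H) H ⊤ := pHall_of_Sylow le_top (pnat_pi _) fun p hp hd =>
    let ⟨P, h1, h2, _⟩ := hN p hp (mem_primesOf.1 hd).2; ⟨P, h2, h1.le⟩
  refine (Cfsg.Agent.S0079.result H nH (by simpa using hall.coprime)).2 ?_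
  rintro x hx _ hy ⟨g, rfl⟩
  by_cases h1 : H = ⊥
  · subst h1
    rw [mem_bot] at hx
    exact ⟨1, one_mem _, by simp [hx]⟩
  obtain ⟨p, hp, hpd⟩ := exists_prime_dvd_card h1
  have := Fact.mk hp
  obtain ⟨P, hP, hP', hPn⟩ := hN p hp hpd
  have hq : ¬ PiGrp {p} H := fun h => by
    obtain ⟨Q, hQ⟩ := sylow_of_sylowIn_top hP'
    exact hnot p hp Q (hQ.trans (Hall_max hP hP.le le_rfl h).symm)
  obtain ⟨q, hq, hqd, hqp⟩ : ∃ q, q.Prime ∧ q ∣ #H ∧ q ≠ p := by
    by_contra hc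
    push Not at hc
    exact hq fun q h1 h2 => hc q h1 h2
  have := Fact.mk hq
  obtain ⟨Q, -, hQ', hQn⟩ := hN q hq hqd
  obtain ⟨h, hh, c, hc, rfl⟩ := fus nH hP' hPn (z := constt {p}ᶜ x) (g := g) (constt_mem _ hx)
    (by rw [← consttJ]; exact constt_mem _ hy) (p_elt_constt _ _)
  have hy' : c * x * c⁻¹ ∈ H := by
    have := mul_mem (mul_mem (inv_mem hh) hy) hh
    convert this using 1; group
  obtain ⟨k, hk, d, hd, e⟩ := fus nH hQ' hQn (z := constt {p} x) (g := c) (constt_mem _ hx)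
    (by rw [← consttJ]; exact constt_mem _ hy')
    ((p_elt_constt {p} x).mono (by simpa using hqp))
  refine ⟨h * constt {p} k, mul_mem hh (constt_mem _ hk), ?_⟩
  have e1 := comm_of_pi nH (constt_mem {p} hx) (constt_mem {p}ᶜ hk) (p_elt_constt _ _)
    (p_elt_constt _ _)
  have e2 := comm_of_pi nH (constt_mem {p} hk) (constt_mem {p}ᶜ hx) (p_elt_constt _ _)
    (p_elt_constt _ _)
  have e3 := mem_cent1.1 hc
  have e4 := mem_cent1.1 hd
  have e5 := consttC {p} x
  have e6 := consttC {p} k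
  generalize constt {p} x = a at *
  generalize constt {p}ᶜ x = b at *
  generalize constt {p} k = u at *
  generalize constt {p}ᶜ k = v at *
  have f1 : c * a * c⁻¹ = u * a * u⁻¹ := by
    rw [e, ← e6]
    calc u * v * d * a * (u * v * d)⁻¹ = u * v * (d * a) * d⁻¹ * v⁻¹ * u⁻¹ := by group
      _ = u * (v * a) * v⁻¹ * u⁻¹ := by rw [e4]; group
      _ = _ := by rw [← e1]; group
  rw [← e5]
  calc h * u * (a * b) * (h * u)⁻¹ = h * (u * a * u⁻¹) * (u * b) * u⁻¹ * h⁻¹ := by group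
    _ = h * (c * a * c⁻¹) * b * h⁻¹ := by rw [e2, f1]; group
    _ = h * (c * a * c⁻¹) * (c * b) * c⁻¹ * h⁻¹ := by rw [e3]; group
    _ = _ := by group

end Cfsg.Agent.S0558
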