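import Cfsg.Statements.S0560
import Cfsg.Agent.SolvStr.Product

set_option autoImplicit false
open Pointwise
open Cfsg

namespace Cfsg.Agent.S0560

open Subgroup Cfsg.Agent.Solv Cfsg.Agent.SolvStr

/-- Let the finite group G be the product HK of two subgroups and p a prime. Then there are Sylow p-subgroups P of H and Q of K and a Sylow p-subgroup R of G whose underlying set is the product set of P and Q. -/
theorem result {G : Type*} [Group G] [Finite G] (H K : Subgroup G) (hHK : ∀ g : G, ∃ h ∈ H, ∃ k ∈ K, g = h * k) (p : ℕ) [Fact p.Prime] : ∃ (P : Sylow p H) (Q : Sylow p K) (R : Sylow p G), ((R : Subgroup G) : Set G) = (((P : Subgroup H).map H.subtype : Subgroup G) : Set G) * (((Q : Subgroup K).map K.subtype : Subgroup G) : Set G) := by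
  have h := isProd_top hHK
  obtain ⟨P₀⟩ : Nonempty (Sylow p H) := inferInstance
  obtain ⟨Q₀⟩ : Nonempty (Sylow p K) := inferInstance
  obtain ⟨R₁, h₁⟩ := (P₀.isPGroup'.map H.subtype).exists_le_sylow
  obtain ⟨R₂, h₂⟩ := (Q₀.isPGroup'.map K.subtype).exists_le_sylow
  obtain ⟨g, rfl⟩ := MulAction.exists_smul_eq G R₁ R₂
  obtain ⟨k, hk, x, hx, rfl⟩ := h.symm.exists_mul g (mem_top g)
  refine ⟨(⟨x, hx⟩ : H) • P₀, (⟨k, hk⟩ : K)⁻¹ • Q₀, x • R₁, isProd_iff_coe.1 ?_⟩
  refine isProd_of_card_le ?_ ?_ ?_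
  · rw [Sylow.coe_subgroup_smul, Sylow.coe_subgroup_smul, map_subtype_conj_smul]
    exact conj_smul_mono _ h₁
  · rw [Sylow.coe_subgroup_smul, Sylow.coe_subgroup_smul, map_subtype_conj_smul]
    refine (conj_smul_mono _ h₂).trans ?_
    rw [Sylow.coe_subgroup_smul, conj_smul_conj_smul]
    simp
  · generalize (⟨x, hx⟩ : H) • P₀ = P
    generalize (⟨k, hk⟩ : K)⁻¹ • Q₀ = Q
    have h3 : (P : Subgroup H).map H.subtype ⊓ (Q : Subgroup K).map K.subtype ≤ H ⊓ K :=
      inf_le_inf (map_subtype_le _) (map_subtype_le _)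
    obtain ⟨n, hn⟩ := IsPGroup.iff_card.1 ((P.isPGroup'.map H.subtype).to_inf_left
      (K := (Q : Subgroup K).map K.subtype))
    have h4 := card_dvd_of_le h3
    rw [hn, (Fact.out : p.Prime).pow_dvd_iff_le_factorization Nat.card_pos.ne'] at h4
    have h5 := congrArg (fun m => m.factorization p) h.card_mul_card
    simp only [Nat.factorization_mul Nat.card_pos.ne' Nat.card_pos.ne', Finsupp.add_apply,
      card_top] at h5
    rw [hn, card_subtype, card_subtype, Sylow.card_eq_multiplicity, Sylow.card_eq_multiplicity,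
      Sylow.card_eq_multiplicity, ← pow_add, ← pow_add]
    exact Nat.pow_le_pow_right (Fact.out : p.Prime).pos (by omega)

end Cfsg.Agent.S0560
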