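import Cfsg.Statements.S0581
import Cfsg.Agent.SolvStr.Schmidt

set_option autoImplicit false
open Pointwise
open Cfsg

namespace Cfsg.Agent.S0581

open Subgroup Cfsg.Agent.BG Cfsg.Agent.SolvStr

theorem aux {G : Type*} [Group G] [Finite G] {π : Set ℕ} {H : Subgroup G} (hH : Group.IsNilpotent H)
    (hall : IsPiHallOf π H ⊤) (n : ℕ) : ∀ K : Subgroup G, PiGrp π K → #K ≤ n → ∃ x, K ≤ cj x H := by
  induction n with
  | zero => intro K _ h; exact absurd h (by have := cardG_pos K; omega)
  | succ n ih =>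
    intro K hK hn
    by_cases h1 : K = ⊥
    · exact ⟨1, h1 ▸ bot_le⟩
    have hs : ∀ A < K, ∃ x, A ≤ cj x H := fun A hA =>
      ih A (pgroupS hA.le hK) (by have := proper_card hA; omega)
    have hnil : ∀ A < K, Group.IsNilpotent A := fun A hA =>
      let ⟨x, hx⟩ := hs A hA; nilpotentS hx (nilpotentJ x hH)
    obtain ⟨M, hM, hMn, p, hp, hi⟩ := maxSub_der (sol_of_proper_nil hnil) h1
    have := Fact.mk hp
    have hpπ : p ∈ π := hK p hp (hi ▸ relIndex_dvd_card _ _)
    have hL : IsPiHallOf {p}ᶜ (Op' p M) K :=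
      pHall_trans_idx (nilpotent_pcore_Hall _ (hnil M hM.lt)) hM.lt.le
        (by rw [hi]; exact (pnat_prime hp).2 (by simp))
    have hLn : Op' p M ⊴ K := hMn.pcore _
    obtain ⟨g, hg⟩ := hs _ ((pcore_sub _ M).trans_lt hM.lt)
    have nH := nilpotentJ g hH
    have hallg : IsPiHallOf π (cj g H) ⊤ := pHallJsub (mem_top g) hall
    have hS : SylowIn p (Op p (cj g H)) ⊤ := subHall_Sylow hallg hpπ (nilpotent_pcore_Hall _ nH)
    have hSn : Op p (cj g H) ≤ N[Op' p M] := cents_norm
      (sub_nilpotent_cent2 nH (pcore_sub _ _) hg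
        (pnat_coprime (pcore_pgroup _ _) (pcore_pgroup _ _)))
    obtain ⟨Q, hQ⟩ := Sylow_exists p K
    obtain ⟨x, hx, hQx⟩ := Sylow_subJ (pHall_subl hSn le_top hS) (hQ.le.trans hLn.norm) hQ.pg
    refine ⟨x * g, ?_⟩
    rw [← (compl_of_pHall hQ hL).sup, cj_mul]
    exact sup_le (hQx.trans (cj_mono x (pcore_sub _ _))) ((cj_of_norm hx).ge.trans (cj_mono x hg))

/-- Let H be a nilpotent subgroup of a finite group G whose order is coprime to its index, and K a subgroup every prime divisor of whose order divides the order of H. Then K lies in some conjugate of H. -/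
theorem result {G : Type*} [Group G] [Finite G] (H K : Subgroup G) (hH : Group.IsNilpotent H) (hHall : (Nat.card H).Coprime H.index) (hK : ∀ p : ℕ, p.Prime → p ∣ Nat.card K → p ∣ Nat.card H) : ∃ x : G, K ≤ MulAut.conj x • H := by
  obtain ⟨x, hx⟩ := aux hH (pHall_of_coprime le_top (by rwa [relIndex_top_right])) _ K
    (fun p hp h => mem_primesOf.2 ⟨hp, hK p hp h⟩) le_rfl
  exact ⟨x, by rwa [cj_eq_smul]⟩

end Cfsg.Agent.S0581
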