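import Cfsg.Statements.S0564
import Cfsg.Agent.SolvStr.Wielandt
import Cfsg.Agent.S0560

set_option autoImplicit false
open Cfsg

namespace Cfsg.Agent.S0564

open Subgroup Cfsg.Agent.BG Cfsg.Agent.SolvStr

theorem prod_Op {G : Type*} [Group G] [Finite G] {A B : Subgroup G} (h : IsProd A B ⊤)
    (hA : Group.IsNilpotent A) (hB : Group.IsNilpotent B) (p : ℕ) [Fact p.Prime] :
    ∃ S : Subgroup G, IsPGroup p S ∧ IsProd (Op p A) (Op p B) S := by
  obtain ⟨P, Q, R, e⟩ := Cfsg.Agent.S0560.result A B (isProd_top_iff.1 h) p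
  rw [nilpotent_Hall_pcore hA (sylowIn_of_sylow P), nilpotent_Hall_pcore hB (sylowIn_of_sylow Q)] at e
  exact ⟨R, R.isPGroup', isProd_iff_coe.2 e⟩

universe u in
theorem aux (n : ℕ) : ∀ (G : Type u) [Group G] [Finite G] (A B : Subgroup G),
    IsProd A B ⊤ → Group.IsNilpotent A → Group.IsNilpotent B → Nat.card G ≤ n →
    Group.IsSolvable G := by
  induction n with
  | zero => intro G _ _ A B _ _ _ h; exact absurd h (by simp [Nat.card_pos.ne'])
  | succ n ih =>
  intro G _ _ A B h nA nB hn
  by_contra hns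
  have nsol : ∀ N : Subgroup G, N.Normal → N ≠ ⊥ → ¬ Group.IsSolvable N := fun N hN h1 hs => by
    have : Group.IsSolvable (G ⧸ N) := ih _ _ _ (h.map_top (QuotientGroup.mk'_surjective N))
      (nilpotent_map _ nA) (nilpotent_map _ nB) (by have := Solv.card_quotient_lt h1; omega)
    exact hns (Solv.isSolvable_of_normal_of_quotient N)
  have full : ∀ {A B : Subgroup G}, IsProd A B ⊤ → Group.IsNilpotent A → Group.IsNilpotent B →
      ∀ N : Subgroup G, N.Normal → N ≠ ⊥ → N ⊔ A = ⊤ := fun {A B} h nA nB N hN h1 => by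
    by_contra hc
    have h2 := h.of_left_le (U := N ⊔ A) le_sup_right
    exact nsol N hN h1 (solvableS le_sup_left (ih _ _ _ h2.subgroupOf_top
      (isog_nil (isog_symm (isog_subgroupOf h2.left_le)) nA)
      (isog_nil (isog_symm (isog_subgroupOf h2.right_le)) (nilpotentS inf_le_left nB))
      (by have := Solv.card_lt_of_ne_top hc; omega)))
  have co : ¬ (#A).Coprime #B := fun co =>
    hns (isog_sol (isog_symm isog_top) (wielandt_coprime h nA nB co))
  obtain ⟨p, hp, hpA, hpB⟩ := Nat.Prime.not_coprime_iff_dvd.1 co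
  have := Fact.mk hp
  have T1 : (⊤ : Subgroup G) ≠ ⊥ := fun e =>
    hns (isog_sol (isog_symm isog_top) (e ▸ solvable_bot))
  obtain ⟨N, hN, -⟩ := minnormal_exists (M := ⊤) T1 (normG _)
  have nN : N ⊴ ⊤ := ⟨le_top, hN.norm⟩
  have := nN.normal
  have sub : ∀ {A B : Subgroup G}, N ⊔ A = ⊤ → Group.IsNilpotent A →
      N ⊔ Op p A ⊴ ⊤ ∧ Op p B ≤ N ⊔ Op p A := fun {A B} e nA => by
    have n1 : N ⊔ Op p A ⊴ ⊤ := ⟨le_top, e.ge.trans (sup_le (normsG le_sup_left)
      (normsY (norm_of_normal _ _) (pcore_normal _ _).norm))⟩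
    have := n1.normal
    refine ⟨n1, Solv.le_of_coprime_index (pnat_coprime (pcore_pgroup _ _) ?_)⟩
    have e1 : (N ⊔ Op p A).relIndex A = (N ⊔ Op p A).index := by
      rw [← relIndex_top_right, ← relIndex_sup_norml (norm_of_normal _ A),
        top_le_iff.1 (e.ge.trans (sup_le_sup_right le_sup_left A))]
    rw [← e1]
    exact (nilpotent_pcore_Hall {p} nA).idx.of_dvd (relIndex_dvd_of_le_left A le_sup_right)
  have fin : ∀ {A B : Subgroup G}, IsProd A B ⊤ → Group.IsNilpotent A → Group.IsNilpotent B →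
      p ∣ #A → ∀ K1, K1 ⊴ N ⊔ Op p A → K1 ≠ N ⊔ Op p A → ¬ Op p A ≤ K1 := by
    intro A B h nA nB hd K1 n1 hne hle
    have e := full h nA nB N inferInstance hN.ne
    have c1 : ⁅Op p A, N⁆ = ⊥ := by
      by_contra hc
      have := hN.map_eq (commg_subr (norm_of_normal _ _)) (e.ge.trans (sup_le (commg_normr _ _)
        (normsR (pcore_normal _ _).norm (norm_of_normal _ _)))) hc
      exact hne (le_antisymm n1.le (sup_le (this.ge.trans ((commSg N hle).trans
        (commg_subl (le_sup_left.trans n1.norm)))) hle))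
    have nC : C[N] ⊴ ⊤ := ⟨le_top, norms_cent nN.norm⟩
    have e2 := full h nA nB C[N] nC.normal fun e => Hall_ne_bot (nilpotent_pcore_Hall {p} nA) hp rfl hd
      (le_bot_iff.1 ((commG1.1 c1).trans e.le))
    refine nsol N inferInstance hN.ne (series_sol (center_normal N) (abelian_sol (center_abelian N))
      (isog_sol (isog_symm (second_isog (cent_norm N |>.trans' (normG N))))
        (solvableS (quotientS _ (le_top.trans e2.ge)) ?_)))
    rw [quotientYidl (le_top.trans nC.norm)]
    exact quotient_sol _ (nilpotent_sol nA)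
  have eA := full h nA nB N inferInstance hN.ne
  have eB := full h.symm nB nA N inferInstance hN.ne
  obtain ⟨nK, l1⟩ := sub (B := B) eA nA
  have eK : N ⊔ Op p B = N ⊔ Op p A :=
    le_antisymm (sup_le le_sup_left l1) (sup_le le_sup_left (sub (B := A) eB nB).2)
  obtain ⟨K1, n1, hne, hle⟩ := kegel_lemma ((Op p A).subgroupOf (N ⊔ Op p A))
    ((Op p B).subgroupOf (N ⊔ Op p A)) fun x => by
      obtain ⟨S, pS, hS⟩ := prod_Op (cj_eq_smul (x : G) B ▸ h.conj_right (mem_top (x : G))) nA
        (nilpotentJ _ nB) p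
      unfold Op at hS
      rw [pcoreJ] at hS
      have l2 : S ≤ N ⊔ Op p A := hS.eq_sup.le.trans (sup_le le_sup_right (cj_le_of_mem x.2 l1))
      refine ⟨S.subgroupOf _, fun e => nsol N inferInstance hN.ne (solvableS (le_sup_left.trans
        (subgroupOf_eq_top.1 e)) (pgroup_sol pS)), ?_⟩
      convert hS.subgroupOf l2 using 1
      ext y
      rw [cj_eq_smul, mem_cj, mem_subgroupOf, mem_subgroupOf, mem_cj]
      rfl
  have n2 := normal_map_subtype n1
  have hne2 : K1.map (N ⊔ Op p A).subtype ≠ N ⊔ Op p A := fun e => hne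
    (map_injective (subtype_injective _) (e.trans (map_subtype_top _).symm))
  rcases hle with hle | hle
  · exact fin h nA nB hpA _ n2 hne2 ((map_subgroupOf_eq_of_le le_sup_right).ge.trans (map_mono hle))
  · exact fin h.symm nB nA hpB _ (by rw [eK]; exact n2) (by rw [eK]; exact hne2)
      ((map_subgroupOf_eq_of_le l1).ge.trans (map_mono hle))

/-- The Kegel–Wielandt Theorem: a finite group G = AB with A and B nilpotent subgroups is solvable. -/
theorem result {G : Type*} [Group G] [Finite G] (A B : Subgroup G) (hA : Group.IsNilpotent A) (hB : Group.IsNilpotent B) (hAB : ∀ g : G, ∃ a ∈ A, ∃ b ∈ B, g = a * b) : Group.IsSolvable G := by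
  exact aux _ G A B (isProd_top hAB) hA hB le_rfl

end Cfsg.Agent.S0564
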