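import Cfsg.Statements.S0616
import Cfsg.Agent.Loc.SFF3

set_option autoImplicit false
open Cfsg

namespace Cfsg.Agent.S0616

/-- Each minimal nontrivially-acting best offender spans, with its commutator on the p'-core, a direct factor E of H isomorphic to SL(2, p) with a 2-dimensional commutator module complementing C_V(E). -/
theorem result {G : Type*} [Group G] [Finite G] {p : ℕ} [Fact p.Prime] (V H : Subgroup G) (hV : Cfsg.IsElementaryAbelian p V) (hHV : H ≤ Subgroup.normalizer (V : Set G)) (hf : H ⊓ Subgroup.centralizer (V : Set G) = ⊥) (hS1 : Subgroup.centralizer (Cfsg.pPrimeCore p ↥H : Set ↥H) ≤ Cfsg.pPrimeCore p ↥H) (hS3 : H = ⨆ A : {A : Subgroup G // A ≤ H ∧ Cfsg.IsBestOffenderOn p V A}, (A : Subgroup G)) (hH1 : H ≠ ⊥) (A : Subgroup G) (hAH : A ≤ H) (hA : Cfsg.IsBestOffenderOn p V A) (hAV : ⁅V, A⁆ ≠ ⊥) (hmin : ∀ B : Subgroup G, B ≤ A → Cfsg.IsBestOffenderOn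 p V B → ⁅V, B⁆ ≠ ⊥ → B = A) : (p = 2 ∨ p = 3) ∧ Nonempty (↥(⁅((Cfsg.pPrimeCore p ↥H).map H.subtype), A⁆ ⊔ A) ≃* Matrix.SpecialLinearGroup (Fin 2) (ZMod p)) ∧ Nat.card ↥(⁅V, ⁅((Cfsg.pPrimeCore p ↥H).map H.subtype), A⁆ ⊔ A⁆) = p ^ 2 ∧ ⁅V, ⁅((Cfsg.pPrimeCore p ↥H).map H.subtype), A⁆ ⊔ A⁆ ⊓ (V ⊓ Subgroup.centralizer ((⁅((Cfsg.pPrimeCore p ↥H).map H.subtype), A⁆ ⊔ A : Subgroup G) : Set G)) = ⊥ ∧ ⁅V, ⁅((Cfsg.pPrimeCore p ↥H).map H.subtype), A⁆ ⊔ A⁆ ⊔ (V ⊓ Subgroup.centralizer ((⁅((Cfsg.pPrimeCore p ↥H).map H.subtype), A⁆ ⊔ A : Subgroup G) : Set G)) = V ∧ ⁅⁅((Cfsg.pPrimeCore p ↥H).map H.subtype), A⁆ ⊔ A, H ⊓ Subgroup.centralizer ((⁅V, ⁅((Cfsg.pPrimeCore p ↥H).map H.subtype), A⁆ ⊔ A⁆ : Subgroup G) : Set G)⁆ = ⊥ ∧ (⁅((Cfsg.pPrimeCore p ↥H).map H.subtype), A⁆ ⊔ A) ⊓ (H ⊓ Subgroup.centralizer ((⁅V, ⁅((Cfsg.pPrimeCore p ↥H).map H.subtype), A⁆ ⊔ A⁆ : Subgroup G)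 : Set G)) = ⊥ ∧ (⁅((Cfsg.pPrimeCore p ↥H).map H.subtype), A⁆ ⊔ A) ⊔ (H ⊓ Subgroup.centralizer ((⁅V, ⁅((Cfsg.pPrimeCore p ↥H).map H.subtype), A⁆ ⊔ A⁆ : Subgroup G) : Set G)) = H ∧ ⁅V, H ⊓ Subgroup.centralizer ((⁅V, ⁅((Cfsg.pPrimeCore p ↥H).map H.subtype), A⁆ ⊔ A⁆ : Subgroup G) : Set G)⁆ ≤ V ⊓ Subgroup.centralizer ((⁅((Cfsg.pPrimeCore p ↥H).map H.subtype), A⁆ ⊔ A : Subgroup G) : Set G) := by
  open Cfsg.Agent.Loc Subgroup in
  open scoped commutatorElement in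
  have h := ffs_of hV hHV hf hS1
  have hm : MinOff p V A := ⟨hA, hAV, hmin⟩
  have a := h.main hAH hm
  have n1 : H ≤ normalizer ((Eo p H A : Subgroup G) : Set G) :=
    hS3.le.trans (iSup_le fun B => h.best_le_norm hAH hm B.2.1 B.2.2)
  have n2 := le_normalizer_centralizer (le_normalizer_commutator hHV n1)
  have h1 : Eo p H A ⊓ (H ⊓ centralizer ((⁅V, Eo p H A⁆ : Subgroup G) : Set G)) = ⊥ :=
    le_bot_iff.1 (a.faith ▸ inf_le_inf_left _ inf_le_right)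
  refine ⟨a.p23, a.iso, a.cW, le_bot_iff.1 (a.infE ▸ inf_le_inf_left _ inf_le_right), a.sup_cent,
    le_bot_iff.1 (h1 ▸ commutator_le_inf_of_normalizes ((FFS.Eo_le hAH).trans (le_normalizer_inf le_normalizer n2))
      (inf_le_left.trans n1)), h1, le_antisymm (sup_le (FFS.Eo_le hAH) inf_le_left) (hS3.le.trans (iSup_le fun B =>
        (h.best_le hAH hm B.2.1 B.2.2).trans (sup_le_sup_left inf_le_left _))), ?_⟩
  have n3 := le_normalizer_inf hHV (le_normalizer_centralizer n1)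
  refine (commutator_mono a.sup_cent.ge le_rfl).trans (commutator_sup_left_le
    (le_normalizer_of_le_centralizer (a.Wle.trans (h.comm.trans (centralizer_anti inf_le_left)))) le_normalizer
    (commutator_le_of_le_centralizer' inf_le_right _) (commutator_le_left_of_le_normalizer (inf_le_left.trans n3)))

end Cfsg.Agent.S0616
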