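import Cfsg.Statements.S0647
import Cfsg.Agent.PLocal.Thompson
-- import your own Cfsg.Agent.* helpers here

set_option autoImplicit false
open Cfsg

namespace Cfsg.Agent.S0647


open Subgroup Cfsg Cfsg.Agent.Loc Cfsg.Agent.PLocal
open scoped commutatorElement

/-- For a nonempty family of maximal abelian subgroups of a finite group, the intersection of the family is the centre of the subgroup it generates, which is also the full centralizer of that subgroup. -/
theorem result {S : Type*} [Group S] [Finite S] (𝒜 : Set (Subgroup S)) (hne : 𝒜.Nonempty) (hab : ∀ A ∈ 𝒜, IsMulCommutative A) (hmax : ∀ A ∈ 𝒜, ∀ B : Subgroup S, IsMulCommutative B → A ≤ B → B = A) : sInf 𝒜 = sSup 𝒜 ⊓ Subgroup.centralizer ((sSup 𝒜 : Subgroup S) : Set S) ∧ sInf 𝒜 = Subgroup.centralizer ((sSup 𝒜 : Subgroup S) : Set S) := by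
  have key : centralizer ((sSup 𝒜 : Subgroup S) : Set S) ≤ sInf 𝒜 := by
    refine le_sInf fun A hA x hx => ?_
    have h1 : zpowers x ≤ centralizer (A : Set S) := (zpowers_le).2 (centralizer_anti (le_sSup hA) hx)
    have := hmax A hA (zpowers x ⊔ A) (isMulCommutative_sup inferInstance (hab A hA) h1) le_sup_right
    rw [← this]; exact mem_sup_left (mem_zpowers x)
  have key2 : sInf 𝒜 ≤ centralizer ((sSup 𝒜 : Subgroup S) : Set S) := by
    rw [le_centralizer_iff]
    exact sSup_le fun A hA => le_centralizer_iff.1 ((sInf_le hA).trans (le_centralizer_self (hab A hA)))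
  obtain ⟨A, hA⟩ := hne
  exact ⟨le_antisymm (le_inf ((sInf_le hA).trans (le_sSup hA)) key2) (inf_le_right.trans key),
    le_antisymm key2 key⟩


end Cfsg.Agent.S0647
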