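import Cfsg.Statements.S0650
import Cfsg.Agent.PLocal.Replace
-- import your own Cfsg.Agent.* helpers here

set_option autoImplicit false
open Cfsg

namespace Cfsg.Agent.S0650


open Subgroup Cfsg Cfsg.Agent.Loc Cfsg.Agent.PLocal
open scoped commutatorElement

/-- The Glauberman replacement Theorem: from an abelian A ⊇ [B, B] not normalized by the normal subgroup B and a suitable b ∈ B one gets the abelian subgroup A* = (A ∩ b⁻¹Ab)[A, b] of the same order, containing [B, B], meeting B strictly more than A does but not containing B, mutually normalizing with A, with strictly larger normalizer containing b, and (p odd) of no larger exponent. -/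
theorem result {S : Type*} [Group S] [Finite S] {p : ℕ} [Fact p.Prime] (hS : IsPGroup p S) (B : Subgroup S) [B.Normal] (hB2 : p = 2 → IsMulCommutative B) (A : Subgroup S) (hA : IsMulCommutative A) (hBA : ⁅B, B⁆ ≤ A) (hnot : ¬ B ≤ Subgroup.normalizer (A : Set S)) (b : S) (hb : b ∈ B) (hbN : b ∈ Subgroup.normalizer ((Subgroup.normalizer (A : Set S)) : Set S)) (hbA : b ∉ Subgroup.normalizer (A : Set S)) : Nat.card ↥((A ⊓ A.map (MulAut.conj (b⁻¹)).toMonoidHom) ⊔ Subgroup.closure {g : S | ∃ a ∈ A, g = a * b⁻¹ * a⁻¹ * b}) = Nat.card A ∧ IsMulCommutative ↥((A ⊓ A.map (MulAut.conj (b⁻¹)).toMonoidHom) ⊔ Subgroup.closure {g : S | ∃ a ∈ A, g = a * b⁻¹ * a⁻¹ * b}) ∧ ⁅B, B⁆ ≤ ((A ⊓ A.map (MulAut.conj (b⁻¹)).toMonoidHom) ⊔ Subgroup.closure {g : S | ∃ a ∈ A, g = a * b⁻¹ * a⁻¹ * b}) ∧ A ⊓ B < ((A ⊓ A.map (MulAut.conj (b⁻¹)).toMonoidHom) ⊔ Subgroup.closure {g : S | ∃ a ∈ A, g = a * b⁻¹ * a⁻¹ * b}) ⊓ B ∧ ((A ⊓ A.map (MulAut.conj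 (b⁻¹)).toMonoidHom) ⊔ Subgroup.closure {g : S | ∃ a ∈ A, g = a * b⁻¹ * a⁻¹ * b}) ⊓ B < B ∧ A ≤ Subgroup.normalizer (((A ⊓ A.map (MulAut.conj (b⁻¹)).toMonoidHom) ⊔ Subgroup.closure {g : S | ∃ a ∈ A, g = a * b⁻¹ * a⁻¹ * b} : Subgroup S) : Set S) ∧ ((A ⊓ A.map (MulAut.conj (b⁻¹)).toMonoidHom) ⊔ Subgroup.closure {g : S | ∃ a ∈ A, g = a * b⁻¹ * a⁻¹ * b}) ≤ Subgroup.normalizer (A : Set S) ∧ b ∈ Subgroup.normalizer (((A ⊓ A.map (MulAut.conj (b⁻¹)).toMonoidHom) ⊔ Subgroup.closure {g : S | ∃ a ∈ A, g = a * b⁻¹ * a⁻¹ * b} : Subgroup S) : Set S) ∧ Subgroup.normalizer (A : Set S) < Subgroup.normalizer (((A ⊓ A.map (MulAut.conj (b⁻¹)).toMonoidHom) ⊔ Subgroup.closure {g : S | ∃ a ∈ A, g = a * b⁻¹ * a⁻¹ * b} : Subgroup S) : Set S) ∧ (p ≠ 2 → Monoid.exponent ↥((A ⊓ A.map (MulAut.conj (b⁻¹)).toMonoidHom) ⊔ Subgroup.closure {g : S | ∃ a ∈ A, g = a * b⁻¹ * a⁻¹ * b}) ∣ Monoid.exponent A) := by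
  have h : ReplHyp A B b := replHyp_of_normalizer (S := ⊤) hA le_top le_normalizer_of_normal hBA hb
    trivial (by rwa [top_inf_eq])
  have hB : IsMulCommutative B ∨ ∀ w ∈ B, w ^ 2 = 1 → w = 1 := by
    by_cases hp : p = 2
    · exact Or.inl (hB2 hp)
    · exact Or.inr (eq_one_of_sq_of_isPGroup hp (hS.to_subgroup B))
  refine ⟨h.card_repl, h.isMulCommutative_repl hB, h.der_le_repl, h.inf_lt hbA,
    lt_of_le_of_ne inf_le_right fun he => h.not_mem_repl hbA ((he.ge hb).1),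
    le_sup_left.trans h.H_le_normalizer_repl, ReplHyp.repl_le.trans h.H_le_normalizer,
    h.mem_normalizer_repl, lt_of_le_of_ne ?_ fun he => hbA (he.ge h.mem_normalizer_repl), fun hp => ?_⟩
  · have h1 : normalizer (A : Set S) ≤ normalizer ((cj b⁻¹ A : Subgroup S) : Set S) := by
      rw [← cj_normalizer, cj_eq_of_mem_normalizer (inv_mem hbN)]
    have h2 := h.repl_eq
    unfold repl at h2
    rw [h2]
    exact le_normalizer_sup (le_normalizer_inf le_rfl h1)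
      (le_normalizer_inf (le_normalizer_sup le_rfl h1) le_normalizer_of_normal)
  · have he : Odd (Monoid.exponent A) := by
      obtain ⟨k, hk⟩ := IsPGroup.iff_card.1 (hS.to_subgroup A)
      exact Odd.of_dvd_nat (hk ▸ ((Fact.out : p.Prime).odd_of_ne_two hp).pow)
        Group.exponent_dvd_nat_card
    have := h.ea_repl hB he fun a ha => congrArg Subtype.val (Monoid.pow_exponent_eq_one (⟨a, ha⟩ : A))
    exact Monoid.exponent_dvd_of_forall_pow_eq_one fun x => Subtype.ext (this.2 x x.2)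


end Cfsg.Agent.S0650
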