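import Cfsg.Statements.S0655
import Cfsg.Agent.PLocal.Thompson
-- import your own Cfsg.Agent.* helpers here

set_option autoImplicit false
open Cfsg

namespace Cfsg.Agent.S0655


open Subgroup Cfsg Cfsg.Agent.Loc Cfsg.Agent.PLocal
open scoped commutatorElement

/-- In a p-group the intersection of all elementary abelian subgroups of largest order is the subgroup generated by the elements of order dividing p in the centre (equivalently the centralizer) of the elementary-version Thompson subgroup. -/
theorem result {S : Type*} [Group S] [Finite S] {p : ℕ} [Fact p.Prime] (hS : IsPGroup p S) : sInf (Cfsg.maxElementaryAbelianSubgroups p S) = Cfsg.omegaCenterThompson p S ∧ Cfsg.omegaCenterThompson p S = Cfsg.omegaOne p (Subgroup.centralizer (Cfsg.thompsonSubgroup p S : Set S)) := by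
  have h1 : omegaOne p (centralizer (thompsonSubgroup p S : Set S)) ≤
      sInf (maxElementaryAbelianSubgroups p S) := by
    rw [← eaMax_top, ← J_top]
    refine le_sInf fun A hA => omegaOne_le_iff.2 fun x hx hp => ?_
    exact mem_of_mem_eaMax hA (mem_top x) (centralizer_anti (le_J hA) hx) hp
  have h2 : sInf (maxElementaryAbelianSubgroups p S) ≤ omegaCenterThompson p S := by
    rw [omegaCenterThompson, ← eaMax_top, ← J_top]
    obtain ⟨A, hA⟩ := eaMax_nonempty p (⊤ : Subgroup S)
    refine le_omegaOne (le_inf ((sInf_le hA).trans (le_J hA)) ?_) fun a ha => hA.2.1.2 a (sInf_le hA ha)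
    rw [le_centralizer_iff]
    exact J_le_iff.2 fun B hB => le_centralizer_iff.1 ((sInf_le hB).trans (le_centralizer_self hB.2.1.1))
  have h3 : omegaCenterThompson p S ≤ omegaOne p (centralizer (thompsonSubgroup p S : Set S)) :=
    omegaOne_mono inf_le_right
  exact ⟨le_antisymm h2 (h3.trans h1), le_antisymm h3 (h1.trans h2)⟩


end Cfsg.Agent.S0655
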