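import Cfsg.Statements.S0799
import Cfsg.Agent.Classical.DicksonSL

set_option autoImplicit false
open Cfsg

namespace Cfsg.Agent.S0799

open Cfsg.Agent.Classical

/-- Dickson's classification of the subgroups of PSL_2(q), q a power of the prime p, d = gcd(2, q − 1): every subgroup H is (a) cyclic or dihedral with k dividing (q+1)/d or (q−1)/d (cyclic of order k, or dihedral of order 2k), (b) isomorphic to a subgroup of the normaliser of a Sylow p-subgroup, (c) isomorphic to A_4, S_4 or A_5, or (d) isomorphic to PSL_2(K) or PGL_2(K) for a finite field K with |K|^m = q. -/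
theorem result {F : Type*} [Field F] [Fintype F] {q : ℕ} (hF : Fintype.card F = q) (p : ℕ) [Fact p.Prime] [CharP F p] (H : Subgroup (Matrix.ProjectiveSpecialLinearGroup (Fin 2) F)) : (∃ k : ℕ, (k ∣ (q + 1) / Nat.gcd 2 (q - 1) ∨ k ∣ (q - 1) / Nat.gcd 2 (q - 1)) ∧ ((IsCyclic H ∧ Nat.card H = k) ∨ Nonempty (H ≃* DihedralGroup k))) ∨ (∃ (P : Sylow p (Matrix.ProjectiveSpecialLinearGroup (Fin 2) F)) (K : Subgroup (Matrix.ProjectiveSpecialLinearGroup (Fin 2) F)), K ≤ Subgroup.normalizer ((P : Subgroup (Matrix.ProjectiveSpecialLinearGroup (Fin 2) F)) : Set (Matrix.ProjectiveSpecialLinearGroup (Fin 2) F)) ∧ Nonempty (H ≃* K)) ∨ Nonempty (H ≃* alternatingGroup (Fin 4)) ∨ Nonempty (H ≃* Equiv.Perm (Fin 4)) ∨ Nonempty (H ≃* alternatingGroup (Fin 5)) ∨ (∃ (K : Type) (_ : Field K) (_ : Fintype K) (m : ℕ), Fintype.card K ^ m = q ∧ (Nonempty (H ≃* Matrix.ProjectiveSpecialLinearGroup (Fin 2) K) ∨ Nonempty (H ≃* Matrix.ProjGenLinGroup (Fin 2) K))) := by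
  rw [← Nat.card_eq_fintype_card] at hF
  subst hF
  have hinj := Matrix.ProjectiveSpecialLinearGroup.toPGL_injective (n := Fin 2) (R := F)
  have hdih : ∀ k, ¬ p ∣ k → (H ≃* DihedralGroup k) →
      k ∣ (Nat.card F + 1) / Nat.gcd 2 (Nat.card F - 1) ∨
        k ∣ (Nat.card F - 1) / Nat.gcd 2 (Nat.card F - 1) := by
    intro k hk e
    have : orderOf (e.symm (.r 1) : Matrix.ProjectiveSpecialLinearGroup (Fin 2) F) = k := by
      rw [Subgroup.orderOf_coe, MulEquiv.orderOf_eq, DihedralGroup.orderOf_r_one]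
    rw [← this] at hk ⊢
    exact psl_orderOf_dvd_of_coprime p hk
  by_cases hp : p ∣ Nat.card H
  · have e0 := H.equivMapOfInjective _ hinj
    rcases dickson_char p (H.map Matrix.ProjectiveSpecialLinearGroup.toPGL)
      (Nat.card_congr e0.toEquiv ▸ hp) with ⟨x, h⟩ | ⟨h, K, hK⟩ | ⟨rfl, k, a, -, ⟨e⟩⟩ | ⟨-, ⟨e⟩⟩
    · obtain ⟨P, hP⟩ := (unipAct_PSL (F := F) p).exists_sylow (not_char_dvd_card_P1 F p) x
      refine Or.inr (Or.inl ⟨P, H, ?_, ⟨MulEquiv.refl _⟩⟩)
      rw [hP]
      refine le_trans (fun g hg => ?_) ((unipAct_PSL (F := F) p).stabilizer_le_normalizer x)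
      exact (psl_smul_eq g x).trans (h _ (Subgroup.mem_map_of_mem _ hg))
    · have e1 := e0.trans (Subgroup.equivMapOfInjective _ (MulAut.conj h).toMonoidHom
        (MulAut.conj h).injective)
      obtain ⟨m, -, hm⟩ := exists_card_pow_eq K.subtype
      have eK := Shrink.ringEquiv.{0} K
      have : Finite (Shrink.{0} K) := Finite.of_equiv _ eK.toEquiv.symm
      refine Or.inr (Or.inr (Or.inr (Or.inr (Or.inr ⟨Shrink.{0} K, inferInstance,
        Fintype.ofFinite _, m, by
          rw [← @Nat.card_eq_fintype_card _ (_), Nat.card_congr eK.toEquiv, hm], ?_⟩))))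
      rcases hK with hK | ⟨-, hK⟩ <;> rw [hK] at e1
      · exact Or.inr ⟨(e1.trans (MonoidHom.ofInjective (pglmap_injective _)).symm).trans
          (pglCongr eK).symm⟩
      · have : Function.Injective ((Matrix.ProjGenLinGroup.map K.subtype).comp
            (Matrix.ProjectiveSpecialLinearGroup.toPGL (n := Fin 2))) :=
          (pglmap_injective K.subtype).comp Matrix.ProjectiveSpecialLinearGroup.toPGL_injective
        exact Or.inl ⟨(e1.trans (MonoidHom.ofInjective this).symm).trans (pslCongr eK).symm⟩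
    · exact Or.inl ⟨k, hdih k (by simpa [← Nat.not_even_iff_odd, even_iff_two_dvd] using a)
        (e0.trans e), Or.inr ⟨e0.trans e⟩⟩
    · exact Or.inr (Or.inr (Or.inr (Or.inr (Or.inl ⟨e0.trans e⟩))))
  rcases dickson_coprime (Matrix.ProjectiveSpecialLinearGroup.toPGL.comp H.subtype)
    (hinj.comp H.subtype_injective) (by rwa [Ne, CharP.cast_eq_zero_iff F p]) with
    h | ⟨k, hk, ⟨e⟩⟩ | h | h | h
  · obtain ⟨g, hg⟩ := (Subgroup.isCyclic_iff_exists_zpowers_eq_top _).1 h
    refine Or.inl ⟨_, ?_, Or.inl ⟨h, rfl⟩⟩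
    rw [← hg, Nat.card_zpowers] at hp ⊢
    exact psl_orderOf_dvd_of_coprime p hp
  · refine Or.inl ⟨k, hdih k (fun h => hp ?_) e, Or.inr ⟨e⟩⟩
    rw [Nat.card_congr e.toEquiv, DihedralGroup.nat_card]
    exact h.mul_left _
  · exact Or.inr (Or.inr (Or.inl h))
  · exact Or.inr (Or.inr (Or.inr (Or.inl h)))
  · exact Or.inr (Or.inr (Or.inr (Or.inr (Or.inl h))))

end Cfsg.Agent.S0799
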