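import Cfsg.Statements.S0997
import Cfsg.Agent.CH.Low2
import Cfsg.Agent.Small.BT
import Cfsg.Agent.S4504
import Cfsg.Agent.S0999

set_option autoImplicit false
open Cfsg

namespace Cfsg.Agent.S0997

open Finset Cfsg.Agent.Char Cfsg.Agent.Small Cfsg.Agent.CH.Low
open scoped ComplexConjugate

section
variable {G : Type*} [Group G] [Finite G] {p : ℕ} [hp : Fact p.Prime] {x : G} {K : Subgroup G} [Fintype K]
  {h : DefOne p x K} {X : Finset (IrrCharacter G)} {φ : (ZMod p)ˣ → IrrCharacter G} {δ : IrrCharacter G → ℤ} {ε : ℤ}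

/-- every non-exceptional character is a constituent of `φ 1 * conj (φ 1)` or of `φ 1 * conj (φ a)` -/
theorem constit (s : PShape h X φ δ ε) {a : (ZMod p)ˣ} (ha : a ∉ E[h]) :
    (∀ S ⊆ X, (∀ χ ∈ S, δ χ = 1) → ∑ χ ∈ S, charDegree χ.1 ≤ charDegree (φ 1).1 ^ 2) ∧
    ∀ χ ∈ X, δ χ = -1 → fixd p x χ.1 ≤ fixd p x ((φ 1).1 * fun g => conj ((φ a).1 g)) := by
  classical
  have := Fintype.ofFinite G
  have h1 := (φ 1).2.isCharacter.mul (φ 1).2.isCharacter.conj
  have h2 := (φ 1).2.isCharacter.mul (φ a).2.isCharacter.conj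
  obtain ⟨c, hc, e⟩ := h1.exists_nat_coeff
  obtain ⟨c', hc', e'⟩ := h2.exists_nat_coeff
  have hne : φ 1 ≠ φ a := fun e => ha (by simpa [h.EE_irrOne] using (s.φ_eq_iff 1 a).1 e)
  have h3 : c (irrOne G) = 1 := by
    have := (hc (irrOne G)).symm.trans ((classInner_eq_classInner_one _ _).symm.trans (φ 1).2.classInner_self)
    exact_mod_cast this
  have h4 : c' (irrOne G) = 0 := by
    have := (hc' (irrOne G)).symm.trans ((classInner_eq_classInner_one _ _).symm.trans (classInner_irr _ _))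
    rw [if_neg hne] at this
    exact_mod_cast this
  have h5 : ∀ χ ∈ X, δ χ * ((c χ : ℤ) - c' χ) = 1 := fun χ hχ => by
    have := s.toShape.δ_mul_classInner (Δ := ((φ 1).1 * fun g => conj ((φ 1).1 g)) -
      ((φ 1).1 * fun g => conj ((φ a).1 g))) (fun g hg => by simp [s.toShape.φ_regular hg a 1]) hχ s.one_mem
    rw [classInner_sub_left, classInner_sub_left, hc, hc, hc', hc', h3, h4, s.δ_one] at this
    exact_mod_cast this
  refine ⟨fun S hS hδ => ?_, fun χ hχ hδ => ?_⟩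
  · rw [← charDegree_eq_of_apply_one (χ := (φ 1).1 * fun g => conj ((φ 1).1 g)) (n := charDegree (φ 1).1 ^ 2) (by
      simp [(φ 1).2.apply_one_eq_charDegree, sq]), charDegree_eq_sum e]
    refine le_trans (sum_le_sum fun χ hχ => Nat.le_mul_of_pos_left _ ?_) (sum_le_sum_of_subset (subset_univ S))
    have := h5 χ (hS hχ)
    rw [hδ χ hχ] at this; omega
  · rw [fixd_eq_sum h.ord h2 e']
    refine le_trans (Nat.le_mul_of_pos_left _ ?_) (single_le_sum (f := fun χ => c' χ * fixd p x χ.1)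
      (fun _ _ => Nat.zero_le _) (mem_univ χ))
    have := h5 χ hχ
    rw [hδ] at this; omega

theorem fixd_eq (s : PShape h X φ δ ε) {a : (ZMod p)ˣ} (ha : a ∉ E[h]) :
    p * fixd p x ((φ 1).1 * fun g => conj ((φ a).1 g)) + Nat.card E[h] ^ 2 = charDegree (φ 1).1 ^ 2 := by
  classical
  apply Nat.cast_injective (R := ℂ)
  have h1 := sum_eta_mul_conj E[h] 1 a
  rw [if_neg (by simpa using ha), sum_zmod_eq] at h1
  push_cast
  rw [fixd_cast h.ord ((φ 1).2.isCharacter.mul (φ a).2.isCharacter.conj), sum_zmod_eq,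
    sum_congr rfl (g := fun u : (ZMod p)ˣ => eta E[h] ((1 : (ZMod p)ˣ) * u) * conj (eta E[h] (a * u))) fun u _ => by
      rw [Pi.mul_apply, s.apply_φ' 1 u.ne_zero, s.apply_φ' a u.ne_zero, map_mul, map_intCast, mul_mul_mul_comm,
        s.toShape.ε_sq, one_mul]]
  simp only [mul_zero, eta_zero, map_natCast, xp_zero, Pi.mul_apply, (φ 1).2.apply_one_eq_charDegree,
    (φ a).2.apply_one_eq_charDegree, s.toShape.degree_φ_eq a 1] at h1 ⊢
  linear_combination h1
end

theorem half {G : Type*} [Group G] [Finite G] [IsSimpleGroup G] (hG : ¬ IsCyclic G) {p : ℕ} [hp : Fact p.Prime] {x : G}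
    [Fintype (⊥ : Subgroup G)] {h : DefOne p x ⊥} {X : Finset (IrrCharacter G)} {φ : (ZMod p)ˣ → IrrCharacter G}
    {δ : IrrCharacter G → ℤ} {ε : ℤ} (s : PShape h X φ δ ε) (hε : ε = -1) {c b d : ℕ} (hpc : p = 2 ^ c + 1) (h5 : 5 ≤ p)
    (hE : 2 * Nat.card E[h] + 1 = p) (hd : charDegree (φ 1).1 = d) (hd' : 2 * d = p + 1)
    (hcard : Nat.card G = p * 2 ^ b * d) (hev : ∀ χ ∈ X, χ ≠ irrOne G → 2 ∣ charDegree χ.1) :
    Nat.card G < p ^ 3 := by
  classical
  have hperf := commutator_eq_top_of_not_isCyclic hG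
  obtain ⟨a, ha⟩ : ∃ a, a ∉ E[h] := by
    by_contra hh
    push Not at hh
    have := index_mul_card_EE E[h]
    rw [Subgroup.index_eq_one.2 ((Subgroup.eq_top_iff' _).2 hh)] at this
    omega
  obtain ⟨h1, h2⟩ := constit s ha
  have h3 := fixd_eq s ha
  rw [hd] at h1 h3
  have h4 : fixd p x ((φ 1).1 * fun g => conj ((φ a).1 g)) = 1 := by
    refine Nat.eq_of_mul_eq_mul_left hp.out.pos ?_
    obtain rfl : d = Nat.card E[h] + 1 := by omega
    nlinarith
  haveI : Fact (Nat.Prime 2) := ⟨Nat.prime_two⟩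
  obtain ⟨z, hz, hz'⟩ := exists_central_elt (G := G) (q := 2) (even_card hG)
  have hz1 : z ≠ 1 := fun e => by simp [e] at hz
  have hzz : z * z = 1 := by rw [← sq, ← hz, pow_orderOf_eq_one]
  have hzi : z⁻¹ = z := inv_eq_of_mul_eq_one_right hzz
  have h6 : ∀ χ ∈ X, δ χ = -1 → χ.1 z = 0 := fun χ hχ e => by
    have hχ1 : χ ≠ irrOne G := fun e1 => by rw [e1, s.δ_one] at e; omega
    have h7 := s.X_neg hχ e
    have h8 := h2 χ hχ e
    have h9 := hev χ hχ hχ1
    rw [h4] at h8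
    refine apply_eq_zero_of_pow (q := 2) (k := c) hG hχ1 ?_ hz1 hz'
    interval_cases fixd p x χ.1 <;> omega
  have h7 := sum_pairs h z (irrOne (⊥ : Subgroup G)).1
  rw [SS_shape s.toShape (fun e => by
    have := Nat.le_of_dvd (by rw [hz]; omega) e; omega) 1, Fintype.sum_subsingleton _ 1, hε, hd, hzi,
    ← add_sum_erase _ _ s.one_mem, ← sum_filter_add_sum_filter_not _ (fun χ => δ χ = 1),
    sum_eq_zero (s := filter (fun χ => ¬ δ χ = 1) _) (fun χ hχ => by
      rw [mem_filter] at hχ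
      simp [h6 χ (mem_of_mem_erase hχ.1) ((s.δ_sign χ (mem_of_mem_erase hχ.1)).resolve_left hχ.2)]),
    sum_congr rfl (g := fun χ => ‖χ.1 z‖ ^ 2 / charDegree χ.1) fun χ hχ => by simp [(mem_filter.1 hχ).2]] at h7
  simp only [irrOne_apply, one_mul, OneMemClass.coe_one, mul_one, Subgroup.card_bot, Nat.cast_one, s.δ_one,
    charDegree_irrOne, Int.cast_one, norm_one, one_pow, div_one, add_zero, Int.cast_neg, neg_mul, sub_neg_eq_add] at h7
  replace h7 : (Nat.card {w : G × G // w.1 * z * w.1⁻¹ * (w.2 * z * w.2⁻¹) = x} : ℝ) = Nat.card G * (1 +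
      ∑ χ ∈ filter (fun χ => δ χ = 1) (X.erase (irrOne G)), ‖χ.1 z‖ ^ 2 / charDegree χ.1 + ‖(φ 1).1 z‖ ^ 2 / d) := by
    exact_mod_cast h7
  have hG0 : (0 : ℝ) < Nat.card G := by exact_mod_cast Nat.card_pos
  have h8 : Nat.card {w : G × G // w.1 * z * w.1⁻¹ * (w.2 * z * w.2⁻¹) = x} ≠ 0 := fun e => by
    rw [e, Nat.cast_zero] at h7
    exact absurd h7 (ne_of_lt (by positivity))
  rw [h.card_pairs (by omega) hzz h8] at h7
  obtain ⟨⟨⟨u, v⟩, huv⟩⟩ := (Nat.card_pos_iff.1 (Nat.pos_of_ne_zero h8)).1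
  simp only at huv
  have h9 : u * z * u⁻¹ * x * (u * z * u⁻¹)⁻¹ = x⁻¹ := by
    rw [← huv]; simp only [mul_inv_rev, inv_inv, hzi, mul_assoc, inv_mul_cancel_left]
    rw [← mul_assoc z z, hzz, one_mul, mul_inv_cancel_left]
  have h10 : u * z * u⁻¹ ∈ Nx x := mem_Nx_of_conj_xp h.ord (j := 1) one_ne_zero (by
    rw [xp_one h.ord, h9]; exact inv_mem (Subgroup.mem_zpowers x))
  have h11 : expo h.ord ⟨_, h10⟩ ≠ 1 := fun e => by
    rw [expo_eq_one_iff] at e
    simp only at e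
    rw [← e, mul_inv_cancel_right, eq_inv_iff_mul_eq_one, ← sq, ← orderOf_dvd_iff_pow_eq_one, h.ord] at h9
    have := Nat.le_of_dvd two_pos h9; omega
  have h12 : ∀ χ : IrrCharacter G, ‖χ.1 z‖ ≤ fixd p x χ.1 := fun χ => by
    rw [χ.2.isClassFunction.apply_eq_of_isConj (isConj_iff.2 ⟨u, rfl⟩ : IsConj z _)]
    exact norm_le_fixd h.ord χ.2.isCharacter h11
  have hd0 : (0 : ℝ) < d := by exact_mod_cast (by omega : 0 < d)
  have h13 : ∑ χ ∈ filter (fun χ => δ χ = 1) (X.erase (irrOne G)), ‖χ.1 z‖ ^ 2 / charDegree χ.1 ≤ 1 := by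
    have h14 := h1 (filter (fun χ => δ χ = 1) (X.erase (irrOne G))) ((filter_subset _ _).trans (erase_subset _ _))
      fun χ hχ => (mem_filter.1 hχ).2
    refine le_trans (sum_le_sum (g := fun χ => (charDegree χ.1 : ℝ) / d ^ 2) fun χ hχ => ?_) (by
      rw [← sum_div, div_le_one (by positivity)]; exact_mod_cast h14)
    rw [mem_filter, mem_erase] at hχ
    have h15 := s.X_pos hχ.1.2 hχ.2
    have h16 : charDegree χ.1 ≠ 1 := fun e => hχ.1.1 (eq_irrOne_of_degree hperf e)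
    have h17 := χ.2.charDegree_pos
    have h18 : 2 ≤ fixd p x χ.1 := by
      by_contra hh
      have : fixd p x χ.1 < 2 := by omega
      interval_cases fixd p x χ.1 <;> omega
    have h19 : fixd p x χ.1 * d ≤ charDegree χ.1 := by nlinarith
    have h20 : ‖χ.1 z‖ * d ≤ charDegree χ.1 :=
      (mul_le_mul_of_nonneg_right (h12 χ) hd0.le).trans (by exact_mod_cast h19)
    rw [div_le_div_iff₀ (by exact_mod_cast h17) (by positivity), ← mul_pow, ← sq]
    exact pow_le_pow_left₀ (by positivity) h20 2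
  have h14 : ‖(φ 1).1 z‖ ^ 2 ≤ 1 := by
    have h15 := s.φ_neg 1 hε
    have h16 : fixd p x (φ 1).1 = 1 := Nat.eq_of_mul_eq_mul_left hp.out.pos (by omega)
    have := h12 (φ 1)
    rw [h16, Nat.cast_one] at this
    exact pow_le_one₀ (norm_nonneg _) this
  have h15 : 2 ^ b ≤ Nat.card (Subgroup.centralizer ({z} : Set G)) := Nat.le_of_dvd Nat.card_pos
    (((Nat.prime_two.coprime_iff_not_dvd.2 hz').pow_left b).dvd_of_dvd_mul_right (by
      rw [Subgroup.card_mul_index, hcard]; exact (dvd_mul_left _ _).mul_right _))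
  have h16 : (p * (2 ^ b) ^ 2 : ℕ) ≤ p * 2 ^ b * (2 * d + 1) := by
    refine (Nat.mul_le_mul_left _ (Nat.pow_le_pow_left h15 2)).trans ?_
    have : ((p * Nat.card (Subgroup.centralizer ({z} : Set G)) ^ 2 : ℕ) : ℝ) ≤ Nat.card G * (1 + 1 + 1 / d) := by
      rw [h7]; gcongr
    rw [hcard] at this
    have h17 : ((p * 2 ^ b * d : ℕ) : ℝ) * (1 + 1 + 1 / d) = (p * 2 ^ b * (2 * d + 1) : ℕ) := by
      push_cast; field_simp; ring
    exact_mod_cast h17 ▸ this
  rw [sq, ← mul_assoc] at h16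
  have h17 := Nat.le_of_mul_le_mul_left h16 (by positivity)
  rw [hcard, pow_succ', mul_assoc]
  exact Nat.mul_lt_mul_of_pos_left (by nlinarith) hp.out.pos

/-- Let G be a non-cyclic finite simple group of order p * q^b * g₀, where p and q are distinct primes and g₀ < p - 1. Then either p has the form 2^m + 1 or 2^m - 1 and G is isomorphic to the projective special linear group of dimension 2 over the field with p elements, or p = 2^m + 1 > 3 and G is isomorphic to that group over the field with 2^m elements. -/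
theorem result {G : Type*} [Group G] [Finite G] [IsSimpleGroup G] (hG : ¬ IsCyclic G) (p q b g₀ : ℕ) (hp : p.Prime) (hq : q.Prime) (hpq : p ≠ q) (hG' : Nat.card G = p * q ^ b * g₀) (hg : g₀ < p - 1) : (∃ (m : ℕ) (F : Type) (_ : Field F) (_ : Fintype F), Fintype.card F = p ∧ (p = 2 ^ m + 1 ∨ p = 2 ^ m - 1) ∧ Nonempty (G ≃* Matrix.ProjectiveSpecialLinearGroup (Fin 2) F)) ∨ (∃ (m : ℕ) (F : Type) (_ : Field F) (_ : Fintype F), Fintype.card F = 2 ^ m ∧ p = 2 ^ m + 1 ∧ 3 < p ∧ Nonempty (G ≃* Matrix.ProjectiveSpecialLinearGroup (Fin 2) F)) := by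
  classical
  haveI := Fact.mk hp
  have hperf := commutator_eq_top_of_not_isCyclic hG
  have hg0 : 0 < g₀ := Nat.pos_of_ne_zero fun e => by
    rw [e, mul_zero] at hG'; exact Nat.card_pos.ne' hG'
  have hcq : p.Coprime q := (Nat.coprime_primes hp hq).2 hpq
  have hcp : p.Coprime (q ^ b * g₀) := (hcq.pow_right b).mul_right ((Nat.coprime_of_lt_prime hg0.ne' (by omega) hp))
  have hdv : p ∣ Nat.card G := by rw [hG', mul_assoc]; exact dvd_mul_right _ _
  have hsq : ¬ p ^ 2 ∣ Nat.card G := fun e => by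
    rw [hG', mul_assoc, sq, Nat.mul_dvd_mul_iff_left hp.pos] at e
    exact hp.coprime_iff_not_dvd.1 hcp e
  have hp2 : p % 2 = 1 := hp.eq_two_or_odd.resolve_left (by omega)
  obtain ⟨x, K, h⟩ := exists_defOne_of_dvd hdv hsq
  haveI := Fintype.ofFinite K
  obtain ⟨X, φ, δ, ε, s⟩ := h.exists_pshape
  have hdd : ∀ χ ∈ blk p x (irrOne K), charDegree χ.1 ∣ q ^ b * g₀ := fun χ hχ =>
    (hp.coprime_iff_not_dvd.2 (s.not_dvd_degree hχ)).symm.dvd_of_dvd_mul_left (by
      rw [← mul_assoc, ← hG']; exact χ.2.charDegree_dvd_card)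
  have hdg : ∀ χ ∈ blk p x (irrOne K), ¬ q ∣ charDegree χ.1 → charDegree χ.1 ∣ g₀ := fun χ hχ e =>
    ((hq.coprime_iff_not_dvd.2 e).symm.pow_right b).dvd_of_dvd_mul_left (hdd χ hχ)
  have hX : ∀ χ ∈ X, χ ≠ irrOne G → (∃ k, 1 ≤ k ∧ charDegree χ.1 = p * k + 1) ∨ ∃ k, 1 ≤ k ∧ charDegree χ.1 + 1 = p * k :=
    fun χ hχ h1 => by
      have h2 : charDegree χ.1 ≠ 1 := fun e => h1 (eq_irrOne_of_degree hperf e)
      have h3 := χ.2.charDegree_pos
      rcases s.δ_sign χ hχ with e | e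
      · have h4 := s.X_pos hχ e
        obtain ⟨k, hk⟩ : ∃ k, fixd p x χ.1 = k + 2 := by
          refine ⟨fixd p x χ.1 - 2, ?_⟩
          by_contra hh
          have : fixd p x χ.1 < 2 := by omega
          interval_cases fixd p x χ.1 <;> omega
        exact Or.inl ⟨k + 1, by omega, by rw [hk] at h4; linarith⟩
      · exact Or.inr ⟨fixd p x χ.1 + 1, by omega, by rw [s.X_neg hχ e]; ring⟩
  have hqX : ∀ χ ∈ X, χ ≠ irrOne G → q ∣ charDegree χ.1 := fun χ hχ h1 => by
    by_contra e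
    have h2 := Nat.le_of_dvd hg0 (hdg χ (s.toShape.X_mem hχ) e)
    rcases hX χ hχ h1 with ⟨k, hk, e⟩ | ⟨k, hk, e⟩ <;> have := Nat.le_mul_of_pos_right p hk <;> omega
  have hde : ∀ n : ℕ, (∀ χ ∈ X, χ ≠ irrOne G → n ∣ charDegree χ.1) → (n : ℤ) ∣ ε * charDegree (φ 1).1 - 1 :=
    fun n hn => by
      rw [s.degree_eq' 1, add_sub_cancel_left]
      exact dvd_sum fun χ hχ => Dvd.dvd.mul_left (by exact_mod_cast hn χ (mem_of_mem_erase hχ) (ne_of_mem_erase hχ)) _
  have hqd : ¬ q ∣ charDegree (φ 1).1 := fun e => by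
    have := (dvd_sub_right (Dvd.dvd.mul_left (Int.natCast_dvd_natCast.2 e) ε)).1 (hde q hqX)
    exact hq.one_lt.ne' (by exact_mod_cast Int.eq_one_of_dvd_one (by positivity) this)
  obtain ⟨k, hk⟩ := hdg _ (s.toShape.φ_mem 1) hqd
  have hk0 : 0 < k := Nat.pos_of_ne_zero fun e => by rw [e, mul_zero] at hk; omega
  have hdl : charDegree (φ 1).1 ≤ g₀ := hk ▸ Nat.le_mul_of_pos_right _ hk0
  obtain rfl : K = ⊥ := (Subgroup.eq_bot_iff_forall _).2 fun y hy => eq_one_of_apply (s.φ_ne_one 1)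
    (s.apply_eq_of_lt (s.toShape.φ_mem 1) (by omega) ⟨y, hy⟩)
  have hd1 : charDegree (φ 1).1 ≠ 1 := fun e => s.φ_ne_one 1 (eq_irrOne_of_degree hperf e)
  have hd0 := (φ 1).2.charDegree_pos
  obtain ⟨t, ht⟩ := card_EE_dvd E[h]
  have he0 : 0 < Nat.card E[h] := Nat.card_pos
  have he2 : Nat.card E[h] ≠ p - 1 → 2 * Nat.card E[h] + 1 ≤ p := fun e => by
    have : t ≠ 1 := fun e1 => e (by rw [ht, e1, mul_one])
    have : t ≠ 0 := fun e1 => by rw [e1] at ht; omega
    have := Nat.mul_le_mul_left (Nat.card E[h]) (show 2 ≤ t by omega)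
    omega
  rcases s.ε_sign with hε | hε
  · have h1 := s.φ_pos 1 hε
    have h2 : fixd p x (φ 1).1 = 0 := by
      by_contra e
      have := Nat.le_mul_of_pos_right p (Nat.pos_of_ne_zero e); omega
    rw [h2, mul_zero, zero_add] at h1
    have hnn : ∀ H : Subgroup G, H.Normal → Nat.card H ≠ p := fun H hH e => by
      rcases hH.eq_bot_or_eq_top with rfl | rfl
      · rw [Subgroup.card_bot] at e; omega
      · rw [Subgroup.card_top] at e; exact hG (isCyclic_of_prime_card e)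
    have h3 := h.le_two_mul_degree (fun e => hnn _ e (by rw [Nat.card_zpowers, h.ord])) (φ 1).2.isCharacter
      fun g => eq_one_of_apply (s.φ_ne_one 1)
    have h4 := he2 (by omega)
    obtain ⟨f⟩ := S4504.result p hp hdv hsq hnn _ (φ 1).2.isCharacter (fun g => eq_one_of_apply (s.φ_ne_one 1)) (by omega)
    replace f := (QuotientGroup.quotientBot.symm.trans (QuotientGroup.quotientMulEquivOfEq (center_eq_bot hG).symm)).trans f
    have h5 := Classical.card_PSL2_mul (F := ZMod p)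
    rw [Nat.card_zmod, ← Nat.card_congr f.toEquiv, Nat.gcd_eq_left (by omega), hG'] at h5
    obtain rfl : k = 1 := by
      by_contra e
      have := Nat.mul_le_mul_left (charDegree (φ 1).1) (show 2 ≤ k by omega); omega
    have h6 : q ^ b = p + 1 := by
      refine Nat.eq_of_mul_eq_mul_left (Nat.mul_pos hp.pos (show 0 < p - 1 by omega)) ?_
      rw [← h5, show p - 1 = 2 * g₀ by omega]; ring
    obtain rfl : 2 = q := (Nat.prime_dvd_prime_iff_eq Nat.prime_two hq).1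
      (Nat.prime_two.dvd_of_dvd_pow (n := b) (by omega))
    exact Or.inl ⟨b, ZMod p, inferInstance, inferInstance, ZMod.card p, Or.inr (by omega), ⟨f⟩⟩
  have h1 := s.φ_neg 1 hε
  have h2 : fixd p x (φ 1).1 = 1 := by
    have := PShape.card_E_lt (h := h)
    have h3 : fixd p x (φ 1).1 < 2 := lt_of_mul_lt_mul_left (a := p) (by omega) (Nat.zero_le _)
    interval_cases fixd p x (φ 1).1 <;> omega
  rw [h2, mul_one] at h1
  have h3 := he2 (by omega)
  obtain rfl : k = 1 := by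
    by_contra e
    have := Nat.mul_le_mul_left (charDegree (φ 1).1) (show 2 ≤ k by omega); omega
  rw [mul_one] at hk
  have h4 : p.Coprime (Nat.card E[h]) := Nat.coprime_of_lt_prime he0.ne' (by omega) hp
  have h5 : Nat.card E[h] ∣ q ^ b := by
    refine Nat.Coprime.dvd_of_dvd_mul_right (n := g₀) ?_ (h4.symm.dvd_of_dvd_mul_left ?_)
    · rw [← Nat.coprime_add_self_right, hk, h1]; exact h4.symm
    · rw [← mul_assoc, ← hG', h.card_eq_bot]; exact (dvd_mul_right _ _).mul_left _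
  obtain ⟨c, -, hc⟩ := (Nat.dvd_prime_pow hq).1 h5
  have hc0 : c ≠ 0 := fun e => h.range_ne_bot_of_perfect hperf (Subgroup.card_eq_one.1 (by rw [hc, e, pow_zero]))
  have hde' : ∀ n : ℕ, (∀ χ ∈ X, χ ≠ irrOne G → n ∣ charDegree χ.1) → n ∣ Nat.card E[h] → n ∣ 2 := fun n hn hn' => by
    have h6 := hde n hn
    rw [hε, neg_one_mul, ← neg_add', dvd_neg] at h6
    have h7 : n ∣ charDegree (φ 1).1 + 1 := by exact_mod_cast h6
    have h8 : n ∣ p - 1 := ht ▸ hn'.mul_right _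
    have := Nat.dvd_sub (dvd_add h7 hn') h8
    rwa [show charDegree (φ 1).1 + 1 + Nat.card E[h] - (p - 1) = 2 by omega] at this
  obtain rfl : q = 2 := (Nat.prime_dvd_prime_iff_eq hq Nat.prime_two).1 (hde' q hqX (hc ▸ dvd_pow_self q hc0))
  have fin : Nat.card G < p ^ 3 → ∀ m, p = 2 ^ m + 1 → _ := fun h6 m hm =>
    (S0999.result hG p hp hdv h6).imp (fun ⟨F, i, j, e, _, f⟩ => (⟨m, F, i, j, e, Or.inl hm, f⟩ :
      ∃ (m : ℕ) (F : Type) (_ : Field F) (_ : Fintype F), Fintype.card F = p ∧ (p = 2 ^ m + 1 ∨ p = 2 ^ m - 1) ∧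
        Nonempty (G ≃* Matrix.ProjectiveSpecialLinearGroup (Fin 2) F))) id
  rcases (show c = 1 ∨ 2 ≤ c by omega) with rfl | hc2
  · obtain ⟨ψ, h6, rfl, h7⟩ := s.exists_two hc
    have h8 := h7 1
    have hψ : ψ ∈ ({irrOne G, ψ} : Finset _) := by simp
    have h9 : charDegree ψ.1 + 1 = p := by
      rcases s.δ_sign ψ hψ with e | e <;> rw [e, hε] at h8 <;> omega
    obtain ⟨S⟩ : Nonempty (Sylow 2 G) := inferInstance
    obtain ⟨e1, e2, -⟩ := h.sylow_two_of_degree hc (by omega) ψ.2 h9 (charKer_eq_bot' h6) S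
    obtain ⟨m, hm⟩ := S.isPGroup'.exists_card_eq
    refine fin ?_ m (by omega)
    rw [e2, pow_succ, sq, Nat.sub_add_cancel hp.pos]
    exact Nat.mul_lt_mul_of_le_of_lt (Nat.mul_le_mul_left _ (by omega)) (by omega) (Nat.mul_pos hp.pos hp.pos)
  have h6 : 4 ∣ Nat.card E[h] := hc ▸ pow_dvd_pow 2 hc2
  obtain ⟨χ, hχ, h7, h8⟩ : ∃ χ ∈ X, χ ≠ irrOne G ∧ ¬ 4 ∣ charDegree χ.1 := by
    by_contra hh
    push Not at hh
    exact absurd (hde' 4 hh h6) (by decide)
  obtain ⟨m, hm⟩ := hqX χ hχ h7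
  obtain ⟨l, hl⟩ : m ∣ g₀ := (Nat.Coprime.pow_right b (Nat.coprime_two_right.2 (Nat.odd_iff.2 (by omega)))).dvd_of_dvd_mul_left
    ((Dvd.intro_left 2 hm.symm).trans (hdd χ (s.toShape.X_mem hχ)))
  have hl0 : 0 < l := Nat.pos_of_ne_zero fun e => by rw [e, mul_zero] at hl; omega
  have h9 : m ≤ g₀ := hl ▸ Nat.le_mul_of_pos_right _ hl0
  have h10 : 4 ∣ p - 1 := ht ▸ h6.mul_right _
  have h11 : 2 * m = p + 1 := by
    rcases hX χ hχ h7 with ⟨k, hk, e⟩ | ⟨k, hk, e⟩ <;> rcases hk.eq_or_lt with rfl | hk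
    · omega
    · have := Nat.mul_le_mul_left p (show 2 ≤ k from hk); omega
    · omega
    · have := Nat.mul_le_mul_left p (show 2 ≤ k from hk); omega
  obtain rfl : l = 1 := by
    by_contra e
    have := Nat.mul_le_mul_left m (show 2 ≤ l by omega); omega
  have h12 : p = 2 ^ (c + 1) + 1 := by rw [pow_succ]; omega
  exact fin (half hG s hε h12 (by omega) (by omega) hk.symm (by omega) hG' hqX) _ h12

end Cfsg.Agent.S0997
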