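import Cfsg.Statements.S1154
import Cfsg.Agent.Ree.Inst

set_option autoImplicit false
open Cfsg

namespace Cfsg.Agent.S1154

open Cfsg.Agent.Ree Subgroup

/-- In the small Ree group ²G₂(q), q = 3^(2m+1) with m ≥ 1, realised as G¹ inside the Chevalley group G₂ over the field with q elements (θ the 3^m-th power map), with `U¹ = G¹ ∩ U` (U the positive unipotent subgroup of the ambient G₂): `U¹` has exactly `q² - 1` elements of order 3. -/
theorem result {K : Type*} [Field K] [Fintype K] {m : ℕ} (hm : 1 ≤ m) (hK : Fintype.card K = 3 ^ (2 * m + 1)) :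
    Nat.card {u : ↥(Cfsg.Lie.chevG2.posUnipotent K ⊓ Cfsg.Lie.twistedG2 K (3 ^ m)) // orderOf u = 3} = (3 ^ (2 * m + 1)) ^ 2 - 1 := by
  obtain ⟨R, -, h, -⟩ := exists_RC (Nat.card_eq_fintype_card.trans hK)
  rw [← hK, ← Nat.card_eq_fintype_card (α := K), ← R.ncard_U_three, ← Nat.card_coe_set_eq]
  refine Nat.card_congr ⟨fun x => ⟨⟨x.1.1, x.1.2.2⟩, h.ge x.1.2.1, ?_⟩,
    fun x => ⟨⟨x.1.1, h.le x.2.1, x.1.2⟩, ?_⟩, fun _ => rfl, fun _ => rfl⟩
  · rw [orderOf_mk, orderOf_coe]; exact x.2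
  · exact ((orderOf_mk _ _).trans (orderOf_coe x.1)).trans x.2.2

end Cfsg.Agent.S1154
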