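import Cfsg.Statements.S1158
import Cfsg.Agent.Ree.Inst

set_option autoImplicit false
open Cfsg

namespace Cfsg.Agent.S1158

open Cfsg.Agent.Ree Subgroup

theorem key {K G : Type*} [Field K] [Finite K] [Group G] {R : RD K G} (M : Subgroup G) (hM : R.IsTor M) (k n : ℕ)
    (h1 : Nat.card M = k) (h2 : Nat.card (normalizer (M : Set G)) = n) : ∃ A : Subgroup G,
      IsCyclic A ∧ Nat.card A = k ∧ Nat.card (normalizer (A : Set G)) = n ∧
        ∀ A₀ ≤ A, A₀ ≠ ⊥ → normalizer (A₀ : Set G) = normalizer (A : Set G) :=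
  ⟨M, hM.isCyclic, h1, h2, fun _ => hM.normalizer_eq⟩

/-- In the small Ree group ²G₂(q), q = 3^(2m+1) with m ≥ 1, realised as G¹ inside the Chevalley group G₂ over the field with q elements (θ the 3^m-th power map), with `r = 3^(m+1)` (so `r² = 3q`): for each `k ∈ {(q-1)/2, (q+1)/4, q - r + 1, q + r + 1}` there is a cyclic subgroup `A` of order `k` whose normaliser has order `2(q-1)`, `6(q+1)`, `6(q-r+1)`, `6(q+r+1)` respectively, and `N(A₀) = N(A)` for every non-trivial `A₀ ≤ A`. -/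
theorem result {K : Type*} [Field K] [Fintype K] {m : ℕ} (hm : 1 ≤ m) (hK : Fintype.card K = 3 ^ (2 * m + 1)) :
    ∀ kn ∈ ({((3 ^ (2 * m + 1) - 1) / 2, 2 * (3 ^ (2 * m + 1) - 1)), ((3 ^ (2 * m + 1) + 1) / 4, 6 * (3 ^ (2 * m + 1) + 1)),
        (3 ^ (2 * m + 1) - 3 ^ (m + 1) + 1, 6 * (3 ^ (2 * m + 1) - 3 ^ (m + 1) + 1)),
        (3 ^ (2 * m + 1) + 3 ^ (m + 1) + 1, 6 * (3 ^ (2 * m + 1) + 3 ^ (m + 1) + 1))} : Set (ℕ × ℕ)),
      ∃ A : Subgroup ↥(Cfsg.Lie.twistedG2 K (3 ^ m)), IsCyclic A ∧ Nat.card A = kn.1 ∧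
        Nat.card (Subgroup.normalizer (A : Set ↥(Cfsg.Lie.twistedG2 K (3 ^ m)))) = kn.2 ∧
        ∀ A₀ : Subgroup ↥(Cfsg.Lie.twistedG2 K (3 ^ m)), A₀ ≤ A → A₀ ≠ ⊥ →
          Subgroup.normalizer (A₀ : Set ↥(Cfsg.Lie.twistedG2 K (3 ^ m))) = Subgroup.normalizer (A : Set ↥(Cfsg.Lie.twistedG2 K (3 ^ m))) := by
  obtain ⟨R, h, -⟩ := exists_RC (Nat.card_eq_fintype_card.trans hK)
  rw [← hK, ← Nat.card_eq_fintype_card (α := K)]
  replace hm := hm.trans h.ge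
  obtain ⟨a, b, ha, hb, h1, h2, -⟩ := R.exists_pi hm
  rw [h] at h1 h2
  rintro _ (rfl | rfl | rfl | rfl)
  · exact key (R := R.toRD) _ (Or.inl ⟨1, (Sz.cj_one _).symm⟩) _ _ R.card_H0 (by rw [R.normalizer_H0 hm, R.card_N hm])
  · exact key (R := R.toRD) _ (Or.inr (Or.inl ⟨1, (Sz.cj_one _).symm⟩)) _ _ R.card_A (by rw [R.normalizer_A hm, R.card_NV])
  · exact key (R := R.toRD) _ (Or.inr (Or.inr ⟨b, hb, rfl⟩)) _ _ h2 (by rw [R.card_normalizer_pi hm hb, h2])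
  · exact key (R := R.toRD) _ (Or.inr (Or.inr ⟨a, ha, rfl⟩)) _ _ h1 (by rw [R.card_normalizer_pi hm ha, h1])

end Cfsg.Agent.S1158
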