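import Cfsg.Statements.S1174
import Cfsg.Agent.ZC.Ext

set_option autoImplicit false
open Cfsg

namespace Cfsg.Agent.S1174

open ZD SE BG Subgroup MulAction

/-- Let X be a finite simple group, S a Sylow 2-subgroup and T ≠ 1 a subgroup strongly closed in S. If the subgroup generated by the centralizers C_X(t) of the involutions t of T is proper in X, then X has a strongly embedded subgroup. -/
theorem result {X : Type*} [Group X] [Finite X] [IsSimpleGroup X] (S : Sylow 2 X) (T : Subgroup X) (hT1 : T ≠ ⊥) (hT : Cfsg.IsStronglyClosed T (S : Subgroup X)) (hprop : (⨆ t : {t : X // t ∈ T ∧ orderOf t = 2}, Subgroup.centralizer ({(t : X)} : Set X)) ≠ ⊤) : ∃ H : Subgroup X, Cfsg.IsStronglyEmbedded H := by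
  set J := ⨆ t : {t : X // t ∈ T ∧ orderOf t = 2}, centralizer ({(t : X)} : Set X)
  have hJ : ∀ t ∈ T, orderOf t = 2 → C1[t] ≤ J := fun t h1 h2 =>
    le_iSup (fun t : {t : X // t ∈ T ∧ orderOf t = 2} => centralizer ({(t : X)} : Set X)) ⟨t, h1, h2⟩
  have hT2 : IsPGroup 2 T := S.isPGroup'.to_le hT.1
  obtain ⟨z, hz, hz2⟩ := Invol.exists_invol_mem_of_isPGroup hT2 hT1
  obtain ⟨g, hg⟩ : ∃ g, g ∉ N[J] := by
    by_contra! H
    rcases IsSimpleGroup.eq_bot_or_eq_top_of_normal J (normalizer_eq_top_iff.1 (eq_top_iff.2 fun g _ => H g)) with e | e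
    exacts [Invol.ne_one_of hz2 (e.le (hJ z hz hz2 (cent1_self z))), hprop e]
  have hC : ∀ s ∈ T, s ≠ 1 → C1[s] ≤ N[J] := fun s hs h1 => by
    obtain ⟨m, hm⟩ := (two_of_mem hT2 hs).exists_invol h1
    exact fun x hx => normG _ (hJ _ (pow_mem hs m) hm (mem_cent1.2 (Commute.pow_right (mem_cent1.1 hx) m)))
  have h := pc_of_closed (sylowIn_top S) hT hC fun n hn => mem_norm_of_cj_le (cj_le_iff.2 (iSup_le fun t =>
    cj_le_iff.1 (C1_conj n t ▸ hJ _ (conj_mem_of_norm hn t.2.1) (conj_two t.2.2 n))))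
  have hzZ : z ∈ ZI T := ⟨hz2, 1, by simpa⟩
  have ha := smul_pt.2 (hC z hz (Invol.ne_one_of hz2) (cent1_self z))
  exact ⟨_, (h.one hzZ ha (h.conj z hzZ g) fun e => hg (smul_pt.1 (h.eq_of_conj hzZ ha e))).se hz2 ha
    fun e => hg (smul_pt.1 e)⟩

end Cfsg.Agent.S1174
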