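import Cfsg.Statements.S1237
import Cfsg.Agent.ABG.Rk2

set_option autoImplicit false
open Cfsg

namespace Cfsg.Agent.S1237

open Cfsg.Agent.ABG Cfsg.Agent.Rank1 Cfsg.Agent.Invol Subgroup

/-- Let T be a finite 2-group of 2-rank exactly 2 (it has a Klein four-subgroup but no elementary abelian subgroup of order 8) admitting an automorphism φ such that any two involutions of T are carried to one another by a power of φ. Then T ≅ Z_{2^n} × Z_{2^n} for some n ≥ 1, or T is isomorphic to a Sylow 2-subgroup of PSU(3) over the field with 16 elements. -/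
theorem result {T : Type*} [Group T] [Finite T] (hT : IsPGroup 2 T) (h2 : Cfsg.PRankLE 2 2 T) (h1 : ¬ Cfsg.PRankLE 2 1 T) (φ : MulAut T) (htrans : ∀ s t : T, orderOf s = 2 → orderOf t = 2 → ∃ k : ℕ, (φ ^ k) s = t) {F : Type*} [Field F] [Fintype F] (hF : Fintype.card F = 16) (P : Sylow 2 (Cfsg.PSU 3 F 4)) : (∃ n : ℕ, 1 ≤ n ∧ Nonempty (T ≃* Multiplicative (ZMod (2 ^ n) × ZMod (2 ^ n)))) ∨ Nonempty (T ≃* (P : Subgroup (Cfsg.PSU 3 F 4))) := by
  simp only [PRankLE, not_forall, not_le] at h1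
  obtain ⟨A, -, hA, h3⟩ := h1
  have hc := central_of_trans hT fun x y hx hy => let ⟨_, hk⟩ := htrans x y hx hy; ⟨_, hk⟩
  have h4 := (card_le_of_le (K := Om T) fun x hx => mem_Om_of (pow_two x ▸ hA x hx)).trans_eq (card_Om_eq hc)
  obtain ⟨⟨a, ha⟩, ⟨b, hb⟩, hab⟩ := Finite.one_lt_card_iff_nontrivial.1 (by omega : 1 < Nat.card {x : T // orderOf x = 2})
  have hab : a ≠ b := fun e => hab (Subtype.ext e)
  have k : φ (φ a) ≠ a := fun e => by
    have k : ∀ n, (φ ^ n) a = a ∨ (φ ^ n) a = φ a := fun n => by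
      induction n with
      | zero => exact .inl rfl
      | succ n ih => rcases ih with h | h <;> simp [pow_succ', h, e]
    obtain ⟨i, hi⟩ := htrans a b ha hb
    obtain ⟨j, hj⟩ := htrans a _ ha (orderOf_mul_of_commute (mul_self_of ha) (mul_self_of hb)
      (mem_center_iff.1 (hc b (mul_self_of hb)) a) hab)
    have := (hi ▸ k i).resolve_left hab.symm
    rcases hj ▸ k j with h | h
    exacts [ne_one_of hb (by simpa using h), ne_one_of ha (by simpa [← this] using h)]
  have h := tri_of hT h2 ha (hc a (mul_self_of ha)) (fun e => k (by rw [e, e])) k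
  by_cases hnc : Comm (⊤ : Subgroup T)
  · obtain ⟨n, h1, -, h2, -⟩ := h.homo hnc
    exact .inl ⟨n, h1, h2⟩
  · obtain ⟨_, _, h', hnc'⟩ := tri_psu hF P
    exact .inr (h.equiv hnc h' hnc')

end Cfsg.Agent.S1237
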