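import Cfsg.Statements.S1249
import Cfsg.Agent.Invol.StrongEmb

set_option autoImplicit false
open Cfsg

namespace Cfsg.Agent.S1249

/-- Let P and Q be Sylow p-subgroups of the finite group G both containing the subgroup A. If A is strongly closed in P, then A is strongly closed in Q. -/
theorem result {G : Type*} [Group G] [Finite G] {p : ℕ} [Fact p.Prime] (P Q : Sylow p G) (A : Subgroup G) (hAQ : A ≤ Q) (hA : Cfsg.IsStronglyClosed A (P : Subgroup G)) : Cfsg.IsStronglyClosed A (Q : Subgroup G) := by
  open Cfsg.Agent.Invol in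
  obtain ⟨k, hk⟩ := exists_conj_into_sylow Q.isPGroup' P
  have h1 : k ∈ Subgroup.normalizer (A : Set G) :=
    mem_normalizer_of_conj_mem fun x hx => hA.2 x hx k (hk x (hAQ hx))
  refine ⟨hAQ, fun x hx g hg => ?_⟩
  have h2 := hA.2 x hx (k * g) (by
    have : _ ∈ (P : Subgroup G) := hk _ hg
    convert this using 1; group)
  rw [Subgroup.mem_normalizer_iff.1 h1]
  convert h2 using 1; group

end Cfsg.Agent.S1249
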