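import Cfsg.Statements.S1250
import Cfsg.Agent.Invol.StrongEmb
import Cfsg.Agent.Transfer.SylowIn

set_option autoImplicit false
open Cfsg

namespace Cfsg.Agent.S1250

/-- Let S be a Sylow p-subgroup of the finite group G, A ≤ S strongly closed in S, and N a normal subgroup. Then the image of A in G ⧸ N is strongly closed in the image of S (which is a Sylow p-subgroup of G ⧸ N). -/
theorem result {G : Type*} [Group G] [Finite G] {p : ℕ} [Fact p.Prime] (S : Sylow p G) (A : Subgroup G) (hA : Cfsg.IsStronglyClosed A (S : Subgroup G)) (N : Subgroup G) [N.Normal] : Cfsg.IsStronglyClosed (A.map (QuotientGroup.mk' N)) ((S : Subgroup G).map (QuotientGroup.mk' N)) := by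
  open Cfsg.Agent.Invol in
  refine ⟨Subgroup.map_mono hA.1, ?_⟩
  rintro _ ⟨a, ha, rfl⟩ g ⟨s, hs, hg⟩
  obtain ⟨g, rfl⟩ := QuotientGroup.mk'_surjective N g
  rw [← map_inv, ← map_mul, ← map_mul] at hg ⊢
  have h1 : g * a * g⁻¹ ∈ (S : Subgroup G) ⊔ N := by
    obtain ⟨n, hn, he⟩ := (QuotientGroup.mk'_eq_mk' N).1 hg
    exact he ▸ Subgroup.mul_mem_sup hs hn
  obtain ⟨k, hk⟩ := S.isPGroup' ⟨a, hA.1 ha⟩
  have hk' : (g * a * g⁻¹) ^ p ^ k = 1 := by
    rw [conj_pow, show a ^ p ^ k = 1 from congrArg Subtype.val hk]; simp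
  obtain ⟨x, hx, h2⟩ := (Transfer.isSylowIn_of_sylow_le S (le_sup_left : _ ≤ (S : Subgroup G) ⊔ N)).exists_conj_le
    (isPGroup_zpowers hk') (Subgroup.zpowers_le.2 h1)
  have h3 := Transfer.conj_smul_le_iff.1 h2 _ (Subgroup.mem_zpowers _)
  have h4 := hA.2 a ha (x * g) (by convert h3 using 1; group)
  obtain ⟨t, ht, n, hn, rfl⟩ := Subgroup.mem_sup_of_normal_right.1 hx
  have h5 := hA.2 _ h4 t⁻¹ (mul_mem (mul_mem (inv_mem ht) (hA.1 h4)) (inv_mem (inv_mem ht)))
  refine ⟨_, h5, ?_⟩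
  have hn1 : QuotientGroup.mk' N n = 1 := (QuotientGroup.eq_one_iff n).2 hn
  simp only [map_mul, map_inv, hn1]
  group

end Cfsg.Agent.S1250
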