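import Cfsg.Statements.S1251
import Cfsg.Agent.Invol.ZS
import Cfsg.Agent.S1249

set_option autoImplicit false
open Cfsg

namespace Cfsg.Agent.S1251

/-- Let S be a Sylow 2-subgroup of the finite group G and A ≤ S strongly closed in S. If H is a subgroup normalized by A with no nontrivial normal subgroup of odd order and A ∩ H = 1, then A ≤ C_G(H). -/
theorem result {G : Type*} [Group G] [Finite G] (S : Sylow 2 G) (A : Subgroup G) (hA : Cfsg.IsStronglyClosed A (S : Subgroup G)) (H : Subgroup G) (hAH : A ≤ Subgroup.normalizer (H : Set G)) (hO : Cfsg.oddCore ↥H = ⊥) (hdisj : A ⊓ H = ⊥) : A ≤ Subgroup.centralizer (H : Set G) := by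
  open Cfsg.Agent.Invol in
  have : Fact (Nat.Prime 2) := ⟨Nat.prime_two⟩
  have hAp : IsPGroup 2 A := S.isPGroup'.to_le hA.1
  intro a ha
  obtain ⟨n, hn⟩ := hAp ⟨a, ha⟩
  refine mem_of_sq_mem (q := fun a => a ∈ A) (fun a h => mul_mem h h) (fun a ha h2 => ?_)
    (congrArg Subtype.val hn) ha
  obtain ⟨n, hn⟩ := hAp ⟨a, ha⟩
  refine mem_centralizer_of_sq hO (congrArg Subtype.val hn) (hAH ha) h2
    (le_bot_iff.1 (hdisj ▸ inf_le_inf_right _ (Subgroup.zpowers_le_of_mem ha))) fun h hh hp => ?_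
  obtain ⟨T, hT, hAT⟩ := Transfer.exists_isSylowIn_ge hAp (le_sup_right : A ≤ H ⊔ A)
  obtain ⟨Q, hQ⟩ := hT.isPGroup.exists_le_sylow
  have hA' := Cfsg.Agent.S1249.result S Q A (hAT.trans hQ) hA
  obtain ⟨x, hx, hc⟩ := hT.exists_conj_le hp (by
    rw [Subgroup.closure_le]
    rintro y (rfl | rfl)
    · exact Subgroup.mem_sup_right ha
    · exact mul_mem (mul_mem (Subgroup.mem_sup_left hh) (Subgroup.mem_sup_right ha)) (Subgroup.mem_sup_left (inv_mem hh)))
  rw [Transfer.conj_smul_le_iff] at hc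
  have h3 := hA'.2 a ha x (hQ (hc a (Subgroup.subset_closure (by simp))))
  have h4 := hA'.2 a ha (x * h) (by
    have := hQ (hc (h * a * h⁻¹) (Subgroup.subset_closure (by simp)))
    convert this using 1; group)
  have hxn : x ∈ Subgroup.normalizer (H : Set G) := (sup_le Subgroup.le_normalizer hAH : H ⊔ A ≤ _) hx
  have h5 : h * a * h⁻¹ * a⁻¹ ∈ H := by
    have := mul_mem hh ((Subgroup.mem_normalizer_iff.1 (hAH ha) _).1 (inv_mem hh))
    convert this using 1; group
  have h6 : x * (h * a * h⁻¹ * a⁻¹) * x⁻¹ ∈ A ⊓ H :=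
    Subgroup.mem_inf.2 ⟨by convert mul_mem h4 (inv_mem h3) using 1; group, (Subgroup.mem_normalizer_iff.1 hxn _).1 h5⟩
  rw [hdisj, Subgroup.mem_bot, mul_inv_eq_one, mul_eq_left, mul_inv_eq_one] at h6
  exact h6

end Cfsg.Agent.S1251
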