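import Cfsg.Statements.S1294
import Cfsg.Agent.Sig.Sf6
import Cfsg.Agent.Sig.Sf5

set_option autoImplicit false
open Cfsg

namespace Cfsg.Agent.S1294

open Subgroup Cfsg.Agent.BG Cfsg.Agent.Sig

/-- Let G be finite with O_{p'}(G) = 1 and p-rank at least 3, whose reduced rank-2 commuting graph for p is connected. Let θ assign to every element a of order p with m_p(C_G(a)) ≥ 3 a solvable subgroup θ a ≤ C_G(a) of order prime to p, so that θ (g a g⁻¹) = g (θ a) g⁻¹ for all g and θ a ∩ C_G(b) ≤ θ b for commuting such a, b. Then θ a = 1 for every such a. -/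
theorem result {G : Type*} [Group G] [Finite G] (p : ℕ) [Fact p.Prime] (hO : Cfsg.pPrimeCore p G = ⊥) (hrk : ¬ Cfsg.PRankLE p 2 G) (hconn : Cfsg.IsRankGraphConnected p 2 G) (θ : G → Subgroup G) (hC : ∀ a : G, (orderOf a = p ∧ ¬ Cfsg.PRankLE p 2 ↥(Subgroup.centralizer ({a} : Set G))) → θ a ≤ Subgroup.centralizer ({a} : Set G) ∧ ¬ p ∣ Nat.card ↥(θ a) ∧ Group.IsSolvable ↥(θ a)) (heq : ∀ a g : G, (orderOf a = p ∧ ¬ Cfsg.PRankLE p 2 ↥(Subgroup.centralizer ({a} : Set G))) → θ (g * a * g⁻¹) = (θ a).map (MulAut.conj g).toMonoidHom) (hbal : ∀ a b : G, (orderOf a = p ∧ ¬ Cfsg.PRankLE p 2 ↥(Subgroup.centralizer ({a} : Set G))) → (orderOf b = p ∧ ¬ Cfsg.PRankLE p 2 ↥(Subgroup.centralizer ({b} : Set G))) → a * b = b * a → θ a ⊓ Subgroup.centralizer {b} ≤ θ b) (a : G) (ha : (orderOf a = p ∧ ¬ Cfsg.PRankLE p 2 ↥(Subgroup.centralizer ({a} : Set G)))) : θ a = ⊥ := by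
  have good : ∀ A : Subgroup G, Abelem p A → p ^ 3 ≤ #A → ∀ x ∈ A, x ≠ 1 → orderOf x = p ∧ ¬ PRankLE p 2 C1[x] :=
    fun A hA h3 x hx h1 => ⟨abelem_order_p hA hx h1, not_rank_of_abelem hA (le_cent1_iff.2 (hA.cent hx)) h3⟩
  have sf : ∀ A : Subgroup G, Abelem p A → p ^ 3 ≤ #A → SF p A θ := fun A hA h3 =>
    ⟨hA, fun x hx h1 => (hC x (good A hA h3 x hx h1)).1,
      fun x hx h1 => (p'natE Fact.out).2 (hC x (good A hA h3 x hx h1)).2.1, fun x hx h1 g hg => mem_norm.2 (by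
        rw [cj_def, ← heq x g (good A hA h3 x hx h1), conj_eq_of_cent (hA.cent hg) hx]),
      fun x hx h1 y hy h2 => hbal x y (good A hA h3 x hx h1) (good A hA h3 y hy h2) (hA.abelian.comm hx hy),
      fun x hx h1 => (hC x (good A hA h3 x hx h1)).2.2⟩
  obtain ⟨E, hE, hA, h3⟩ := exists_abelem_of_rank ha.2
  have ap : a ^ p = 1 := ha.1 ▸ pow_orderOf_eq_one a
  have hV : Abelem p (E ⊔ zpowers a) := abelemY hA (cycle_abelem ap) (C_zpowers a ▸ hE)
  have hV3 : p ^ 3 ≤ #(E ⊔ zpowers a) := h3.trans (card_le_card le_sup_left)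
  set V := E ⊔ zpowers a with hVe
  have vx : ∀ U : Subgroup G, Abelem p U → p ^ 3 ≤ #U → IsRankGraphVertex p 2 U := fun U h1 h2 =>
    ⟨h1, sq_le_of_cube h2, not_rank_of_abelem h1 h1.cent h2⟩
  have key : ∀ U, Relation.ReflTransGen (fun A B : Subgroup G => IsRankGraphVertex p 2 A ∧ IsRankGraphVertex p 2 B ∧
      ∀ a ∈ A, ∀ b ∈ B, a * b = b * a) V U → Cl V θ = Cl U θ := fun U h => by
    induction h with
    | refl => rfl
    | tail _ h ih =>
      have c := BG.le_cent_iff.2 h.2.2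
      exact ih.trans (Cl_eq_of_comm h.1.1 h.2.1.1 c h.1.2.1 h.2.1.2.1 (sf _ (abelemY h.1.1 h.2.1.1 c)))
  have n : Cl V θ ⊴ ⊤ := ⟨le_top, fun g _ => mem_norm.2 (by
    rw [← Cl_cj fun x hx h1 => heq x g (good V hV hV3 x hx h1)]
    exact (key _ (hconn _ _ (vx V hV hV3) (vx _ (abelemJ g hV) (by rwa [card_cj])))).symm)⟩
  have := pcore_max n ((sf V hV hV3).complete hV3).pp
  rw [← Op', Op'_top, hO] at this
  exact le_bot_iff.1 ((le_Cl (mem_sup_right (mem_zpowers a)) fun e =>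
    (Fact.out : p.Prime).one_lt.ne (by simpa [e] using ha.1)).trans this)

end Cfsg.Agent.S1294
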