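import Cfsg.Statements.S1322
import Cfsg.Agent.Sig.Pump

set_option autoImplicit false
open Cfsg

namespace Cfsg.Agent.S1322

open Subgroup Cfsg.Agent.BG Cfsg.Agent.Sig

/-- Let G be finite with L_{2'}(G) = E(G), t an involution and L ≤ C_G(t) a component of C_G(t). Then there is a component D of G with: L = D; or L < D and D = ⁅D, ⟨t⟩⁆; or tDt⁻¹ ≠ D and L is the layer of C_{D ⊔ tDt⁻¹}(t). -/
theorem result {G : Type*} [Group G] [Finite G] (hL2 : Cfsg.pLayer 2 G = Cfsg.layer G) (t : G) (ht : orderOf t = 2) (L : Subgroup G) (hLt : L ≤ Subgroup.centralizer ({t} : Set G)) (hL : Cfsg.IsComponent (L.subgroupOf (Subgroup.centralizer ({t} : Set G)))) : ∃ D : Subgroup G, Cfsg.IsComponent D ∧ (L = D ∨ (L < D ∧ D = ⁅D, Subgroup.zpowers t⁆) ∨ (D.map (MulAut.conj t).toMonoidHom ≠ D ∧ L = (Cfsg.layer ↥((D ⊔ D.map (MulAut.conj t).toMonoidHom) ⊓ Subgroup.centralizer ({t} : Set G))).map ((D ⊔ D.map (MulAut.conj t).toMonoidHom)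 ⊓ Subgroup.centralizer ({t} : Set G)).subtype)) := by
  have h2 := mul_self_of_two ht
  have hL' : CompIn L (⊤ ⊓ C1[t]) := by rw [top_inf_eq]; exact (isComponent_subgroupOf_iff hLt).1 hL
  have hn : t ∈ N[(⊤ : Subgroup G)] := normG _ trivial
  obtain ⟨D, hD, h⟩ := pumpup h2 hn hL' (by
    rw [layerIn_top, ← hL2, ← pLayerIn_top]; exact hL'.le_pLayerIn2' h2 hn)
  exact ⟨D, compIn_top_iff.1 hD, h.imp_right (Or.imp (fun h => ⟨h.1, h.2.symm⟩) fun h => ⟨h.1, h.2.1⟩)⟩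

end Cfsg.Agent.S1322
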