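import Cfsg.Statements.S1323
import Cfsg.Agent.Sig.Quasi
import Cfsg.Agent.Solv.Basic
import Mathlib.GroupTheory.SpecificGroups.Alternating.Simple

set_option autoImplicit false
open Cfsg

namespace Cfsg.Agent.S1323

open Subgroup Equiv Equiv.Perm
open scoped Pointwise

section
variable {α : Type*} [Fintype α] [DecidableEq α]

/-- even permutations supported on `s` -/
abbrev AA (s : Finset α) : Subgroup (alternatingGroup α) := (alternatingGroup.ofSubtype s).range

lemma mem_AA' {s : Finset α} {k : alternatingGroup α} : k ∈ AA s ↔ k.1.support ⊆ s :=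
  alternatingGroup.mem_range_ofSubtype_iff s k

lemma mem_AA {s : Finset α} {k : alternatingGroup α} : k ∈ AA s ↔ ∀ x ∉ s, k.1 x = x := by
  rw [mem_AA']
  constructor
  · intro h x hx
    by_contra h1
    exact hx (h (mem_support.mpr h1))
  · intro h x hx
    by_contra h1
    exact mem_support.mp hx (h x h1)

lemma cyc {x y z : α} (h1 : x ≠ y) (h2 : x ≠ z) (h3 : y ≠ z) :
    ∃ c : alternatingGroup α, c.1.support = {x, y, z} :=
  ⟨⟨swap x y * swap y z, mul_mem_alternatingGroup_of_isSwap ⟨x, y, h1, rfl⟩ ⟨y, z, h3, rfl⟩⟩,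
    support_swap_mul_swap (by simp [h1, h2, h3])⟩

lemma exists_moving {s : Finset α} (hs : 3 ≤ s.card) {x : α} (hx : x ∈ s) :
    ∃ c ∈ AA s, c.1 x ≠ x := by
  obtain ⟨y, hy, z, hz, hyz⟩ := Finset.one_lt_card.mp
    (show 1 < (s.erase x).card by rw [Finset.card_erase_of_mem hx]; omega)
  rw [Finset.mem_erase] at hy hz
  obtain ⟨c, hc⟩ := cyc hy.1.symm hz.1.symm hyz
  refine ⟨c, mem_AA'.mpr ?_, mem_support.mp (by simp [hc])⟩
  rw [hc]; intro w hw
  simp only [Finset.mem_insert, Finset.mem_singleton] at hw
  rcases hw with rfl | rfl | rfl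
  exacts [hx, hy.2, hz.2]

lemma cent {s : Finset α} (hs : 4 ≤ s.card) :
    centralizer (AA s : Set (alternatingGroup α)) = AA sᶜ := by
  ext g
  constructor
  · intro hg
    rw [mem_AA]
    intro x hx
    rw [Finset.mem_compl, not_not] at hx
    by_contra hgx
    obtain ⟨y, hy, z, hz, hyz⟩ := Finset.one_lt_card.mp
      (show 1 < ((s.erase x).erase (g.1 x)).card by
        have := Finset.pred_card_le_card_erase (s := s.erase x) (a := g.1 x)
        rw [Finset.card_erase_of_mem hx] at this; omega)
    simp only [Finset.mem_erase] at hy hz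
    obtain ⟨c, hc⟩ := cyc hy.2.1.symm hz.2.1.symm hyz
    have hcs : c ∈ AA s := by
      rw [mem_AA', hc]; intro w hw
      simp only [Finset.mem_insert, Finset.mem_singleton] at hw
      rcases hw with rfl | rfl | rfl
      exacts [hx, hy.2.2, hz.2.2]
    have h1 : c.1 (g.1 x) = g.1 (c.1 x) := congrArg (fun k : alternatingGroup α => k.1 x) (hg c hcs)
    have h2 : c.1 x ≠ x := mem_support.mp (by simp [hc])
    have h3 : c.1 (g.1 x) = g.1 x := by
      rw [← notMem_support, hc]
      simp only [Finset.mem_insert, Finset.mem_singleton, not_or]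
      exact ⟨hgx, hy.1.symm, hz.1.symm⟩
    exact h2 (g.1.injective (h1.symm.trans h3))
  · intro hg c hc
    apply Subtype.ext
    refine (Perm.Disjoint.commute ?_).eq
    intro x
    by_cases hx : x ∈ s
    · exact Or.inr (mem_AA.mp hg x (by simpa using hx))
    · exact Or.inl (mem_AA.mp hc x hx)

lemma conj_AA (s : Finset α) (g : alternatingGroup α) :
    (AA s).map (MulAut.conj g).toMonoidHom = AA (g • s) :=
  alternatingGroup.conj_smul_range_ofSubtype s g

lemma qs_AA {s : Finset α} (hs : 5 ≤ s.card) : IsQuasisimple (AA s) := by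
  haveI : IsSimpleGroup (alternatingGroup s) := alternatingGroup.isSimpleGroup (by simpa using hs)
  haveI : IsSimpleGroup (AA s) :=
    (MonoidHom.ofInjective (alternatingGroup.ofSubtype_injective (s := s))).symm.isSimpleGroup
  apply Sig.qs_of_simple
  intro h
  obtain ⟨x, hx⟩ : s.Nonempty := Finset.card_pos.mp (by omega)
  obtain ⟨c, hc, hcx⟩ := exists_moving (by omega) hx
  have : c ∈ centralizer (AA s : Set (alternatingGroup α)) := by
    intro d hd
    exact congrArg Subtype.val (h.is_comm.comm (⟨d, hd⟩ : AA s) ⟨c, hc⟩)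
  rw [cent (by omega)] at this
  exact hcx (mem_AA.mp this x (by simpa using hx))

lemma norm_of {s : Finset α} {g : alternatingGroup α} (h : g • s = s) :
    g ∈ normalizer (AA s : Set (alternatingGroup α)) := by
  rw [mem_normalizer_iff_map_conj_eq]
  have := conj_AA s g
  rwa [h] at this

lemma four_le {u : alternatingGroup α} (hu : orderOf u = 2) : 4 ≤ u.1.support.card := by
  have ho : orderOf u.1 = 2 := by rw [← hu]; exact Subgroup.orderOf_coe u
  by_contra h
  have h1 : ¬ u.1.support.card ≤ 1 := by
    rw [card_support_le_one]; intro h0; rw [h0] at ho; simp at ho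
  have h2 : u.1.support.card ≠ 2 := by
    rw [Ne, card_support_eq_two]; intro h0
    have := mem_alternatingGroup.mp u.2
    rw [h0.sign_eq] at this; exact absurd this (by decide)
  have h3 : u.1.support.card ≠ 3 := by
    rw [Ne, card_support_eq_three_iff]; intro h0
    rw [h0.orderOf] at ho; omega
  omega

end

/-- For n ≥ 9, the subgroup of the alternating group on Fin n fixing each of the points 0, 1, 2, 3 is a standard subgroup. -/
theorem result (n : ℕ) (h4 : 4 ≤ n) (hn : 9 ≤ n) : Cfsg.IsStandardSubgroup (⨅ i : Fin 4, MulAction.stabilizer ↥(alternatingGroup (Fin n)) (Fin.castLE h4 i : Fin n)) := by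
  let D : Finset (Fin n) := Finset.univ.map ⟨Fin.castLE h4, Fin.castLE_injective h4⟩
  have hD : D.card = 4 := by simp [D]
  have hDc : Dᶜ.card = n - 4 := by rw [Finset.card_compl, hD]; simp
  have hL : (⨅ i : Fin 4, MulAction.stabilizer ↥(alternatingGroup (Fin n))
      (Fin.castLE h4 i : Fin n)) = AA Dᶜ := by
    ext g
    rw [mem_AA, mem_iInf]
    simp only [D, Finset.mem_compl, not_not, Finset.mem_map, Finset.mem_univ, true_and]
    constructor
    · rintro h x ⟨i, rfl⟩; exact h i
    · intro h i; exact h _ ⟨i, rfl⟩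
  have hC : centralizer (AA Dᶜ : Set (alternatingGroup (Fin n))) = AA D := by
    rw [cent (by omega), compl_compl]
  haveI : Fact (Nat.Prime 2) := ⟨Nat.prime_two⟩
  rw [hL]
  refine ⟨qs_AA (by omega), ⟨?_, ?_⟩, ?_, ?_⟩
  · rw [hC, ← Nat.card_congr
      (MonoidHom.ofInjective (alternatingGroup.ofSubtype_injective (s := D))).toEquiv]
    haveI : Nontrivial D := by
      rw [← Fintype.one_lt_card_iff_nontrivial]; simp [hD]
    have := two_mul_nat_card_alternatingGroup (α := D)
    rw [Nat.card_perm] at this
    simp only [Nat.card_eq_fintype_card, Fintype.card_coe, hD] at this ⊢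
    have h5 : Fintype.card (alternatingGroup D) = 12 := by
      simp only [Nat.factorial] at this; omega
    rw [h5]; decide
  · rw [hC]
    intro g hg
    by_contra hodd
    rw [Nat.not_odd_iff_even, even_iff_two_dvd] at hodd
    obtain ⟨⟨u, hu0⟩, hu⟩ := exists_prime_orderOf_dvd_card' 2 hodd
    rw [Subgroup.orderOf_mk] at hu
    obtain ⟨hu1, hu2⟩ := mem_inf.mp hu0
    rw [conj_AA] at hu2
    have h5 := four_le hu
    have e1 := Finset.eq_of_subset_of_card_le (mem_AA'.mp hu1) (by omega)
    have e2 := Finset.eq_of_subset_of_card_le (mem_AA'.mp hu2)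
      (by rw [Finset.card_smul_finset]; omega)
    exact hg (norm_of (e2.symm.trans e1))
  · intro g _ h
    rw [commutator_comm, commutator_eq_bot_iff_le_centralizer, hC, conj_AA] at h
    have h5 : (g • Dᶜ).card = n - 4 := by rw [Finset.card_smul_finset, hDc]
    obtain ⟨x, hx, hxD⟩ := Finset.exists_mem_notMem_of_card_lt_card
      (show D.card < (g • Dᶜ).card by omega)
    obtain ⟨c, hc, hcx⟩ := exists_moving (by omega) hx
    exact hcx (mem_AA.mp (h hc) x hxD)
  · apply le_antisymm (Solv.normalizer_le_normalizer_centralizer _)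
    have := Solv.normalizer_le_normalizer_centralizer
      (centralizer (AA Dᶜ : Set (alternatingGroup (Fin n))))
    rwa [hC, cent (by omega), ← hC] at this

end Cfsg.Agent.S1323
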