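import Cfsg.Statements.S1339
import Cfsg.Agent.Sig.FStar

set_option autoImplicit false
open Cfsg

namespace Cfsg.Agent.S1339

open Matrix Subgroup

section
variable {F : Type*} [Field F] {n : ℕ}

lemma smul_eq' (g : SpecialLinearGroup (Fin n) F) (v : Fin n → F) : g • v = g.1 *ᵥ v := rfl

/-- the group of transvections with centre `e_i` -/
def QQ (i : Fin n) : Subgroup (SpecialLinearGroup (Fin n) F) where
  carrier := {g | g • (Pi.single i 1 : Fin n → F) = Pi.single i 1 ∧
    ∀ v : Fin n → F, ∃ c : F, g • v = v + c • Pi.single i 1}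
  one_mem' := ⟨one_smul _ _, fun v => ⟨0, by simp⟩⟩
  mul_mem' := by
    rintro g h ⟨g1, g2⟩ ⟨h1, h2⟩
    refine ⟨by rw [mul_smul, h1, g1], fun v => ?_⟩
    obtain ⟨c, hc⟩ := h2 v
    obtain ⟨d, hd⟩ := g2 v
    refine ⟨d + c, ?_⟩
    rw [mul_smul, hc, smul_add, smul_comm g c, g1, hd, add_smul, add_assoc]
  inv_mem' := by
    rintro g ⟨g1, g2⟩
    refine ⟨by rw [inv_smul_eq_iff, g1], fun v => ?_⟩
    obtain ⟨c, hc⟩ := g2 (g⁻¹ • v)
    rw [smul_inv_smul] at hc
    refine ⟨-c, ?_⟩
    conv_rhs => rw [hc]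
    simp

lemma tv_smul {i j : Fin n} (t : SpecialLinearGroup (Fin n) F)
    (ht : t.1 = Matrix.transvection i j 1) (v : Fin n → F) :
    t • v = v + v j • Pi.single i 1 := by
  rw [smul_eq', ht, Matrix.transvection, add_mulVec, one_mulVec, single_mulVec_eq, one_mul]

lemma ext_smul {g h : SpecialLinearGroup (Fin n) F} (e : ∀ v : Fin n → F, g • v = h • v) :
    g = h := Subtype.ext (Matrix.ext_of_mulVec_single fun i => e _)

end

/-- Let F be a field with 2 elements, n ≥ 3, and t ∈ SL(n, F) a transvection (t = 1 + E_{ij}, i ≠ j). Then the generalized Fitting subgroup of C(t) is O_2(C(t)). -/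
theorem result {F : Type*} [Field F] [Fintype F] [DecidableEq F] (hF : Fintype.card F = 2) (n : ℕ) (hn : 3 ≤ n) (i j : Fin n) (hij : i ≠ j) (t : Matrix.SpecialLinearGroup (Fin n) F) (ht : (t : Matrix (Fin n) (Fin n) F) = Matrix.transvection i j 1) : Cfsg.generalizedFittingSubgroup ↥(Subgroup.centralizer ({t} : Set (Matrix.SpecialLinearGroup (Fin n) F))) = Cfsg.pCore 2 ↥(Subgroup.centralizer ({t} : Set (Matrix.SpecialLinearGroup (Fin n) F))) := by
  have h01 : ∀ a : F, a ≠ 0 → a = 1 := by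
    intro a ha
    have := FiniteField.pow_card_sub_one_eq_one a ha
    simpa [hF] using this
  have h2 : (2 : F) = 0 := by
    have := FiniteField.cast_card_eq_zero F
    rw [hF] at this; exact_mod_cast this
  have he : (Pi.single i 1 : Fin n → F) ≠ 0 := by
    intro h; simpa using congrFun h i
  have hfix : ∀ k ∈ centralizer ({t} : Set (SpecialLinearGroup (Fin n) F)),
      k • (Pi.single i 1 : Fin n → F) = Pi.single i 1 := by
    intro k hk
    have h1 : t * k = k * t := hk t rfl
    have h3 := congrArg (· • (Pi.single j 1 : Fin n → F)) h1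
    simp only [mul_smul, tv_smul t ht, smul_add, Pi.single_eq_same, one_smul,
      add_right_inj] at h3
    have h4 : (k • (Pi.single j 1 : Fin n → F)) j ≠ 0 := by
      intro h0
      rw [h0, zero_smul] at h3
      exact he ((smul_eq_zero_iff_eq k).mp h3.symm)
    rw [← h3, h01 _ h4, one_smul]
  have hQK : QQ i ≤ centralizer ({t} : Set (SpecialLinearGroup (Fin n) F)) := by
    rintro g ⟨g1, g2⟩ _ rfl
    apply ext_smul
    intro v
    obtain ⟨c, hc⟩ := g2 v
    rw [mul_smul, mul_smul, tv_smul _ ht, tv_smul _ ht, smul_add, smul_comm g, g1, hc]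
    simp [Pi.single_eq_of_ne hij.symm]
  have hN : centralizer ({t} : Set (SpecialLinearGroup (Fin n) F)) ≤
      normalizer (QQ (F := F) i : Set (SpecialLinearGroup (Fin n) F)) := by
    have key : ∀ k ∈ centralizer ({t} : Set (SpecialLinearGroup (Fin n) F)), ∀ g ∈ QQ (F := F) i,
        k * g * k⁻¹ ∈ QQ (F := F) i := by
      rintro k hk g ⟨g1, g2⟩
      refine ⟨by rw [mul_smul, mul_smul, hfix _ (inv_mem hk), g1, hfix k hk], fun v => ?_⟩
      obtain ⟨c, hc⟩ := g2 (k⁻¹ • v)
      exact ⟨c, by rw [mul_smul, mul_smul, hc, smul_add, smul_inv_smul, smul_comm k, hfix k hk]⟩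
    intro k hk g
    refine ⟨key k hk g, fun h => ?_⟩
    have := key _ (inv_mem hk) _ h
    simpa [mul_assoc] using this
  have hP : IsPGroup 2 (QQ (F := F) i) := by
    rintro ⟨g, g1, g2⟩
    refine ⟨1, Subtype.ext (ext_smul fun v => ?_)⟩
    obtain ⟨c, hc⟩ := g2 v
    show (g ^ 2 ^ 1) • v = (1 : SpecialLinearGroup (Fin n) F) • v
    rw [pow_one, sq, mul_smul, hc, smul_add, smul_comm g, g1, hc, one_smul, add_assoc, ← two_smul F,
      h2, zero_smul, add_zero]
  have hle := Sig.le_pcIn hQK hN hP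
  haveI : Fact (Nat.Prime 2) := ⟨Nat.prime_two⟩
  rw [← Sig.fstarIn_eq_pcIn_iff_sub, Sig.fstarIn_eq_pcIn_iff]
  rintro g ⟨gK, gC⟩
  apply hle
  refine ⟨hfix g gK, fun v => ⟨(g • v - v) i, ?_⟩⟩
  ext a
  by_cases ha : a = i
  · subst ha; simp
  · let s : SpecialLinearGroup (Fin n) F :=
      ⟨Matrix.transvection i a 1, Matrix.det_transvection_of_ne i a (Ne.symm ha) 1⟩
    have hs : s ∈ QQ (F := F) i := by
      refine ⟨?_, fun w => ⟨w a, tv_smul s rfl w⟩⟩
      rw [tv_smul s rfl]; simp [Pi.single_eq_of_ne ha]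
    have h1 : s * g = g * s := gC s (hle hs)
    have h3 := congrArg (· • v) h1
    simp only [mul_smul, tv_smul s rfl, smul_add, smul_comm g, hfix g gK, add_right_inj] at h3
    have h4 := congrFun h3 i
    simpa [Pi.single_eq_of_ne ha] using h4

end Cfsg.Agent.S1339
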