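import Cfsg.Statements.S1340
import Cfsg.Agent.Low.CentInv

set_option autoImplicit false
open Cfsg

namespace Cfsg.Agent.S1340

open Matrix Subgroup Low.CI

/-- Let F be a finite field of odd order and n ≥ 3 with (n, |F|) ≠ (3, 3). Then GL(n, F) has a non-central involution t such that C(t) / O(C(t)) has a component. -/
theorem result {F : Type*} [Field F] [Fintype F] [DecidableEq F] (hF : Odd (Fintype.card F)) (n : ℕ) (hn : 3 ≤ n) (h33 : ¬ (n = 3 ∧ Fintype.card F = 3)) : ∃ t : Matrix.GeneralLinearGroup (Fin n) F, orderOf t = 2 ∧ t ∉ Subgroup.center (Matrix.GeneralLinearGroup (Fin n) F) ∧ Cfsg.HasComponent (↥(Subgroup.centralizer ({t} : Set (Matrix.GeneralLinearGroup (Fin n) F))) ⧸ Cfsg.oddCore ↥(Subgroup.centralizer ({t} : Set (Matrix.GeneralLinearGroup (Fin n) F)))) := by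
  obtain ⟨m, rfl⟩ : ∃ m, n = m + 1 := ⟨n - 1, by omega⟩
  have h2 := two_ne_zero_of_odd hF
  have hq : IsQuasisimple (Matrix.SpecialLinearGroup (Fin m) F) := by
    apply qs_SL
    by_cases h : m = 2
    · refine Or.inr ⟨h, ?_⟩
      have := Fintype.one_lt_card (α := F)
      obtain ⟨k, hk⟩ := hF
      rw [Nat.card_eq_fintype_card]
      omega
    · omega
  let t : GL (Fin (m + 1)) F := ⟨tM m F, tM m F, tM_mul_tM, tM_mul_tM⟩
  have hts : ∀ c, t.1 ≠ scalar _ c := tM_ne_scalar h2 (by omega)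
  haveI : Fact (Nat.Prime 2) := ⟨Nat.prime_two⟩
  refine ⟨t, orderOf_eq_prime (Units.ext (by rw [sq]; exact tM_mul_tM)) (fun h => hts 1 (by simp [h])),
    ?_, ?_⟩
  · intro h
    obtain ⟨c, hc⟩ := scalar_of_comm_SL (A := t.1) fun B =>
      congrArg Units.val (mem_center_iff.mp h (Matrix.SpecialLinearGroup.toGL B))
    exact hts c hc
  let ρ0 : Matrix.SpecialLinearGroup (Fin m) F →* GL (Fin (m + 1)) F :=
    (Matrix.SpecialLinearGroup.toGL.comp (phi m F)).comp Matrix.SpecialLinearGroup.toGL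
  have hρ0 : ∀ B, (ρ0 B).1 = blk B.1 1 := by
    intro B
    show blk B.1 (B.1.det)⁻¹ = _
    rw [B.2, inv_one]
  let ρ : Matrix.SpecialLinearGroup (Fin m) F →* centralizer ({t} : Set (GL (Fin (m + 1)) F)) :=
    ρ0.codRestrict _ (fun B => by
      rw [mem_centralizer_singleton_iff]
      apply Units.ext
      rw [Units.val_mul, Units.val_mul, hρ0]
      exact (comm_blk _ _).symm)
  have hρi : Function.Injective ρ := by
    intro A B h
    have h1 : (ρ0 A).1 = (ρ0 B).1 := congrArg (fun x => x.1.1) h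
    rw [hρ0, hρ0] at h1
    exact Subtype.ext (blk_inj h1).1
  have hN : ρ.range.Normal := by
    constructor
    rintro _ ⟨B, rfl⟩ ⟨g, hg⟩
    have hg' := mem_centralizer_singleton_iff.mp (inv_mem hg)
    have hg'' := mem_centralizer_singleton_iff.mp hg
    obtain ⟨A, c, hA⟩ := exists_blk h2 (M := g.1) (congrArg Units.val hg'').symm
    obtain ⟨A', c', hA'⟩ := exists_blk h2 (M := (g⁻¹).1) (congrArg Units.val hg').symm
    have h1 : blk A c * blk A' c' = blk 1 1 := by rw [← hA, ← hA', blk_one]; simp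
    rw [blk_mul] at h1
    obtain ⟨h3, h4⟩ := blk_inj h1
    refine ⟨⟨A * B.1 * A', by
      rw [det_mul, det_mul, B.2, mul_one, ← det_mul, h3, det_one]⟩, Subtype.ext (Units.ext ?_)⟩
    refine (hρ0 _).trans ?_
    show blk (A * B.1 * A') 1 = g.1 * (ρ0 B).1 * (g⁻¹).1
    rw [hρ0, hA, hA', blk_mul, blk_mul, mul_one, h4]
  have hc : Sig.CompIn ρ.range ⊤ :=
    Sig.compIn_top_iff.mpr ⟨hN.isSubnormal, Sig.qs_of_mulEquiv hq (MonoidHom.ofInjective hρi)⟩
  have h5 := hc.map (QuotientGroup.mk' (oddCore _)) (by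
    rw [Ne, Subgroup.map_eq_bot_iff, QuotientGroup.ker_mk']
    intro hle
    have h6 := (Sig.coprime_pPrimeCore (p := 2)).coprime_dvd_left (card_dvd_of_le hle)
    rw [← Nat.card_congr (MonoidHom.ofInjective hρi).toEquiv] at h6
    obtain ⟨k, rfl⟩ : ∃ k, m = k + 2 := ⟨m - 2, by omega⟩
    let u : Matrix.SpecialLinearGroup (Fin (k + 2)) F :=
      ⟨blk (blk 1 (-1)) (-1), by simp [det_blk]⟩
    have hu : orderOf u = 2 := by
      apply orderOf_eq_prime
      · apply Subtype.ext
        show (blk (blk 1 (-1)) (-1)) ^ 2 = 1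
        rw [sq, blk_mul, blk_mul]; simp [blk_one]
      · intro h
        have h7 : blk (blk (m := k) 1 (-1)) (-1) = blk 1 (1 : F) := by
          rw [blk_one]; exact congrArg Subtype.val h
        exact h2 (by linear_combination -(blk_inj h7).2)
    have := (h6.coprime_dvd_left (hu ▸ orderOf_dvd_natCard u))
    simp at this)
  rw [map_top_of_surjective _ (QuotientGroup.mk'_surjective _)] at h5
  exact ⟨_, Sig.compIn_top_iff.mp h5⟩

end Cfsg.Agent.S1340
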