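import Cfsg.Statements.S1532
import Cfsg.Agent.Perm.FeitSibley

set_option autoImplicit false
open Cfsg

namespace Cfsg.Agent.S1532

open Cfsg.Agent.PF Cfsg.Agent.BG Cfsg.Agent.Perm
open scoped _root_.Classical
set_option maxSynthPendingDepth 3

/-- Let G be a finite group, p an odd prime and P a Sylow p-subgroup that is non-abelian, whose underlying set is a TI-subset of G, with P properly contained in its set normaliser N and C_G(x) ≤ P for every non-identity x ∈ P. Let Z be a nontrivial subgroup of the centre of P normalised by N. Then the set of irreducible characters χ of N with χ z ≠ χ 1 for some z ∈ Z is coherent for the map induced by induction from N to G. -/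
theorem result {G : Type*} [Group G] [Fintype G] (p : ℕ) [Fact p.Prime] (hp : p ≠ 2) (P : Sylow p G) (hna : ¬ IsMulCommutative (P : Subgroup G)) (hTI : Cfsg.IsTISubset ((P : Subgroup G) : Set G)) (hlt : (P : Subgroup G) < Subgroup.normalizer ((P : Subgroup G) : Set G)) (hC : ∀ k ∈ (P : Subgroup G), k ≠ 1 → Subgroup.centralizer ({k} : Set G) ≤ (P : Subgroup G)) [Fintype ↥(Subgroup.normalizer ((P : Subgroup G) : Set G))] (Z : Subgroup G) (hZ1 : Z ≠ ⊥) (hZP : ∀ z ∈ Z, z ∈ (P : Subgroup G) ∧ ∀ y ∈ (P : Subgroup G), z * y = y * z) (hZn : ∀ x ∈ Subgroup.normalizer ((P : Subgroup G) : Set G), ∀ z ∈ Z, x * z * x⁻¹ ∈ Z) : Cfsg.IsCoherent {χ : ↥(Subgroup.normalizer ((P : Subgroup G) : Set G)) → ℂ | Cfsg.IsIrrCharacter ↥(Subgroup.normalizer ((P : Subgroup G) : Set G)) χ ∧ ∃ z : ↥(Subgroup.normalizer ((P : Subgroup G) : Set G)), (z : G) ∈ Z ∧ χ z ≠ χ 1} {1}ᶜ (fun α => Cfsg.indFun (Subgroup.normalizer ((P : Subgroup G) : Set G)) α) := by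
  have h1 : (P : Subgroup G) ≠ ⊥ := fun e => hna (e ▸ inferInstance)
  have hF := frobKer_normalizer h1 hlt hC
  obtain ⟨n, hn⟩ := IsPGroup.iff_card.1 P.isPGroup'
  have hodd : Odd (Nat.card (P : Subgroup G)) := hn ▸ ((Fact.out : p.Prime).odd_of_ne_two hp).pow
  have hoN := by_contra fun k => hna (comm_of_even hF hodd k)
  have hZ : Z ≤ P := fun z hz => (hZP z hz).1
  have sub : (Irr (Subgroup.normalizer ((P : Subgroup G) : Set G))).filter (fun χ => ¬ Z ≤ cfker χ) ⊆
      seqIndD (P : Subgroup G) (Subgroup.normalizer ((P : Subgroup G) : Set G)) P ⊥ := fun χ hχ =>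
    (mem_seqIndD_Frob hF).2 ⟨(Finset.mem_filter.1 hχ).1, fun k =>
      (Finset.mem_filter.1 hχ).2 (hZ.trans k)⟩
  have hZN := normalIn_of_conj (hZ.trans hlt.le) hZn
  obtain ⟨χ, hχ⟩ := seqIndD_nonempty (L := Subgroup.normalizer ((P : Subgroup G) : Set G)) hZ
    (normal_bot _) (by rwa [le_bot_iff])
  have mem : ∀ χ ∈ seqIndD (P : Subgroup G) (Subgroup.normalizer ((P : Subgroup G) : Set G)) Z ⊥,
      χ ∈ (Irr (Subgroup.normalizer ((P : Subgroup G) : Set G))).filter (fun χ => ¬ Z ≤ cfker χ) :=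
    fun χ hχ => Finset.mem_filter.2 ⟨FrobKer_seqIndD_irr hF (seqIndD_mono le_rfl hZ hχ),
      ((mem_seqIndD_iff hF.normal hZN.norm (normal_bot _).norm).1 hχ).2.2⟩
  exact ((Sibley_odd_ker hF (normedTI_sharp_of_isTISubset h1 hTI) hodd).mono sub).isCoherent_ext
    (filter_eq_image Z hZN.le) (fun a _ => Ind_ext _ a)
    (exists_ne_zero_ZS1_Irr (mem _ (seqIndD_star hχ)) (mem _ hχ)
      (Finset.mem_filter.1 (mem _ (seqIndD_star hχ))).1 (Finset.mem_filter.1 (mem _ hχ)).1
      (seqInd_conjC_neq hF.normal hoN hZ hχ))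

end Cfsg.Agent.S1532
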