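import Cfsg.Statements.S1599
import Cfsg.Agent.Golay.Stab

set_option autoImplicit false
open scoped Pointwise
open Cfsg

namespace Cfsg.Agent.S1599

open Cfsg.Agent.Comp Cfsg.Agent.Golay MulAction
set_option maxRecDepth 100000

theorem orb (a : ℕ) (ha : okQ a = true) (n m : ℕ) (L B : List ℕ) (ws : List (List ℕ))
    (h1 : Nat.ble n (lenL (kQ.orbH (fun a => a % 4353) gQt 300 a)) = true)
    (h2 : band (band (allL L inM24) (allL L fun c => Nat.beq (kCw.key (kCw.act c cD)) (kCw.key cD)))
      (allL L fun c => Nat.beq (kQ.key (kQ.act c cQ0)) (kQ.key cQ0)) = true)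
    (h3 : allL L (fun c => Nat.beq (kQ.key (kQ.act c a)) (kQ.key a)) = true)
    (h4 : band (allL B (fun b => Nat.blt b 24)) (Nat.ble m (chainL get24 (fun a => a) 30 B
      (slpW mul24 inv24 one24 ws L))) = true) (h : 432 = n * m) : (orbit Qt (quad a)).ncard = n :=
  (orbit_stab_of_le ((nble.1 h1).trans (Keyed.le_ncard_orbitH codes_Qt (okQ_spec ha).1 _ _))
    (le_card_slp ((codesQt h2).stab kQ (okQ_spec ha).1 h3) B ws h4) (card_Qt.2.trans h)).1

theorem orbs : OrbStruct Qt (quartets dod0) ![1, 12, 27, 72, 108] := by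
  refine orbStruct_of ![quart0, quad 382530134675731572073216, quad 415570557742925794840576,
    quad 1277834591352366294775173136, quad 310731788378376436086477316] (Set.toFinite _)
    ((inv_quartets _).mono inf_le_left) (fun i => ?_) (fun i => ?_) (by decide) (card_Qt.1.trans (by decide))
  · fin_cases i <;> exact (okQ_spec (by decide +kernel)).2
  fin_cases i
  · exact orb _ (by decide +kernel) 1 432 gQt [3, 0, 1, 4] [[1, 3, 0, 3], [5, 5, 1, 4, 1], [5, 7, 1, 1, 5, 6, 5, 3, 7]]
      (by decide +kernel) (by decide +kernel) (by decide +kernel) (by decide +kernel) rfl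
  · exact orb _ (by decide +kernel) 12 36 [588944745296642439239255117485051020, 983554057403011834040219551414721042]
      [0, 1, 3] [[1, 1, 3, 0, 3], [3, 1, 4, 1]]
      (by decide +kernel) (by decide +kernel) (by decide +kernel) (by decide +kernel) rfl
  · exact orb _ (by decide +kernel) 27 16 [858949395753556549629437085559029794, 464000179705702727015234437931679954]
      [0, 3] [[3, 0, 3]] (by decide +kernel) (by decide +kernel) (by decide +kernel) (by decide +kernel) rfl
  · exact orb _ (by decide +kernel) 72 6 [970531819526550031117983620406741024, 596454584479937324642963244111115529]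
      [0, 3] [] (by decide +kernel) (by decide +kernel) (by decide +kernel) (by decide +kernel) rfl
  · exact orb _ (by decide +kernel) 108 4 [944293816565412651426207388111472672, 891426621594350209137763638658203682]
      [0, 3] [] (by decide +kernel) (by decide +kernel) (by decide +kernel) (by decide +kernel) rfl

/-- A quartet stabiliser has five orbits on the quartets of its dodecad, of sizes 1, 12, 27, 72, 108. -/
theorem result (d : Finset Cfsg.GolayPt) (hd : d ∈ Cfsg.dodecads) (Q : Finset (Finset Cfsg.GolayPt)) (hQ : Q ∈ Cfsg.quartets d) : ∃ X₁ ∈ Cfsg.quartets d, ∃ X₂ ∈ Cfsg.quartets d, ∃ X₃ ∈ Cfsg.quartets d, ∃ X₄ ∈ Cfsg.quartets d, (MulAction.orbit ↥(MulAction.stabilizer Cfsg.M24 d ⊓ MulAction.stabilizer Cfsg.M24 Q) X₁).ncard = 12 ∧ (MulAction.orbit ↥(MulAction.stabilizer Cfsg.M24 d ⊓ MulAction.stabilizer Cfsg.M24 Q) X₂).ncard = 27 ∧ (MulAction.orbit ↥(MulAction.stabilizer Cfsg.M24 d ⊓ MulAction.stabilizer Cfsg.M24 Q) X₃).ncard = 72 ∧ (MulAction.orbit ↥(MulAction.stabilizer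 Cfsg.M24 d ⊓ MulAction.stabilizer Cfsg.M24 Q) X₄).ncard = 108 ∧ Cfsg.quartets d = {Q} ∪ MulAction.orbit ↥(MulAction.stabilizer Cfsg.M24 d ⊓ MulAction.stabilizer Cfsg.M24 Q) X₁ ∪ MulAction.orbit ↥(MulAction.stabilizer Cfsg.M24 d ⊓ MulAction.stabilizer Cfsg.M24 Q) X₂ ∪ MulAction.orbit ↥(MulAction.stabilizer Cfsg.M24 d ⊓ MulAction.stabilizer Cfsg.M24 Q) X₃ ∪ MulAction.orbit ↥(MulAction.stabilizer Cfsg.M24 d ⊓ MulAction.stabilizer Cfsg.M24 Q) X₄ := by
  obtain ⟨g, rfl, rfl⟩ := norm_quartet hd hQ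
  obtain ⟨y, h1, h2, h3⟩ := (orbs.conj g (K' := stabilizer MG (g • dod0) ⊓ stabilizer MG (g • quart0))
    (by rw [map_conj_inf, map_conj_stabilizer, map_conj_stabilizer]) (smul_quartets g _)).succ hQ inf_le_right
    (by decide) rfl
  refine ⟨y 0, h1 0, y 1, h1 1, y 2, h1 2, y 3, h1 3, h2 0, h2 1, h2 2, h2 3, h3.trans ?_⟩
  ext x
  simp [Fin.exists_fin_succ, or_assoc]

end Cfsg.Agent.S1599
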