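import Cfsg.Statements.S1677
import Cfsg.Agent.Co1T.Main
import Cfsg.Agent.Co1T.F2
import Cfsg.Agent.Block.ZStar
import Cfsg.Agent.PLocal.PSolv

set_option autoImplicit false
open Cfsg

namespace Cfsg.Agent.S1677

open Subgroup Cfsg.Agent.BG Cfsg.Agent.LES Cfsg.Agent.Co1A Cfsg.Agent.Geom Cfsg.Agent.PLocal

theorem simple_Om : IsSimpleGroup Om := by
  have := isSimpleGroup_POmega nd (by rw [rk]; decide)
  have c : center Om = ⊥ := card_eq_one.1 ((card_center_of_eich nd (by rw [rk]; decide) ⟨e1, e1_ne, Se1⟩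
    (eich_mem_commutator nd nex)).trans (if_neg fun h => h.1 rfl))
  exact ((QuotientGroup.quotientMulEquivOfEq c).trans QuotientGroup.quotientBot).symm.isSimpleGroup

/-- The first Conway group from an involution centraliser: let G be a finite group with no non-trivial normal subgroup of odd order and trivial centre, and let t be an involution whose centraliser C is 2-constrained with O₂(C) extraspecial of order 2 ^ 9 and C / O₂(C) isomorphic to Ω⁺(8, 2), the commutator subgroup of the isometry group of the hyperbolic quadratic form in dimension 8 over the field with 2 elements. Then G is isomorphic to the first Conway group (the Leech lattice automorphism group modulo its centre). -/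
theorem result {G : Type*} [Group G] [Finite G] (hO : Cfsg.oddCore G = ⊥) (hZ : Subgroup.center G = ⊥) (t : G) (ht : orderOf t = 2) (hcon : Cfsg.IsPConstrained 2 (Subgroup.centralizer ({t} : Set G))) (hQ : Cfsg.IsExtraspecial 2 (Cfsg.pCore 2 (Subgroup.centralizer ({t} : Set G)))) (hcard : Nat.card (Cfsg.pCore 2 (Subgroup.centralizer ({t} : Set G))) = 2 ^ 9) (e : (Subgroup.centralizer ({t} : Set G)) ⧸ Cfsg.pCore 2 (Subgroup.centralizer ({t} : Set G)) ≃* Cfsg.Omega (ZMod 2) (Cfsg.quadFormPlus 4 (ZMod 2))) : Cfsg.Spor.IsoCo1 G := by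
  have : Fact (Nat.Prime 2) := ⟨Nat.prime_two⟩
  have := simple_Om
  obtain ⟨f⟩ := omega_eq
  have o : pPrimeCore 2 Om = ⊥ := (Normal.eq_bot_or_eq_top inferInstance).resolve_right fun k => by
    have := coprime_pPrimeCore 2 Om
    rw [k, card_top, card_Om] at this; revert this; decide
  have o' : pPrimeCore 2 C1[t] = ⊥ := by
    have := map_pPrimeCore_le_of_surjective (p := 2) (f := (e.trans f).toMonoidHom.comp (QuotientGroup.mk' _))
      ((e.trans f).surjective.comp (QuotientGroup.mk'_surjective _))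
    rw [o, le_bot_iff, Subgroup.map_eq_bot_iff, ← MonoidHom.comap_ker, (MonoidHom.ker_eq_bot_iff _).2 (e.trans f).injective,
      MonoidHom.comap_bot, QuotientGroup.ker_mk'] at this
    have k := card_dvd_of_le this
    rw [hcard] at k
    exact card_eq_one.1 (((coprime_pPrimeCore 2 C1[t]).pow_right 9).eq_one_of_dvd k)
  have c := (isPConstrained_iff_of_bot o').1 hcon
  have m : (⟨t, cent1_self t⟩ : C1[t]) ∈ pCore 2 C1[t] := c fun x _ => Subtype.ext (mem_cent1.1 x.2)
  have E : ES ((pCore 2 C1[t]).map C1[t].subtype) t := ES.of_mem (PGrp.ES_of_mulEquiv hQ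
    (equivMapOfInjective _ _ (subtype_injective _))) ⟨_, m, rfl⟩ (by rintro rfl; simp at ht) (map_subtype_le _)
  have L : LE ((pCore 2 C1[t]).map C1[t].subtype) t := LE.mk' E (fun x hx => by
    have x1 : x ∈ C1[t] := mem_cent1.2 (hx t E.zQ).symm
    exact (mem_zp ht).2 (E.cen x ⟨_, c (x := ⟨x, x1⟩) fun y hy => Subtype.ext (hx _ ⟨y, hy, rfl⟩), rfl⟩
      fun y hy => (hx y hy).symm)) fun g hg => mem_norm_of_cj_le fun _ ⟨_, ⟨y, hy, rfl⟩, e⟩ =>
        e ▸ ⟨_, Normal.conj_mem inferInstance y hy ⟨g, hg⟩, rfl⟩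
  obtain ⟨p, μ, F⟩ := fr_of_quot L hcard e
  exact (Co1T.main_fr F (F.ex_fused fun h => E.z1 (mem_bot.1 (hZ ▸ Block.zstar_center h hO)))).elim fun f _ => ⟨f⟩

end Cfsg.Agent.S1677
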