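import Cfsg.Statements.S1678
import Cfsg.Agent.C3R.Main

set_option autoImplicit false
open Cfsg

namespace Cfsg.Agent.S1678


/-- The third Conway group from an involution centraliser: let G be a finite group with no non-trivial normal subgroup of odd order and trivial centre, having an involution t whose centraliser is a non-split double cover of the symplectic group Sp(6, 2). Then G is isomorphic to the third Conway group (the stabiliser in the Leech lattice automorphism group of a vector of the second shortest length). -/
theorem result {G : Type*} [Group G] [Finite G] (hO : Cfsg.oddCore G = ⊥) (hZ : Subgroup.center G = ⊥) (t : G) (ht : orderOf t = 2) (hC : Cfsg.IsNonsplitDoubleCover (Subgroup.centralizer ({t} : Set G)) (Matrix.symplecticGroup (Fin 3) (ZMod 2))) : Cfsg.Spor.IsoCo3 G := by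
  obtain ⟨y, h, rfl⟩ := C3R.exists_st ht hC
  obtain ⟨g⟩ := h.iso fun hi => h.z_ne (by simpa [hZ] using Block.zstar_center hi hO)
  obtain ⟨f⟩ := Known.Co3T.equiv
  exact ⟨g.trans f.symm⟩

end Cfsg.Agent.S1678
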