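import Cfsg.Statements.S1733
import Cfsg.Agent.C3R.Fin
import Cfsg.Agent.S1678
import Cfsg.Agent.SE.Bender2

set_option autoImplicit false
open Cfsg

namespace Cfsg.Agent.S1733


/-- Let G be a non-abelian finite simple group which is locally balanced (the centralizer of every involution has no nontrivial normal subgroup of odd order) and has the strong B-property (every section of G has the B-property), and let L be a standard subgroup of G whose centre has order 2 with quotient isomorphic to the symplectic group of dimension 6 over the field with 2 elements. Then G is isomorphic to the third Conway group. -/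
theorem result {G : Type*} [Group G] [Finite G] [IsSimpleGroup G] (hG : ¬ IsMulCommutative G)
    (hbal : ∀ t : G, orderOf t = 2 → Cfsg.centralizerPPrimeCore 2 t = ⊥) (hB : Cfsg.HasStrongBProperty G)
    (L : Subgroup G) (hL : Cfsg.IsStandardSubgroup L)
    {F : Type*} [Field F] [Fintype F] (hF : Fintype.card F = 2) (hLX : (Nat.card ↥(Subgroup.center ↥L) = 2 ∧ Nonempty (↥L ⧸ Subgroup.center ↥L ≃* Cfsg.PSp 3 F))) :
    Cfsg.Spor.IsoCo3 G := by
  obtain ⟨h2, ⟨e⟩⟩ := hLX
  obtain ⟨f⟩ := Known.S62T.equiv hF
  obtain ⟨g⟩ := Known.S62T.equiv (F := ZMod 2) (ZMod.card 2)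
  have hO : Cfsg.oddCore G = ⊥ := SE.oddCore_simple (SE.even_simple hG)
  have hZ : Subgroup.center G = ⊥ := (IsSimpleGroup.eq_bot_or_eq_top_of_normal _ inferInstance).resolve_right fun e =>
    hG ⟨⟨fun a b => (Subgroup.mem_center_iff.1 (e.ge (Subgroup.mem_top b)) a)⟩⟩
  obtain ⟨t, ht, hc⟩ := C3R.std_eq hO hZ hbal hL h2 ((e.trans f).trans g.symm)
  exact S1678.result hO hZ t ht hc

end Cfsg.Agent.S1733
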