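import Cfsg.Statements.S1829
import Cfsg.Agent.SW2.P0
import Cfsg.Agent.SW2.P1a
import Cfsg.Agent.SW2.P1b
import Cfsg.Agent.SW2.P2
import Cfsg.Agent.SW2.P3a
import Cfsg.Agent.SW2.P3b
import Cfsg.Agent.SW2.P4
import Cfsg.Agent.SW2.P5a
import Cfsg.Agent.SW2.P5b
import Cfsg.Agent.SW2.P6
import Cfsg.Agent.SW2.P7a
import Cfsg.Agent.SW2.P7b

set_option autoImplicit false
open Cfsg

namespace Cfsg.Agent.S1829

/-- There is no non-abelian finite simple QTKE-group G with a Sylow 2-subgroup T and a maximal 2-local subgroup M containing T such that M is isomorphic to the wreath product S₄ ≀ Z₂ (the subgroup of the symmetric group of degree 8 preserving a partition into two blocks of size 4; order 1152). -/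
theorem result {G : Type*} [Group G] [Finite G] [IsSimpleGroup G]
    (hG : ¬ IsMulCommutative G) (hQ : Cfsg.IsQTKE G) (T : Sylow 2 G) (M : Subgroup G)
    (hM : M ∈ Cfsg.maxTwoLocalsContaining (T : Subgroup G))
    (hW : Nonempty (↥M ≃* ↥Cfsg.blockStabilizerS4wr2)) : False := by
  have hc : commutator G = ⊤ := (IsSimpleGroup.eq_bot_or_eq_top_of_normal _ inferInstance).resolve_left fun e =>
    hG ⟨⟨fun a b => commutatorElement_eq_one_iff_mul_comm.1 (Subgroup.mem_bot.1
      (e.le (Subgroup.commutator_mem_commutator (Subgroup.mem_top a) (Subgroup.mem_top b))))⟩⟩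
  obtain ⟨f, x, h⟩ := SW2.exists_fr T hM hW
  have h1 := h.f0.f1
  have h2 := h1.f2 hQ.2.2
  obtain ⟨g, hg, e1, e2⟩ := h1.thomp hc
  obtain ⟨y, hy⟩ := h2.exists_y hg.1 e1 (e2.resolve_right (h1.nz hg e1))
  have y1 : y ≠ 1 := fun e => by
    have := hy.ys
    rw [e, one_mul, inv_one, mul_one, h.eq] at this
    exact absurd this (by decide)
  have h3 := h2.f3 hy (h2.ys1 hy (h.three hQ.1 ⟨⟨BG.mem_cent1.2 hy.yz, BG.mem_cent1.2 hy.yv⟩, BG.mem_cent1.2 hy.yx⟩ hy.y3 y1))
  exact h3.fin hc h3.ntb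

end Cfsg.Agent.S1829
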