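import Cfsg.Statements.S1895
import Cfsg.Agent.Fus.Rk3
-- import your own Cfsg.Agent.* helpers here

set_option autoImplicit false
open Cfsg

namespace Cfsg.Agent.S1895

/-- Let p be an odd prime and G a finite p-solvable group with no elementary abelian subgroup of order p³. Then every chief factor H/K of G (H, K normal in G with no normal subgroup of G strictly between them) whose order is a power of p has order p or p². -/
theorem result {G : Type*} [Group G] [Finite G] {p : ℕ} [Fact p.Prime] (hp : p ≠ 2)
    (hG : Cfsg.IsPSolvable p G) (hr : Cfsg.PRankLE p 2 G)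
    (H K : Subgroup G) [H.Normal] [K.Normal] (hKH : K < H) (hpow : ∃ n : ℕ, K.relIndex H = p ^ n)
    (hchief : ∀ L : Subgroup G, L.Normal → K ≤ L → L ≤ H → L = K ∨ L = H) :
    K.relIndex H = p ∨ K.relIndex H = p ^ 2 :=
  open Subgroup Cfsg.Agent.Fus Cfsg.Agent.Loc Equiv in by
    obtain ⟨n, hn⟩ := hpow
    obtain ⟨P, hP⟩ := exists_sylIn p H
    have hpp := (Fact.out : p.Prime)
    have nK : ∀ L : Subgroup G, L ≤ normalizer (K : Set G) := fun L => le_normalizer_of_normal
    have e : K ⊔ P = H := by
      have l := sup_le hKH.le hP.le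
      obtain ⟨j, -, hj⟩ := (Nat.dvd_prime_pow hpp).1 (hn ▸ relIndex_dvd_of_le_left H (le_sup_left : K ≤ K ⊔ P))
      rcases j with _ | j
      · exact le_antisymm l (relIndex_eq_one.1 hj)
      · exact absurd ((hj ▸ dvd_pow_self p j.succ_ne_zero).trans (relIndex_dvd_of_le_left H le_sup_right)) hP.not_dvd_relIndex
    have key : ∀ L : Subgroup P, L.Characteristic → L ≤ K.subgroupOf P ∨ K.subgroupOf P ⊔ L = ⊤ := fun L hL => by
      have l := map_subtype_le L
      refine (hchief (K ⊔ L.map P.subtype) (normalizer_eq_top_iff.1 (eq_top_iff.2 fun g _ => ?_)) le_sup_left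
        (sup_le hKH.le (l.trans hP.le))).imp (fun k => map_le_iff_le_comap.1 (sup_eq_left.1 k)) fun k => ?_
      · have n1 := BG.normsY (nK _) (normalizer_le_normalizer_map_subtype L)
        obtain ⟨a, ha, b, hb, rfl⟩ := hP.frattini (le_normalizer_of_normal (mem_top g))
        exact mul_mem (sup_le (le_sup_left.trans le_normalizer) (le_normalizer.trans n1) (e.ge ha)) (n1 hb)
      · rw [← map_subtype_inj, Subgroup.map_sup, subgroupOf_map_subtype, ← MonoidHom.range_eq_map, range_subtype, inf_comm,
          ← BG.group_modr (Or.inr (nK _)) l, k, inf_eq_left.2 hP.le]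
    have h1 := rank_two_index hP.pg hp (fun B h1 h2 => card_map_of_injective (K := B) P.subtype_injective ▸ hr _
      (map_isMulCommutative B _) (by rintro _ ⟨b, hb, rfl⟩; rw [← map_pow, h2 b hb, map_one]))
      ((key _ inferInstance).resolve_right fun k => hKH.not_ge (e.ge.trans (sup_le le_rfl
        (subgroupOf_eq_top.1 (frattini_nongenerating k))))) (key _ inferInstance)
    have h2 : p ^ n ≤ p ^ 2 := by rwa [← hn, ← e, BG.relIndex_sup_norml (nK P)]
    rw [Nat.pow_le_pow_iff_right hpp.one_lt] at h2
    obtain rfl | rfl | rfl : n = 0 ∨ n = 1 ∨ n = 2 := by omega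
    exacts [absurd (relIndex_eq_one.1 hn) hKH.not_ge, Or.inl (hn.trans (pow_one p)), Or.inr hn]

end Cfsg.Agent.S1895
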