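import Cfsg.Statements.S1896
import Cfsg.Agent.PGrp.Meta2

set_option autoImplicit false
open Cfsg

namespace Cfsg.Agent.S1896


/-- A finite metacyclic 2-group whose automorphism group is not a 2-group is isomorphic to the quaternion group of order 8 or to a homocyclic abelian group Z_{2^n} × Z_{2^n}. -/
theorem result {X : Type*} [Group X] [Finite X] (hX : IsPGroup 2 X)
    (hm : Cfsg.IsMetacyclic X) (hA : ¬ IsPGroup 2 (MulAut X)) :
    Nonempty (X ≃* QuaternionGroup 2) ∨
      ∃ n : ℕ, Nonempty (X ≃* Multiplicative (ZMod (2 ^ n)) × Multiplicative (ZMod (2 ^ n))) := by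
  have : Finite (MulAut X) := Finite.of_injective _ DFunLike.coe_injective
  simp only [IsPGroup, not_forall, not_exists] at hA
  obtain ⟨β, hβ⟩ := hA
  obtain ⟨k, hk⟩ := Transfer.exists_coprime_orderOf_pow (p := 2) β (orderOf_pos β).ne'
  obtain ⟨hc, a, T⟩ | ⟨-, h⟩ := ABG.meta_odd' hX hm (Invol.oddEnd_of_mulAut (Nat.coprime_two_right.1 hk)) (by
    by_contra! e
    exact hβ k (MulEquiv.ext e))
  · obtain ⟨n, -, -, ⟨e⟩, -⟩ := T.homo hc
    exact .inr ⟨n, ⟨e.trans (MulEquiv.prodMultiplicative _ _)⟩⟩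
  · exact .inl h

end Cfsg.Agent.S1896
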