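import Cfsg.Statements.S1904
import Cfsg.Agent.Scn.E
import Cfsg.Agent.PGrp.Basic

set_option autoImplicit false
open Cfsg

namespace Cfsg.Agent.S1904

/-- Let X be a finite nonabelian 2-group with no normal abelian subgroup that is self-centralizing and contains an elementary abelian subgroup of order 8. Suppose a group A of automorphisms of X of odd order satisfies [X, A] = X. Then X is the quaternion group of order 8, or X is special of order 64 with exactly three involutions, all central, or X is extraspecial of order 32 with exactly eleven involutions (the central product of a quaternion group and a dihedral group of order 8). -/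
theorem result {X : Type*} [Group X] [Finite X] (hX : IsPGroup 2 X) (hna : ¬ IsMulCommutative X)
    (hscn : ¬ ∃ A : Subgroup X, A.Normal ∧ Subgroup.centralizer (A : Set X) = A ∧
      ∃ E : Subgroup X, E ≤ A ∧ Cfsg.IsElementaryAbelian 2 E ∧ Nat.card E = 8)
    (A : Subgroup (MulAut X)) (hA : Odd (Nat.card A))
    (hXA : Subgroup.closure {g : X | ∃ φ ∈ A, ∃ x : X, g = x⁻¹ * φ x} = ⊤) :
    Nonempty (X ≃* QuaternionGroup 2) ∨
      (Cfsg.IsSpecial 2 X ∧ Nat.card X = 64 ∧ Nat.card {x : X // orderOf x = 2} = 3 ∧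
        ∀ x : X, orderOf x = 2 → x ∈ Subgroup.center X) ∨
      (Cfsg.IsExtraspecial 2 X ∧ Nat.card X = 32 ∧ Nat.card {x : X // orderOf x = 2} = 11) := by
  have hN : Scn.NoE8 X := by
    intro E h1 h2 h3
    by_contra hn
    have := hX.isNilpotent
    have : IsMulCommutative E := ⟨⟨fun a b => Subtype.ext (h2 _ a.2 _ b.2)⟩⟩
    obtain ⟨B, b1, -, b3, b4⟩ := PGrp.exists_selfCentralizing_normal_abelian E
    obtain ⟨k, hk⟩ := IsPGroup.iff_card.1 (hX.to_subgroup E)
    have h3k : 3 ≤ k := by
      by_contra hn'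
      have : 2 ^ k ≤ 2 ^ 2 := Nat.pow_le_pow_right (by norm_num) (by omega)
      omega
    obtain ⟨F, hF⟩ := Sylow.exists_subgroup_card_pow_prime (G := E) 2 (n := 3) (hk ▸ pow_dvd_pow 2 h3k)
    refine hscn ⟨B, b1, b4, F.map E.subtype, (Subgroup.map_subtype_le F).trans b3,
      ⟨inferInstance, fun a ha => ?_⟩, ?_⟩
    · rw [pow_two, h3 a (Subgroup.map_subtype_le F ha)]
    · rw [Subgroup.card_map_of_injective E.subtype_injective, hF]; rfl
  by_cases hch : ∀ H : Subgroup X, H.Characteristic → IsMulCommutative H → ∀ a ∈ A, ∀ h ∈ H, a h = h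
  · exact Scn.caseI hX hN hna A hA hXA hch
  · push Not at hch
    obtain ⟨B, hB, hBc, a, ha, b, hb, hab⟩ := hch
    have hA' : ∀ a ∈ A, Odd (orderOf a) := fun a ha => hA.of_dvd_nat (A.orderOf_dvd_natCard ha)
    obtain ⟨v, hv, v2, hav⟩ := Scn.exists_v0 hX hN hB hBc (hA' a ha) hb hab
    obtain ⟨V, hV⟩ := Scn.exists_VS hN (hA' a ha) hv v2 hav
    exact Or.inr (Or.inl (Scn.caseII hX hN hna hA' ha hXA hV))

end Cfsg.Agent.S1904
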