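import Cfsg.Statements.S1910
import Cfsg.Agent.Loc.Cpl

set_option autoImplicit false
open Cfsg

namespace Cfsg.Agent.S1910

section helpers
open Cfsg.Agent.Loc Subgroup
open scoped commutatorElement

theorem exists_inj {G : Type*} [Group G] {A B T : Subgroup G} (hn : B ≤ normalizer (T : Set G)) (hA : A ≤ T ⊔ B)
    (h1 : A ⊓ T = ⊥) (h2 : B ⊓ T = ⊥) : ∃ f : A →* B, Function.Injective f := by
  have hAN : A ≤ normalizer (T : Set G) := hA.trans (sup_le le_normalizer hn)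
  let f := QuotientGroup.mk' (T.subgroupOf (normalizer (T : Set G)))
  have inj : ∀ (X : Subgroup G) (hX : X ≤ normalizer (T : Set G)), X ⊓ T = ⊥ →
      Function.Injective (f.comp (inclusion hX)) := fun X hX h => by
    refine (injective_iff_map_eq_one _).2 fun a ha => Subtype.ext ?_
    have : (a : G) ∈ X ⊓ T := ⟨a.2, mem_subgroupOf.1 ((QuotientGroup.eq_one_iff (inclusion hX a)).1 ha)⟩
    rwa [h, mem_bot] at this
  have hr : ∀ a : A, f.comp (inclusion hAN) a ∈ (f.comp (inclusion hn)).range := fun a => by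
    obtain ⟨t, ht, b, hb, e⟩ := (mem_sup_of_le_normalizer_left hn).1 (hA a.2)
    refine ⟨⟨b, hb⟩, (QuotientGroup.eq.2 ?_).symm⟩
    change (a : G)⁻¹ * b ∈ T
    rw [← e, show (t * b)⁻¹ * b = b⁻¹ * t⁻¹ * b by group]
    exact conj_inv_mem_of_mem_normalizer (hn hb) (inv_mem ht)
  exact ⟨(MonoidHom.ofInjective (inj B hn h2)).symm.toMonoidHom.comp (MonoidHom.codRestrict _ _ hr),
    (MonoidHom.ofInjective (inj B hn h2)).symm.injective.comp
      ((MonoidHom.injective_codRestrict _ _ hr).2 (inj A hAN h1))⟩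

variable {G : Type*} [Group G] [Finite G] {Q Q' T S : Subgroup G}

theorem ti (h : IsTightlyEmbedded Q) {X : Subgroup G} (hX : IsPGroup 2 X) (hne : X ≠ ⊥) {g : G} (h1 : X ≤ Q)
    (h2 : X ≤ cj g Q) : g ∈ normalizer (Q : Set G) := by
  by_contra hg
  exact hne (eq_bot_of_isPGroup_of_coprime hX (Sig.coprime_card_of_le (le_inf h1 h2) (h.2 g hg).coprime_two_right))

theorem easy (hd : T ⊓ Q = ⊥) (hT : T ≤ normalizer (Q : Set G)) (hS : S ≤ Q ⊔ T) (hTS : T ≤ S) :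
    ⁅T, S ⊓ normalizer (T : Set G) ⊓ Q⁆ = ⊥ ∧
      T ⊔ (S ⊓ normalizer (T : Set G) ⊓ Q) = S ⊓ normalizer (T : Set G) := by
  refine ⟨eq_bot_iff.2 (hd ▸ le_inf (commutator_le_left_of_le_normalizer (inf_le_left.trans inf_le_right))
    ((commutator_mono le_rfl inf_le_right).trans (commutator_le_right_of_le_normalizer hT))), ?_⟩
  rw [sup_comm, inf_comm, ← sup_inf_of_le_right hT (le_inf hTS le_normalizer), inf_eq_right]
  exact inf_le_left.trans hS

theorem half (hQ : IsTightlyEmbedded Q) (hQ' : IsTightlyEmbedded Q') (hd : T ⊓ Q = ⊥) (hne : T ≠ ⊥)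
    (hT : SylIn 2 T (Q' ⊓ normalizer (Q : Set G))) (hS : SylIn 2 S (Q ⊔ T)) (hTS : T ≤ S) :
    S ⊓ normalizer (T : Set G) ⊓ Q ≤ Q ⊓ normalizer (Q' : Set G) ∧ S ⊓ normalizer (T : Set G) ⊓ Q ≠ ⊥ ∧
      (SylIn 2 (S ⊓ normalizer (T : Set G) ⊓ Q) Q ∨
        ∃ f : T →* (S ⊓ normalizer (T : Set G) ⊓ Q : Subgroup G), Function.Injective f) := by
  have hTQ := hT.le.trans inf_le_right
  have hTQ' := hT.le.trans inf_le_left
  have hn : Q ⊔ T ≤ normalizer (Q : Set G) := sup_le le_normalizer hTQ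
  have hU := hS.inf_normal' le_sup_left hn
  obtain ⟨e1, e2⟩ := easy hd hTQ hS.le hTS
  refine ⟨le_inf inf_le_right fun r hr => ti hQ' hT.pg hne hTQ'
    (cj_eq_of_mem_normalizer hr.1.2 ▸ cj_mono r hTQ'), fun hb => ?_, ?_⟩
  · refine inf_centralizer_ne_bot hT.pg hU.pg (le_normalizer_inf (hTS.trans le_normalizer) hTQ)
      (hU.ne_bot (even_iff_two_dvd.1 hQ.1)) (eq_bot_iff.2 (hb ▸ ?_))
    exact le_inf (inf_le_inf inf_le_left (centralizer_le_normalizer _)) (inf_le_left.trans inf_le_right)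
  by_cases h : S ≤ normalizer (T : Set G)
  · rw [inf_eq_left.2 h]; exact Or.inl hU
  obtain ⟨u, hu, hu'⟩ := SetLike.exists_of_lt (lt_inf_normalizer hS.pg (inf_lt_left.2 h))
  have h1 : cj u T ≤ S ⊓ normalizer (T : Set G) := cj_le_of_mem_normalizer hu.2 (le_inf hTS le_normalizer)
  have h2 : cj u T ⊓ T = ⊥ := by
    by_contra hb
    have h3 := ti hQ' hT.pg.to_inf_right hb (inf_le_right.trans hTQ') (inf_le_left.trans (cj_mono u hTQ'))
    refine hu' ⟨hu.1, mem_normalizer_of_cj_le (hT.le_of_normalizes (le_inf (cj_le_of_mem_normalizer h3 hTQ')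
      (h1.trans (inf_le_left.trans (hS.le.trans hn)))) (isPGroup_cj u hT.pg) (h1.trans inf_le_right))⟩
  obtain ⟨f, hf⟩ := exists_inj (B := S ⊓ normalizer (T : Set G) ⊓ Q) (inf_le_left.trans inf_le_right)
    (h1.trans e2.ge) h2 (eq_bot_iff.2 (hd ▸ le_inf inf_le_right (inf_le_left.trans inf_le_right)))
  exact Or.inr ⟨f.comp (cjEquiv u T).toMonoidHom, hf.comp (cjEquiv u T).injective⟩

theorem te_cj (hQ : IsTightlyEmbedded Q) (g : G) : IsTightlyEmbedded (cj g Q) := by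
  refine ⟨by rw [card_cj]; exact hQ.1, fun x hx => ?_⟩
  have := hQ.2 (g⁻¹ * x * g) (by rwa [← cj_normalizer, mem_cj] at hx)
  rw [← card_cj g, cj_inf] at this
  change Odd (Nat.card (cj g Q ⊓ cj g (cj _ Q) : Subgroup G)) at this
  change Odd (Nat.card (cj g Q ⊓ cj x (cj g Q) : Subgroup G))
  rwa [cj_cj, show g * (g⁻¹ * x * g) = x * g by group, ← cj_cj] at this

theorem equiv_of_sylIn {A B H : Subgroup G} (hA : SylIn 2 A H) (hB : SylIn 2 B H) : Nonempty (A ≃* B) := by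
  obtain ⟨g, -, rfl⟩ := hA.exists_conj hB
  exact ⟨cjEquiv g A⟩

end helpers

/-- Let Q be a tightly embedded subgroup of a finite group G, g an element outside N_G(Q), T a nontrivial Sylow 2-subgroup of Q^g ∩ N_G(Q), and S a Sylow 2-subgroup of QT containing T. Then T ∩ Q = 1, and N_S(T) is the direct product of T and N_S(T) ∩ Q, with N_S(T) ∩ Q isomorphic to T. -/
theorem result {G : Type*} [Group G] [Finite G] (Q : Subgroup G) (hQ : Cfsg.IsTightlyEmbedded Q)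
    (g : G) (hg : g ∉ Subgroup.normalizer (Q : Set G))
    (T : Subgroup G) (hT1 : T ≠ ⊥) (hT : T ≤ Q.map (MulAut.conj g).toMonoidHom ⊓ Subgroup.normalizer (Q : Set G))
    (hTsyl : IsPGroup 2 T ∧ ¬ 2 ∣ T.relIndex (Q.map (MulAut.conj g).toMonoidHom ⊓ Subgroup.normalizer (Q : Set G)))
    (S : Subgroup G) (hTS : T ≤ S) (hS : S ≤ Q ⊔ T) (hSsyl : IsPGroup 2 S ∧ ¬ 2 ∣ S.relIndex (Q ⊔ T)) :
    T ⊓ Q = ⊥ ∧
      T ⊓ (S ⊓ Subgroup.normalizer (T : Set G) ⊓ Q) = ⊥ ∧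
      ⁅T, S ⊓ Subgroup.normalizer (T : Set G) ⊓ Q⁆ = ⊥ ∧
      T ⊔ (S ⊓ Subgroup.normalizer (T : Set G) ⊓ Q) = S ⊓ Subgroup.normalizer (T : Set G) ∧
      Nonempty (↥(S ⊓ Subgroup.normalizer (T : Set G) ⊓ Q) ≃* T) := by
  open Cfsg.Agent.Loc Subgroup in
  open scoped commutatorElement in
  have hQ' := te_cj hQ g
  have hdd : ∀ X : Subgroup G, IsPGroup 2 X → X ≤ Q → X ≤ cj g Q → X = ⊥ := fun X h1 h2 h3 => by
    by_contra h
    exact hg (ti hQ h1 h h2 h3)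
  have hT' := sylIn_of_not_dvd_relIndex hT hTsyl.1 hTsyl.2
  have hS' := sylIn_of_not_dvd_relIndex hS hSsyl.1 hSsyl.2
  have hd : T ⊓ Q = ⊥ := hdd _ hTsyl.1.to_inf_left inf_le_right (inf_le_left.trans (hT.trans inf_le_left))
  obtain ⟨e1, e2⟩ := easy hd (hT.trans inf_le_right) hS hTS
  refine ⟨hd, eq_bot_iff.2 (hd ▸ inf_le_inf_left _ inf_le_right), e1, e2, ?_⟩
  obtain ⟨h1, h2, h3⟩ := half hQ hQ' hd hT1 hT' hS' hTS
  set R := S ⊓ normalizer (T : Set G) ⊓ Q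
  have hRp : IsPGroup 2 R := hSsyl.1.to_inf_left.to_inf_left
  obtain ⟨R', hR', hRR⟩ := exists_sylIn_ge h1 hRp
  obtain ⟨S', hS'', hRS⟩ := exists_sylIn_ge (le_sup_right : R' ≤ cj g Q ⊔ R') hR'.pg
  obtain ⟨k1, -, k3⟩ := half hQ' hQ (hdd _ hR'.pg.to_inf_left (inf_le_left.trans (hR'.le.trans inf_le_left)) inf_le_right)
    (fun h => h2 (eq_bot_iff.2 (h ▸ hRR))) hR' hS'' hRS
  set T' := S' ⊓ normalizer (R' : Set G) ⊓ cj g Q
  have hTp : IsPGroup 2 T' := hS''.pg.to_inf_left.to_inf_left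
  have c1 : Nat.card T ≤ Nat.card R := by
    rcases h3 with h | ⟨f, hf⟩
    · rw [← card_cj g R]
      exact card_le_of_isPGroup (h.conj g) (hT.trans inf_le_left) hTsyl.1
    · exact Nat.card_le_card_of_injective f hf
  have c2 : Nat.card R' ≤ Nat.card T' := by
    rcases k3 with h | ⟨f, hf⟩
    · rw [← card_cj g R']
      exact card_le_of_isPGroup h (cj_mono g (hR'.le.trans inf_le_left)) (isPGroup_cj g hR'.pg)
    · exact Nat.card_le_card_of_injective f hf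
  have c3 := card_le_of_le hRR
  have c4 := card_le_of_isPGroup hT' k1 hTp
  obtain ⟨e⟩ := equiv_of_sylIn (sylIn_of_card_le hT' k1 hTp (by omega)) hT'
  have eR : R = R' := eq_of_le_of_card_ge hRR (by omega)
  rcases h3 with h | ⟨f, hf⟩
  · rcases k3 with h' | ⟨f, hf⟩
    · obtain ⟨e'⟩ := equiv_of_sylIn (h.conj g) h'
      exact ⟨(cjEquiv g R).trans (e'.trans e)⟩
    · rw [eR]
      exact ⟨(MulEquiv.ofBijective f ((Nat.bijective_iff_injective_and_card f).2 ⟨hf, by omega⟩)).trans e⟩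
  · exact ⟨(MulEquiv.ofBijective f ((Nat.bijective_iff_injective_and_card f).2 ⟨hf, by omega⟩)).symm⟩

end Cfsg.Agent.S1910
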