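import Cfsg.Statements.S1911
import Cfsg.Agent.ZC.Ext

set_option autoImplicit false
open Cfsg

namespace Cfsg.Agent.S1911

open ZD SE BG Subgroup MulAction

/-- Let Q be a tightly embedded subgroup of a finite group G such that Q^g ∩ N_G(Q) has odd order for every g outside N_G(Q), and let K be the normal closure of Q in G. Then Q is normal in G, or K ∩ N_G(Q) is a strongly embedded subgroup of K. -/
theorem result {G : Type*} [Group G] [Finite G] (Q : Subgroup G) (hQ : Cfsg.IsTightlyEmbedded Q)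
    (hodd : ∀ g : G, g ∉ Subgroup.normalizer (Q : Set G) →
      Odd (Nat.card ↥(Q.map (MulAut.conj g).toMonoidHom ⊓ Subgroup.normalizer (Q : Set G)))) :
    Q.Normal ∨
      Cfsg.IsStronglyEmbedded ((Subgroup.normalizer (Q : Set G)).subgroupOf (Subgroup.normalClosure (Q : Set G))) := by
  refine or_iff_not_imp_left.2 fun hn => ?_
  have h := pc_of_tight (Q := Q) hodd
  obtain ⟨z, hz, hz2⟩ := Invol.exists_invol_mem_of_even hQ.1
  have hzZ : z ∈ ZI Q := ⟨hz2, 1, by simpa⟩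
  have ha := smul_pt.2 (normG Q hz)
  have all : ∀ c : G ⧸ N[Q], ∃ t ∈ ZI Q, t • c = c := fun c =>
    let ⟨g, e⟩ := quot_trans _ (pt N[Q]) c
    ⟨_, h.conj z hzZ g, e ▸ conj_smul ha g⟩
  have hL : Subgroup.closure (ZI Q) ≤ normalClosure (Q : Set G) := (closure_le _).2 fun t ⟨_, g, e⟩ => by
    obtain ⟨q, hq, rfl⟩ := mem_cj'.1 e
    exact normalClosure_normal.conj_mem q (subset_normalClosure hq) g
  have tr : ∀ c : G ⧸ N[Q], ∃ l ∈ Subgroup.closure (ZI Q), l • pt N[Q] = c := fun c => by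
    by_cases e : pt N[Q] = c
    · exact ⟨1, one_mem _, by simpa⟩
    obtain ⟨t, h1, h2⟩ := all c
    obtain ⟨w, -, h3, h4, -⟩ := h.exists_swap hzZ ha h1 h2 e (mem_top _) (mem_top _)
    exact ⟨w, subset_closure h3, h4⟩
  have := h.normal
  have hK : normalClosure (Q : Set G) ≤ Subgroup.closure (ZI Q) ⊔ Q := (closure_le _).2 fun x hx => by
    obtain ⟨q, hq, e⟩ := Group.mem_conjugatesOfSet_iff.1 hx
    obtain ⟨g, rfl⟩ := isConj_iff.1 e
    obtain ⟨l, hl, e⟩ := tr (g • pt N[Q])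
    have h1 : l⁻¹ * g ∈ N[Q] := smul_pt.1 (by rw [mul_smul, ← e, inv_smul_smul])
    simpa [mul_assoc] using mul_mem (mul_mem (mem_sup_left hl) (mem_sup_right (conj_mem_of_norm h1 hq)))
      (inv_mem (mem_sup_left hl))
  refine Invol.stronglyEmbedded_iff.2 ⟨fun e => hn (normalizer_eq_top_iff.1 (eq_top_iff.2 fun g _ => ?_)),
    ⟨⟨z, subset_normalClosure hz⟩, normG Q hz, by rwa [← orderOf_coe]⟩, fun t ht h2 g hg => ?_⟩
  · obtain ⟨l, hl, e'⟩ := tr (g • pt N[Q])
    exact smul_pt.1 (e'.symm.trans (smul_pt.2 (e.ge (mem_top (⟨l, hL hl⟩ : normalClosure (Q : Set G))))))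
  · have := h.ext (u := g * t * (g : G)⁻¹) all ((normG Q).trans (St_pt _).ge) (St_pt _).le
      (fun x ⟨h1, k, h3⟩ e => cj_of_norm (tight_mem hodd h3 h1 (smul_pt.1 e)) ▸ h3) (fun x h1 h3 => ⟨h3, 1, by simpa⟩)
      (hK (g * t * g⁻¹).2) (conj_two (by rwa [orderOf_coe]) _) (smul_pt.2 hg) (conj_smul (smul_pt.2 (mem_subgroupOf.1 ht)) (g : G))
    exact mem_subgroupOf.2 (smul_pt.1 this.symm)

end Cfsg.Agent.S1911
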