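import Cfsg.Statements.S1913
import Cfsg.Agent.ZC.PW

set_option autoImplicit false
open Cfsg

namespace Cfsg.Agent.S1913

open ZD SE BG Subgroup MulAction

/-- Let z be an involution in the centre of a Sylow 2-subgroup of a finite group G and H a proper subgroup such that z ∈ gHg⁻¹ exactly when g ∈ H, and such that for every involution u commuting with z whose centralizer is not contained in H, the subgroup H ∩ L is strongly embedded in L = ⟨G-conjugates of z commuting with u⟩. Then, with K the normal closure of z in G, H ∩ K is strongly embedded in K. -/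
theorem result {G : Type*} [Group G] [Finite G] (P : Sylow 2 G) (z : G) (hz2 : orderOf z = 2)
    (hzP : z ∈ (Subgroup.center ↥(P : Subgroup G)).map (P : Subgroup G).subtype)
    (H : Subgroup G) (hH : H ≠ ⊤) (hi : ∀ g : G, z ∈ H.map (MulAut.conj g).toMonoidHom ↔ g ∈ H)
    (hii : ∀ u : G, orderOf u = 2 → u * z = z * u → ¬ Subgroup.centralizer ({u} : Set G) ≤ H →
      Cfsg.IsStronglyEmbedded (H.subgroupOf (Subgroup.closure {x : G | IsConj z x ∧ x * u = u * x}))) :
    Cfsg.IsStronglyEmbedded (H.subgroupOf (Subgroup.normalClosure ({z} : Set G))) := by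
  obtain ⟨g, hg⟩ : ∃ g, g ∉ H := by
    by_contra! H
    exact hH (eq_top_iff.2 fun g _ => H g)
  have hzH : z ∈ H := by simpa using mem_cj.1 ((hi 1).2 (one_mem _))
  have h2 : ∀ g : G, g * z * g⁻¹ ∈ H → g ∈ H := fun g e => inv_mem_iff.1 ((hi g⁻¹).1 (mem_cj.2 (by simpa using e)))
  obtain ⟨s, hs, rfl⟩ := hzP
  have hP := pc_of_class hH hz2 hzH ⟨P, s.2, fun x hx => congrArg Subtype.val (mem_center_iff.1 hs ⟨x, hx⟩)⟩ h2
    fun u hu hc e => by
      rw [show LL _ C1[u] = _ from congrArg Subgroup.closure (Set.ext fun x => and_congr_right fun _ => mem_cent1)]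
      exact hii u hu hc.symm e
  have := hP.se (IsConj.refl _) (smul_pt.2 hzH) (isConj_iff.2 ⟨g, rfl⟩) fun e => hg (h2 g (smul_pt.1 e))
  rwa [St_pt, show Subgroup.closure _ = normalClosure {(s : G)} from congrArg Subgroup.closure
    (Set.ext fun x => by simp [Group.mem_conjugatesOfSet_iff])] at this

end Cfsg.Agent.S1913
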