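import Cfsg.Statements.S1915
import Cfsg.Agent.Loc.V4Rk
import Cfsg.Agent.Sig.Comp

set_option autoImplicit false
open Cfsg

namespace Cfsg.Agent.S1915

/-- Let A be a semisimple subgroup (A = E(A)) of a finite group and U a Klein four-group normalizing A. If the subgroup of A generated by the normalizers N_A(V) of the nontrivial subgroups V of U has 2-rank exactly 1, then A has 2-rank exactly 1. -/
theorem result {G : Type*} [Group G] [Finite G] (A : Subgroup G) (hA : Cfsg.layer ↥A = ⊤)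
    (U : Subgroup G) (hU : IsKleinFour U) (hUA : U ≤ Subgroup.normalizer (A : Set G))
    (hΓ : Cfsg.PRankLE 2 1 ↥(⨆ V : {V : Subgroup G // V ≤ U ∧ V ≠ ⊥}, A ⊓ Subgroup.normalizer ((V : Subgroup G) : Set G)) ∧
      ¬ Cfsg.PRankLE 2 0 ↥(⨆ V : {V : Subgroup G // V ≤ U ∧ V ≠ ⊥}, A ⊓ Subgroup.normalizer ((V : Subgroup G) : Set G))) :
    Cfsg.PRankLE 2 1 A ∧ ¬ Cfsg.PRankLE 2 0 A := by
  refine ⟨Loc.V4Rk.main (fun K hK => ?_) hU hUA fun w hw w1 a ha b hb a2 b2 a1 b1 e e1 e2 => ?_, fun h => hΓ.2 fun E hE h2 => ?_⟩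
  · have := Subgroup.normal_of_index_eq_two hK
    have h := Sig.layer_perfect (G := A)
    have : IsCyclic (A ⧸ K) := isCyclic_of_prime_card (p := 2) hK
    rw [hA] at h
    have := (Subgroup.Normal.quotient_commutative_iff_commutator_le (N := K)).1 inferInstance
    rw [_root_.commutator_def, h, top_le_iff] at this
    simp [this] at hK
  · have k : ∀ c ∈ A, w * c * w⁻¹ = c → c ∈ ⨆ V : {V : Subgroup G // V ≤ U ∧ V ≠ ⊥},
        A ⊓ Subgroup.normalizer ((V : Subgroup G) : Set G) := fun c hc h =>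
      Subgroup.mem_iSup_of_mem ⟨Subgroup.zpowers w, Subgroup.zpowers_le.2 hw, Subgroup.zpowers_ne_bot.2 w1⟩
        ⟨hc, Subgroup.centralizer_le_normalizer _ (PGrp.mem_centralizer_zpowers.2 (mul_inv_eq_iff_eq_mul.1 h).symm)⟩
    exact Loc.V4Rk.rk_iff.1 hΓ.1 a (k a ha e1) b (k b hb e2) a2 b2 a1 b1 e
  · have le := iSup_le fun V : {V : Subgroup G // V ≤ U ∧ V ≠ ⊥} =>
      (inf_le_left : A ⊓ Subgroup.normalizer ((V : Subgroup G) : Set G) ≤ A)
    rw [← Subgroup.card_map_of_injective (Subgroup.inclusion_injective le)]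
    exact h _ inferInstance (by rintro _ ⟨x, hx, rfl⟩; rw [← map_pow, h2 x hx, map_one])

end Cfsg.Agent.S1915
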