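import Cfsg.Statements.S1916
import Cfsg.Agent.GW.Psl
import Cfsg.Agent.GW.Main

set_option autoImplicit false
open Cfsg

namespace Cfsg.Agent.S1916

open Subgroup Cfsg.Agent.BG Cfsg.Agent.Classical Cfsg.Agent.GW

/-- Let L be a non-abelian simple subgroup of a finite group with dihedral Sylow 2-subgroups, and a, b two distinct commuting involutions normalizing L such that C_L(a) and C_L(b) have cyclic Sylow 2-subgroups and L is not contained in the subgroup generated by a, b, C_L(a) and C_L(b). Then ab centralizes L. -/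
theorem result {G : Type*} [Group G] [Finite G] (L : Subgroup G) (hL : IsSimpleGroup L) (hLn : ¬ IsMulCommutative L)
    (hD : ∀ P : Sylow 2 L, ∃ n : ℕ, Nonempty (↥(P : Subgroup L) ≃* DihedralGroup n))
    (a b : G) (ha : orderOf a = 2) (hb : orderOf b = 2) (hab : a ≠ b) (hc : a * b = b * a)
    (haL : a ∈ Subgroup.normalizer (L : Set G)) (hbL : b ∈ Subgroup.normalizer (L : Set G))
    (hCa : ∀ R : Sylow 2 ↥(L ⊓ Subgroup.centralizer ({a} : Set G)), IsCyclic R)
    (hCb : ∀ R : Sylow 2 ↥(L ⊓ Subgroup.centralizer ({b} : Set G)), IsCyclic R)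
    (hgen : ¬ L ≤ Subgroup.closure ({a, b} : Set G) ⊔ (L ⊓ Subgroup.centralizer ({a} : Set G)) ⊔ (L ⊓ Subgroup.centralizer ({b} : Set G))) :
    a * b ∈ Subgroup.centralizer (L : Set G) := by
  obtain ⟨S⟩ : Nonempty (Sylow 2 L) := inferInstance
  obtain ⟨m, ⟨eS⟩⟩ := hD S
  have k : ∀ {X : Type} [Group X] (e : L ≃* X) (a : N[L]), orderOf (a : G) = 2 →
      (∀ R : Sylow 2 ↥(L ⊓ C1[(a : G)]), IsCyclic R) → MulAut.congr e (L.normalizerMonoidHom a) ^ 2 = 1 ∧
      ¬ FixFour (MulAut.congr e (L.normalizerMonoidHom a)) := fun e a ha hC => ⟨by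
    rw [← map_pow, ← map_pow, show a ^ 2 = 1 from Subtype.ext (ha ▸ pow_orderOf_eq_one _), map_one, map_one],
    fun ⟨x, y, x2, y2, c, x1, y1, xy, hx, hy⟩ => by
      obtain ⟨x, rfl⟩ := e.surjective x
      obtain ⟨y, rfl⟩ := e.surjective y
      have r : ∀ x : L, MulAut.congr e (L.normalizerMonoidHom a) (e x) = e x → (x : G) ∈ L ⊓ C1[(a : G)] :=
        fun x hx => ⟨x.2, mem_cent1.2 (mul_inv_eq_iff_eq_mul.1 (congrArg Subtype.val
          (e.injective (by simpa using hx) : L.normalizerMonoidHom a x = x))).symm⟩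
      have hV := Invol.isKleinFour_closure (a := (⟨x, r x hx⟩ : ↥(L ⊓ C1[(a : G)]))) (b := ⟨y, r y hy⟩)
        (Subtype.ext (congrArg Subtype.val (e.injective (by simpa using x2) : x * x = 1) :))
        (Subtype.ext (congrArg Subtype.val (e.injective (by simpa using y2) : y * y = 1) :))
        (Subtype.ext (congrArg Subtype.val (e.injective (by simpa using c.eq) : x * y = y * x) :))
        (fun h => x1 (by simp [show x = 1 from Subtype.ext (congrArg Subtype.val h :)]))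
        (fun h => y1 (by simp [show y = 1 from Subtype.ext (congrArg Subtype.val h :)]))
        (fun h => xy (by simp [show x = y from Subtype.ext (congrArg Subtype.val h :)]))
      obtain ⟨R, hR⟩ := (Invol.isPGroup_of_isKleinFour hV).exists_le_sylow
      exact hV.not_isCyclic (cyclicS hR (hC R))⟩
  rcases gw_simple (dihSyl_of_not_sol S eS fun hs => hLn ⟨⟨IsSimpleGroup.comm_iff_isSolvable.2 hs⟩⟩) with
    ⟨q, F, _, _, rfl, ho, h3, ⟨e⟩⟩ | ⟨⟨e⟩⟩
  swap
  · exact absurd (a7_fixFour _ (k e ⟨a, haL⟩ ha hCa).1) (k e ⟨a, haL⟩ ha hCa).2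
  have hq := Nat.card_eq_fintype_card (α := F)
  set H := closure ({a, b} : Set G) ⊔ (L ⊓ C1[a]) ⊔ (L ⊓ C1[b])
  have aH : a ∈ H := mem_sup_left (mem_sup_left (subset_closure (by simp)))
  have bH : b ∈ H := mem_sup_left (mem_sup_left (subset_closure (by simp)))
  have r : ∀ (a : N[L]) (x : L), MulAut.congr e (L.normalizerMonoidHom a) (e x) = e x → (x : G) ∈ L ⊓ C1[(a : G)] :=
    fun a x hx => ⟨x.2, mem_cent1.2 (mul_inv_eq_iff_eq_mul.1 (congrArg Subtype.val
      (e.injective (by simpa using hx) : L.normalizerMonoidHom a x = x))).symm⟩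
  have := psl_two_aut (two_ne_zero_iff_odd.2 (hq ▸ ho)) (hq ▸ h3) (k e ⟨a, haL⟩ ha hCa).1 (k e ⟨a, haL⟩ ha hCa).2
    (k e ⟨b, hbL⟩ hb hCb).1 (k e ⟨b, hbL⟩ hb hCb).2 (Y := (H.subgroupOf L).map e.toMonoidHom)
    (fun h => hgen fun x hx => by
      obtain ⟨y, hy, r⟩ := h.ge (mem_top (e ⟨x, hx⟩))
      exact mem_subgroupOf.1 (e.injective r ▸ hy : (⟨x, hx⟩ : L) ∈ _))
    (by
      rintro _ ⟨y, hy, rfl⟩
      exact ⟨⟨L.normalizerMonoidHom ⟨a, haL⟩ y, H.mul_mem (mul_mem aH hy) (inv_mem aH), by simp⟩,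
        ⟨L.normalizerMonoidHom ⟨b, hbL⟩ y, H.mul_mem (mul_mem bH hy) (inv_mem bH), by simp⟩⟩)
    fun y hy => by
      obtain ⟨y, rfl⟩ := e.surjective y
      exact ⟨y, hy.elim (fun h => mem_sup_left (mem_sup_right (r _ y h))) fun h => mem_sup_right (r _ y h), rfl⟩
  refine mem_cent.2 fun x hx => (mem_cent1.1 (r (⟨a, haL⟩ * ⟨b, hbL⟩) ⟨x, hx⟩ ?_).2)
  rw [map_mul, map_mul, this, ← sq, (k e ⟨b, hbL⟩ hb hCb).1, MulAut.one_apply]

end Cfsg.Agent.S1916
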