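import Cfsg.Statements.S1921
import Cfsg.Agent.Loc.Cpl

set_option autoImplicit false
open Cfsg

namespace Cfsg.Agent.S1921

/-- Let a be an involution of a finite group H and L a component of H with a L a⁻¹ ≠ L; put M = ⟨L, aLa⁻¹⟩ and let J be the subgroup generated by the elements x · a x a⁻¹ with x ∈ L (the diagonal). Then every element of M outside J·Z(M) generates M together with J. -/
theorem result {H : Type*} [Group H] [Finite H] (a : H) (ha : orderOf a = 2) (L : Subgroup H) (hL : Cfsg.IsComponent L)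
    (hLa : L.map (MulAut.conj a).toMonoidHom ≠ L) (x : H) (hxM : x ∈ L ⊔ L.map (MulAut.conj a).toMonoidHom)
    (hxJ : x ∉ Subgroup.closure {y : H | ∃ l ∈ L, y = l * (a * l * a⁻¹)} ⊔
      ((L ⊔ L.map (MulAut.conj a).toMonoidHom) ⊓ Subgroup.centralizer ((L ⊔ L.map (MulAut.conj a).toMonoidHom : Subgroup H) : Set H))) :
    Subgroup.closure {y : H | ∃ l ∈ L, y = l * (a * l * a⁻¹)} ⊔ Subgroup.zpowers x = L ⊔ L.map (MulAut.conj a).toMonoidHom := by
  open Cfsg.Agent.Loc Subgroup in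
  open scoped commutatorElement in
  have hL' := Sig.compIn_top_iff.2 hL
  have hc : cj a L ≤ centralizer (L : Set H) := commutator_eq_bot_iff_le_centralizer.1
    ((hL'.conj (le_normalizer (mem_top a))).commutator_eq_bot_of_ne hL' hLa)
  set J := closure {y : H | ∃ l ∈ L, y = l * (a * l * a⁻¹)}
  have hJ : ∀ l ∈ L, l * (a * l * a⁻¹) ∈ J := fun l hl => subset_closure ⟨l, hl, rfl⟩
  obtain ⟨l₁, h1, l', h0, rfl⟩ := (mem_sup_of_le_normalizer_left (le_normalizer_of_le_centralizer hc)).1 hxM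
  obtain ⟨l₂, h2, rfl⟩ := mem_cj_iff_exists.1 h0
  have e : l₁ * (a * l₂ * a⁻¹) = (l₁ * l₂⁻¹) * (l₂ * (a * l₂ * a⁻¹)) := by group
  have hy : l₁ * l₂⁻¹ ∈ L := mul_mem h1 (inv_mem h2)
  have hK : L ≤ J ⊔ zpowers (l₁ * (a * l₂ * a⁻¹)) := by
    rcases Sig.qs_normal hL'.qs (N := (J ⊔ zpowers (l₁ * (a * l₂ * a⁻¹))) ⊓ L) inf_le_right
      (le_normalizer_of_cj_le fun l hl => cj_le_iff_forall.2 fun k hk => ⟨by
        have h3 := mul_mem (mul_mem (mem_sup_left (hJ l hl)) hk.1) (inv_mem (mem_sup_left (hJ l hl)))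
        rwa [mul_assoc l, ← hc (conj_mem_cj hl) k hk.2, show l * (k * (a * l * a⁻¹)) * (l * (a * l * a⁻¹))⁻¹ = l * k * l⁻¹
          by group] at h3, L.mul_mem (L.mul_mem hl hk.2) (L.inv_mem hl)⟩) with h | h
    · exact h.ge.trans inf_le_left
    · refine (hxJ ?_).elim
      rw [e]
      refine mul_mem (mem_sup_right ⟨mem_sup_left hy, ?_⟩) (mem_sup_left (hJ _ h2))
      rw [centralizer_sup']
      refine ⟨h ⟨?_, hy⟩, le_centralizer_iff.1 hc hy⟩
      have := mul_mem (mem_sup_right (mem_zpowers (l₁ * (a * l₂ * a⁻¹)))) (inv_mem (mem_sup_left (hJ _ h2)))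
      rwa [show l₁ * (a * l₂ * a⁻¹) * (l₂ * (a * l₂ * a⁻¹))⁻¹ = l₁ * l₂⁻¹ by group] at this
  refine le_antisymm (sup_le ((closure_le _).2 ?_) (zpowers_le.2 hxM)) (sup_le hK (cj_le_iff_forall.2 fun l hl => ?_))
  · rintro _ ⟨l, hl, rfl⟩
    exact mul_mem (mem_sup_left hl) (mem_sup_right (conj_mem_cj hl))
  · exact (mul_mem_cancel_left (hK hl)).1 (mem_sup_left (hJ l hl))

end Cfsg.Agent.S1921
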