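import Cfsg.Statements.S1922
import Cfsg.Agent.Loc.Cpl
import Cfsg.Agent.Invol.More

set_option autoImplicit false
open Cfsg

namespace Cfsg.Agent.S1922

section helpers
open Cfsg.Agent.Loc Subgroup
open scoped commutatorElement

theorem odd_card_of_invol {α : Type*} [Finite α] (f : α → α) (hf : ∀ a, f (f a) = a) (a : α)
    (h : ∀ b, f b = b ↔ b = a) : Odd (Nat.card α) := by
  classical
  haveI := Fintype.ofFinite α
  have h1 := Equiv.Perm.card_fixedPoints_modEq (f := (f : Function.End α)) (p := 2) (n := 1) (funext hf)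
  have h2 : Fintype.card (Function.fixedPoints (f : Function.End α)) = 1 :=
    Fintype.card_eq_one_iff.2 ⟨⟨a, (h a).2 rfl⟩, fun b => Subtype.ext ((h b).1 b.2)⟩
  rw [h2] at h1
  rw [Nat.card_eq_fintype_card, Nat.odd_iff]
  exact h1

theorem odd_class {G : Type*} [Group G] [Finite G] {z : G} (hz : orderOf z = 2) {H : Subgroup G} {g : G} (hg : g ∉ H)
    (F0 : ∀ a, a⁻¹ * z * a ∈ H ↔ a ∈ H)
    (hA : ∀ t, IsConj z t → t ≠ z → t * z = z * t → ∀ a, a⁻¹ * (z * t) * a ∈ H → a ∈ H) :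
    Odd (Nat.card {s : G // IsConj z s ∧ s ∈ H}) := by
  have sq : ∀ v, IsConj z v → v * v = 1 := fun v hv => Invol.mul_self_of (Invol.orderOf_of_isConj hv ▸ hz)
  have iv : ∀ v, IsConj z v → v⁻¹ = v := fun v hv => Invol.inv_eq_of_mul_self (sq v hv)
  have F1 : ∀ v v', IsConj z v → IsConj z v' → Commute v v' → v * v' ∈ H → g⁻¹ * (v * v') * g ∈ H → v = v' := by
    intro v v' hv hv' hc h1 h2
    by_contra hne
    obtain ⟨c, rfl⟩ := isConj_iff.1 hv
    have k := hA (c⁻¹ * v' * c) (hv'.trans (isConj_iff.2 ⟨c⁻¹, by group⟩)) (fun h => hne (by rw [← h]; group))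
      (by simpa [mul_assoc] using (hc.conj c⁻¹).symm.eq)
    have k1 := k c⁻¹ (by simpa [mul_assoc] using h1)
    have k2 := k (c⁻¹ * g) (by simpa [mul_assoc] using h2)
    exact hg ((mul_mem_cancel_left k1).1 k2)
  have F3 : ∀ v, IsConj z v → ∀ a b, a⁻¹ * v * a ∈ H → b⁻¹ * v * b ∈ H → a⁻¹ * b ∈ H := by
    intro v hv a b h1 h2
    obtain ⟨c, rfl⟩ := isConj_iff.1 hv
    have k1 := (F0 (c⁻¹ * a)).1 (by simpa [mul_assoc] using h1)
    have k2 := (F0 (c⁻¹ * b)).1 (by simpa [mul_assoc] using h2)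
    simpa [mul_assoc] using mul_mem (inv_mem k1) k2
  have F2 : ∀ v, IsConj z v → ∀ a c, a⁻¹ * v * a ∈ H → Commute c v → a⁻¹ * c * a ∈ H := fun v hv a c h1 hc => by
    rw [mul_assoc]
    refine F3 v hv a (c * a) h1 ?_
    rwa [mul_inv_rev, mul_assoc a⁻¹, hc.inv_left.eq, show a⁻¹ * (v * c⁻¹) * (c * a) = a⁻¹ * v * a by group]
  have hzH : z ∈ H := by simpa using (F0 1).2 (one_mem H)
  set u := g * z * g⁻¹ with hu
  have hzu : IsConj z u := isConj_iff.2 ⟨g, rfl⟩
  have huH : g⁻¹ * u * g ∈ H := by simpa [hu, mul_assoc] using hzH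
  have F5 : ∀ s, IsConj z s → s ∈ H → ∃ v, (IsConj z v ∧ g⁻¹ * v ∈ H) ∧ v⁻¹ * u * v = s ∧
      ∀ d, Commute d s → Commute d u → Commute d v := by
    intro s hs hsH
    have hodd : Odd (orderOf (s * u)) := by
      by_contra hc
      obtain ⟨h2, h3, h4⟩ := Invol.half_pow_spec (sq s hs) (sq u hzu) (Nat.not_odd_iff_even.1 hc)
      set k := orderOf (s * u) / 2
      have h5 : IsConj z (s * (s * u) ^ k) := by
        rcases Nat.even_or_odd k with h | h
        · exact hs.trans (Invol.isConj_left_of_even (sq s hs) (sq u hzu) h)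
        · exact hzu.trans (Invol.isConj_right_of_odd (sq s hs) (sq u hzu) h)
      have h6 := F1 s _ hs h5 ((Commute.refl s).mul_right h3.symm)
        (by rw [Invol.mul_self_cancel (sq s hs)]; simpa using F2 s hs 1 _ (by simpa using hsH) h3)
        (by rw [Invol.mul_self_cancel (sq s hs)]; exact F2 u hzu g _ huH h4)
      exact Invol.ne_one_of h2 (left_eq_mul.1 h6)
    obtain ⟨k, j, h1, h2⟩ := Invol.exists_invol_conj_of_odd (sq s hs) (sq u hzu) hodd
    refine ⟨s * (s * u) ^ k, ⟨hs.trans (isConj_iff.2 ⟨_, h2⟩), F3 u hzu _ _ huH ?_⟩, ?_,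
      fun d h3 h4 => h3.mul_right ((h3.mul_right h4).zpow_right k)⟩
    · generalize s * (s * u) ^ k = v at h1
      rw [← h1]; simpa [mul_assoc] using hsH
    · generalize s * (s * u) ^ k = v at h1
      rw [← h1]; group
  have F7 : ∀ v v', (IsConj z v ∧ g⁻¹ * v ∈ H) → (IsConj z v' ∧ g⁻¹ * v' ∈ H) → v * v' ∈ H := fun v v' h h' => by
    have := mul_mem (inv_mem h.2) h'.2
    rwa [mul_inv_rev, iv v h.1, inv_inv, mul_assoc, mul_inv_cancel_left] at this
  have F6 : ∀ v v', (IsConj z v ∧ g⁻¹ * v ∈ H) → (IsConj z v' ∧ g⁻¹ * v' ∈ H) → Commute v v' → v = v' :=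
    fun v v' h h' hc => F1 v v' h.1 h'.1 hc (F7 v v' h h') (by
      have := mul_mem h.2 (inv_mem h'.2)
      rwa [mul_inv_rev, iv v' h'.1, inv_inv, ← mul_assoc, mul_assoc g⁻¹] at this)
  let φ : {v : G // IsConj z v ∧ g⁻¹ * v ∈ H} → {s : G // IsConj z s ∧ s ∈ H} := fun v =>
    ⟨v.1⁻¹ * u * v.1, hzu.trans (isConj_iff.2 ⟨v.1⁻¹, by group⟩), by
      simpa [hu, mul_assoc] using (F0 _).2 v.2.2⟩
  have hφ : Function.Bijective φ := by
    refine ⟨fun v v' h => ?_, fun s => ?_⟩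
    · obtain ⟨w, hw, h1, h2⟩ := F5 _ (φ v').2.1 (φ v').2.2
      have k : ∀ v : {v : G // IsConj z v ∧ g⁻¹ * v ∈ H}, φ v = φ v' → v.1 = w := fun v h => by
        have e : v.1⁻¹ * u * v.1 = w⁻¹ * u * w := (congrArg Subtype.val h).trans h1.symm
        have e1 : Commute (v.1 * w⁻¹) u := by
          rw [← mem_cent1', mem_cent1]
          calc _ = v.1 * (w⁻¹ * u * w) * v.1⁻¹ := by group
            _ = u := by rw [← e]; group
        have e2 : Commute (v.1 * w⁻¹) (φ v').1 := by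
          rw [← h1, ← mem_cent1', mem_cent1, ← e]
          calc _ = v.1 * w⁻¹ * (w⁻¹ * u * w) * w * v.1⁻¹ := by rw [← e]; group
            _ = v.1 * (w * w)⁻¹ * u * (w * w) * v.1⁻¹ := by group
            _ = _ := by rw [sq w hw.1, iv _ v.2.1]; group
        have e3 := (h2 _ e2 e1).mul_left (Commute.refl w)
        rw [inv_mul_cancel_right] at e3
        exact F6 _ _ v.2 hw e3
      exact Subtype.ext ((k v h).trans (k v' rfl).symm)
    · obtain ⟨w, hw, h1, -⟩ := F5 _ s.2.1 s.2.2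
      exact ⟨⟨w, hw⟩, Subtype.ext h1⟩
  rw [← Nat.card_congr (Equiv.ofBijective φ hφ)]
  obtain ⟨w, hw, -⟩ := F5 z (IsConj.refl z) hzH
  refine odd_card_of_invol (fun v => ⟨w * v.1 * w⁻¹, v.2.1.trans (isConj_iff.2 ⟨w, rfl⟩), ?_⟩)
    (fun v => Subtype.ext ?_) ⟨w, hw⟩ fun v => ⟨fun h => Subtype.ext (F6 _ _ v.2 hw ?_), ?_⟩
  · have := mul_mem hw.2 (F7 _ _ v.2 hw)
    rw [iv w hw.1]; simpa only [mul_assoc] using this
  · calc _ = (w * w) * v.1 * (w * w)⁻¹ := by simp only; group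
      _ = _ := by rw [sq w hw.1]; group
  · exact (mem_cent1'.1 (mem_cent1.2 (congrArg Subtype.val h))).symm
  · rintro rfl
    exact Subtype.ext (by simp)

end helpers

/-- Let z be an involution of a finite group G and H a proper subgroup such that z lies in gHg⁻¹ exactly when g ∈ H. Then the following are equivalent: (1) for every conjugate t ≠ z of z commuting with z, the product zt lies in gHg⁻¹ exactly when g ∈ H; (2) z lies in the centre of some Sylow 2-subgroup of G, and for every conjugate t ≠ z of z commuting with z, the centralizer of zt is contained in H. -/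
theorem result {G : Type*} [Group G] [Finite G] (z : G) (hz : orderOf z = 2) (H : Subgroup G) (hH : H ≠ ⊤)
    (h0 : ∀ g : G, z ∈ H.map (MulAut.conj g).toMonoidHom ↔ g ∈ H) :
    (∀ t : G, IsConj z t → t ≠ z → t * z = z * t → ∀ g : G, z * t ∈ H.map (MulAut.conj g).toMonoidHom ↔ g ∈ H) ↔
      ((∃ P : Sylow 2 G, z ∈ (Subgroup.center ↥(P : Subgroup G)).map (P : Subgroup G).subtype) ∧
        ∀ t : G, IsConj z t → t ≠ z → t * z = z * t → Subgroup.centralizer ({z * t} : Set G) ≤ H) := by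
  open Cfsg.Agent.Loc Subgroup in
  open scoped commutatorElement in
  have F0 : ∀ a, a⁻¹ * z * a ∈ H ↔ a ∈ H := fun a => mem_cj.symm.trans (h0 a)
  have hzH : z ∈ H := by simpa using (F0 1).2 (one_mem H)
  have hCH : centralizer ({z} : Set G) ≤ H := fun c hc => (F0 c).1 (by
    rwa [show c⁻¹ * z * c = z by simpa using mem_cent1.1 (inv_mem hc)])
  constructor
  · intro hA
    refine ⟨?_, fun t h1 h2 h3 c hc => (hA t h1 h2 h3 c).1 (mem_cj.2 ?_)⟩
    · obtain ⟨g, hg⟩ : ∃ g, g ∉ H := by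
        by_contra hc
        push Not at hc
        exact hH (eq_top_iff.2 fun g _ => hc g)
      have h1 := odd_class hz hg F0 fun t h1 h2 h3 a ha => (hA t h1 h2 h3 a).1 (mem_cj.2 ha)
      have h2 : Nat.card {s : G // IsConj z s ∧ s ∈ H} = Nat.card {s : H // IsConj (⟨z, hzH⟩ : H) s} := by
        refine Nat.card_congr ⟨fun s => ⟨⟨s.1, s.2.2⟩, ?_⟩, fun s => ⟨s.1.1, H.subtype.map_isConj s.2, s.1.2⟩,
          fun _ => rfl, fun _ => rfl⟩
        obtain ⟨c, hc⟩ := isConj_iff.1 s.2.1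
        exact isConj_iff.2 ⟨⟨c, inv_mem_iff.1 ((F0 c⁻¹).1 (by rw [inv_inv, hc]; exact s.2.2))⟩, Subtype.ext hc⟩
      rw [h2, Invol.card_class_eq_index, ← centralizer_zpowers] at h1
      have h3 : ¬ 2 ∣ (centralizer ({z} : Set G)).relIndex H := by
        rw [relIndex, ← centralizer_zpowers, subgroupOf_centralizer (zpowers_le.2 hzH), ← even_iff_two_dvd,
          Nat.not_even_iff_odd]
        convert h1 using 4
        apply map_injective H.subtype_injective
        rw [map_subgroupOf_eq_of_le (zpowers_le.2 hzH), MonoidHom.map_zpowers]; rfl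
      obtain ⟨T, hT, hzT⟩ := exists_sylIn_ge (zpowers_le.2 (self_mem_cent1 z)) (isPGroup_zpowers_of_orderOf_eq hz)
      have h4 := hT.of_not_dvd hCH h3
      obtain ⟨P, hP⟩ := SylIn.exists_sylow_top (sylIn_of_sylIn_normalizer (h4.mono
        (le_inf le_top le_normalizer) fun c hc => (F0 c).1 (h4.le
          (conj_inv_mem_of_mem_normalizer hc.2 (hzT (mem_zpowers z))))))
      exact ⟨P, hP ▸ Invol.mem_center_map.2 ⟨hzT (mem_zpowers z), fun s hs => mem_cent1'.1 (hT.le hs)⟩⟩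
    · rw [show c⁻¹ * (z * t) * c = z * t by simpa using mem_cent1.1 (inv_mem hc)]
      exact mul_mem hzH (hCH (mem_cent1'.2 h3))
  · rintro ⟨⟨P, hP⟩, hB⟩ t h1 h2 h3 g
    have hw : z * t ∈ H := mul_mem hzH (hCH (mem_cent1'.2 h3))
    refine ⟨fun hg => ?_, fun hg => (cj_eq_of_mem hg).symm ▸ hw⟩
    have hPC : (P : Subgroup G) ≤ centralizer ({z} : Set G) := fun s hs =>
      mem_cent1'.2 ((Invol.mem_center_map.1 hP).2 s hs)
    have h4 : (z * t) ^ 2 ^ 1 = 1 := by
      rw [pow_one, Commute.mul_pow h3.symm, pow_two, pow_two, Invol.mul_self_of hz,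
        Invol.mul_self_of (Invol.orderOf_of_isConj h1 ▸ hz), one_mul]
    obtain ⟨h, hh, hle⟩ := (sylIn_of_sylow_le P (hPC.trans hCH)).exists_conj_le (Q := cj g⁻¹ (zpowers (z * t)))
      (cj_le_iff.2 (by rw [inv_inv]; exact zpowers_le.2 hg)) (isPGroup_cj _ (isPGroup_zpowers_of_pow h4))
    have h5 := mem_cent1_comm.1 (hPC (hle (conj_mem_cj (conj_mem_cj (mem_zpowers _)))))
    rw [← cj_centralizer_singleton, ← cj_centralizer_singleton, cj_cj, mem_cj] at h5
    exact inv_mem_iff.1 ((mul_mem_cancel_left hh).1 ((F0 _).1 (hB t h1 h2 h3 h5)))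

end Cfsg.Agent.S1922
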