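import Cfsg.Statements.S1932
import Cfsg.Agent.Loc.S4Inv

set_option autoImplicit false
open Cfsg

namespace Cfsg.Agent.S1932

/-- Let G be a finite group that is 2-constrained and has no section isomorphic to the symmetric group of degree 4, and let S be a Sylow 2-subgroup of G of nilpotency class at most 2. Then G = N_G(J(S))·O_{2'}(G), where J(S) is the Thompson subgroup generated by the elementary abelian subgroups of S of largest order. -/
theorem result {G : Type*} [Group G] [Finite G] (hcon : Cfsg.IsPConstrained 2 G) (hS4 : ¬ Cfsg.Involves (Equiv.Perm (Fin 4)) G) (S : Sylow 2 G) (hcl : Subgroup.lowerCentralSeries (S : Subgroup G) 2 = ⊥) : Subgroup.normalizer ((Cfsg.thompsonSubgroupOf 2 (S : Subgroup G)) : Set G) ⊔ Cfsg.pPrimeCore 2 G = ⊤ := by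
  open Cfsg.Agent.Loc Subgroup in
  open scoped commutatorElement in
  have hs := QuotientGroup.mk'_surjective (pPrimeCore 2 G)
  have hk : (Nat.card (QuotientGroup.mk' (pPrimeCore 2 G)).ker).Coprime 2 := by
    rw [QuotientGroup.ker_mk']; exact Sig.coprime_pPrimeCore
  have h1 := (sylIn_top S).map (QuotientGroup.mk' (pPrimeCore 2 G))
  rw [map_top_of_surjective _ hs] at h1
  have h2 := J_normal_of_class_two _ _ rfl (chP_top.2 (PLocal.isPConstrained_iff.1 hcon)) (fun h => hS4
    (PLocal.involves_iff_top.2 (PLocal.Involves.of_map (φ := QuotientGroup.mk' (pPrimeCore 2 G))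
      (by rwa [map_top_of_surjective _ hs])))) _ h1 (by
    rw [← map_commutator, ← map_commutator, show ⁅⁅(S : Subgroup G), (S : Subgroup G)⁆, (S : Subgroup G)⁆ = ⊥ from hcl,
      Subgroup.map_bot])
  rw [← PLocal.map_J (inf_eq_bot_of_isPGroup_of_coprime S.isPGroup' hk), ← normalizer_eq_top_iff,
    PLocal.normalizer_map_of_coprime hs hk (S.isPGroup'.to_le (PLocal.J_le 2 _))] at h2
  have h3 := congrArg (comap (QuotientGroup.mk' (pPrimeCore 2 G))) h2
  rwa [comap_map_eq, QuotientGroup.ker_mk', comap_top] at h3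

end Cfsg.Agent.S1932
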