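import Cfsg.Statements.S1936
import Cfsg.Agent.LieM.MinCx
import Cfsg.Agent.AB.SolC
import Cfsg.Agent.Classical.SLCard
import Cfsg.Agent.FG.Compl
import Cfsg.Agent.BG.Constt
import Mathlib.Tactic.Group

set_option autoImplicit false
open Cfsg

namespace Cfsg.Agent.S1936
open scoped commutatorElement

open Cfsg.Agent.BG Cfsg.Agent.LieM Subgroup Matrix
open scoped MatrixGroups

theorem exists_inv {F : Type*} [Field F] [CharP F 2] (x : SL(2, F)) : ∃ t : SL(2, F), t ^ 2 = 1 ∧ (t * x) ^ 2 = 1 := by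
  have h2 : (2 : F) = 0 := CharTwo.two_eq_zero
  have key : ∀ y : SL(2, F), y.1 0 0 = y.1 1 1 → y ^ 2 = 1 := fun y h => by
    have := y.det_coe
    rw [det_fin_two] at this
    ext i j
    fin_cases i <;> fin_cases j <;> simp [pow_two, mul_apply, Fin.sum_univ_two] <;> grind
  have k2 : ∀ (a b c : F) (h : det !![a, b; c, a] = 1), a * x.1 0 0 + b * x.1 1 0 = c * x.1 0 1 + a * x.1 1 1 →
      ∃ t : SL(2, F), t ^ 2 = 1 ∧ (t * x) ^ 2 = 1 := fun a b c h e => ⟨⟨_, h⟩, key _ rfl, key _ (by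
        show (!![a, b; c, a] * x.1) 0 0 = (!![a, b; c, a] * x.1) 1 1
        simpa [mul_apply, Fin.sum_univ_two] using e)⟩
  by_cases hb : x.1 0 1 = 0
  · by_cases hc : x.1 1 0 = 0
    · exact k2 0 1 1 (by simp [det_fin_two]; grind) (by simp [hb, hc])
    · exact k2 1 ((x.1 0 0 + x.1 1 1) / x.1 1 0) 0 (by simp [det_fin_two]) (by simp [hc]; grind)
  · exact k2 1 0 ((x.1 0 0 + x.1 1 1) / x.1 0 1) (by simp [det_fin_two]) (by simp [hb]; grind)

/-- Let p be a prime and G a finite group in which every subgroup of order prime to p is abelian of exponent dividing p − 1. Then G is solvable. -/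
theorem result {G : Type*} [Group G] [Finite G] (p : ℕ) [Fact p.Prime] (h : ∀ H : Subgroup G, (Nat.card ↥H).Coprime p → IsMulCommutative ↥H ∧ ∀ x ∈ H, x ^ (p - 1) = 1) : Group.IsSolvable G := by
  have hp : p.Prime := Fact.out
  refine solvable_induction (fun G _ _ => ∀ H : Subgroup G, (#H).Coprime p → IsMulCommutative H ∧ ∀ x ∈ H, x ^ (p - 1) = 1)
    (fun G _ _ K h H hH => ?_) (fun G _ _ N _ _ h H hH => ?_) (fun G _ _ _ hG hs h => ?_) G h
  · obtain ⟨h1, h2⟩ := h (H.map K.subtype) (by rwa [card_map_of_injective K.subtype_injective])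
    exact ⟨abelian_iff.2 fun a ha => mem_cent.2 fun b hb => Subtype.ext (mem_cent.1 (h1.cent (mem_map_of_mem _ ha)) _
      (mem_map_of_mem _ hb)), fun x hx => Subtype.ext (h2 _ (mem_map_of_mem _ hx))⟩
  · have e := map_comap_eq_self_of_surjective (QuotientGroup.mk'_surjective N) H
    obtain ⟨K, -, h1, h2⟩ := exists_lift_piGrp (QuotientGroup.mk' N) (e.symm ▸ (p'nat_coprime hp).2 hH)
    obtain ⟨h3, h4⟩ := h K ((p'nat_coprime hp).1 h1)
    rw [← e, ← h2]
    exact ⟨inferInstance, by rintro _ ⟨x, hx, rfl⟩; rw [← map_pow, h4 x hx, map_one]⟩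
  have hns : ¬ Group.IsSolvable G := fun h => hG ⟨⟨IsSimpleGroup.comm_iff_isSolvable.2 h⟩⟩
  have hr : ∀ r, r.Prime → r ∣ Nat.card G → r ≠ p → r ∣ p - 1 := fun r hr hd hne => by
    haveI := Fact.mk hr
    obtain ⟨x, rfl⟩ := exists_prime_orderOf_dvd_card' r hd
    exact orderOf_dvd_of_pow_eq_one ((h (zpowers x) (by rwa [Nat.card_zpowers, Nat.coprime_primes hr hp])).2 x
      (mem_zpowers x))
  have h3 : p ≠ 2 ∧ p ≠ 3 := by
    constructor <;> rintro rfl <;> refine hns (Char.isSolvable_of_two_primes (p := 2) (q := 3) fun r h1 h2 => ?_) <;>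
      by_contra! h3
    · exact h1.one_lt.ne' (Nat.dvd_one.1 (hr r h1 h2 h3.1))
    · exact h3.1 ((Nat.prime_dvd_prime_iff_eq h1 Nat.prime_two).1 (hr r h1 h2 h3.2))
  haveI : Fact (Nat.Prime 2) := ⟨Nat.prime_two⟩
  have hab : ∀ Q : Subgroup G, IsPGroup 2 Q → IsMulCommutative Q := fun Q hQ => by
    obtain ⟨k, hk⟩ := hQ.exists_card_eq
    exact (h Q (hk ▸ ((Nat.coprime_primes Nat.prime_two hp).2 h3.1.symm).pow_left k)).1
  obtain ⟨P⟩ : Nonempty (Sylow 2 G) := inferInstance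
  by_cases hE : ∀ E ≤ (P : Subgroup G), Abelem 2 E → #E < 2 ^ 3
  · have h4 : #(P : Subgroup G) = 2 ^ 2 := (AB.klein_of_rank hG P (hab _ P.isPGroup') hE).card_four
    refine AB.not_compl_simple hG (FG.hasNormalPComplement_iff_top.2 (FG.Sdprod.pHall_Op' (Burnside_normal_complement
      (sylowIn_top P) fun g hg => ?_) P.isPGroup'))
    rw [← consttC {p} g]
    refine mul_mem (by_contra fun h5 => ?_) ?_
    · obtain ⟨k, hk⟩ := (p_natP hp).1 (p_elt_constt {p} g)
      obtain ⟨b, b1, b2, b3⟩ := Transfer.exists_dvd_pow_sub_one h4 hp h3.1 (hk ▸ pow_orderOf_eq_one _)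
        (constt_mem _ hg.2) h5
      interval_cases b
      · exact hp.one_lt.ne' (Nat.dvd_one.1 b3)
      · exact h3.2 ((Nat.prime_dvd_prime_iff_eq hp Nat.prime_three).1 b3)
    · have := (h _ ((p'nat_coprime hp).1 (pgroupY (Or.inr (zpowers_le.2 (constt_mem {p}ᶜ hg.2)))
        (pi_pnat P.isPGroup'.pi h3.1.symm) (p_elt_zpowers.2 (p_elt_constt _ g))))).1
      exact sub_abelian_cent2 this le_sup_right le_sup_left (mem_zpowers _)
  push Not at hE
  obtain ⟨E, h1, h2, h4⟩ := hE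
  obtain ⟨H, hH⟩ := AB.se_of_constrained hG (sylowIn_top P) (hab _ P.isPGroup') h2 h1 h4 fun t ht =>
    Sig.pLayerIn_eq_bot_of_isSolvable (hs _ fun e => by
      have := (IsSimpleGroup.eq_bot_or_eq_top_of_normal (center G) inferInstance).resolve_right fun e =>
        hG ⟨⟨fun a b => mem_center_iff.1 (e.ge (mem_top b)) a⟩⟩
      exact AB.ne_of_ord ht (this.le (mem_center_iff.2 fun g => mem_cent1.1 (e.ge (mem_top g)))))
  obtain ⟨F, _, _, n, hn, hF, ⟨φ⟩, -⟩ := AB.psl_of_se hG hab hH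
  haveI : CharP F 2 := charP_of_card_eq_prime_pow hF
  obtain ⟨m, hm, hF⟩ : ∃ m, 0 < m ∧ Fintype.card F = 4 * m := by
    obtain ⟨n, rfl⟩ := Nat.exists_eq_add_of_le hn
    exact ⟨2 ^ n, by positivity, by rw [hF, pow_add]; rfl⟩
  have h5 := Classical.card_PSL2_mul (F := F)
  rw [← Nat.card_congr φ.toEquiv, Nat.card_eq_fintype_card (α := F), hF,
    Nat.coprime_two_left.2 (Nat.odd_iff.2 (by omega)), one_mul] at h5
  obtain ⟨r, r1, r2, r3, r4⟩ : ∃ r, r.Prime ∧ r ∣ Nat.card G ∧ r ≠ 2 ∧ r ≠ p := by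
    obtain ⟨a, a1, a2⟩ := Nat.exists_prime_and_dvd (n := 4 * m - 1) (by omega)
    obtain ⟨b, b1, b2⟩ := Nat.exists_prime_and_dvd (n := 4 * m + 1) (by omega)
    by_cases e : a = p
    · refine ⟨b, b1, h5 ▸ b2.mul_left _, by rintro rfl; omega, ?_⟩
      rintro rfl
      have := Nat.dvd_sub b2 (e ▸ a2)
      rw [show 4 * m + 1 - (4 * m - 1) = 2 by omega] at this
      exact h3.1 ((Nat.prime_dvd_prime_iff_eq hp Nat.prime_two).1 this)
    · exact ⟨a, a1, h5 ▸ (a2.mul_left _).mul_right _, by rintro rfl; omega, e⟩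
  haveI := Fact.mk r1
  obtain ⟨x, rfl⟩ := exists_prime_orderOf_dvd_card' r r2
  obtain ⟨y, hy⟩ := QuotientGroup.mk'_surjective _ (φ x)
  obtain ⟨t, t1, t2⟩ := exists_inv y
  obtain ⟨s, hs⟩ := φ.surjective (QuotientGroup.mk' _ t)
  have s1 : s ^ 2 = 1 := φ.injective (by rw [map_pow, hs, ← map_pow, t1, map_one, map_one])
  have s2 : (s * x) ^ 2 = 1 := φ.injective (by rw [map_pow, map_mul, hs, ← hy, ← map_mul, ← map_pow, t2, map_one, map_one])
  have s3 : s * x * s⁻¹ = x⁻¹ := by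
    rw [inv_eq_of_mul_eq_one_right ((pow_two s).symm.trans s1), eq_inv_iff_mul_eq_one, mul_assoc, ← pow_two, s2]
  have := (h _ ((p'nat_coprime hp).1 (pgroupY (Or.inr (zpowers_le.2 (mem_norm_of_cj_le
    ((MonoidHom.map_zpowers _ _).le.trans (zpowers_le.2 (s3.symm ▸ inv_mem (mem_zpowers x) : s * x * s⁻¹ ∈ _))))))
    (p_elt_zpowers.2 ((pnat_prime r1).2 r4)) (p_elt_zpowers.2 (((pnat_prime Nat.prime_two).2 h3.1.symm).of_dvd
      (orderOf_dvd_of_pow_eq_one s1)))))).1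
  rw [← mem_cent.1 (sub_abelian_cent2 this le_sup_right le_sup_left (mem_zpowers s)) x (mem_zpowers x),
    mul_inv_cancel_right, eq_inv_iff_mul_eq_one, ← pow_two] at s3
  exact r3 ((Nat.prime_dvd_prime_iff_eq r1 Nat.prime_two).1 (orderOf_dvd_of_pow_eq_one s3))

end Cfsg.Agent.S1936
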