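import Cfsg.Statements.S1950
import Cfsg.Agent.Loc.GSz4

set_option autoImplicit false
open Cfsg

namespace Cfsg.Agent.S1950

section helpers
open Cfsg.Agent.Loc Subgroup
open scoped commutatorElement

theorem gh_of_cyclic {G : Type*} [Group G] [Finite G] {p : ℕ} [Fact p.Prime] (P : Sylow p G)
    [IsCyclic ↥(P : Subgroup G)] : GH P := by
  have hm : ∀ x ∈ (P : Subgroup G), ∀ y ∈ (P : Subgroup G), x * y = y * x := fun x hx y hy =>
    congrArg Subtype.val (mul_comm' (⟨x, hx⟩ : (P : Subgroup G)) ⟨y, hy⟩)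
  refine ⟨fun x hx y hy ⟨g, hg⟩ => ?_, fun x hx ho => ?_⟩
  · obtain ⟨n, hn, e⟩ := P.conj_eq_normalizer_conj_of_mem x g⁻¹ hx (by rwa [inv_inv, hg])
    exact ⟨n⁻¹, inv_mem hn, by rw [← hg, inv_inv, ← e, inv_inv]⟩
  have hle : (P : Subgroup G) ≤ centralizer {x} := fun y hy => mem_centralizer_singleton_iff.2 (hm y hy x hx)
  have : IsCyclic ↥(P.subtype hle : Subgroup (centralizer ({x} : Set G))) :=
    isCyclic_of_surjective _ (subgroupOfEquivOfLe hle).symm.surjective
  refine Transfer.hasNormalPComplement_of_normalizer_le_centralizer (P.subtype hle)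
    ((P.subtype hle).normalizer_le_centralizer_or_le_commutator.resolve_right fun h => ?_)
  have := Transfer.mem_commutator_sylow_of_mem_center (P.subtype hle) (z := ⟨x, hle hx⟩)
    (mem_center_iff.2 fun c => Subtype.ext (mem_centralizer_singleton_iff.1 c.2)) (h hx) hx
  rw [commutator_eq_bot_iff_le_centralizer.2 fun a ha b hb => Subtype.ext (hm _ hb _ ha), mem_bot] at this
  rw [show x = 1 from congrArg Subtype.val this, orderOf_one] at ho
  exact (Fact.out : p.Prime).ne_one ho.symm

end helpers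

/-- Let G be a finite group whose Sylow p-subgroups are cyclic. Then G is p-solvable if and only if every two elements of order p of G generate a p-solvable subgroup. -/
theorem result {G : Type*} [Group G] [Finite G] {p : ℕ} [Fact p.Prime] (P : Sylow p G) (hP : IsCyclic ↥(P : Subgroup G)) :
    Cfsg.IsPSolvable p G ↔ ∀ x y : G, orderOf x = p → orderOf y = p → Cfsg.IsPSolvable p ↥(Subgroup.closure ({x, y} : Set G)) := by
  open Cfsg.Agent.Loc Subgroup in
  open scoped commutatorElement in
  refine ⟨fun h x y _ _ => PLocal.pSolv_subgroup h _, fun hc => ?_⟩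
  have hp : p.Prime := Fact.out
  by_cases hp2 : p = 2
  · subst hp2
    by_cases h2 : 2 ∣ Nat.card G
    · exact PLocal.pSolv_of_hasNormalPComplement (Transfer.hasNormalPComplement_of_normalizer_le_centralizer P
        (hP.normalizer_le_centralizer ((Nat.minFac_eq_two_iff _).2 h2)))
    · exact PLocal.pSolv_of_coprime ((Nat.Prime.coprime_iff_not_dvd hp).2 h2).symm
  set O := Cfsg.pPrimeCore p G
  have hO := Solv.coprime_card_pPrimeCore p G
  let f := QuotientGroup.mk' O
  have hf : Function.Surjective f := QuotientGroup.mk'_surjective O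
  have : IsCyclic ↥(P.mapSurjective hf : Subgroup (G ⧸ O)) :=
    isCyclic_of_surjective _ (f.subgroupMap_surjective (P : Subgroup G))
  have lift : ∀ x : G ⧸ O, orderOf x = p → ∃ u : G, f u = x ∧ orderOf u = p := fun x hx => by
    obtain ⟨g, rfl⟩ := hf x
    obtain ⟨u, hu⟩ := Block.exists_isPPart p g
    have e : f u = f g := Block.IsPPart.unique (Block.IsPPart.map f hu) (Block.isPPart_self ⟨1, by rw [hx, pow_one]⟩)
    refine ⟨u, e, orderOf_eq_prime ?_ fun h1 => hp.ne_one (by rw [← hx, ← e, h1, map_one, orderOf_one])⟩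
    obtain ⟨k, hk⟩ := Block.IsPPart.orderOf_eq hu
    have h1 : u ^ p ∈ O := by
      rw [← QuotientGroup.eq_one_iff, ← QuotientGroup.mk'_apply, map_pow, e]
      exact orderOf_dvd_iff_pow_eq_one.1 hx.dvd
    exact orderOf_eq_one_iff.1 (Nat.eq_one_of_dvd_coprimes (hO.pow_right k) (orderOf_dvd_natCard _ h1)
      (hk ▸ orderOf_pow_dvd p))
  have hn := (gh_of_cyclic (P.mapSurjective hf)).normal_of_odd hp2 (Solv.pPrimeCore_quotient_pPrimeCore p G)
    fun x y hx hy => by
      obtain ⟨u, rfl, hu⟩ := lift x hx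
      obtain ⟨v, rfl, hv⟩ := lift y hy
      rw [← Set.image_pair, ← MonoidHom.map_closure]
      exact PLocal.pSolv_map (hc u v hu hv) f
  exact PLocal.pSolv_of_normal_of_quotient O (PLocal.pSolv_of_coprime hO)
    (PLocal.pSolv_of_normal_of_quotient _ (PLocal.pSolv_of_isPGroup (P.mapSurjective hf).isPGroup')
      (PLocal.pSolv_of_coprime (hp.coprime_iff_not_dvd.2 (P.mapSurjective hf).not_dvd_index).symm))

end Cfsg.Agent.S1950
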