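import Cfsg.Statements.S1953
import Cfsg.Agent.PLocal.StabF
-- import your own Cfsg.Agent.* helpers here

set_option autoImplicit false
open Cfsg

namespace Cfsg.Agent.S1953


open Subgroup Cfsg Cfsg.Agent.Transfer Cfsg.Agent.BG Cfsg.Agent.PLocal Pointwise
open scoped commutatorElement

/-- Let p be an odd prime and P a Sylow p-subgroup of the finite group G, and suppose that for no p-subgroup Q of G does N_G(Q)/C_G(Q) have a section isomorphic to SL₂(p). Call a subgroup Q of P centric-radical when Z(Q) is a Sylow p-subgroup of C_G(Q) and the only normal subgroup X of N_G(Q) containing Q·C_G(Q) such that the index of Q·C_G(Q) in X is a power of p is Q·C_G(Q) itself (that is, N_G(Q)/Q·C_G(Q) has no nontrivial normal p-subgroup). Then there is a centric-radical subgroup Q of P contained in every centric-radical subgroup of P; it is normal in P, and N_G(Q) controls strong fusion in P: whenever a subgroup A of P has g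 A g⁻¹ ≤ P, the element g is a product h c with h in N_G(Q) and c centralizing A. -/
theorem result {G : Type*} [Group G] [Finite G] {p : ℕ} [Fact p.Prime] (hp : p ≠ 2) (P : Sylow p G)
    (hfree : ∀ Q : Subgroup G, IsPGroup p ↥Q → ¬ ∃ (H K : Subgroup G) (_ : (K.subgroupOf H).Normal),
      Subgroup.centralizer (Q : Set G) ≤ K ∧ K ≤ H ∧ H ≤ Subgroup.normalizer (Q : Set G) ∧
      Nonempty ((↥H ⧸ K.subgroupOf H) ≃* Matrix.SpecialLinearGroup (Fin 2) (ZMod p)))
    (cr : Subgroup G → Prop)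
    (hcr : ∀ Q : Subgroup G, cr Q ↔ (Q ≤ (P : Subgroup G) ∧
      (∃ R : Sylow p ↥(Subgroup.centralizer (Q : Set G)),
        (R : Subgroup ↥(Subgroup.centralizer (Q : Set G))).map (Subgroup.centralizer (Q : Set G)).subtype = Q ⊓ Subgroup.centralizer (Q : Set G)) ∧
      ∀ X : Subgroup G, X ≤ Subgroup.normalizer (Q : Set G) →
        (∀ n ∈ Subgroup.normalizer (Q : Set G), X.map (MulAut.conj n).toMonoidHom = X) →
        Q ⊔ Subgroup.centralizer (Q : Set G) ≤ X → (∃ k : ℕ, (Q ⊔ Subgroup.centralizer (Q : Set G)).relIndex X = p ^ k) →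
        X = Q ⊔ Subgroup.centralizer (Q : Set G))) :
    ∃ Q : Subgroup G, cr Q ∧ (∀ R : Subgroup G, cr R → Q ≤ R) ∧ (∀ x ∈ (P : Subgroup G), Q.map (MulAut.conj x).toMonoidHom = Q) ∧
      ∀ A : Subgroup G, A ≤ (P : Subgroup G) → ∀ g : G, A.map (MulAut.conj g).toMonoidHom ≤ (P : Subgroup G) →
        ∃ h ∈ Subgroup.normalizer (Q : Set G), ∃ c ∈ Subgroup.centralizer (A : Set G), g = h * c := by
  have hF := Fus.grpFS_group (P : Subgroup G)
  have hS := Loc.sylIn_top P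
  set F := groupFusionSystem (P : Subgroup G)
  have hc := GrpFS.constrained_of_nstab hp hF hS fun Q hQ => stableOn_of_automizer hp hQ (hfree Q hQ)
  have hn := Fus.normal_core F
  have eA : ∀ Q ≤ (P : Subgroup G), Fus.AutF F Q = Fus.AutK N[Q] Q := fun Q hQ => by
    rw [hF.AutF_eq hQ, Fus.AutK_eq_img, Fus.AutK_eq_img, top_inf_eq, inf_idem]
  have eI : ∀ Q : Subgroup G, ∀ g ∈ N[Q], Fus.cr Q g ∈ Fus.AutK Q Q ↔ g ∈ Q ⊔ C[Q] := fun Q g hg => by
    constructor
    · intro h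
      obtain ⟨y, hy, hy', e⟩ := Fus.mem_AutK.1 h
      exact mul_inv_cancel_left y g ▸ mul_mem_sup hy ((Fus.cr_eq_cr_iff hg hy').1 e.symm)
    · intro h
      obtain ⟨y, hy, c, hc, rfl⟩ := (Loc.mem_sup_of_le_normalizer_left (centralizer_le_normalizer _)).1 h
      exact Fus.mem_AutK.2 ⟨y, hy, le_normalizer hy, ((Fus.cr_eq_cr_iff hg (le_normalizer hy)).2 (by simpa using hc)).symm⟩
  have hQC : ∀ Q : Subgroup G, Q ⊔ C[Q] ≤ N[Q] := fun Q => sup_le le_normalizer (centralizer_le_normalizer _)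
  have nC : ∀ Q : Subgroup G, N[Q] ≤ N[C[Q]] := fun Q => Loc.normalizer_le_normalizer_centralizer _
  have nQC : ∀ Q : Subgroup G, N[Q] ≤ N[Q ⊔ C[Q]] := fun Q g hg => Fus.mem_normalizer_sup hg (nC Q hg)
  have hrad : ∀ Q ≤ (P : Subgroup G), F.IsRadical p Q ↔ opMod p N[Q] C[Q] ≤ Q ⊔ C[Q] := fun Q hQ => by
    rw [Fus.radical_iff, and_iff_right hQ, le_antisymm_iff, and_iff_left (Fus.Inn_le_pCore P.2 F hQ), eA Q hQ]
    refine ⟨fun h g hg => (eI Q g (opMod_le _ _ _ hg)).1 (h ((cr_mem_pCoreOf_iff le_rfl (opMod_le _ _ _ hg)).2 hg)),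
      fun h a ha => ?_⟩
    obtain ⟨g, hg, -, rfl⟩ := Fus.mem_AutK.1 (Loc.pCoreOf_le _ _ ha)
    exact (eI Q g hg).2 (h ((cr_mem_pCoreOf_iff le_rfl hg).1 ha))
  have hidx : ∀ Q X : Subgroup G, IsPGroup p Q → X ≤ N[Q] → Q ⊔ C[Q] ≤ X →
      ((∃ k : ℕ, (Q ⊔ C[Q]).relIndex X = p ^ k) ↔ ∀ x ∈ X, ∃ k, x ^ p ^ k ∈ C[Q]) := fun Q X hQ h1 h2 => by
    haveI : ((Q ⊔ C[Q]).subgroupOf X).Normal := (normal_subgroupOf_iff_le_normalizer h2).2 (h1.trans (nQC Q))
    refine (IsPGroup.iff_card (G := X ⧸ (Q ⊔ C[Q]).subgroupOf X)).symm.trans ⟨fun h x hx => ?_, fun h y => ?_⟩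
    · obtain ⟨k, hk⟩ := h (QuotientGroup.mk ⟨x, hx⟩)
      rw [← QuotientGroup.mk_pow, QuotientGroup.eq_one_iff] at hk
      obtain ⟨j, hj⟩ := Loc.pResidualOf_le_iff_pow.1 (Loc.pResidualOf_le_of_le_sup (H := Q ⊔ C[Q]) hQ
        (le_normalizer.trans (nC Q)) (sup_comm _ _).le) _ hk
      exact ⟨k + j, by rwa [pow_add, pow_mul]⟩
    · obtain ⟨x, rfl⟩ := QuotientGroup.mk_surjective y
      obtain ⟨k, hk⟩ := h x x.2
      exact ⟨k, by rw [← QuotientGroup.mk_pow, QuotientGroup.eq_one_iff]; exact mem_sup_right hk⟩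
  have hQ := hn.1
  refine ⟨F.core, (hcr _).2 ⟨hQ, ?_, fun X h1 h2 h3 h4 => le_antisymm ?_ h3⟩, fun R hR => ?_,
    fun x hx => Loc.cj_eq_of_mem_normalizer (Fus.normal_le_normalizer hn hx), fun A hA g hg => ?_⟩
  · have h1 := (hF.fc_iff hS hQ).1 ((hF.sat hS).fc_of_fn (Fus.fn_of_normal F hQ (Fus.normal_le_normalizer hn)))
    rw [show FusionSystem.centralizerIn ⊤ F.core = C[F.core] from top_inf_eq _] at h1
    obtain ⟨R, hR⟩ := h1.exists_sylow
    exact ⟨R, hR.trans (le_antisymm (le_inf (Fus.centric_CS_le (Fus.centric_core hc)) inf_le_right)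
      (inf_le_inf_right _ hQ))⟩
  · exact (le_opMod h1 (fun n hn => Loc.mem_normalizer_iff_cj.2 (h2 n hn)) ((hidx _ X (P.2.to_le hQ) h1 h3).1 h4)).trans
      ((hrad _ hQ).1 (Fus.radical_core P.2 hc))
  · obtain ⟨h1, ⟨T, hT⟩, h2⟩ := (hcr R).1 hR
    have h3 := hT ▸ Loc.sylIn_map_subtype T
    have h4 : R ⊔ C[R] ≤ opMod p N[R] C[R] := le_opMod (hQC R) (nQC R) ((hidx R _ (P.2.to_le h1) (hQC R) le_rfl).1
      ⟨0, by simp⟩)
    refine Fus.normal_le_cr P.2 hn (Fus.centric_iff.2 ⟨h1, fun f Q hf => ?_⟩) ((hrad R h1).2 (h2 _ (opMod_le _ _ _)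
      (fun n hn => Loc.cj_eq_of_mem_normalizer (le_normalizer_opMod le_normalizer (nC R) hn)) h4
      ((hidx R _ (P.2.to_le h1) (opMod_le _ _ _) h4).2 fun x hx => exists_pow_mem_of_mem_opMod (nC R) hx)).le)
    obtain ⟨g, -, rfl, -⟩ := hF.exists_of_iso hf
    have h5 := h3.conj g
    rw [Loc.cj_inf, Loc.cj_centralizer] at h5
    exact (h5.le_of_normalizes inf_le_right P.2.to_inf_left (inf_le_right.trans
      (Loc.le_normalizer_of_le_centralizer (Loc.centralizer_anti inf_le_left)))).trans inf_le_left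
  · obtain ⟨y, hy, e⟩ := GrpFS.exists_of_normal hF hn hA hg
    exact ⟨y, hy, y⁻¹ * g, Fus.inv_mul_mem_centralizer e, by group⟩


end Cfsg.Agent.S1953
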