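import Cfsg.Statements.S1999
import Cfsg.Agent.S2753
import Cfsg.Agent.S2754
import Cfsg.Agent.S2755
import Cfsg.Agent.S2759
import Cfsg.Agent.S2761
import Cfsg.Agent.S2794
import Cfsg.Agent.LieM.Triple
import Cfsg.Agent.LieM.Gold4
import Mathlib.Tactic.Group

set_option autoImplicit false
open Cfsg

namespace Cfsg.Agent.S1999
open scoped commutatorElement

open Subgroup Cfsg.Agent.BG Cfsg.Agent.LieM Cfsg.Agent.PLocal

/-- Let G be a finite group. The symmetric group of degree 4 is not involved in G if and only if, in every section K/R of G, the pair of conjugacy functors {Z, J_e} controls strong fusion (for the prime 2): here Z(P) is the centre and J_e(P) the subgroup generated by the elementary abelian subgroups of P of largest order, and control by the pair means that 2-fusion of tuples inside a Sylow 2-subgroup T of the section is generated, staying inside T, by conjugation inside N(Z(T)) and N(J_e(T)). -/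
theorem result {G : Type*} [Group G] [Finite G] : ¬ Cfsg.Involves (Equiv.Perm (Fin 4)) G ↔ ∀ (K R : Subgroup G) [hR : (R.subgroupOf K).Normal], Cfsg.FamilyControlsStrongFusionIn 2 ({fun P : Subgroup (↥K ⧸ R.subgroupOf K) => P ⊓ Subgroup.centralizer ((P : Subgroup (↥K ⧸ R.subgroupOf K)) : Set (↥K ⧸ R.subgroupOf K)), fun P : Subgroup (↥K ⧸ R.subgroupOf K) => Cfsg.thompsonSubgroupOf 2 P} : Set (Subgroup (↥K ⧸ R.subgroupOf K) → Subgroup (↥K ⧸ R.subgroupOf K))) ⊤ := by
  have e : ∀ (X : Type _) [Group X], ({fun P : Subgroup X => P ⊓ C[P], fun P : Subgroup X => thompsonSubgroupOf 2 P} :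
      Set (Subgroup X → Subgroup X)) = fam {ZF, JF 2} X := fun X _ => by
    rw [fam_pair, funext ind_ZF, funext ind_JF]
  refine ⟨fun h K R _ => (e (K ⧸ R.subgroupOf K)).symm ▸ sfok_of_constr (pair_char ZF_char JF_char) (fun K R _ hc => ?_) _ (involves_sec K R),
    fun h h' => not_involves_qd_of_sfok (pair_char ZF_char JF_char) (fun K R _ => by have := h K R; rwa [e] at this) ?_⟩
  · have i4 : ¬ Cfsg.Involves (Equiv.Perm (Fin 4)) (K ⧸ R.subgroupOf K) := fun h' =>
      h (involves_iff_top.2 ((involves_sec K R).trans' (involves_iff_top.1 h')))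
    obtain ⟨T⟩ : Nonempty (Sylow 2 (K ⧸ R.subgroupOf K)) := inferInstance
    refine sfok_of_fact ZF_char JF_char T fun x => ?_
    rw [ind_ZF, ind_JF]
    refine ((Cfsg.Agent.S2753.result hc i4 (fun H _ N _ _ hna => ?_) T).1 x).imp fun a h => ⟨cent_sub _ h.1, h.2⟩
    refine (Cfsg.Agent.S2755.result ((Cfsg.Agent.S2754.result hna).1 fun h' => i4 (involves_iff_top.2
      ((involves_sub H).trans' ((involves_quot N).trans' (involves_iff_top.1 h')))))).2.1 fun h' => i4 ?_
    exact S2759.result.2 ⟨_, Loc.isPGroup_pCore 2 _, involves_iff_top.2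
      ((involves_factor hc H N hna).1.trans' (involves_iff_top.1 h'))⟩
  · obtain ⟨f⟩ := S2761.result
    exact involves_iff_top.2 ((involves_iff_top.1 h').of_surjective (g := f.symm.toMonoidHom) f.symm.surjective)

end Cfsg.Agent.S1999
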