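import Cfsg.Statements.S2000
import Cfsg.Agent.S1999
import Cfsg.Agent.S2761
import Cfsg.Agent.S2794
import Mathlib.Tactic.Group

set_option autoImplicit false
universe u
open Cfsg

namespace Cfsg.Agent.S2000
open scoped commutatorElement

open Subgroup Cfsg.Agent.BG Cfsg.Agent.PLocal

/-- Let p be a prime and G a finite group. Then Qd(p) (the natural semidirect product of an elementary abelian group of order p² by SL₂(p)) is not involved in G if and only if there is a set 𝓦 of isomorphism-invariant p-group functors (each nontrivial on nontrivial finite p-groups and carried onto W(R) by every isomorphism from a finite p-group Q onto R, hence with characteristic values on finite p-groups) whose induced conjugacy functors control strong fusion in every section of G. -/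
theorem result {G : Type u} [Group G] [Finite G] {p : ℕ} [Fact p.Prime] : ¬ Cfsg.Involves ↥(Cfsg.qd p) G ↔ ∃ 𝓦 : Set (∀ (Q : Type u) [Group Q], Subgroup Q), (∀ W ∈ 𝓦, Cfsg.IsCharPFunctor.{u} p W) ∧ ∀ (K R : Subgroup G) [hR : (R.subgroupOf K).Normal], Cfsg.FamilyControlsStrongFusionIn p ((fun W => Cfsg.inducedFunctor (G := (↥K ⧸ R.subgroupOf K)) W) '' 𝓦) ⊤ := by
  refine ⟨fun h => ?_, fun ⟨_, h1, h2⟩ => not_involves_qd_of_sfok h1 h2⟩
  by_cases hp : p = 2
  · subst hp
    obtain ⟨f⟩ := S2761.result
    refine ⟨{ZF, JF 2}, pair_char ZF_char JF_char, fun K R _ => ?_⟩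
    have := (Cfsg.Agent.S1999.result (G := G)).1 (fun h' => h (involves_iff_top.2 ((involves_iff_top.1 h').of_surjective
      (g := f.symm.toMonoidHom) f.symm.surjective))) K R
    rwa [← funext ind_ZF, ← funext ind_JF, ← fam_pair] at this
  · exact ⟨{ZJAF}, single_char ZJAF_char, fun K R _ => (sfok_ZJ hp (fun X _ _ hX => nstab_of_not_qd hp fun h' =>
      h (involves_iff_top.2 (hX.trans' h'))) _ (involves_sec K R)).1⟩

end Cfsg.Agent.S2000
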