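import Cfsg.Statements.S2034
import Cfsg.Agent.Known.SchurModel
import Cfsg.Agent.Golay.Mathieu

set_option maxRecDepth 100000

namespace Cfsg.Agent.S2034

open Cfsg.Agent.Comp Cfsg.Agent.Known Cfsg.Agent.Golay

def D2 : PcData := ⟨1, 4,
  [[2],[3],[3],[]],
  [[],[[1,2,3]],[[2],[2,3]],[[3],[3],[3]]],
  []⟩

def T2_0 : List ((ℕ × ℕ × List ℕ × List ℕ) × List (ℕ × ℕ)) :=
  [((1,0,[0],[]),[(3,2)]),((3,2,[2],[]),[(8,2)]),((2,1,[1],[]),[(7,2)]),((3,1,[2],[]),[(4,5),(7,2),(8,3),(9,
  3)]),((3,0,[2],[]),[(3,5),(6,2)]),((2,0,[1],[]),[(1,5),(4,3),(5,3),(6,2),(7,3),(8,5),(9,5)])]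

theorem hT2_0 : relOK D2 6 22 T2_0 = true := by decide +kernel

def L2 : LinCert := ⟨[([(4,5),(9,3)],[(1,2),(0,3),(0,2)]),([(6,2)],[(1,4),(3,2)]),([(1,5),(4,6),(5,3)],[(0,3),(0,5),(1,4),(0,2),(2,
  2)])],
  [[(0,2)],[(1,2)],[(2,2)],[(4,2)]],
  [],
  [[(0,2)],[(1,2)],[(2,2)],[(7,2)],[(3,2)],[(1,5),(1,6),(0,3)],[(5,2)],[(9,2)],[(8,2)],[(3,5),(2,3)]]⟩

theorem hL2 : linOK D2 6 ([T2_0].flatMap fun c => c.map fun s => s.2) L2 = true := by
  decide +kernel

def xs2 : List ℕ := [235366405754860650836778140353760288,609271311764373893382231684089481248,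
  719923664328491199848526586197411872,970499966350631336865513127433832480]

theorem sb2 : SBnd ↥Cfsg.Spor.M11 495 [] := by
  obtain ⟨x, -, hx⟩ := exists_actBy (isAct_point EG 5 31) (codes11 (L := 984818244535754528103549039458486304 :: xs2) (by decide +kernel))
  exact sbnd_of_act (isCanon_PtC EG) hx (isBase_range EG _) D2 (by decide +kernel)
    (allLt_iff.1 (by decide +kernel)) (by decide +kernel) card_M11 (by decide +kernel)
    (sw := [[0],[1],[2],[3]]) (PB := [2,5,4]) (hm := 24) (fuel' := 6)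
    (exists_PtC EG (by decide +kernel)) (by decide +kernel) (List.forall_mem_cons.2 ⟨hT2_0, List.forall_mem_nil _⟩) hL2 (by decide +kernel)

def D3 : PcData := ⟨2, 2,
  [[],[]],
  [[],[[1]]],
  [(2,[0],[0]),(2,[1],[1,1])]⟩

def T3_0 : List ((ℕ × ℕ × List ℕ × List ℕ) × List (ℕ × ℕ)) :=
  [((0,2,[1,0],[0,1]),[(1,3)])]

theorem hT3_0 : relOK D3 5 9 T3_0 = true := by decide +kernel

def L3 : LinCert := ⟨[],
  [[(0,2)],[(2,2)]],
  [],
  [[(0,2)],[(2,3)],[(1,2)]]⟩

theorem hL3 : linOK D3 5 ([T3_0].flatMap fun c => c.map fun s => s.2) L3 = true := by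
  decide +kernel

def xs3 : List ℕ := [929000492124499343650182431580424224,487607080158395075740321133224921120,
  648333173198446926654847902756766784]

theorem sb3 : SBnd ↥Cfsg.Spor.M11 880 [] := by
  obtain ⟨x, -, hx⟩ := exists_actBy (isAct_point EG 5 31) (codes11 (L := 984818244535754528103549039458486304 :: xs3) (by decide +kernel))
  exact sbnd_of_act (isCanon_PtC EG) hx (isBase_range EG _) D3 (by decide +kernel)
    (allLt_iff.1 (by decide +kernel)) (by decide +kernel) card_M11 (by decide +kernel)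
    (sw := [[0],[0,1,1]]) (PB := [5,3]) (hm := 24) (fuel' := 5)
    (exists_PtC EG (by decide +kernel)) (by decide +kernel) (List.forall_mem_cons.2 ⟨hT3_0, List.forall_mem_nil _⟩) hL3 (by decide +kernel)

def xsc : List ℕ := [980866773357004374733959873456881792,731735280691701998237135314345332928]

theorem sb : SBnd ↥Cfsg.Spor.M11 1 [] := by
  obtain ⟨x, -, hx⟩ := exists_actBy (isAct_point EG 5 31) (codes11 (L := 984818244535754528103549039458486304 :: xsc) (by decide +kernel))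
  exact (((sb2.append sb3).append
    (sbnd_of_cyclic (isCanon_PtC EG) hx (isBase_range EG _) 0 5 0 (by norm_num) (b := 1) ⟨EG.dec 1, rfl⟩
      (by decide +kernel) card_M11 (m := 1584) (by decide +kernel))).append
    (sbnd_of_cyclic (isCanon_PtC EG) hx (isBase_range EG _) 1 11 0 (by norm_num) (b := 1) ⟨EG.dec 1, rfl⟩
      (by decide +kernel) card_M11 (m := 720) (by decide +kernel))).of_eq (by decide +kernel) rfl

theorem result : Cfsg.HasCyclicSchurMultiplier ↥Cfsg.Spor.M11 1 := cyc_one_of_bnd sb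

end Cfsg.Agent.S2034
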