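import Cfsg.Statements.S2037
import Cfsg.Agent.Known.SchurModel
import Cfsg.Agent.Golay.Mathieu

set_option maxRecDepth 100000

namespace Cfsg.Agent.S2037

open Cfsg.Agent.Comp Cfsg.Agent.Known Cfsg.Agent.Golay

def D2 : PcData := ⟨1, 7,
  [[],[],[5,6],[6],[],[],[]],
  [[],[[1,4,5,6]],[[2,6],[2,3]],[[3,5,6],[3,6],[3]],[[4],[4,6],[4,5],[4,6]],[[5],[5,6],[5],[5],[5]],[[6],[6],
  [6],[6],[6],[6]]],
  [(7,[4],[1,3,4]),(7,[5],[3,4]),(8,[0],[0,4]),(8,[2],[0,2,3,4,5]),(8,[3],[2,4,6]),(8,[4],[0,5,6]),(8,[5],[5]),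
  (8,[6],[6]),(9,[0],[4]),(9,[5],[0,5])]⟩

def T2_0 : List ((ℕ × ℕ × List ℕ × List ℕ) × List (ℕ × ℕ)) :=
  [((1,0,[2],[]),[(3,4),(21,2),(27,2)]),((5,1,[4],[]),[(11,5),(25,3),(27,3)]),((5,3,[4],[]),[(13,5),(25,3),(27,
  3)]),((7,0,[6],[]),[(21,5)]),((7,4,[6],[]),[(25,5)]),((2,1,[3],[]),[(7,4),(22,2),(27,2)]),((7,1,[6],[]),[(22,
  5)]),((2,1,[4],[]),[(11,4),(22,2),(27,2)]),((6,3,[5],[]),[(18,5)]),((6,1,[5],[]),[(16,5),(26,3),(27,3)]),((4,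
  3,[5],[]),[(18,4),(26,2)]),((2,1,[5],[]),[(16,4),(22,2),(27,2)]),((3,2,[2],[]),[(17,2),(23,2)]),((4,2,[3],[]),
  [(8,5),(23,2)]),((6,2,[5],[]),[(17,5)]),((4,3,[3],[]),[(24,2)]),((3,2,[3],[]),[(8,4),(18,2),(24,2)]),((3,0,
  [2],[]),[(3,5),(15,2),(21,2),(23,3),(27,3)]),((5,2,[4],[]),[(12,5),(19,3),(20,3)]),((1,0,[3],[]),[(6,4),(15,
  2),(20,2),(21,2),(26,2),(27,2)]),((3,2,[4],[]),[(12,4),(17,2),(19,2),(20,2),(25,2),(26,4)]),((2,1,[2],[]),[(4,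
  4),(7,2),(9,2),(27,2)]),((3,1,[2],[]),[(4,5),(8,3),(9,3),(16,2),(18,5),(22,2),(24,5),(26,3)]),((5,0,[4],[]),
  [(10,5)]),((1,0,[1],[]),[(1,4),(10,2),(14,2),(15,2),(19,2),(20,2),(21,2),(25,2),(26,2),(27,2)]),((2,0,[1],[]),
  [(1,5),(11,3),(14,3),(16,3),(19,3),(20,3),(22,3),(25,3),(26,5),(27,5)]),((3,1,[4],[]),[(13,3),(16,2),(18,3),
  (23,3),(24,3)]),((2,0,[2],[]),[(6,2),(12,2),(13,2),(17,2),(20,2),(22,3),(23,2),(25,3),(27,2)]),((0,7,[1,0],[0,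
  1]),[(7,3),(11,3),(19,2),(25,3),(27,3)]),((0,8,[6,2],[2,6]),[(19,3)]),((0,8,[7,7],[]),[(35,5)]),((0,8,[4,4],
  [7]),[(5,3),(9,2),(12,3),(14,3),(19,3),(20,3),(23,3),(25,3),(26,3),(27,3),(32,5),(35,2)]),((0,8,[5,4],[4,5,
  7]),[(3,2),(10,2),(13,2),(17,3),(19,3),(21,2),(23,3),(27,2),(35,2)]),((0,8,[3,2],[2,3,7]),[(6,3),(12,2),(13,
  2),(15,3),(18,2),(24,3),(25,2),(26,2),(35,2)]),((0,9,[9,8],[8,9]),[(10,2),(15,2),(19,3)])]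

theorem hT2_0 : relOK D2 10 32 T2_0 = true := by decide +kernel

def L2 : LinCert := ⟨[([(3,4),(11,5),(21,2),(25,3)],[(0,2),(0,2)]),([(11,4),(13,5)],[(0,3),(0,2),(1,2)]),([(3,9),(11,8),(21,5)],
  [(1,5),(4,2)]),([(3,9),(11,8)],[(0,2),(5,3)]),([(3,9),(13,8)],[(0,2),(1,5)]),([(3,9),(11,4),(13,4)],[(0,2),(2,
  2)]),([(3,5),(7,4),(21,3),(22,2)],[(6,3),(4,2)]),([(3,9),(7,8),(21,5)],[(0,4),(12,2)]),([(3,9),(7,8)],[(0,2),
  (10,3)]),([(7,5),(11,4)],[(2,3),(6,3),(6,2)]),([(3,9),(7,4),(11,4)],[(0,2),(0,2)]),([(3,9),(7,4),(13,4)],[(0,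
  2),(4,3),(0,2)]),([(3,4),(16,5),(21,2),(26,3)],[(12,2),(8,2)]),([(3,4),(16,5),(18,4),(21,2)],[(0,2),(22,2)]),
  ([(3,8),(16,9),(18,8)],[(0,4),(16,2)]),([(3,8),(16,9)],[(0,2),(22,4)]),([(7,5),(16,4)],[(9,3),(6,3),(10,2)]),
  ([(3,9),(13,4),(16,4)],[(0,2),(4,2)]),([(13,4),(16,5)],[(0,2),(1,2)]),([(3,9),(7,8)],[(0,5),(2,2),(3,4)]),
  ([(7,5),(11,4)],[(8,3),(5,2)]),([(3,9),(7,4),(11,4)],[(0,2),(0,2)]),([(11,4),(13,5)],[(0,2),(9,3)]),([(3,9),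
  (7,4),(11,4)],[(0,2),(10,2)]),([(3,8),(11,9)],[(0,5),(3,2)]),([(8,5),(17,3)],[(37,3),(0,2)]),([(8,8)],[(0,5),
  (39,2)]),([(7,4),(16,5)],[(7,2),(0,2),(6,3)]),([(3,8),(13,5),(16,5)],[(0,2),(15,3)]),([(3,8),(11,5),(16,5)],
  [(0,2),(5,3)]),([(8,4),(18,2)],[(45,3),(0,2)]),([(16,4),(18,5),(27,2)],[(17,3),(13,2)]),([(8,8),(16,4),(27,
  2)],[(0,2),(0,4)]),([(8,5),(23,2)],[(7,2),(37,2)]),([(3,4),(8,9),(16,5),(21,2)],[(3,5),(16,2)]),([(3,9),(8,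
  12),(15,2),(16,8)],[(0,3),(0,2),(0,2),(49,2)]),([(18,5),(26,3)],[(22,3),(0,2)]),([(8,8),(26,3)],[(0,2),(5,
  4)]),([(3,5),(6,4),(8,8),(12,5),(15,2),(19,3)],[(0,2),(2,3),(1,3),(50,2),(0,2)]),([(3,4),(6,4),(8,5),(12,5),
  (16,9),(19,3)],[(0,2),(2,3)]),([(3,5),(6,5),(8,4),(16,8),(20,3)],[(0,3),(57,2)]),([(8,8),(11,5),(16,4),(25,
  3)],[(6,3),(33,2)]),([(8,20),(11,5),(16,4)],[(0,2),(0,2),(0,2),(1,4),(11,2),(45,2)]),([(3,8),(8,4),(11,9)],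
  [(0,2),(12,2),(2,5)]),([(8,4)],[(0,2),(18,3)]),([(4,4),(7,2),(9,2),(16,5),(18,4)],[(13,3),(52,2)]),([(4,4),(7,
  2),(8,9),(9,2),(16,5)],[(0,2),(14,5)]),([(7,4),(16,5),(18,4),(22,2)],[(33,2),(6,2)]),([(7,4),(8,9),(16,5),(22,
  2)],[(0,2),(16,5)]),([(7,3),(8,3),(16,2)],[(0,3),(1,2),(8,3),(6,4),(45,4),(6,2)]),([(1,4),(3,4),(8,4),(10,2),
  (11,5),(12,5),(14,2),(16,5)],[(8,2),(0,2),(0,2),(1,2),(1,3),(0,3),(1,3),(56,2)]),([(3,4),(7,4),(8,13),(10,2),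
  (11,3),(16,7)],[(0,2),(1,2),(6,3),(0,3),(0,3),(1,5),(4,4),(57,2)]),([(7,9),(8,24),(10,5),(16,8)],[(0,5),(21,
  2)]),([(7,9),(8,24),(16,8)],[(0,2),(75,3)]),([(7,9),(16,8)],[(0,2),(8,13)]),([(7,4),(11,5)],[(30,2),(0,2)]),
  ([(3,9),(7,5),(8,24),(10,5),(16,12)],[(0,2),(3,5)]),([(3,9),(7,4),(8,24),(16,4)],[(0,2),(1,3),(77,3)]),([(3,
  16),(7,17)],[(0,5),(2,2),(9,24)]),([(3,9),(7,4),(16,4)],[(1,2),(12,13)]),([(3,8),(11,5),(13,5)],[(35,2),(1,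
  2)]),([(7,9),(8,24),(10,5),(13,5),(16,12)],[(0,2),(8,5)]),([(3,8),(7,5),(13,5)],[(0,2),(1,7),(0,3),(13,13),
  (67,3)]),([(3,17),(13,16)],[(0,9),(3,2)]),([(13,5),(16,4)],[(1,2),(2,2)]),([(3,9),(7,17),(8,48),(10,9),(16,
  24)],[(13,9),(26,2)]),([(3,9),(13,8)],[(0,2),(0,13),(0,5),(0,9),(17,25),(67,5)]),([(3,9),(13,4),(16,4)],[(0,
  2),(1,2)]),([(3,9),(7,4),(8,4),(13,4)],[(0,2),(17,5)]),([(3,9),(7,4),(13,4)],[(0,2),(23,3)]),([(7,5),(13,4)],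
  [(3,2),(3,2)]),([(3,8),(7,9)],[(0,2),(0,3)]),([(7,2),(8,2),(13,3)],[(22,3),(15,2),(2,2),(45,2),(10,2)]),([(7,
  5),(13,4)],[(1,2),(1,2)]),([(8,4)],[(0,2),(0,4)]),([(3,4),(7,3),(8,19),(10,2),(11,3)],[(23,2),(1,6)]),([(7,4),
  (8,12),(27,2)],[(26,5),(16,2)]),([(3,9),(7,9),(8,32),(10,5),(16,16),(25,3)],[(25,5),(9,2)]),([(3,9),(7,8),(8,
  48),(10,5),(25,3)],[(0,2),(27,17)]),([(8,13),(22,2)],[(29,4),(0,2)]),([(3,5),(6,5),(7,8),(8,12),(20,3)],[(30,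
  9),(8,2)]),([(3,4),(6,3),(7,3),(8,59),(10,4),(12,2)],[(0,2),(0,2),(0,3),(1,3),(3,2),(38,3),(7,2),(52,2)]),
  ([(3,4),(6,4),(7,9),(8,13),(12,5),(19,3)],[(32,8),(9,2)]),([(3,12),(7,13),(8,129),(10,8),(19,3)],[(0,2),(0,
  4)]),([(3,16),(7,17),(8,147),(10,10)],[(0,2),(4,3),(1,2),(0,3),(103,2)]),([(3,16),(7,17),(8,147),(10,3)],[(0,
  2),(107,6)]),([(8,2),(10,3)],[(0,2),(10,74),(2,5)]),([(3,12),(7,13),(8,121),(19,3)],[(0,8),(2,2)]),([(3,13),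
  (7,12),(8,120)],[(0,3),(116,2)]),([(3,4),(7,5)],[(0,2),(13,61),(2,4)]),([(1,4),(3,4),(6,5),(7,5),(8,81),(10,
  6),(14,2)],[(8,4),(5,5),(24,2),(0,4)]),([(1,4),(3,4),(6,5),(7,5),(8,75),(14,2)],[(0,2),(3,6)]),([(3,9),(7,8),
  (8,44),(25,3)],[(5,5),(7,2)]),([(3,4),(6,3),(7,3),(8,55),(12,2)],[(6,4),(4,2)]),([(4,4),(7,3),(8,13),(9,2)],
  [(44,4),(2,2)]),([(1,4),(3,8),(4,5),(5,3),(6,3),(7,5),(8,53),(32,5),(35,2)],[(0,3),(0,2),(0,3),(0,2),(3,3),(6,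
  3),(3,2),(38,3),(3,2),(64,2)]),([(1,4),(3,8),(4,5),(5,3),(6,3),(7,5),(8,53),(32,5),(35,3)],[(0,2),(125,2)]),
  ([(1,9),(3,17),(4,8),(5,4),(6,4),(7,8),(8,104),(32,8)],[(0,5),(126,2)]),([(3,4),(7,5),(8,13),(21,2)],[(48,4),
  (14,2)]),([(3,15),(7,14),(8,124),(35,2)],[(0,3),(10,3),(0,2),(9,3),(3,2),(38,2),(7,3),(57,2)]),([(1,5),(3,23),
  (4,4),(5,2),(6,2),(7,18),(8,176),(32,4)],[(0,2),(1,2),(0,2)]),([(3,9),(7,8),(8,20),(15,2)],[(51,9),(13,2)]),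
  ([(3,21),(7,20),(8,124),(35,2)],[(0,2),(7,3),(0,2),(19,2),(34,2),(6,3),(45,2),(17,2)]),([(3,35),(7,34),(8,
  248)],[(0,2),(1,2),(3,2)]),([(3,2),(7,3)],[(0,2),(13,18),(14,125)]),([(8,121),(19,3)],[(0,13),(16,2)]),([(8,
  20),(15,2)],[(1,8),(2,2)]),([(8,102)],[(0,3),(0,3),(18,2),(120,2)]),([(8,2)],[(0,2),(32,51)]),([(3,3),(4,4),
  (8,13),(9,2)],[(4,3),(9,2)]),([(3,3),(4,4),(9,2)],[(0,2),(0,12)]),([(10,3)],[(2,3),(21,2)]),([(3,4),(7,3),(8,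
  17),(11,3)],[(25,2),(10,2)]),([(3,2),(8,17),(11,3)],[(0,2),(7,3)]),([(3,2),(11,3)],[(0,2),(4,16)]),([(3,2),(6,
  3),(8,55),(12,2)],[(10,3),(10,2)]),([(3,2),(6,3),(12,2)],[(0,2),(6,54)]),([(3,2),(8,2),(13,3)],[(12,2),(31,
  2)]),([(3,2),(13,3)],[(0,2),(8,3)]),([(1,4),(6,5),(8,75),(14,2)],[(14,5),(12,2)]),([(1,4),(6,5),(14,2)],[(0,
  2),(10,74)]),([(15,2)],[(12,21),(1,2)]),([(3,3),(8,3),(16,2)],[(17,3),(54,2)]),([(3,3),(16,2)],[(0,2),(13,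
  2)]),([(17,3)],[(15,4),(82,2)]),([(18,2)],[(16,5),(77,2)]),([(19,3)],[(17,120),(2,2)]),([(3,4),(6,5),(8,12),
  (20,3)],[(22,8),(23,2)]),([(3,4),(6,5),(20,3)],[(0,2),(18,13)]),([(8,13),(21,2)],[(24,5),(5,2)]),([(21,2)],
  [(0,2),(20,12)]),([(22,2)],[(22,12),(28,2)]),([(23,2)],[(23,4),(74,2)]),([(8,44),(25,3)],[(28,8),(11,2)]),
  ([(25,3)],[(0,2),(24,45)]),([(26,3)],[(26,9),(70,2)]),([(3,4),(8,12),(27,2)],[(31,4),(27,2)]),([(3,4),(27,2)],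
  [(0,2),(27,13)])],
  [[(0,2)],[(1,2)],[(2,2)],[(3,2)],[(4,2)],[(5,2)],[(6,2)]],
  [],
  [[(0,2)],[(1,2)],[(2,2)],[(3,2)],[(4,2)],[(5,2)],[(6,2)],[(3,2),(36,3)],[(36,2)],[(3,2),(0,5),(29,2)],[(33,
  3)],[(3,2),(26,3)],[(3,3),(2,2),(21,2)],[(3,2),(22,3)],[(1,5),(4,4),(17,2)],[(23,2)],[(3,2),(17,2)],[(20,3)],
  [(19,2)],[(18,3)],[(3,4),(2,5),(9,3)],[(14,2)],[(13,2)],[(12,2)],[(160,2)],[(10,3)],[(9,3)],[(3,5),(3,2)]]⟩

theorem hL2 : linOK D2 10 ([T2_0].flatMap fun c => c.map fun s => s.2) L2 = true := by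
  decide +kernel

def xs2 : List ℕ := [984804261842214368737105645013149728,962385502792982227914350947957228736,
  977028559720289729531988376999311712,964046128079820583409494349381381280,
  957555756896237696687569803782105792,960154834287925099172141383694363104,
  957558685441657119311652729101207232,962699884380634869910037310245743808,
  961073920130586190044900068908620021,963667358209595554421406253413845440]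

theorem sb2 : SBnd ↥Cfsg.Spor.M23 79695 [] := by
  obtain ⟨x, -, hx⟩ := exists_actBy (isAct_point EG 5 31) (codes23 (L := 984818244535754528103549039458486304 :: xs2) (by decide +kernel))
  exact sbnd_of_act (isCanon_PtC EG) hx (isBase_range EG _) D2 (by decide +kernel)
    (allLt_iff.1 (by decide +kernel)) (by decide +kernel) card_M23 (by decide +kernel)
    (sw := [[1],[0],[2],[5],[6],[3,4],[0,2,4]]) (PB := [12,9,1]) (hm := 24) (fuel' := 18)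
    (exists_PtC EG (by decide +kernel)) (by decide +kernel) (List.forall_mem_cons.2 ⟨hT2_0, List.forall_mem_nil _⟩) hL2 (by decide +kernel)

def D3 : PcData := ⟨2, 2,
  [[],[]],
  [[],[[1]]],
  [(2,[0],[0,0]),(2,[1],[1])]⟩

def T3_0 : List ((ℕ × ℕ × List ℕ × List ℕ) × List (ℕ × ℕ)) :=
  [((0,2,[1,0],[0,1]),[(1,3)])]

theorem hT3_0 : relOK D3 5 9 T3_0 = true := by decide +kernel

def L3 : LinCert := ⟨[],
  [[(0,2)],[(2,2)]],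
  [],
  [[(0,2)],[(2,3)],[(1,2)]]⟩

theorem hL3 : linOK D3 5 ([T3_0].flatMap fun c => c.map fun s => s.2) L3 = true := by
  decide +kernel

def xs3 : List ℕ := [973082441430955826830746178056079392,973135690147334810485182992599923744,
  964900358167387338294953782754885633]

theorem sb3 : SBnd ↥Cfsg.Spor.M23 1133440 [] := by
  obtain ⟨x, -, hx⟩ := exists_actBy (isAct_point EG 5 31) (codes23 (L := 984818244535754528103549039458486304 :: xs3) (by decide +kernel))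
  exact sbnd_of_act (isCanon_PtC EG) hx (isBase_range EG _) D3 (by decide +kernel)
    (allLt_iff.1 (by decide +kernel)) (by decide +kernel) card_M23 (by decide +kernel)
    (sw := [[0],[0,1]]) (PB := [3,2]) (hm := 24) (fuel' := 5)
    (exists_PtC EG (by decide +kernel)) (by decide +kernel) (List.forall_mem_cons.2 ⟨hT3_0, List.forall_mem_nil _⟩) hL3 (by decide +kernel)

def xsc : List ℕ := [964046271642007454363072251417660928,984085284807123593889822879172792688,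
  962727795729681672707037769424537204,973052007857294191484016469611172003]

theorem sb : SBnd ↥Cfsg.Spor.M23 1 [] := by
  obtain ⟨x, -, hx⟩ := exists_actBy (isAct_point EG 5 31) (codes23 (L := 984818244535754528103549039458486304 :: xsc) (by decide +kernel))
  exact (((((sb2.append sb3).append
    (sbnd_of_cyclic (isCanon_PtC EG) hx (isBase_range EG _) 0 5 0 (by norm_num) (b := 1) ⟨EG.dec 1, rfl⟩
      (by decide +kernel) card_M23 (m := 2040192) (by decide +kernel))).append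
    (sbnd_of_cyclic (isCanon_PtC EG) hx (isBase_range EG _) 1 7 0 (by norm_num) (b := 0) ⟨EG.dec 0, rfl⟩
      (by decide +kernel) card_M23 (m := 1457280) (by decide +kernel))).append
    (sbnd_of_cyclic (isCanon_PtC EG) hx (isBase_range EG _) 2 11 0 (by norm_num) (b := 0) ⟨EG.dec 0, rfl⟩
      (by decide +kernel) card_M23 (m := 927360) (by decide +kernel))).append
    (sbnd_of_cyclic (isCanon_PtC EG) hx (isBase_range EG _) 3 23 0 (by norm_num) (b := 0) ⟨EG.dec 0, rfl⟩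
      (by decide +kernel) card_M23 (m := 443520) (by decide +kernel))).of_eq (by decide +kernel) rfl

theorem result : Cfsg.HasCyclicSchurMultiplier ↥Cfsg.Spor.M23 1 := cyc_one_of_bnd sb

end Cfsg.Agent.S2037
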