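import Cfsg.Statements.S2038
import Cfsg.Agent.Known.SchurModel
import Cfsg.Agent.Golay.Mathieu

set_option maxRecDepth 100000

namespace Cfsg.Agent.S2038

open Cfsg.Agent.Comp Cfsg.Agent.Known Cfsg.Agent.Golay

def D2 : PcData := ⟨1, 10,
  [[7,8],[],[4,6,7],[5,9],[],[],[],[],[],[]],
  [[],[[1,6,7,8]],[[2,4,6,8],[2,5]],[[3,6,9],[3,5,9],[3,4,5,6,7,8,9]],[[4,9],[4,8],[4,7],[4,7,9]],[[5,7,8],[5],
  [5,8],[5],[5,9]],[[6],[6],[6,7],[6,7,8],[6],[6]],[[7],[7],[7],[7,9],[7],[7],[7]],[[8],[8],[8,9],[8,9],[8],[8],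
  [8],[8]],[[9],[9],[9],[9],[9],[9],[9],[9],[9]]],
  [(10,[0],[1,3,5,6,8]),(10,[1,3],[5,7,9]),(10,[2],[2,4,5,6,8,9]),(10,[4],[0,4,5,8,9]),(10,[5],[1,3,4,5,6,7,9]),
  (10,[6],[0,4,5,7,8,9]),(10,[7],[4,6,8]),(10,[8],[4,6,7,9]),(10,[9],[9]),(11,[0,3],[0,1,2,9]),(11,[1],[1,5]),
  (11,[4],[2,3,8,9]),(11,[5],[1,8]),(11,[7],[5,6]),(11,[8],[8]),(11,[9],[9]),(12,[0],[4,5]),(12,[5],[5,7,9]),
  (12,[6],[8]),(13,[4],[4,7]),(13,[7],[6,8])]⟩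

def T2_0 : List ((ℕ × ℕ × List ℕ × List ℕ) × List (ℕ × ℕ)) :=
  [((5,0,[4],[]),[(10,5),(49,3),(54,3)]),((9,2,[8],[]),[(38,5),(53,3),(54,3)]),((9,3,[8],[]),[(39,5),(53,3),(54,
  3)]),((10,4,[9],[]),[(49,5)]),((10,8,[9],[]),[(53,5)]),((6,3,[5],[]),[(18,5)]),((6,4,[5],[]),[(19,5),(50,3),
  (54,3)]),((4,3,[5],[]),[(18,4),(50,2)]),((5,4,[5],[]),[(19,4),(49,2),(54,2)]),((10,0,[9],[]),[(45,5)]),((8,3,
  [7],[]),[(31,5),(52,3),(54,3)]),((1,0,[9],[]),[(45,4),(52,3),(53,3)]),((2,1,[2],[]),[(4,4),(16,2),(20,2)]),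
  ((2,1,[3],[]),[(7,4),(16,2),(20,2),(46,2),(50,2),(54,2)]),((10,1,[9],[]),[(46,5)]),((5,2,[4],[]),[(12,5),(32,
  3),(35,3)]),((5,3,[4],[]),[(13,5),(32,3),(35,3),(49,3),(52,3),(54,3)]),((8,4,[7],[]),[(32,5)]),((8,0,[7],[]),
  [(28,5)]),((7,0,[6],[]),[(21,5)]),((5,1,[4],[]),[(11,5),(40,3),(44,3)]),((2,1,[4],[]),[(11,4),(37,2),(44,2)]),
  ((1,0,[7],[]),[(28,4),(43,2)]),((7,2,[6],[]),[(23,5),(34,3),(35,3)]),((1,0,[6],[]),[(21,4),(34,2),(42,2)]),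
  ((7,3,[6],[]),[(24,5),(34,3),(35,3),(42,3),(43,3),(44,3)]),((9,1,[8],[]),[(37,5)]),((1,0,[4],[]),[(10,4),(32,
  2),(40,2),(45,2),(54,2)]),((3,2,[2],[]),[(12,2),(23,2),(30,2),(34,2),(35,2)]),((8,2,[7],[]),[(30,5)]),((5,1,
  [6],[]),[(42,2)]),((6,2,[5],[]),[(17,5),(41,3),(44,3)]),((6,0,[5],[]),[(15,5),(33,3),(35,3),(41,3),(43,3),(44,
  3)]),((3,1,[7],[]),[(33,3)]),((4,3,[3],[]),[(18,2),(48,2)]),((4,3,[7],[]),[(31,4),(33,3),(48,2),(52,2),(54,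
  2)]),((5,0,[7],[]),[(52,2)]),((3,1,[5],[]),[(37,2),(41,3)]),((4,3,[8],[]),[(39,4),(41,3),(48,2),(53,2),(54,
  2)]),((3,2,[4],[]),[(12,4),(25,2),(30,2),(32,2),(35,2)]),((7,4,[6],[]),[(25,5)]),((3,2,[8],[]),[(38,4),(40,3),
  (42,3),(43,3),(47,2),(54,2)]),((10,2,[9],[]),[(47,5)]),((5,1,[5],[]),[(41,2),(46,2),(53,3)]),((4,3,[4],[]),
  [(13,4),(19,2),(31,2),(35,2),(48,2),(49,2),(52,2),(54,4)]),((3,0,[6],[]),[(25,3),(28,2),(32,3),(34,3),(42,2),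
  (43,2)]),((2,0,[1],[]),[(1,5),(22,3),(27,3),(29,3),(34,3),(35,3),(37,3),(42,3),(43,3),(44,3)]),((3,1,[6],[]),
  [(26,3),(29,2),(33,3)]),((1,0,[0],[]),[(28,2),(36,2)]),((1,0,[1],[]),[(1,4),(21,2),(27,2),(28,2),(29,2),(34,
  2),(35,2),(36,2),(37,2),(42,2),(43,2),(44,2)]),((5,0,[6],[]),[(51,2)]),((3,2,[5],[]),[(17,4),(19,3),(26,2),
  (33,2),(38,2),(44,2),(51,3),(52,3)]),((4,0,[3],[]),[(6,5),(15,2),(24,3),(27,3),(34,3),(42,3),(45,2),(48,3),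
  (51,3),(52,3),(53,3),(54,3)]),((7,5,[6],[]),[(26,5)]),((4,3,[6],[]),[(24,4),(26,3),(31,2),(35,2),(39,2),(43,
  2),(44,2),(51,2),(52,4),(53,2),(54,2)]),((1,0,[3],[]),[(6,4),(21,2),(27,2),(31,2),(34,4),(39,2),(42,4),(45,2),
  (51,2),(53,2),(54,4)]),((3,1,[2],[]),[(4,5),(11,2),(17,3),(20,3),(22,2),(26,5),(29,2),(33,5),(41,3),(42,2),
  (43,2)]),((6,1,[5],[]),[(16,5)]),((1,0,[2],[]),[(3,4),(10,2),(14,2),(21,2),(25,2),(27,2),(30,2),(32,4),(34,4),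
  (36,2),(38,2),(40,2),(42,2),(44,2),(49,4),(51,2),(53,2),(54,2)]),((4,2,[3],[]),[(8,5),(13,3),(14,3),(17,2),
  (18,3),(19,3),(20,3),(24,3),(25,3),(26,3),(27,3),(31,3),(32,3),(33,5),(34,5),(35,5),(39,3),(43,3),(44,3),(47,
  2),(48,3),(49,3),(50,3),(51,3),(52,5),(53,3),(54,7)]),((2,0,[2],[]),[(11,3),(15,2),(19,3),(22,3),(23,2),(25,
  2),(30,2),(35,2),(37,3),(38,2),(40,2),(49,2),(50,2),(51,3),(53,3)]),((3,0,[3],[]),[(10,2),(13,2),(15,2),(19,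
  3),(21,2),(23,3),(24,2),(28,2),(34,2),(35,2),(36,2),(39,2),(40,3),(42,3),(44,2),(45,2),(47,3),(49,2),(51,3),
  (54,2)]),((0,11,[15,15],[]),[(70,5)]),((0,10,[6,3],[3,6]),[(10,3),(19,2),(21,3),(25,3),(26,3),(32,2),(36,3),
  (41,3),(42,2),(50,3),(51,3),(53,3)]),((0,10,[8,8],[]),[(63,5)]),((0,10,[6,1],[1,6,8]),[(19,2),(26,3),(29,2),
  (31,2),(32,2),(34,2),(41,3),(43,3),(49,2),(52,2),(54,2),(63,2)]),((0,10,[1,0],[0,1,8]),[(1,2),(6,2),(16,3),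
  (18,3),(24,2),(26,2),(27,2),(29,3),(33,3),(34,3),(35,2),(39,2),(41,2),(43,4),(44,2),(46,3),(48,3),(53,2),(54,
  2),(63,2)]),((0,10,[7,7],[]),[(14,3),(25,3),(27,3),(32,3),(34,3),(35,3),(44,2),(49,3),(51,3),(52,3),(54,3),
  (62,5)]),((0,10,[6,6],[]),[(14,3),(25,3),(27,3),(35,2),(40,3),(42,3),(44,3),(61,5)]),((0,10,[0,0],[6,7]),[(0,
  2),(2,3),(7,3),(9,3),(14,2),(16,3),(20,5),(22,3),(24,3),(25,2),(26,3),(33,3),(34,3),(37,3),(39,3),(40,2),(42,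
  2),(43,2),(44,3),(48,3),(50,5),(51,7),(52,3),(53,9),(54,3),(55,5),(61,2),(62,2)]),((0,10,[3,1],[1,3,6,7]),
  [(11,2),(13,2),(14,2),(15,2),(19,2),(25,2),(27,2),(28,2),(35,2),(39,2),(40,4),(42,2),(43,2),(44,2),(45,2),(49,
  6),(50,3),(51,4),(53,6),(54,4),(61,2),(62,2)]),((0,10,[5,2],[2,5,6]),[(3,2),(10,2),(12,3),(14,2),(15,2),(17,
  3),(21,2),(23,2),(25,2),(26,2),(27,2),(30,3),(32,2),(34,2),(36,2),(38,3),(40,4),(41,4),(43,2),(44,2),(45,2),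
  (47,3),(50,2),(52,6),(53,6),(61,2)]),((0,10,[4,2],[2,4,7]),[(4,2),(8,3),(11,2),(12,3),(13,2),(16,2),(19,2),
  (22,2),(23,3),(24,2),(30,3),(34,4),(37,2),(40,2),(41,2),(42,6),(43,2),(46,2),(47,3),(49,3),(50,2),(51,4),(52,
  6),(53,4),(54,2),(62,2)]),((0,11,[13,10],[10,13]),[(16,3),(22,3),(26,3),(29,2)]),((0,11,[14,9],[9,14,15]),
  [(37,3),(38,3),(39,2),(53,2),(70,2)]),((0,11,[12,11],[11,12,15]),[(4,2),(7,2),(18,2),(19,2),(20,2),(37,2),(38,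
  3),(39,3),(46,2),(48,3),(53,2),(70,2)]),((0,12,[18,16],[16,18]),[(21,2),(40,3),(41,3)]),((0,12,[18,17],[17,
  18]),[(26,2),(41,3),(43,3),(53,2)]),((0,13,[20,19],[19,20]),[(25,3),(32,2),(34,2),(40,3),(43,3)])]

theorem hT2_0 : relOK D2 17 105 T2_0 = true := by decide +kernel

def L2 : LinCert := ⟨[([(10,4),(38,5),(49,2),(53,3)],[(0,3),(0,2)]),([(38,4),(39,5)],[(0,3),(0,3),(1,2)]),([(10,9),(38,8),(49,5)],
  [(1,5),(4,2)]),([(10,9),(38,8)],[(0,2),(5,3)]),([(10,9),(39,8)],[(0,2),(1,5)]),([(10,9),(38,4),(39,4)],[(0,2),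
  (2,2)]),([(10,8),(38,9)],[(0,5),(0,2)]),([(10,4),(19,5),(49,2),(50,3)],[(7,3),(5,2)]),([(10,4),(18,4),(19,5),
  (49,2)],[(0,2),(14,2)]),([(10,8),(18,8),(19,9)],[(0,4),(11,2)]),([(10,8),(19,9)],[(0,2),(14,4)]),([(10,5),(19,
  4)],[(11,2),(7,2)]),([(10,4),(19,5)],[(0,2),(0,2)]),([(18,5),(19,4),(38,5),(53,3)],[(4,3),(7,2)]),([(10,4),
  (31,5),(49,2),(52,3)],[(14,3),(9,2)]),([(18,5),(19,4),(31,5),(52,3)],[(0,2),(5,3)]),([(18,8),(19,9),(31,4),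
  (38,4),(45,4)],[(0,3),(1,3),(24,2)]),([(10,9),(31,4),(38,4)],[(0,2),(3,5),(17,4),(3,2)]),([(31,4),(38,5)],[(0,
  2),(10,2)]),([(18,4),(19,5),(54,3)],[(10,2),(8,2)]),([(18,5),(50,3)],[(11,3),(0,2)]),([(4,5),(7,4),(19,5),(46,
  2)],[(0,2),(0,2),(31,3),(0,2)]),([(4,9),(7,8),(19,9)],[(0,4),(35,2)]),([(4,9),(7,8),(10,9)],[(0,2),(9,5)]),
  ([(4,9),(7,8),(31,9)],[(0,2),(4,5),(11,2)]),([(4,9),(7,8),(10,5),(19,5)],[(1,2),(10,2)]),([(10,4),(12,4),(13,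
  5),(18,4),(19,5),(31,4)],[(6,3),(3,3),(6,2),(23,3),(0,2)]),([(4,9),(7,8),(12,4),(13,5),(31,5)],[(0,2),(0,3),
  (0,2),(0,2),(28,2)]),([(4,8),(7,9),(12,9),(13,8)],[(0,5),(2,2)]),([(12,5),(13,4),(31,5)],[(0,2),(0,2)]),([(37,
  2),(40,3)],[(50,2),(0,2)]),([(11,5),(37,3),(44,3)],[(0,3),(50,2)]),([(12,4),(23,5),(32,2),(34,3)],[(47,3),(7,
  2)]),([(12,4),(21,4),(23,5),(32,2),(42,2)],[(0,2),(56,2)]),([(11,4),(12,4),(21,4),(24,5),(28,4),(32,2),(37,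
  2)],[(0,2),(0,3),(0,3),(46,3),(6,2),(2,2)]),([(11,8),(12,8),(21,8),(24,9),(28,8),(32,4)],[(0,4),(60,2)]),
  ([(11,8),(12,8),(24,9)],[(0,2),(52,2),(0,4),(0,4)]),([(11,5),(12,5),(21,5),(24,4),(28,5),(32,3),(40,3)],[(2,
  3),(3,2)]),([(10,4),(11,5),(12,5),(18,4),(19,5),(21,5),(24,4),(28,5),(45,2)],[(0,2),(17,2),(46,2)]),([(10,8),
  (11,9),(12,9),(18,8),(19,9),(21,9),(24,8),(28,9)],[(0,4),(47,2)]),([(10,8),(19,9)],[(0,2),(2,2),(41,4),(12,5),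
  (0,5)]),([(4,16),(7,17),(10,16)],[(0,2),(14,5)]),([(4,8),(7,9),(10,8)],[(0,2),(17,2)]),([(10,4),(19,5)],[(0,
  2),(16,2)]),([(12,2),(23,3),(30,2)],[(11,2),(47,2),(12,2)]),([(12,4),(23,5)],[(0,4),(73,2)]),([(12,5),(21,5),
  (23,4),(32,3)],[(12,3),(63,2)]),([(11,4),(17,5),(37,2),(41,3)],[(15,3),(62,2)]),([(12,4),(15,5),(17,4),(28,4),
  (32,2),(33,3)],[(0,3),(15,3),(46,3),(6,2),(9,2)]),([(15,5),(17,4),(21,5),(23,4),(28,4),(33,3)],[(0,2),(1,2)]),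
  ([(15,4),(17,5),(21,4),(23,5),(28,5)],[(0,3),(82,2)]),([(12,5),(15,4),(17,5)],[(0,2),(4,3),(63,3),(0,2)]),
  ([(15,4),(17,5),(18,3),(21,4),(23,5),(28,5)],[(2,3),(29,2),(3,2),(49,3),(0,2)]),([(15,9),(17,8),(21,9),(23,8),
  (28,8)],[(0,5),(57,2)]),([(15,9),(17,8),(23,8),(28,8)],[(0,2),(72,5)]),([(15,9),(17,8),(23,8),(28,4)],[(0,2),
  (72,2)]),([(15,8),(17,9),(23,9)],[(0,5),(0,2)]),([(28,4)],[(0,2),(0,2)]),([(15,9),(17,8),(19,4),(21,9),(23,8),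
  (28,8),(31,5),(52,3)],[(5,5),(36,2)]),([(15,9),(17,8),(19,4),(21,9),(23,8),(28,8),(31,5)],[(0,2),(94,2)]),
  ([(10,4),(31,5)],[(0,2),(1,5),(5,4),(5,4),(1,2),(62,5)]),([(4,8),(7,9),(10,4),(12,5),(13,4)],[(0,2),(30,3),(0,
  2)]),([(4,9),(7,8),(10,9)],[(0,5),(32,2)]),([(12,5),(13,4),(19,5)],[(1,3),(17,2),(14,2)]),([(4,9),(7,8),(10,
  5),(19,5)],[(0,2),(1,3)]),([(11,4),(23,4),(24,5),(28,4),(37,2)],[(18,2),(11,2)]),([(17,5),(23,5),(24,4),(28,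
  5),(41,3)],[(0,3),(17,2)]),([(11,5),(17,4)],[(0,3),(0,3),(102,2)]),([(11,5),(12,5),(15,4)],[(0,2),(15,2)]),
  ([(38,5),(39,4)],[(62,2),(0,2)]),([(31,5),(39,4)],[(0,2),(50,3)]),([(4,8),(7,9),(12,5),(13,4),(39,4)],[(0,2),
  (40,3),(0,2)]),([(4,9),(7,8),(31,5),(38,5)],[(47,2),(5,2)]),([(12,5),(13,4),(38,5)],[(0,2),(42,3),(0,2)]),
  ([(15,8),(17,9),(19,5),(21,8),(23,9),(28,9),(54,3)],[(21,4),(32,2)]),([(15,9),(17,8),(19,4),(21,9),(23,8),(28,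
  8),(38,5),(53,3)],[(22,5),(38,2)]),([(15,4),(17,5),(21,4),(23,5),(28,5),(48,2)],[(23,2),(86,2)]),([(15,5),(17,
  8),(21,5),(23,8),(24,5),(28,8),(38,5),(39,4)],[(0,3),(0,2),(0,2),(7,3),(104,2)]),([(15,4),(24,5),(38,5),(39,
  4)],[(0,2),(19,5),(5,4),(5,4),(64,3)]),([(15,4),(24,5)],[(0,2),(4,3),(1,3),(42,2)]),([(11,4),(12,4),(24,5)],
  [(0,2),(10,3)]),([(11,4),(17,5)],[(12,3),(16,2)]),([(21,4),(23,5),(35,3)],[(35,3),(61,2)]),([(12,3),(23,2),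
  (25,2)],[(0,2),(35,2),(1,3),(83,2)]),([(12,5),(23,4)],[(0,4),(123,2)]),([(42,2)],[(38,2),(12,2)]),([(11,5),
  (23,5),(24,4),(28,5),(40,3)],[(39,3),(8,2)]),([(11,4),(15,8),(17,9),(19,5),(21,8),(23,5),(24,5),(38,4),(47,
  2)],[(0,3),(0,2),(10,2),(96,2),(18,2)]),([(11,8),(15,16),(17,17),(19,9),(21,16),(23,9),(24,9),(38,8)],[(0,4),
  (129,2)]),([(4,16),(7,17),(10,8),(38,8)],[(0,2),(3,4),(2,9),(0,5),(11,9),(3,5),(83,8)]),([(4,9),(7,8),(10,5),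
  (38,5)],[(16,2),(11,3)]),([(4,8),(7,9),(10,4),(38,4)],[(0,2),(0,2)]),([(10,5),(38,4)],[(0,2),(28,2)]),([(4,4),
  (7,5),(15,8),(17,13),(21,8),(23,13),(24,4),(28,13),(38,4)],[(17,3),(8,2),(44,3),(64,2)]),([(4,5),(7,4),(10,
  5)],[(0,2),(0,3),(7,6),(2,7),(0,2),(11,5),(5,2),(4,6),(76,4)]),([(10,5),(12,5),(13,4)],[(32,2),(0,2)]),([(4,
  4),(7,5),(12,5),(13,4)],[(0,2),(0,3)]),([(4,5),(7,4),(19,5)],[(2,3),(29,2)]),([(10,4),(15,8),(17,9),(19,5),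
  (21,8),(23,9),(28,9),(49,2)],[(45,4),(43,2)]),([(10,5),(13,4),(15,5),(17,4),(19,2),(28,4),(31,3)],[(0,3),(15,
  2),(5,3),(1,4),(15,2),(102,2)]),([(4,9),(7,8),(10,5),(31,5)],[(38,3),(31,2)]),([(4,5),(7,4),(31,5)],[(0,2),(5,
  3)]),([(4,5),(7,4),(10,8),(13,9),(15,8),(17,9),(19,5),(28,9)],[(0,2),(1,5)]),([(4,8),(7,9),(10,8)],[(0,2),(4,
  3),(0,4),(14,5),(12,5),(10,4)]),([(4,4),(7,5),(10,4)],[(0,2),(8,2)]),([(21,5),(34,3)],[(58,2),(13,2)]),([(12,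
  2),(21,8),(23,3),(28,3)],[(0,3),(19,3),(1,2),(36,3),(68,3),(22,2)]),([(12,4),(21,16),(23,5)],[(0,4),(48,2)]),
  ([(12,4),(23,5)],[(0,2),(126,8)]),([(23,4),(24,5),(28,4),(44,3)],[(43,2),(33,2)]),([(1,5),(11,4),(22,3),(23,
  4),(27,3),(28,4),(29,3)],[(0,3),(3,3),(19,2),(2,3),(16,2),(87,2),(23,2)]),([(1,5),(11,4),(15,4),(17,5),(21,4),
  (22,3),(26,3),(27,3)],[(0,2),(60,3),(96,2)]),([(15,5),(17,4),(21,5),(23,4),(26,2),(28,4),(29,3)],[(0,3),(0,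
  2)]),([(21,2),(22,3)],[(0,2),(0,2),(1,2),(3,2),(19,3),(2,2),(16,3),(87,3),(25,3),(0,2)]),([(1,5),(11,4),(15,
  4),(17,5),(21,2),(26,3),(27,3)],[(0,3),(1,2)]),([(12,9),(15,8),(17,9),(19,5),(21,25),(54,3)],[(8,9),(31,2)]),
  ([(10,8),(13,9),(21,9),(23,8),(52,3)],[(16,5),(40,2)]),([(10,9),(13,8),(15,5),(17,8),(19,3),(21,4),(24,5),(26,
  2),(28,8),(38,2)],[(0,3),(6,2),(59,2),(99,2),(0,2)]),([(10,17),(13,16),(15,17),(17,24),(23,8),(24,9),(26,4),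
  (28,24),(53,3)],[(0,4),(41,2)]),([(10,17),(12,24),(13,16),(15,17),(17,24),(21,96),(23,17),(24,9),(26,4),(53,
  3)],[(0,2),(11,24)]),([(12,5),(15,4),(17,5),(21,13),(48,2)],[(13,5),(29,2)]),([(10,4),(11,5),(12,5),(15,8),
  (17,9),(19,5),(21,4),(23,9),(24,4),(28,13),(45,2)],[(68,4),(13,2)]),([(10,4),(11,5),(12,17),(15,8),(17,9),(19,
  5),(21,45),(23,4),(24,4),(45,2)],[(0,2),(14,13)]),([(1,4),(6,5),(10,4),(12,5),(13,9),(15,2),(17,9),(19,8),(21,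
  31),(23,4),(24,2),(26,3)],[(0,3),(1,2),(0,3),(2,3),(0,3),(0,3),(8,3),(19,2),(135,2),(1,2)]),([(1,9),(6,8),(10,
  9),(12,8),(13,16),(15,5),(17,16),(19,17),(21,60),(23,9),(24,5)],[(0,5),(176,2)]),([(1,9),(6,8),(10,9),(13,16),
  (15,5),(17,16),(19,17),(24,5)],[(0,2),(15,5),(127,30)]),([(1,9),(6,8),(10,9),(11,16),(13,16),(15,5),(19,17),
  (24,5)],[(0,2),(43,8)]),([(1,9),(6,8),(10,9),(11,12),(12,5),(13,16),(19,17),(24,5)],[(0,2),(57,2)]),([(1,8),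
  (6,9),(10,8),(11,9),(12,8),(13,17),(19,16)],[(0,3),(46,2)]),([(1,8),(4,17),(6,9),(7,16),(10,8),(11,9),(12,8),
  (13,17)],[(0,2),(30,8)]),([(1,8),(4,13),(6,9),(7,12),(10,8),(11,9),(12,4),(13,13)],[(0,2),(32,2)]),([(1,9),(4,
  8),(6,8),(7,9),(10,9),(11,8),(13,8)],[(0,5),(0,2)]),([(1,9),(4,16),(6,8),(7,17),(11,8),(13,8)],[(0,2),(26,
  4)]),([(1,9),(4,4),(6,8),(7,5),(10,9),(11,8),(12,4),(13,4)],[(1,4),(0,2)]),([(1,9),(4,12),(6,8),(7,13),(11,8),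
  (12,4),(13,4)],[(0,2),(28,4)]),([(1,8),(6,9),(10,8),(11,13),(12,4),(13,17),(15,4),(19,16)],[(6,2),(59,2)]),
  ([(1,8),(4,17),(6,9),(7,16),(10,8),(11,13),(12,4),(13,17),(15,4)],[(0,2),(37,8)]),([(1,9),(4,4),(6,8),(7,5),
  (10,9),(11,4),(13,4),(15,4)],[(0,2),(2,3),(1,6)]),([(1,9),(4,12),(6,8),(7,13),(11,4),(13,4),(15,4)],[(0,2),
  (32,4)]),([(11,4),(12,4),(24,5)],[(10,2),(0,2)]),([(4,4),(7,5),(11,4),(13,4),(24,5)],[(0,2),(5,3),(1,2)]),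
  ([(4,4),(7,5),(13,4),(23,5)],[(7,3),(1,2),(22,2)]),([(1,9),(6,4),(10,5),(11,4),(12,4),(13,8),(15,2),(17,4),
  (19,9),(21,32),(23,5),(24,3),(27,3)],[(18,3),(8,2)]),([(1,8),(6,9),(10,9),(12,16),(15,13),(17,8),(19,16),(21,
  36),(23,9),(24,5),(53,3)],[(19,4),(3,2)]),([(10,5),(12,4),(13,4),(15,5),(17,4),(19,2),(21,16),(23,5),(31,3)],
  [(37,4),(6,2)]),([(10,5),(13,4),(15,13),(17,20),(19,3),(21,5),(23,16),(24,9),(26,2),(28,20),(39,2)],[(26,2),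
  (1,4),(6,2),(9,2),(16,2),(7,2),(96,3),(27,3),(3,2)]),([(1,4),(6,5),(12,16),(13,5),(15,11),(17,12),(19,6),(21,
  46),(24,7),(39,2)],[(0,2),(21,2),(16,20)]),([(1,5),(6,4),(10,21),(11,8),(12,8),(13,16),(15,4),(17,5),(21,28),
  (23,21),(24,5)],[(0,3),(1,2),(0,2),(0,2),(19,3),(6,4),(9,4),(19,5),(135,3),(4,2)]),([(1,5),(4,13),(6,4),(7,
  12),(10,21),(11,4),(13,4)],[(0,2),(5,11),(0,3),(1,3),(3,5),(1,6),(50,3),(100,14)]),([(1,5),(4,8),(6,4),(7,9),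
  (11,4),(13,4)],[(0,2),(43,10)]),([(1,5),(4,4),(6,4),(7,5),(11,4),(12,4)],[(0,3),(14,2)]),([(1,4),(4,5),(6,5),
  (7,4),(24,5)],[(1,3),(8,2)]),([(12,5),(17,5),(21,17),(24,4),(41,3)],[(45,5),(39,2)]),([(12,4),(15,5),(17,4),
  (21,12),(33,3)],[(46,4),(56,2)]),([(12,4),(21,16),(23,5),(43,2)],[(47,4),(128,2)]),([(1,4),(6,5),(10,4),(13,
  9),(15,3),(17,5),(19,8),(21,19),(23,4),(24,2),(29,3)],[(31,2),(10,2),(5,4)]),([(1,5),(6,4),(10,5),(11,2),(13,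
  8),(15,2),(16,2),(17,6),(19,9),(21,20),(24,7)],[(0,2),(0,3),(0,5),(0,3),(28,5),(9,2),(27,3),(97,2),(43,2)]),
  ([(1,9),(6,8),(10,9),(11,4),(13,16),(15,4),(17,12),(19,17),(21,40),(24,13)],[(0,4),(213,2)]),([(1,9),(6,8),
  (10,9),(11,4),(13,16),(15,4),(17,12),(19,17),(24,13)],[(0,2),(176,20)]),([(1,21),(4,12),(6,20),(7,13),(10,9),
  (11,4),(13,16),(15,4),(17,12),(19,17)],[(0,2),(6,7)]),([(1,21),(4,12),(6,20),(7,13),(10,9),(11,16),(13,16),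
  (15,4),(19,17)],[(0,2),(77,6)]),([(1,5),(4,4),(6,4),(7,5),(15,4)],[(11,3),(10,2)]),([(1,16),(4,9),(6,17),(7,
  8),(10,8),(11,17),(13,17),(19,16)],[(0,2),(0,3)]),([(1,5),(4,4),(6,4),(7,5),(15,4)],[(0,2),(1,2)]),([(12,4),
  (21,16),(24,5),(44,3)],[(54,2),(2,4)]),([(11,5),(12,5),(21,17),(24,4),(40,3)],[(58,5),(19,2)]),([(10,4),(12,
  9),(15,8),(17,9),(19,5),(21,25),(49,2)],[(59,9),(7,2)]),([(1,4),(6,5),(10,5),(12,4),(15,3),(19,6),(21,6),(23,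
  5),(24,3),(38,2)],[(43,2),(5,2),(10,8)]),([(12,2),(21,8),(23,3),(36,2)],[(61,2),(154,2)]),([(1,5),(3,4),(10,
  15),(12,14),(13,8),(14,2),(15,17),(17,20),(19,6),(21,64),(23,2),(24,5)],[(0,3),(0,3),(0,5),(0,2),(0,2),(20,2),
  (0,2),(26,2),(9,4),(19,3),(1,3),(36,4),(1,3),(94,3),(7,2)]),([(1,4),(4,5),(6,5),(7,4),(11,5),(23,5)],[(20,3),
  (7,2)]),([(1,5),(3,8),(4,5),(6,5),(7,4),(10,29),(11,5),(12,28),(13,16),(14,4),(15,33),(17,40),(19,12),(21,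
  128),(24,9)],[(0,2),(0,4)]),([(1,37),(3,8),(4,28),(6,28),(7,29),(10,29),(11,5),(12,28),(13,16),(14,4),(17,40),
  (19,12),(21,128),(24,9)],[(0,2),(7,16)]),([(1,37),(3,8),(4,28),(6,28),(7,29),(10,29),(11,5),(12,28),(13,16),
  (14,4),(17,40),(19,12),(24,9)],[(0,2),(191,64)]),([(1,45),(3,8),(4,36),(6,36),(7,37),(10,29),(11,5),(12,28),
  (13,16),(14,4),(17,40),(19,12)],[(0,2),(21,5)]),([(1,45),(3,8),(4,36),(6,36),(7,37),(10,29),(11,36),(12,28),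
  (13,16),(14,4),(19,12)],[(0,2),(92,20)]),([(1,45),(3,8),(4,64),(6,36),(7,65),(11,36),(12,28),(13,16),(14,4),
  (19,12)],[(0,2),(70,14)]),([(1,17),(3,8),(4,36),(6,8),(7,37),(11,8),(13,16),(14,4),(19,12)],[(0,2),(25,15)]),
  ([(1,17),(3,8),(4,24),(6,8),(7,25),(11,8),(13,16),(14,4)],[(0,2),(79,6)]),([(3,8),(4,9),(6,9),(7,8),(11,9),
  (14,4)],[(0,2),(28,9)]),([(1,17),(3,8),(6,4),(10,33),(11,4),(12,32),(13,24),(14,4),(15,31),(17,44),(19,4),(21,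
  160),(24,11),(27,3)],[(10,4),(26,2)]),([(1,12),(3,9),(6,5),(10,32),(12,33),(13,25),(14,5),(15,34),(17,49),(19,
  5),(21,159),(24,10),(26,3)],[(11,5),(45,2)]),([(1,4),(3,5),(10,14),(12,17),(13,9),(14,3),(15,16),(17,21),(19,
  7),(21,65),(24,4),(25,2)],[(12,3),(85,2)]),([(1,8),(3,9),(10,28),(12,33),(13,17),(14,5),(15,32),(17,41),(19,
  13),(21,133),(24,8),(32,3)],[(13,5),(122,2)]),([(1,9),(3,8),(10,29),(12,32),(13,16),(14,4),(15,33),(17,40),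
  (19,12),(21,144),(24,9),(43,2)],[(14,4),(14,2)]),([(1,9),(3,16),(6,9),(10,65),(12,72),(13,32),(14,8),(15,77),
  (17,88),(19,40),(21,292),(24,21),(53,3)],[(15,8),(25,2)]),([(1,9),(3,8),(10,29),(12,28),(13,16),(14,4),(15,
  33),(17,40),(19,12),(21,132),(24,9),(35,3)],[(16,4),(86,2)]),([(1,16),(3,17),(10,64),(12,57),(13,41),(14,9),
  (15,64),(17,81),(19,25),(21,265),(24,16),(52,3)],[(17,9),(52,2)]),([(1,4),(4,4),(6,5),(10,4),(11,3),(13,9),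
  (15,3),(17,7),(19,8),(20,2),(21,21),(24,6)],[(31,3),(168,2)]),([(15,9),(17,8),(21,9),(23,8),(28,8),(50,3)],
  [(136,5),(31,2)]),([(12,8),(15,9),(17,8),(21,24),(50,3)],[(0,2),(82,8)]),([(1,5),(3,4),(10,15),(12,16),(13,8),
  (14,2),(15,17),(17,20),(19,6),(21,72),(24,5),(28,3)],[(21,2),(62,2)]),([(12,5),(15,4),(17,5),(18,3),(21,13)],
  [(0,5),(21,4),(116,2)]),([(1,9),(3,8),(10,33),(12,32),(13,20),(14,4),(15,37),(17,44),(19,14),(21,144),(24,9),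
  (31,3)],[(23,4),(24,2)]),([(10,16),(11,4),(13,17),(15,16),(17,25),(23,5),(24,4),(26,5),(28,17),(47,2)],[(76,
  5),(29,2)]),([(1,9),(6,8),(10,8),(11,4),(12,9),(15,12),(17,9),(19,17),(21,5),(23,4),(47,2)],[(0,2),(70,5),(16,
  17)]),([(3,9),(6,8),(10,36),(11,4),(12,37),(13,17),(14,5),(15,44),(17,49),(19,29),(21,133),(24,8),(47,2)],[(0,
  2),(25,5)]),([(3,12),(4,4),(6,9),(8,5),(10,47),(11,11),(12,48),(13,22),(14,4),(15,61),(17,68),(19,36),(21,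
  188),(24,7)],[(0,3),(2,3),(0,3),(1,3),(1,2),(0,5),(0,5),(0,3),(0,2),(0,3),(0,2),(0,3),(0,3),(13,2),(1,3),(10,
  5),(6,2),(25,2),(4,7),(9,5),(155,2),(8,2)]),([(1,65),(3,4),(4,76),(6,64),(7,73),(8,5),(10,47),(11,3),(12,48),
  (13,22),(17,68),(19,36),(24,3)],[(0,2),(17,3),(15,30),(11,3),(170,94)]),([(1,9),(3,9),(4,8),(6,8),(7,17),(8,
  8),(11,8)],[(0,5),(46,2),(0,48),(0,22),(44,47),(6,37),(15,69)]),([(1,9),(7,9),(8,8),(14,4)],[(0,2),(19,2)]),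
  ([(1,4),(3,4),(6,5),(7,4),(8,5),(10,2),(11,3),(13,2),(24,3)],[(2,2),(47,25),(0,11),(44,24),(6,18),(15,34)]),
  ([(11,4),(12,4),(21,16),(24,5),(37,2)],[(95,4),(40,2)]),([(1,9),(3,9),(6,8),(7,9),(8,8),(10,5),(11,8),(12,4),
  (13,5),(21,16),(37,2)],[(0,2),(0,5)]),([(1,49),(3,25),(6,32),(7,41),(8,40),(10,85),(11,20),(12,72),(13,12),
  (14,8),(15,77),(17,88),(19,40),(21,292),(53,3)],[(2,21),(15,2)]),([(1,12),(3,4),(6,9),(7,8),(8,9),(10,18),(11,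
  5),(12,17),(13,5),(14,3),(15,16),(17,21),(19,7),(21,65),(25,2)],[(3,4),(18,2)]),([(1,8),(3,8),(6,9),(7,8),(8,
  9),(10,4),(11,9),(12,5),(13,4),(21,17),(40,3)],[(4,4),(35,2)]),([(1,25),(3,9),(6,16),(7,17),(8,16),(10,37),
  (11,8),(12,28),(13,8),(14,4),(15,33),(17,40),(19,12),(21,132),(35,3)],[(5,9),(14,2)]),([(1,13),(3,5),(6,8),(7,
  9),(8,8),(10,19),(11,4),(12,14),(13,4),(14,2),(15,17),(17,20),(19,6),(21,64),(23,2)],[(6,5),(31,2)]),([(1,5),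
  (3,4),(10,15),(12,16),(13,8),(14,2),(15,17),(17,20),(19,6),(21,64),(24,5),(30,2)],[(39,2),(124,2)]),([(1,13),
  (3,5),(6,8),(7,9),(8,8),(10,19),(11,4),(12,16),(13,4),(14,2),(15,17),(17,20),(19,6),(21,64),(30,2)],[(0,2),(7,
  5)]),([(1,5),(3,8),(6,5),(10,33),(12,32),(13,16),(14,4),(15,35),(17,40),(19,18),(21,134),(24,11),(38,2)],[(41,
  4),(1,2)]),([(1,25),(3,13),(6,16),(7,21),(8,20),(10,43),(11,10),(12,32),(13,6),(14,4),(15,35),(17,40),(19,18),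
  (21,134),(38,2)],[(0,2),(9,11)]),([(1,60),(3,32),(6,41),(7,52),(8,53),(10,104),(11,29),(12,75),(13,15),(14,
  11),(15,80),(17,93),(19,51),(21,313)],[(0,3),(1,3),(1,3),(0,2),(0,2),(0,3),(0,3),(0,2),(12,2),(23,3),(52,3),
  (163,2),(9,2)]),([(1,116),(3,32),(4,81),(6,121),(7,108),(8,29),(10,104),(11,29),(12,75),(13,15),(14,2),(17,
  93),(19,51),(21,313)],[(0,2),(12,6),(36,41)]),([(1,9),(4,4),(6,4),(7,9),(8,4),(11,4),(12,2),(13,2),(14,2),(19,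
  3)],[(0,2),(14,8),(48,38),(0,8),(44,53),(6,25),(15,47),(100,157)]),([(1,16),(4,13),(6,9),(7,20),(8,9),(11,9),
  (12,5),(13,5),(14,5)],[(0,5),(117,2)]),([(1,12),(4,9),(6,5),(7,16),(8,9),(11,5),(13,5),(14,5)],[(0,2),(65,
  2)]),([(1,8),(7,8),(8,9),(14,5)],[(0,2),(67,2)]),([(1,37),(3,5),(4,12),(6,20),(7,33),(8,20),(10,19),(11,16),
  (12,20),(13,10),(14,8),(15,17),(17,20),(21,64),(23,2)],[(3,6),(6,2)]),([(1,128),(3,8),(4,57),(6,65),(7,128),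
  (8,73),(10,44),(11,61),(12,65),(13,37),(14,33),(15,44),(17,49),(21,133),(47,2)],[(4,29),(13,8),(4,2)]),([(1,
  16),(4,9),(6,9),(7,16),(8,9),(10,4),(11,9),(12,13),(13,5),(14,5),(15,8),(17,9),(21,25),(49,2)],[(5,5),(48,
  2)]),([(1,16),(4,9),(6,9),(7,16),(8,9),(11,9),(12,13),(13,5),(14,5),(15,8),(17,9),(21,25),(54,3)],[(6,5),(99,
  2)]),([(1,9),(3,9),(6,8),(7,9),(8,8),(10,5),(11,4),(12,4),(13,5),(21,16),(44,3)],[(21,5),(36,2)]),([(1,73),(3,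
  9),(4,24),(6,40),(7,65),(8,40),(10,37),(11,32),(12,40),(13,20),(14,16),(15,33),(17,40),(21,132),(35,3)],[(8,
  12),(7,2)]),([(1,33),(3,13),(4,12),(6,20),(7,37),(8,24),(10,7),(11,18),(12,22),(13,5),(14,6),(15,11),(17,12),
  (21,46),(39,2)],[(9,6),(13,7),(54,2)]),([(1,37),(3,5),(4,12),(6,20),(7,33),(8,20),(10,19),(11,16),(12,22),(13,
  10),(14,8),(15,17),(17,20),(21,72),(28,3)],[(10,6),(13,5),(9,2)]),([(1,5),(3,4),(10,15),(12,16),(13,8),(14,2),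
  (15,17),(17,20),(19,6),(21,72),(24,5),(36,2)],[(57,2),(0,2)]),([(1,37),(3,5),(4,12),(6,20),(7,33),(8,20),(10,
  19),(11,16),(12,22),(13,10),(14,8),(15,17),(17,20),(21,72),(36,2)],[(0,2),(11,6),(13,5)]),([(1,8),(3,9),(10,
  32),(11,5),(12,45),(13,17),(14,5),(15,40),(17,49),(19,17),(21,173),(24,12),(45,2)],[(59,5),(46,2)]),([(1,96),
  (3,16),(4,33),(6,57),(7,88),(8,57),(10,44),(11,49),(12,61),(13,21),(14,21),(15,40),(17,49),(21,173),(45,2)],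
  [(0,2),(13,17),(13,12)]),([(1,49),(3,21),(4,5),(6,40),(7,25),(8,28),(10,57),(11,24),(12,40),(13,12),(14,4),
  (15,33),(17,48),(21,220)],[(0,3),(1,3),(1,2),(0,3),(0,2),(0,2),(0,2),(0,3),(0,2),(0,2),(3,3),(8,3),(4,2),(95,
  2),(19,2),(135,2),(10,2)]),([(1,5),(3,5),(4,4),(6,4),(7,9),(8,4),(11,4)],[(0,2),(12,2),(18,5),(35,16),(12,21),
  (0,7),(44,28),(22,24),(100,110)]),([(3,4),(4,4),(8,5),(13,4)],[(0,3),(82,2)]),([(3,4),(7,4),(8,5),(12,4)],[(1,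
  3),(81,2)]),([(1,4),(3,4),(4,5),(6,5),(7,8),(8,5),(17,5)],[(2,3),(150,2)]),([(1,32),(3,12),(6,25),(7,20),(8,
  21),(10,42),(11,11),(12,33),(13,15),(14,5),(15,34),(17,49),(19,5),(21,159),(26,3)],[(34,10),(19,2)]),([(1,48),
  (3,12),(4,9),(6,33),(7,36),(8,29),(10,42),(11,19),(12,37),(13,19),(14,9),(15,34),(17,49),(21,159),(26,3)],[(0,
  2),(20,5)]),([(1,8),(3,8),(6,9),(7,8),(8,9),(10,4),(11,5),(12,5),(13,4),(17,5),(21,17),(41,3)],[(36,4),(48,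
  2)]),([(1,36),(3,4),(4,13),(6,21),(7,32),(8,21),(10,18),(11,17),(12,23),(13,11),(14,9),(15,16),(17,21),(21,
  65),(25,2)],[(23,7),(9,2)]),([(1,209),(3,25),(4,80),(6,112),(7,201),(8,120),(10,85),(11,100),(12,112),(13,52),
  (14,48),(15,77),(17,88),(21,292),(53,3)],[(24,40),(10,2)]),([(1,72),(3,8),(4,25),(6,41),(7,64),(8,41),(10,36),
  (11,33),(12,45),(13,21),(14,17),(15,32),(17,41),(21,133),(32,3)],[(25,13),(13,8),(17,2)]),([(1,216),(3,12),(4,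
  93),(6,109),(7,212),(8,121),(10,72),(11,107),(12,123),(13,57),(14,55),(15,82),(17,85),(21,269)],[(0,2),(0,3),
  (0,2),(0,3),(0,3),(8,2),(12,2),(24,3),(104,3),(135,2),(12,2)]),([(1,296),(3,12),(4,173),(6,189),(7,292),(8,
  121),(10,72),(11,107),(12,123),(13,57),(14,55),(15,2),(17,85),(21,269)],[(0,2),(78,41)]),([(4,4),(6,4),(8,5),
  (11,2),(12,2),(14,3),(15,2)],[(0,2),(7,43),(0,62),(0,28),(0,54),(13,27),(113,37),(123,135)]),([(1,73),(3,9),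
  (4,24),(6,40),(7,65),(8,40),(10,37),(11,32),(12,44),(13,20),(14,16),(15,33),(17,40),(21,144),(43,2)],[(29,12),
  (13,9),(16,2)]),([(1,48),(3,16),(6,33),(7,32),(8,33),(10,80),(11,17),(12,57),(13,25),(14,9),(15,64),(17,81),
  (19,25),(21,265),(52,3)],[(44,16),(13,2)]),([(1,144),(3,16),(4,49),(6,81),(7,128),(8,81),(10,80),(11,65),(12,
  81),(13,49),(14,33),(15,64),(17,81),(21,265),(52,3)],[(0,2),(30,25)]),([(1,25),(3,9),(6,16),(7,17),(8,16),(10,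
  41),(11,8),(12,32),(13,12),(14,4),(15,37),(17,44),(19,14),(21,144),(31,3)],[(46,9),(7,2)]),([(1,81),(3,9),(4,
  28),(6,44),(7,73),(8,44),(10,41),(11,36),(12,46),(13,26),(14,18),(15,37),(17,44),(21,144),(31,3)],[(0,2),(32,
  14)]),([(1,48),(3,12),(4,9),(6,33),(7,36),(8,29),(10,42),(11,19),(12,33),(13,19),(14,9),(15,30),(17,45),(21,
  147),(29,3)],[(30,5),(3,8),(13,2),(45,2)]),([(1,48),(4,17),(6,25),(7,40),(8,25),(10,32),(11,21),(12,25),(13,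
  25),(14,13),(15,24),(17,29),(21,85),(63,2)],[(0,2),(0,2),(1,2),(1,2),(3,2),(2,3),(0,3),(14,2),(0,3),(5,2),
  (109,2),(170,2)]),([(1,48),(4,17),(6,25),(7,40),(8,25),(10,32),(11,21),(12,25),(13,25),(14,13),(15,24),(17,
  29),(21,85),(63,3)],[(0,2),(315,2)]),([(4,8),(6,8),(8,9),(11,4),(12,8),(14,5),(17,4),(21,12),(33,3)],[(8,4),
  (90,2)]),([(4,9),(6,9),(8,8),(11,5),(12,9),(14,4),(17,5),(18,3),(21,13)],[(9,5),(51,2)]),([(4,9),(6,9),(8,8),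
  (11,5),(12,9),(14,4),(17,5),(21,13),(48,2)],[(10,5),(123,2)]),([(1,16),(3,13),(4,17),(7,20),(8,5),(10,11),(11,
  9),(12,9),(13,7),(14,9),(15,2),(16,2),(17,6),(21,20)],[(40,9),(13,7),(44,2)]),([(1,16),(3,13),(4,21),(6,5),(7,
  20),(10,11),(11,11),(12,11),(13,7),(14,7),(16,2),(17,6),(21,20)],[(0,2),(11,3)]),([(1,48),(3,12),(4,69),(6,
  93),(7,36),(8,32),(10,42),(11,49),(12,63),(13,19),(14,22),(17,45),(21,147),(29,3)],[(7,2),(5,31)]),([(1,16),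
  (4,13),(6,9),(7,20),(8,9),(11,9),(12,5),(13,5),(14,5),(46,2)],[(43,5),(193,2)]),([(1,48),(3,12),(4,77),(6,
  101),(7,36),(8,40),(10,42),(11,53),(12,71),(13,19),(14,26),(17,49),(21,159),(26,3)],[(15,35),(6,2)]),([(1,53),
  (3,13),(4,8),(6,32),(7,37),(8,28),(10,43),(11,22),(12,36),(13,18),(14,8),(15,31),(17,44),(21,160),(27,3)],
  [(45,4),(13,11),(20,2)]),([(1,53),(3,13),(4,68),(6,92),(7,37),(8,33),(10,43),(11,52),(12,66),(13,18),(14,23),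
  (17,44),(21,160),(27,3)],[(0,2),(16,30)]),([(1,16),(4,25),(6,25),(7,16),(8,8),(11,17),(12,21),(13,5),(14,4),
  (17,9),(21,25),(54,3)],[(18,9),(21,2)]),([(1,209),(3,25),(4,232),(6,264),(7,201),(8,33),(10,85),(11,176),(12,
  188),(13,52),(14,29),(17,88),(21,292),(53,3)],[(19,76),(3,2)]),([(1,73),(3,9),(4,88),(6,104),(7,65),(8,25),
  (10,37),(11,64),(12,72),(13,20),(14,17),(17,40),(21,132),(35,3)],[(20,32),(19,2)]),([(1,73),(3,9),(4,88),(6,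
  104),(7,65),(8,25),(10,37),(11,64),(12,76),(13,20),(14,17),(17,40),(21,144),(43,2)],[(20,2),(0,32)]),([(1,33),
  (3,13),(4,32),(6,40),(7,37),(8,4),(10,7),(11,28),(12,32),(13,5),(14,5),(17,12),(21,46),(39,2)],[(22,10),(18,
  2)]),([(1,103),(3,25),(4,108),(6,158),(7,77),(8,33),(10,93),(11,92),(12,92),(13,42),(14,29),(17,66),(21,226),
  (63,2)],[(0,3),(0,5),(0,2),(0,2),(0,2),(0,2),(1,2),(0,2),(0,3),(0,2),(1,2),(0,3),(0,3),(14,2),(14,2),(21,2),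
  (95,3),(171,2)]),([(1,55),(3,25),(4,92),(6,134),(7,37),(8,57),(10,61),(11,72),(12,68),(13,18),(14,41),(15,24),
  (17,38),(21,142)],[(0,2),(15,2)]),([(1,55),(3,25),(4,44),(6,86),(7,37),(8,9),(10,61),(11,48),(12,44),(13,18),
  (14,17),(17,38),(21,142)],[(0,2),(24,25)]),([(1,55),(3,25),(4,44),(6,86),(7,37),(8,9),(10,61),(11,48),(12,44),
  (13,18),(14,17),(17,38),(21,3)],[(0,2),(289,72)]),([(1,2),(3,4),(6,3),(7,4),(8,5),(13,2),(17,3),(21,3)],[(0,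
  2),(35,20),(0,23),(0,9),(0,25),(13,9),(113,30)]),([(1,65),(3,9),(4,28),(6,36),(7,69),(8,40),(10,21),(11,30),
  (12,30),(13,16),(14,14),(15,19),(17,16),(21,60),(62,5)],[(11,3),(13,3),(5,3),(1,2),(14,3),(0,2),(0,3),(0,2),
  (115,3),(155,2),(16,2)]),([(1,16),(3,8),(4,4),(6,13),(7,4),(8,9),(10,24),(11,3),(12,19),(13,9),(14,3),(15,14),
  (17,25),(21,93),(61,5)],[(12,3),(21,2),(14,2),(0,3),(16,3),(120,2),(153,2)]),([(1,5),(3,9),(6,4),(7,9),(8,8),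
  (13,5),(17,4),(34,3)],[(2,5),(166,2)]),([(1,111),(3,305),(4,77),(6,58),(7,281),(8,356),(10,42),(11,53),(12,
  71),(13,177),(14,26),(17,110),(26,3)],[(3,159),(11,2)]),([(1,12),(3,24),(4,8),(6,5),(7,24),(8,33),(11,4),(12,
  8),(13,12),(14,5),(17,9),(33,3)],[(4,12),(18,2)]),([(1,9),(3,49),(4,25),(7,33),(8,56),(11,17),(12,21),(13,29),
  (14,4),(17,16),(54,3)],[(5,25),(8,2)]),([(1,8),(3,24),(6,9),(7,24),(8,25),(10,5),(11,4),(12,4),(13,12),(17,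
  17),(44,3)],[(6,16),(48,2)]),([(1,144),(3,16),(4,177),(6,209),(7,128),(8,48),(10,80),(11,129),(12,145),(13,
  49),(14,32),(17,81),(21,265),(52,3)],[(32,2),(2,65)]),([(1,121),(3,513),(4,177),(6,56),(7,401),(8,576),(10,
  80),(11,129),(12,145),(13,313),(14,32),(17,184),(52,3)],[(0,2),(7,265)]),([(1,14),(3,80),(4,32),(6,7),(7,56),
  (8,89),(10,7),(11,28),(12,32),(13,42),(14,5),(17,35),(39,2)],[(9,46),(4,2)]),([(1,13),(3,25),(4,9),(6,4),(7,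
  25),(8,32),(11,5),(12,9),(13,13),(14,4),(17,8),(48,2)],[(10,13),(16,2)]),([(1,84),(3,560),(4,232),(6,29),(7,
  384),(8,617),(10,85),(11,176),(12,188),(13,344),(14,29),(17,205),(53,3)],[(11,292),(7,2)]),([(1,17),(3,12),(4,
  20),(7,21),(8,4),(10,10),(11,8),(12,8),(13,6),(14,8),(15,3),(17,7),(20,2),(21,21)],[(69,8),(13,6),(12,2)]),
  ([(1,37),(3,29),(4,24),(6,24),(7,61),(8,40),(10,10),(11,10),(12,10),(13,15),(14,6),(17,14),(20,2)],[(0,2),(12,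
  21),(27,2)]),([(4,16),(6,16),(8,17),(11,8),(12,16),(14,9),(17,8),(21,24),(50,3)],[(42,8),(53,2)]),([(1,24),(3,
  48),(4,16),(6,9),(7,48),(8,65),(11,8),(12,16),(13,24),(14,9),(17,17),(50,3)],[(0,2),(14,24)]),([(1,36),(3,28),
  (4,21),(6,25),(7,60),(8,41),(10,11),(11,11),(12,11),(13,14),(14,7),(16,2),(17,15)],[(16,20),(14,2)]),([(1,2),
  (3,4),(6,3),(7,4),(8,5),(13,2),(17,3),(22,3)],[(17,2),(158,2)]),([(1,8),(3,24),(6,9),(7,24),(8,25),(10,5),(11,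
  8),(12,4),(13,12),(17,17),(37,2)],[(18,16),(68,2)]),([(1,72),(3,280),(4,88),(6,41),(7,224),(8,313),(10,37),
  (11,64),(12,76),(13,164),(14,17),(17,105),(43,2)],[(19,144),(5,2)]),([(1,36),(3,4),(4,45),(6,53),(7,32),(8,
  12),(10,18),(11,33),(12,39),(13,11),(14,8),(17,21),(21,65),(25,2)],[(48,17),(4,2)]),([(1,29),(3,125),(4,45),
  (6,12),(7,97),(8,140),(10,18),(11,33),(12,39),(13,75),(14,8),(17,44),(25,2)],[(0,2),(20,65)]),([(1,9),(3,25),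
  (6,8),(7,25),(8,24),(10,4),(11,9),(12,5),(13,13),(17,16),(40,3)],[(22,17),(65,2)]),([(0,2),(1,247),(2,3),(3,
  1649),(4,685),(6,78),(7,1127),(8,1816),(9,3),(10,238),(11,529),(12,567),(13,1007),(14,86),(17,608),(55,5),(61,
  2),(62,2)],[(0,2),(0,3),(1,3),(0,2),(0,3),(0,2),(0,5),(1,4),(1,9),(0,2),(0,2),(0,3),(1,3),(0,3),(0,3),(0,3),
  (0,3),(73,3),(115,3),(135,6),(18,2)]),([(0,2),(1,231),(2,3),(3,1641),(4,681),(6,66),(7,1123),(8,1808),(9,3),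
  (10,262),(11,531),(12,585),(13,1015),(14,84),(15,14),(17,584),(21,93),(55,5),(61,3),(62,2)],[(0,2),(21,2)]),
  ([(0,5),(1,540),(2,4),(3,3296),(4,1336),(6,181),(7,2316),(8,3665),(9,4),(10,481),(11,1028),(12,1120),(13,
  2004),(14,185),(15,4),(17,1209),(21,32),(55,8)],[(0,5),(22,2),(0,3)]),([(1,108),(3,308),(4,68),(6,69),(7,284),
  (8,353),(10,43),(11,52),(12,66),(13,178),(14,23),(17,117),(27,3)],[(26,160),(9,2)]),([(1,16),(4,25),(6,25),(7,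
  16),(8,8),(10,4),(11,17),(12,21),(13,5),(14,4),(17,9),(21,25),(49,2)],[(55,9),(22,2)]),([(1,9),(3,49),(4,25),
  (7,33),(8,56),(10,4),(11,17),(12,21),(13,29),(14,4),(17,16),(49,2)],[(0,2),(27,25)]),([(1,60),(3,256),(4,88),
  (6,29),(7,200),(8,289),(10,37),(11,64),(12,72),(13,152),(14,17),(17,93),(35,3)],[(29,132),(6,2)]),([(1,37),(3,
  5),(4,44),(6,52),(7,33),(8,13),(10,19),(11,32),(12,38),(13,10),(14,9),(17,20),(21,72),(28,3)],[(58,16),(17,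
  2)]),([(1,36),(3,140),(4,44),(6,21),(7,112),(8,157),(10,19),(11,32),(12,38),(13,82),(14,9),(17,53),(28,3)],
  [(0,2),(30,72)]),([(1,96),(3,16),(4,113),(6,137),(7,88),(8,24),(10,44),(11,89),(12,101),(13,21),(14,20),(17,
  49),(21,173),(45,2)],[(60,41),(13,2)]),([(1,77),(3,329),(4,113),(6,36),(7,257),(8,368),(10,44),(11,89),(12,
  101),(13,193),(14,20),(17,124),(45,2)],[(0,2),(32,173)]),([(1,442),(3,2452),(4,940),(6,187),(7,1772),(8,2713),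
  (10,377),(11,704),(12,770),(13,1500),(14,129),(17,887),(61,2),(62,2)],[(0,3),(1,2),(1,2),(0,7),(1,2),(3,4),(0,
  3),(1,3),(3,3),(3,6),(1,3),(2,2),(0,4),(33,3),(28,2),(129,3),(135,5),(19,2)]),([(0,3),(1,688),(2,2),(3,4100),
  (4,1624),(6,265),(7,2898),(8,4529),(9,2),(10,615),(11,1232),(12,1336),(13,2506),(14,215),(17,1495),(55,4)],
  [(0,2),(8,2),(0,2),(23,2)]),([(1,37),(3,5),(4,12),(6,20),(7,33),(8,20),(10,19),(11,16),(12,22),(13,10),(14,8),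
  (15,17),(17,20),(21,64),(30,2)],[(93,6),(4,2)]),([(1,37),(3,5),(4,44),(6,52),(7,33),(8,13),(10,19),(11,32),
  (12,38),(13,10),(14,9),(17,20),(21,64),(30,2)],[(0,2),(64,16)]),([(1,28),(3,124),(4,44),(6,13),(7,96),(8,141),
  (10,19),(11,32),(12,38),(13,74),(14,9),(17,45),(30,2)],[(0,2),(37,64)]),([(1,97),(3,13),(4,36),(6,52),(7,93),
  (8,56),(10,43),(11,46),(12,50),(13,24),(14,22),(15,35),(17,40),(21,134),(38,2)],[(96,18),(2,2)]),([(1,97),(3,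
  13),(4,104),(6,120),(7,93),(8,13),(10,43),(11,80),(12,84),(13,24),(14,13),(17,40),(21,134),(38,2)],[(0,2),(67,
  34)]),([(1,38),(3,256),(4,104),(6,15),(7,176),(8,281),(10,43),(11,80),(12,84),(13,158),(14,13),(17,95),(38,
  2)],[(0,2),(40,134)]),([(1,5),(3,257),(4,145),(6,21),(7,137),(8,280),(10,44),(11,105),(12,109),(13,169),(14,
  12),(17,84),(47,2)],[(42,133),(27,45),(23,2)]),([(1,72),(3,8),(4,89),(6,105),(7,64),(8,24),(10,36),(11,65),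
  (12,77),(13,21),(14,16),(17,41),(21,133),(32,3)],[(71,33),(2,2)]),([(1,61),(3,257),(4,89),(6,28),(7,201),(8,
  288),(10,36),(11,65),(12,77),(13,153),(14,16),(17,92),(32,3)],[(0,2),(43,133)]),([(1,9),(3,25),(6,8),(7,25),
  (8,24),(10,4),(11,5),(12,5),(13,13),(17,12),(41,3)],[(45,17),(33,2)]),([(1,36),(3,140),(4,44),(6,21),(7,112),
  (8,157),(10,19),(11,32),(12,38),(13,82),(14,9),(17,53),(36,2)],[(46,72),(27,16),(15,2)]),([(1,37),(3,5),(4,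
  44),(6,52),(7,33),(8,13),(10,19),(11,32),(12,36),(13,10),(14,9),(17,20),(21,64),(23,2)],[(75,16),(24,2)]),
  ([(1,28),(3,124),(4,44),(6,13),(7,96),(8,141),(10,19),(11,32),(12,36),(13,74),(14,9),(17,45),(23,2)],[(0,2),
  (47,64)]),([(1,143),(3,103),(4,68),(6,94),(7,217),(8,148),(10,32),(11,66),(12,54),(13,59),(14,24),(17,28),(61,
  2)],[(0,3),(1,3),(0,4),(0,2),(1,2),(0,2),(2,2),(4,3),(6,2),(3,4),(0,3),(1,3),(3,2),(3,6),(2,6),(1,2),(2,2),(0,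
  2),(2,2),(27,3),(315,2)]),([(0,2),(1,437),(2,3),(3,1751),(4,585),(6,196),(7,1407),(8,1996),(9,3),(10,274),(11,
  435),(12,501),(13,1057),(14,122),(15,5),(17,628),(21,33),(55,5),(62,3)],[(0,2),(24,2),(23,2)]),([(1,291),(3,
  861),(4,203),(6,162),(7,785),(8,986),(10,144),(11,159),(12,189),(13,511),(14,64),(17,324),(62,2)],[(2,2),(2,
  2),(2,2),(3,2),(9,2),(5,2),(2,3),(0,3),(0,2),(0,3),(0,2),(3,4),(2,6),(2,2),(2,4),(15,3),(43,2),(13,2),(115,7),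
  (135,5),(21,2)]),([(1,39),(3,1490),(4,838),(6,94),(7,708),(8,1547),(10,197),(11,640),(12,648),(13,940),(14,
  29),(15,5),(17,543),(21,33)],[(0,2),(0,2),(14,2)]),([(1,71),(3,1426),(4,846),(6,134),(7,644),(8,1491),(10,
  197),(11,644),(12,652),(13,908),(14,33),(17,511)],[(0,2),(52,33),(27,4)]),([(1,579),(3,918),(4,1354),(6,642),
  (7,373),(8,983),(10,197),(11,644),(12,652),(13,908),(14,33),(17,3)],[(0,2),(90,255)]),([(1,2),(3,2),(4,3),(6,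
  3),(7,4),(8,3),(17,3)],[(0,2),(92,327),(0,455),(0,323),(13,17),(113,98)]),([(3,195),(4,187),(6,53),(7,61),(8,
  246),(10,42),(11,53),(12,71),(13,177),(14,26),(26,3)],[(0,110),(51,2)]),([(1,22),(3,14),(4,7),(6,11),(7,32),
  (8,27),(10,11),(11,11),(12,11),(13,14),(14,7),(16,2)],[(1,15),(38,2)]),([(3,2),(4,2),(8,3),(13,2),(22,3)],[(2,
  3),(37,2)]),([(1,99),(3,281),(4,69),(6,54),(7,257),(8,324),(10,42),(11,49),(12,63),(13,165),(14,22),(17,102),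
  (29,3)],[(59,147),(13,2)]),([(1,4),(3,179),(4,171),(6,49),(7,53),(8,222),(10,42),(11,49),(12,63),(13,165),(14,
  22),(29,3)],[(0,2),(3,102)]),([(1,26),(3,28),(4,8),(6,7),(7,40),(8,49),(10,11),(11,7),(12,3),(13,24),(14,11)],
  [(0,2),(1,3),(0,2),(0,3),(402,2)]),([(1,57),(3,162),(4,198),(6,80),(7,13),(8,187),(10,43),(11,80),(12,84),(13,
  158),(14,13),(38,2)],[(6,95),(13,2)]),([(1,1036),(3,1338),(4,534),(6,173),(7,1668),(8,2203),(10,463),(11,173),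
  (13,1166),(14,433),(38,2)],[(0,2),(0,84)]),([(1,9),(3,8),(4,16),(6,8),(7,9),(8,9),(10,5),(11,8),(12,4),(13,
  12),(37,2)],[(8,17),(36,2)]),([(1,44),(3,64),(4,32),(6,5),(7,72),(8,105),(10,25),(11,5),(13,60),(14,21),(37,
  2)],[(0,2),(2,4)]),([(1,121),(3,356),(4,436),(6,176),(7,25),(8,413),(10,85),(11,176),(12,188),(13,344),(14,
  29),(53,3)],[(10,205),(43,2)]),([(1,2324),(3,2988),(4,1188),(6,389),(7,3736),(8,4925),(10,1025),(11,389),(13,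
  2600),(14,969),(53,3)],[(0,2),(4,188)]),([(1,21),(3,46),(4,66),(6,28),(7,13),(8,55),(10,7),(11,28),(12,32),
  (13,42),(14,5),(39,2)],[(12,35),(45,2)]),([(1,396),(3,494),(4,194),(6,69),(7,628),(8,823),(10,167),(11,69),
  (13,426),(14,165),(39,2)],[(0,2),(6,32)]),([(1,3008),(3,3896),(4,1560),(6,497),(7,4848),(8,6409),(10,1345),
  (11,497),(13,3400),(14,1257),(70,2)],[(0,3),(1,2),(1,2),(1,2),(410,2)]),([(1,3008),(3,3896),(4,1560),(6,497),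
  (7,4848),(8,6409),(10,1345),(11,497),(13,3400),(14,1257),(70,3)],[(0,2),(405,2)]),([(1,5),(3,17),(4,17),(6,5),
  (7,9),(8,24),(11,5),(12,9),(13,13),(14,4),(48,2)],[(16,8),(44,2)]),([(1,109),(3,129),(4,49),(6,20),(7,169),(8,
  216),(10,40),(11,20),(13,109),(14,44),(48,2)],[(0,2),(10,9)]),([(1,23),(3,15),(4,10),(6,10),(7,33),(8,26),(10,
  10),(11,10),(12,10),(13,15),(14,6),(20,2)],[(18,14),(41,2)]),([(1,108),(3,126),(4,50),(6,21),(7,168),(8,215),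
  (10,41),(11,21),(13,106),(14,45),(20,2)],[(0,2),(12,10)]),([(1,13),(3,25),(4,9),(6,4),(7,25),(8,32),(11,5),
  (12,9),(13,13),(14,4),(17,8),(18,3)],[(76,13),(17,2)]),([(1,5),(3,17),(4,17),(6,5),(7,9),(8,24),(11,5),(12,9),
  (13,13),(14,4),(18,3)],[(0,2),(20,8)]),([(1,109),(3,129),(4,49),(6,20),(7,169),(8,216),(10,40),(11,20),(13,
  109),(14,44),(18,3)],[(0,2),(15,9)]),([(1,37),(3,57),(4,29),(6,4),(7,61),(8,88),(10,20),(11,4),(13,53),(14,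
  16),(46,2)],[(17,5),(74,2)]),([(1,18),(3,28),(4,12),(6,3),(7,32),(8,45),(10,11),(11,3),(13,26),(14,9),(19,3)],
  [(18,2),(118,2)]),([(1,3442),(3,4458),(4,1780),(6,571),(7,5550),(8,7331),(10,1539),(11,571),(13,3888),(14,
  1437),(70,2)],[(0,2),(0,3),(0,2),(2,3),(1,2),(3,2),(1,2),(1,3),(1,2),(411,2)]),([(1,6450),(3,8354),(4,3340),
  (6,1067),(7,10398),(8,13739),(10,2883),(11,1067),(13,7288),(14,2693)],[(0,2),(9,2)]),([(1,6450),(3,8354),(4,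
  6224),(6,1067),(7,7514),(8,13739),(10,2),(11,1067),(13,7288),(14,2693)],[(0,2),(250,1442)]),([(1,3),(3,3),(4,
  4),(6,2),(7,7),(8,2),(10,2),(11,2)],[(0,2),(122,3645),(0,534),(13,1347)]),([(4,5),(7,4),(10,5)],[(0,5),(124,
  2)]),([(1,4),(3,13),(4,13),(6,5),(8,12),(10,4),(11,5),(12,5),(13,13),(41,3)],[(30,12),(9,2)]),([(1,49),(3,69),
  (4,29),(6,8),(7,81),(8,108),(10,24),(11,8),(13,61),(14,20),(41,3)],[(0,2),(24,5)]),([(1,41),(3,61),(4,45),(7,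
  57),(8,100),(10,16),(13,61),(14,20),(41,3)],[(0,2),(2,9)]),([(1,8),(3,9),(4,17),(6,9),(7,8),(8,8),(10,4),(11,
  9),(12,5),(13,13),(40,3)],[(33,16),(32,2)]),([(1,45),(3,65),(4,33),(6,4),(7,73),(8,104),(10,24),(11,4),(13,
  61),(14,20),(40,3)],[(0,2),(27,5)]),([(1,41),(3,61),(4,41),(7,61),(8,100),(10,20),(13,61),(14,20),(40,3)],[(0,
  2),(5,5)]),([(3,2),(4,2),(8,3),(13,2),(21,3)],[(36,3),(55,2)]),([(1,80),(3,122),(4,86),(7,116),(8,203),(10,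
  37),(13,122),(14,41)],[(0,2),(0,3),(2,3),(437,2)]),([(3,2),(4,2),(8,3),(13,2)],[(0,2),(7,19),(124,61),(14,
  21)]),([(1,33),(3,176),(4,192),(6,64),(7,16),(8,209),(10,37),(11,64),(12,76),(13,164),(14,17),(43,2)],[(39,
  105),(35,2)]),([(1,956),(3,1240),(4,496),(6,165),(7,1536),(8,2033),(10,417),(11,165),(13,1076),(14,397),(43,
  2)],[(0,2),(33,76)]),([(1,792),(3,1076),(4,824),(7,1044),(8,1869),(10,253),(13,1076),(14,397),(43,2)],[(0,2),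
  (11,164)]),([(1,792),(4,253),(7,1044),(8,793),(10,253),(14,397),(43,2)],[(0,2),(2,1077)]),([(1,41),(4,16),(7,
  57),(8,40),(10,16),(14,20),(41,3)],[(4,60),(5,2)]),([(1,1936),(3,2600),(4,1964),(7,2572),(8,4537),(10,637),
  (13,2600),(14,969),(53,3)],[(15,388),(16,2)]),([(1,1936),(4,637),(7,2572),(8,1937),(10,637),(14,969),(53,3)],
  [(0,2),(5,2601)]),([(1,911),(3,1175),(4,467),(6,158),(7,1461),(8,1926),(10,392),(11,158),(13,1017),(14,376),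
  (26,3)],[(40,71),(4,2)]),([(1,753),(3,1017),(4,783),(7,987),(8,1768),(10,234),(13,1017),(14,376),(26,3)],[(0,
  2),(17,159)]),([(1,753),(4,234),(7,987),(8,752),(10,234),(14,376),(26,3)],[(0,2),(8,1016)]),([(1,2016),(4,
  671),(7,2686),(8,2017),(10,671),(14,1009)],[(0,2),(2,2),(1,3),(0,2),(448,2)]),([(1,2016),(4,3),(7,2018),(8,
  2017),(10,3),(14,1009)],[(0,2),(19,335)]),([(4,3),(7,2),(10,3)],[(0,2),(160,505)]),([(1,3),(3,3),(4,2),(6,2),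
  (7,5),(8,2),(11,2)],[(0,2),(22,2)]),([(1,792),(7,792),(8,793),(14,397),(43,2)],[(1,253),(8,2)]),([(1,20),(3,
  22),(4,20),(7,22),(8,43),(10,5),(12,3),(13,24),(14,11)],[(25,6),(22,2)]),([(1,16),(3,81),(4,89),(6,33),(7,9),
  (8,96),(10,18),(11,33),(12,39),(13,75),(14,8),(25,2)],[(55,44),(33,2)]),([(1,397),(3,531),(4,405),(7,523),(8,
  926),(10,126),(13,531),(14,198),(25,2)],[(0,2),(0,39),(25,32)]),([(1,397),(7,397),(8,396),(14,198),(25,2)],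
  [(0,2),(4,126),(12,530)]),([(1,41),(7,41),(8,40),(14,20),(40,3)],[(6,20),(12,60),(2,2)]),([(3,5),(4,5),(8,4),
  (13,5),(34,3)],[(59,4),(52,2)]),([(34,3)],[(0,2),(20,4)]),([(1,32),(3,165),(4,181),(6,65),(7,17),(8,196),(10,
  36),(11,65),(12,77),(13,153),(14,16),(32,3)],[(61,92),(10,2)]),([(1,793),(3,1065),(4,813),(7,1045),(8,1856),
  (10,252),(13,1065),(14,396),(32,3)],[(0,2),(6,77),(25,64)]),([(1,793),(7,793),(8,792),(14,396),(32,3)],[(0,2),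
  (10,252),(12,1064)]),([(1,357),(7,357),(8,356),(14,178)],[(0,2),(2,2),(1,3),(0,2),(3,2),(460,2)]),([(1,4),(7,
  4),(8,5),(14,3)],[(0,2),(174,90)]),([(3,3),(7,3),(8,2),(12,3)],[(0,11),(10,2),(2,5),(12,25)]),([(1,22),(3,24),
  (4,20),(6,2),(7,28),(8,49),(10,7),(13,24),(14,13),(15,2)],[(12,2),(25,3),(112,2)]),([(1,22),(4,2),(6,2),(7,
  22),(8,25),(14,13),(15,2)],[(0,2),(15,7),(12,25)]),([(1,3),(4,2),(6,2),(7,3),(15,2)],[(0,2),(2,13)]),([(1,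
  109),(3,127),(4,47),(6,20),(7,169),(8,214),(10,40),(11,20),(13,107),(14,44),(16,2)],[(64,11),(3,2)]),([(1,89),
  (3,107),(4,87),(7,109),(8,194),(10,20),(13,107),(14,44),(16,2)],[(0,2),(41,21)]),([(1,89),(7,89),(8,88),(14,
  44),(16,2)],[(0,2),(19,20),(12,106)]),([(16,2)],[(0,2),(6,44)]),([(1,89),(3,109),(4,89),(7,109),(8,196),(10,
  20),(13,109),(14,44),(18,3)],[(45,21),(5,2)]),([(1,89),(7,89),(8,88),(14,44),(18,3)],[(0,2),(22,20),(12,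
  108)]),([(18,3)],[(0,2),(9,44)]),([(1,16),(3,26),(4,16),(7,26),(8,43),(10,9),(13,26),(14,9),(19,3)],[(48,2),
  (3,2)]),([(1,16),(4,3),(7,18),(8,17),(14,9),(19,3)],[(0,2),(25,9),(12,27)]),([(4,3),(7,2),(19,3)],[(0,2),(12,
  9)]),([(1,88),(3,106),(4,90),(7,108),(8,195),(10,21),(13,106),(14,45),(20,2)],[(51,20),(8,2)]),([(1,88),(4,4),
  (7,88),(8,89),(14,45),(20,2)],[(0,2),(28,21),(12,107)]),([(4,4),(20,2)],[(0,2),(15,45)]),([(21,3)],[(44,3),(1,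
  2)]),([(22,3)],[(45,3),(35,2)]),([(1,17),(3,80),(4,88),(6,32),(7,8),(8,97),(10,19),(11,32),(12,36),(13,74),
  (14,9),(23,2)],[(85,45),(6,2)]),([(1,376),(3,508),(4,384),(7,500),(8,885),(10,123),(13,506),(14,189),(23,2)],
  [(0,2),(30,36),(25,33)]),([(3,2),(7,2),(8,3),(23,2)],[(0,2),(20,189),(13,123),(12,507)]),([(1,2),(3,2),(4,4),
  (6,3),(7,3),(8,3),(10,4),(13,2),(24,3)],[(59,2),(155,2)]),([(1,2),(4,3),(6,3),(7,2),(24,3)],[(0,2),(36,4),(12,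
  3)]),([(25,2)],[(24,198),(7,2)]),([(1,753),(7,753),(8,752),(14,376),(26,3)],[(39,234),(2,2)]),([(26,3)],[(0,
  2),(25,376)]),([(1,9),(3,192),(4,184),(6,48),(7,52),(8,237),(10,43),(11,52),(12,66),(13,178),(14,23),(27,3)],
  [(93,117),(28,2)]),([(1,704),(3,970),(4,740),(6,5),(7,934),(8,1675),(10,227),(13,970),(14,353),(27,3)],[(0,2),
  (38,66),(25,53)]),([(1,704),(4,5),(6,5),(7,708),(8,705),(14,353),(27,3)],[(0,2),(42,227),(12,971)]),([(4,5),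
  (6,5),(7,4),(27,3)],[(0,2),(29,353)]),([(1,17),(3,88),(4,96),(6,32),(7,8),(8,105),(10,19),(11,32),(12,38),(13,
  82),(14,9),(28,3)],[(97,53),(23,2)]),([(1,396),(3,538),(4,412),(7,522),(8,935),(10,127),(13,538),(14,199),(28,
  3)],[(0,2),(42,38),(25,33)]),([(1,396),(7,396),(8,397),(14,199),(28,3)],[(0,2),(46,127),(12,539)]),([(28,3)],
  [(0,2),(33,199)]),([(1,803),(3,1047),(4,419),(6,138),(7,1293),(8,1710),(10,352),(11,138),(13,909),(14,332),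
  (29,3)],[(95,63),(0,2)]),([(1,665),(3,909),(4,695),(7,879),(8,1572),(10,214),(13,909),(14,332),(29,3)],[(0,2),
  (72,139)]),([(1,665),(7,665),(8,664),(14,332),(29,3)],[(0,2),(50,214),(12,908)]),([(29,3)],[(0,2),(37,332)]),
  ([(1,17),(3,80),(4,88),(6,32),(7,8),(8,97),(10,19),(11,32),(12,38),(13,74),(14,9),(30,2)],[(105,45),(16,2)]),
  ([(1,396),(3,530),(4,404),(7,522),(8,927),(10,127),(13,530),(14,199),(30,2)],[(0,2),(50,38),(25,33)]),([(30,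
  2)],[(0,2),(40,199),(13,127),(12,531)]),([(1,81),(3,9),(4,100),(6,116),(7,73),(8,29),(10,41),(11,72),(12,82),
  (13,26),(14,19),(17,44),(21,144),(31,3)],[(187,2),(4,36)]),([(1,64),(3,280),(4,100),(6,29),(7,216),(8,317),
  (10,41),(11,72),(12,82),(13,170),(14,19),(17,101),(31,3)],[(0,2),(164,144)]),([(1,37),(3,180),(4,200),(6,72),
  (7,16),(8,217),(10,41),(11,72),(12,82),(13,170),(14,19),(31,3)],[(0,2),(109,101)]),([(1,856),(3,1154),(4,876),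
  (7,1134),(8,2011),(10,277),(13,1154),(14,429),(31,3)],[(0,2),(55,82),(25,73)]),([(1,856),(4,3),(7,858),(8,
  857),(14,429),(31,3)],[(0,2),(59,277),(12,1155)]),([(4,3),(7,2),(31,3)],[(0,2),(46,429)]),([(32,3)],[(48,396),
  (1,2)]),([(1,4),(3,16),(4,16),(6,4),(7,8),(8,25),(11,4),(12,8),(13,12),(14,5),(33,3)],[(115,9),(50,2)]),([(1,
  108),(3,128),(4,48),(6,21),(7,168),(8,217),(10,41),(11,21),(13,108),(14,45),(33,3)],[(0,2),(109,8)]),([(1,88),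
  (3,108),(4,88),(7,108),(8,197),(10,21),(13,108),(14,45),(33,3)],[(0,2),(87,20)]),([(1,88),(7,88),(8,89),(14,
  45),(33,3)],[(0,2),(65,21),(12,109)]),([(33,3)],[(0,2),(52,45)]),([(1,33),(3,164),(4,180),(6,64),(7,16),(8,
  197),(10,37),(11,64),(12,72),(13,152),(14,17),(35,3)],[(120,93),(25,2)]),([(1,904),(3,1172),(4,468),(6,153),
  (7,1456),(8,1925),(10,397),(11,153),(13,1016),(14,377),(35,3)],[(0,2),(114,72)]),([(1,752),(3,1020),(4,772),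
  (7,1000),(8,1773),(10,245),(13,1016),(14,377),(35,3)],[(0,2),(92,152)]),([(1,752),(3,4),(7,756),(8,757),(14,
  377),(35,3)],[(0,2),(70,245),(12,1017)]),([(3,4),(7,4),(8,5),(35,3)],[(0,2),(57,377)]),([(1,396),(3,538),(4,
  412),(7,522),(8,935),(10,127),(13,538),(14,199),(36,2)],[(70,38),(25,33),(28,53),(8,2)]),([(1,396),(7,396),(8,
  397),(14,199),(36,2)],[(0,2),(73,127),(12,539)]),([(36,2)],[(0,2),(60,199)]),([(1,40),(3,60),(4,40),(7,60),(8,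
  101),(10,21),(13,60),(14,21),(37,2)],[(99,4),(18,2)]),([(1,40),(7,40),(8,41),(14,21),(37,2)],[(0,2),(76,21),
  (12,61)]),([(37,2)],[(0,2),(63,21)]),([(1,864),(3,1166),(4,878),(7,1152),(8,2031),(10,291),(13,1166),(14,433),
  (38,2)],[(102,172),(20,2)]),([(4,2),(7,3),(38,2)],[(0,2),(65,433),(13,291),(12,1167)]),([(1,328),(3,426),(4,
  330),(7,424),(8,755),(10,99),(13,426),(14,165),(39,2)],[(104,68),(14,2)]),([(1,328),(4,2),(7,326),(8,329),(14,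
  165),(39,2)],[(0,2),(81,99),(12,427)]),([(4,2),(7,3),(39,2)],[(0,2),(68,165)]),([(40,3)],[(70,20),(6,2)]),
  ([(1,41),(7,41),(8,40),(14,20),(41,3)],[(85,16),(7,2)]),([(41,3)],[(0,2),(71,20)]),([(43,2)],[(73,397),(11,
  2)]),([(1,9),(3,8),(4,16),(6,8),(7,9),(8,9),(10,5),(11,4),(12,4),(13,12),(44,3)],[(140,17),(48,2)]),([(1,36),
  (3,56),(4,48),(6,4),(7,48),(8,97),(10,17),(13,60),(14,21),(44,3)],[(0,2),(85,4),(25,5)]),([(1,36),(3,5),(4,4),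
  (6,4),(7,32),(8,37),(14,21),(44,3)],[(0,2),(89,17),(12,61)]),([(1,5),(3,5),(4,4),(6,4),(7,9),(8,4),(44,3)],
  [(0,2),(76,21)]),([(1,48),(3,205),(4,237),(6,89),(7,9),(8,244),(10,44),(11,89),(12,101),(13,193),(14,20),(45,
  2)],[(144,124),(21,2)]),([(1,1041),(3,1393),(4,1061),(7,1373),(8,2432),(10,332),(13,1393),(14,520),(45,2)],
  [(0,2),(89,101),(25,88)]),([(1,1041),(7,1041),(8,1040),(14,520),(45,2)],[(0,2),(93,332),(12,1392)]),([(45,2)],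
  [(0,2),(80,520)]),([(1,33),(3,53),(4,37),(7,49),(8,84),(10,16),(13,53),(14,16),(46,2)],[(119,5),(4,2)]),([(1,
  33),(7,33),(8,32),(14,16),(46,2)],[(0,2),(96,16),(12,52)]),([(46,2)],[(0,2),(83,16)]),([(1,80),(3,173),(4,
  229),(6,105),(7,32),(8,196),(10,44),(11,105),(12,109),(13,169),(14,12),(47,2)],[(151,84),(12,2)]),([(1,1325),
  (3,1685),(4,661),(6,220),(7,2129),(8,2788),(10,584),(11,220),(13,1465),(14,552),(47,2)],[(0,2),(145,109)]),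
  ([(1,1105),(3,1465),(4,1101),(7,1469),(8,2568),(10,364),(13,1465),(14,552),(47,2)],[(0,2),(123,221)]),([(47,
  2)],[(0,2),(87,552),(13,364),(12,1464)]),([(1,89),(3,109),(4,89),(7,109),(8,196),(10,20),(13,109),(14,44),(48,
  2)],[(126,21),(10,2)]),([(1,89),(7,89),(8,88),(14,44),(48,2)],[(0,2),(103,20),(12,108)]),([(48,2)],[(0,2),(90,
  44)]),([(1,8),(3,33),(4,41),(6,17),(8,40),(10,4),(11,17),(12,21),(13,29),(14,4),(49,2)],[(158,16),(26,2)]),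
  ([(1,253),(3,313),(4,121),(6,44),(7,401),(8,520),(10,104),(11,44),(13,269),(14,104),(49,2)],[(0,2),(152,21)]),
  ([(1,209),(3,269),(4,209),(7,269),(8,476),(10,60),(13,269),(14,104),(49,2)],[(0,2),(130,45)]),([(1,209),(7,
  209),(8,208),(14,104),(49,2)],[(0,2),(108,60),(12,268)]),([(49,2)],[(0,2),(95,104)]),([(1,8),(3,32),(4,32),(6,
  8),(7,16),(8,49),(11,8),(12,16),(13,24),(14,9),(50,3)],[(163,17),(39,2)]),([(1,216),(3,256),(4,96),(6,41),(7,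
  336),(8,433),(10,81),(11,41),(13,216),(14,89),(50,3)],[(0,2),(157,16)]),([(1,176),(3,216),(4,176),(7,216),(8,
  393),(10,41),(13,216),(14,89),(50,3)],[(0,2),(135,40)]),([(1,176),(7,176),(8,177),(14,89),(50,3)],[(0,2),(113,
  41),(12,217)]),([(50,3)],[(0,2),(100,89)]),([(1,64),(3,329),(4,361),(6,129),(7,33),(8,392),(10,80),(11,129),
  (12,145),(13,313),(14,32),(52,3)],[(168,184),(46,2)]),([(1,1809),(3,2345),(4,937),(6,304),(7,2913),(8,3848),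
  (10,800),(11,304),(13,2041),(14,752),(52,3)],[(0,2),(162,145)]),([(1,1505),(3,2041),(4,1545),(7,2001),(8,
  3544),(10,496),(13,2041),(14,752),(52,3)],[(0,2),(140,305)]),([(1,1505),(7,1505),(8,1504),(14,752),(52,3)],
  [(0,2),(118,496),(12,2040)]),([(52,3)],[(0,2),(105,752)]),([(1,1936),(7,1936),(8,1937),(14,969),(53,3)],[(121,
  637),(5,2)]),([(53,3)],[(0,2),(107,969)]),([(1,8),(3,33),(4,41),(6,17),(8,40),(11,17),(12,21),(13,29),(14,4),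
  (54,3)],[(175,16),(49,2)]),([(1,253),(3,313),(4,121),(6,44),(7,401),(8,520),(10,100),(11,44),(13,269),(14,
  104),(54,3)],[(0,2),(169,21)]),([(1,209),(3,269),(4,209),(7,269),(8,476),(10,56),(13,269),(14,104),(54,3)],
  [(0,2),(147,45)]),([(1,209),(4,4),(7,213),(8,208),(14,104),(54,3)],[(0,2),(125,56),(12,268)]),([(4,4),(7,5),
  (54,3)],[(0,2),(112,104)])],
  [[(0,2)],[(1,2)],[(2,2)],[(3,2)],[(4,2)],[(5,2)],[(6,2)],[(7,2)],[(8,2)],[(9,2)]],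
  [],
  [[(0,2)],[(1,2)],[(2,2)],[(3,2)],[(4,2)],[(5,2)],[(6,2)],[(7,2)],[(8,2)],[(9,2)],[(4,3),(2,2),(130,3)],[(1,2),
  (1,2),(0,3),(1,3),(0,4),(0,3),(128,2)],[(3,3),(3,3),(0,2),(114,3)],[(3,3),(0,3),(3,2),(142,2)],[(1,4),(5,4),
  (0,5),(115,3)],[(1,2),(2,3),(1,3),(0,2),(112,2)],[(116,2)],[(1,2),(1,2),(0,3),(1,3),(0,4),(0,3),(181,3)],
  [(113,3)],[(4,3),(2,2),(102,3)],[(4,5),(102,2)],[(106,3)],[(105,3)],[(3,3),(3,3),(0,2),(93,2)],[(1,2),(2,3),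
  (1,3),(0,2),(92,3)],[(99,2)],[(97,3)],[(4,5),(1,5),(0,4),(85,3)],[(89,3)],[(85,3)],[(82,2)],[(4,3),(2,2),(68,
  3)],[(75,3)],[(70,3)],[(129,3)],[(3,4),(3,4),(0,5),(56,3)],[(62,2)],[(59,2)],[(4,3),(2,2),(49,2)],[(4,3),(2,
  2),(46,2)],[(53,3)],[(51,3)],[(433,2)],[(50,2)],[(1,5),(1,5),(0,4),(1,4),(0,9),(0,4),(37,3)],[(42,2)],[(39,
  2)],[(35,2)],[(32,2)],[(27,2)],[(22,3)],[(569,2)],[(17,3)],[(15,3)],[(4,4),(2,5),(2,3)]]⟩

theorem hL2 : linOK D2 17 ([T2_0].flatMap fun c => c.map fun s => s.2) L2 = true := by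
  decide +kernel

def xs2 : List ℕ := [935069438476985348944524701277399252,754266594759006878280598328603989489,8201233417151733235771268181306903,
  144596634933362545194715238839531702,972844729594116903785669970159175681,
  944148075009477897041854950986453638,689628162873450166968486631923888160,
  689853804603006905213957176115308545,984530487965227843126529570908416227,
  391593968541467160411964395751475427,17391660267718004746299462621222097,399380389260352582231809968482296355,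
  317082754898783445698474042632940112,26912469406833714516135145930888516]

theorem sb2 : SBnd ↥Cfsg.M24 239085 [] := by
  obtain ⟨x, -, hx⟩ := exists_actBy (isAct_point EG 5 31) (codes24 (L := 984818244535754528103549039458486304 :: xs2) (by decide +kernel))
  exact sbnd_of_act (isCanon_PtC EG) hx (isBase_range EG _) D2 (by decide +kernel)
    (allLt_iff.1 (by decide +kernel)) (by decide +kernel) card_M24 (by decide +kernel)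
    (sw := [[0],[1],[2,3],[4],[0,8],[9],[7,8],[5,6,8],[0,1,3,4]]) (PB := [2,4,8,0]) (hm := 24) (fuel' := 18)
    (exists_PtC EG (by decide +kernel)) (by decide +kernel) (List.forall_mem_cons.2 ⟨hT2_0, List.forall_mem_nil _⟩) hL2 (by decide +kernel)

def D3 : PcData := ⟨2, 3,
  [[],[],[]],
  [[],[[1,2]],[[2],[2]]],
  [(3,[1],[1,2,2]),(3,[2],[2,2]),(4,[0],[0,0]),(4,[2],[2])]⟩

def T3_0 : List ((ℕ × ℕ × List ℕ × List ℕ) × List (ℕ × ℕ)) :=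
  [((0,4,[3,2],[2,3]),[(3,3)]),((0,3,[1,0],[0,1]),[(4,3)]),((1,0,[1],[]),[(1,6),(3,6),(5,2)])]

theorem hT3_0 : relOK D3 6 21 T3_0 = true := by decide +kernel

def L3 : LinCert := ⟨[([(1,6),(5,2)],[(0,6),(1,2)])],
  [[(0,2)],[(1,2)],[(2,2)]],
  [],
  [[(0,2)],[(1,2)],[(2,2)],[(4,3)],[(5,3)],[(1,7),(1,2)]]⟩

theorem hL3 : linOK D3 6 ([T3_0].flatMap fun c => c.map fun s => s.2) L3 = true := by
  decide +kernel

def xs3 : List ℕ := [220251898059334880200027368841070182,595420054370333564238358141521856517,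
  601520835804631564615040922567805089,356099193294996523771991809164782629,
  142240553855588888590362099225921736]

theorem sb3 : SBnd ↥Cfsg.M24 9067520 [] := by
  obtain ⟨x, -, hx⟩ := exists_actBy (isAct_point EG 5 31) (codes24 (L := 984818244535754528103549039458486304 :: xs3) (by decide +kernel))
  exact sbnd_of_act (isCanon_PtC EG) hx (isBase_range EG _) D3 (by decide +kernel)
    (allLt_iff.1 (by decide +kernel)) (by decide +kernel) card_M24 (by decide +kernel)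
    (sw := [[0],[1],[1,2]]) (PB := [2,0,3]) (hm := 24) (fuel' := 5)
    (exists_PtC EG (by decide +kernel)) (by decide +kernel) (List.forall_mem_cons.2 ⟨hT3_0, List.forall_mem_nil _⟩) hL3 (by decide +kernel)

def xsc : List ℕ := [180530132575982781925177866517521440,183139548619276620463747103358222785,
  218450566344627297539636169480557002,469271736677452491884068752476222944]

theorem sb : SBnd ↥Cfsg.M24 1 [] := by
  obtain ⟨x, -, hx⟩ := exists_actBy (isAct_point EG 5 31) (codes24 (L := 984818244535754528103549039458486304 :: xsc) (by decide +kernel))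
  exact (((((sb2.append sb3).append
    (sbnd_of_cyclic (isCanon_PtC EG) hx (isBase_range EG _) 0 5 0 (by norm_num) (b := 2) ⟨EG.dec 2, rfl⟩
      (by decide +kernel) card_M24 (m := 48964608) (by decide +kernel))).append
    (sbnd_of_cyclic (isCanon_PtC EG) hx (isBase_range EG _) 1 7 0 (by norm_num) (b := 0) ⟨EG.dec 0, rfl⟩
      (by decide +kernel) card_M24 (m := 34974720) (by decide +kernel))).append
    (sbnd_of_cyclic (isCanon_PtC EG) hx (isBase_range EG _) 2 11 0 (by norm_num) (b := 0) ⟨EG.dec 0, rfl⟩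
      (by decide +kernel) card_M24 (m := 22256640) (by decide +kernel))).append
    (sbnd_of_cyclic (isCanon_PtC EG) hx (isBase_range EG _) 3 23 0 (by norm_num) (b := 1) ⟨EG.dec 1, rfl⟩
      (by decide +kernel) card_M24 (m := 10644480) (by decide +kernel))).of_eq (by decide +kernel) rfl

theorem result : Cfsg.HasCyclicSchurMultiplier ↥Cfsg.M24 1 := cyc_one_of_bnd sb

end Cfsg.Agent.S2038
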