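import Cfsg.Statements.S2061
import Cfsg.Agent.Known.M12Out
import Cfsg.Agent.Known.M12Eq

namespace Cfsg.Agent.S2061

open Cfsg.Agent.Known

theorem result : Nat.card (Cfsg.Out ↥Cfsg.Spor.M12) = 2 :=
  M12T.equiv.elim fun e => (card_out_congr e).trans M12O.out

end Cfsg.Agent.S2061
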