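import Cfsg.Statements.S2064
import Cfsg.Agent.Known.M24Out
import Cfsg.Agent.Known.M24Eq

namespace Cfsg.Agent.S2064

open Cfsg.Agent.Known

theorem result : Nat.card (Cfsg.Out ↥Cfsg.M24) = 1 :=
  M24T.equiv.elim fun e => (card_out_congr e).trans M24O.out

end Cfsg.Agent.S2064
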