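import Cfsg.Statements.S2066
import Cfsg.Agent.Known.J2Out
import Cfsg.Agent.Ico.Eq

namespace Cfsg.Agent.S2066

open Cfsg.Agent.Known

theorem result : Nat.card (Cfsg.Out Cfsg.Spor.J2) = 2 :=
  Ico.equiv.elim fun e => (card_out_congr e.symm).trans J2O.out

end Cfsg.Agent.S2066
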