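import Cfsg.Statements.S2070
import Cfsg.Agent.Known.Co2Out
import Cfsg.Agent.Known.Co2Eq

namespace Cfsg.Agent.S2070

open Cfsg.Agent.Known

theorem result : Nat.card (Cfsg.Out ↥Cfsg.Spor.Co2) = 1 :=
  Co2T.equiv.elim fun e => (card_out_congr e).trans Co2O.out

end Cfsg.Agent.S2070
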