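import Cfsg.Statements.S2075
import Cfsg.Agent.Known.HeOut

namespace Cfsg.Agent.S2075

open Cfsg.Agent.Known

theorem result : Nat.card (Cfsg.Out Cfsg.Spor.He) = 2 :=
  HeO.out

end Cfsg.Agent.S2075
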