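import Cfsg.Statements.S2078
import Cfsg.Agent.Known.ONOut

namespace Cfsg.Agent.S2078

open Cfsg.Agent.Known

theorem result : Nat.card (Cfsg.Out Cfsg.Spor.ON) = 2 :=
  ONO.out

end Cfsg.Agent.S2078
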