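import Cfsg.Statements.S2135
import Cfsg.Agent.HJ.J3c
import Cfsg.Agent.Known.J3Eq
-- import your own Cfsg.Agent.* helpers here

set_option autoImplicit false
open Cfsg

namespace Cfsg.Agent.S2135

/-- For any field with 4 elements and any element ω of it with ω² + ω + 1 = 0: in the Janko group J₃ (the group generated by explicit 9 × 9 matrices over that field built from ω, taken modulo its centre) all involutions are conjugate, and the centraliser C of an involution has a normal extraspecial subgroup Q of order 32 containing no elementary abelian subgroup of order 8, complemented in C, with C / Q isomorphic to the alternating group of degree 5 (shape 2^{1+4}_-:A₅). -/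
theorem result {F : Type*} [Field F] [Fintype F] (hF : Fintype.card F = 4) (ω : F) (hω : ω ^ 2 + ω + 1 = 0) : (∀ x y : Cfsg.Spor.J3 F ω, orderOf x = 2 → orderOf y = 2 → IsConj x y) ∧ ∃ t : Cfsg.Spor.J3 F ω, orderOf t = 2 ∧ ∃ (Q : Subgroup ↥(Subgroup.centralizer ({t} : Set (Cfsg.Spor.J3 F ω)))) (_ : Q.Normal), Cfsg.IsExtraspecial 2 Q ∧ Nat.card Q = 32 ∧ (∀ E : Subgroup Q, Cfsg.IsElementaryAbelian 2 E → Nat.card E ≤ 2 ^ 2) ∧ (∃ H : Subgroup ↥(Subgroup.centralizer ({t} : Set (Cfsg.Spor.J3 F ω))), Q.IsComplement' H) ∧ Nonempty (↥(Subgroup.centralizer ({t} : Set (Cfsg.Spor.J3 F ω))) ⧸ Q ≃* ↥(alternatingGroup (Fin 5))) := by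
  
  obtain ⟨e⟩ := Known.J3T.equiv hF hω
  have M := Known.J3T.mdl.congr e
  have := M.finite
  obtain ⟨-, π, h1, h2, h3, A, h4⟩ := HJ.J3c.cent M
  have ht := HJ.J3c.ord M
  have hc := HJ.J3t.cent_le ht h1 h3 h2 fun _ _ => HJ.J3c.one M
  exact ⟨fun _ _ => HJ.J3c.one M, _, ht, π.ker, inferInstance, h3, h2, fun E hE => (HJ.J3t.minus h1 h3 h2 hc
    (HJ.J3t.tt_ord ht) (HJ.J3t.tt_center _)).2 E hE.1 hE.2, ⟨A, h4⟩, ⟨QuotientGroup.quotientKerEquivOfSurjective π h1⟩⟩

end Cfsg.Agent.S2135
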