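import Cfsg.Statements.S2149
import Cfsg.Agent.Known.Enum
import Cfsg.Agent.Classical.FieldCongr
import Cfsg.Agent.S1633
import Cfsg.Agent.S0283

set_option autoImplicit false
set_option maxRecDepth 100000
open Cfsg

namespace Cfsg.Agent.S2149

open Cfsg.Agent.Leech Cfsg.Agent.Comp Cfsg.Agent.Known Cfsg.Agent.Classical S1633 Subgroup MulAction
open scoped commutatorElement

theorem su_congr {n q : ℕ} {K F : Type*} [Field K] [Field F] (e : K ≃+* F) (A) (hA : A ∈ SU n K q) :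
    slCongr e A ∈ SU n F q := fun u v => by
  obtain ⟨u, rfl⟩ := (Function.Surjective.comp_left e.surjective) u
  obtain ⟨v, rfl⟩ := (Function.Surjective.comp_left e.surjective) v
  have := congrArg e (hA u v)
  simp only [hermForm, map_sum, map_mul, map_pow] at this ⊢
  convert this using 3 <;> simp [Matrix.mulVec, dotProduct, slCongr_apply]

theorem psu_congr (n q : ℕ) {K F : Type*} [Field K] [Field F] [Fintype K] [Fintype F]
    (h : Fintype.card K = Fintype.card F) : Nonempty (PSU n K q ≃* PSU n F q) := by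
  let e := FiniteField.ringEquivOfCardEq h
  have : (SU n K q).map (slCongr e).toMonoidHom = SU n F q := le_antisymm (map_le_iff_le_comap.2 (su_congr e))
    fun A hA => ⟨_, su_congr e.symm A hA, by ext; simp [slCongr_apply]⟩
  let e' := ((slCongr e).subgroupMap (SU n K q)).trans (MulEquiv.subgroupCongr this)
  exact ⟨QuotientGroup.congr _ _ e' (Subgroup.ext fun x => mem_map_equiv.trans (MulEquivClass.apply_mem_center_iff e'.symm))⟩

/-- letters `a`, `b`, `z`, `t`: `⟨a, b, z⟩ = 5 ^ (1 + 2)`, normalised by `t` of order 8. -/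
def tb : List (List ℕ × ℕ) := [([0, 1, 1, 0, 0, 0, 0, 0, 0, 1, 1, 0, 1, 1, 1, 1, 1, 1, 0, 0, 0, 0, 0, 0, 1, 0, 0, 1, 0, 0],
  0xa956e33d1ad63ad18893131ebc27c4a6c06ec188651d429980d427a0988369349d14099c5cb),
  ([1, 0, 1, 1, 0, 0, 0, 0, 0, 0, 0, 0, 0, 0, 0, 0, 1, 1, 0, 1, 0, 0, 0, 0, 0, 0, 1, 1, 1, 1, 1, 1, 0, 0, 0, 0, 0, 0, 1,
  1, 1, 1, 1, 1, 0, 0],
  0xb8d44851904b25fc5a0ce1a2087be57707243d7b16b61aa84ab60414c8ca7804136e6a55827),
  ([0, 1, 1, 1, 1, 1, 1, 1, 1, 1, 1, 1, 1, 1, 1, 1, 1, 1, 1, 0, 0, 0, 0, 0, 0, 0, 0, 0, 0, 0, 0, 0, 0, 0, 0, 0, 0, 1, 1,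
  1, 1, 1, 1, 0, 0, 0, 0, 0, 0, 0, 0, 0, 0, 0, 0, 1, 0, 1, 0, 0, 0, 0, 0, 0, 0, 0, 0, 0, 0, 0, 1, 1, 1, 1, 1, 1, 0, 0,
  0, 0, 0, 0, 0, 0, 0, 0, 0, 0, 0, 0, 0, 0, 0, 0, 0, 0, 0, 0, 0, 0, 1, 1],
  0x9d55f141c7c678f01aa4ea8a051603882864c056dd1eb8d9b28344b564cc96e48b526260bc8),
  ([0, 1, 0, 0, 0, 0, 0, 0, 1, 1, 1, 1, 1, 1, 0, 0, 1, 0, 0, 0, 0, 0, 0, 1, 1, 1, 1, 1, 1, 0, 0, 0, 0, 0, 0, 1, 1, 1, 1,
  1, 1, 0, 0, 0, 0, 0, 0, 1, 1, 1, 1, 1, 1, 0, 0, 0, 0, 0, 0, 1, 0, 0, 1, 1, 1, 1, 1, 1, 0, 0, 1, 1, 1, 1, 1, 1, 0, 0,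
  0, 0, 0, 0, 0, 0, 0, 0, 0, 0, 0, 0, 0, 0, 0, 0, 1, 1, 1, 1, 1, 1],
  0x82ab9c99e747604b2fac1c2dc432943c921b4d69d02cc48696469738d5681518d98a17e9002)]
def tid : List ℕ × ℕ := ([], 0xc70beeb6caeaa689e69648e28607de75c6da6585d65544d24503ce34c2ca2481c61440c2040)
def ac (j : ℕ) : ℕ → ℕ := get2 6 (nthL tid tb j).2
def ws : List (List ℕ) := (List.range 125).map fun i =>
  List.replicate (i / 25) 0 ++ List.replicate (i / 5 % 5) 1 ++ List.replicate (i % 5) 2
def tr : List (List ℕ) := [[], [1, 0, 0], [1, 1, 0, 0, 0], [0, 0, 0, 1, 1, 0], [1, 1, 1, 1], [0, 1, 1, 1], [1, 1, 1, 1, 0, 0], [1, 0, 0, 1, 0],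
  [0, 0, 1, 1, 1, 0], [0, 1, 1], [1], [0, 0, 0, 0, 0], [1, 1], [0, 0, 1], [0, 0, 1, 1], [1, 1, 1, 0, 1, 0], [1, 1, 1, 1,
  0], [1, 1, 0, 1, 0], [1, 0, 1, 1, 1, 0], [1, 1, 1, 0, 0], [0, 0, 0, 0], [1, 1, 0], [0, 0, 0, 0, 1, 1, 0], [1, 0], [0,
  0, 1, 1, 0, 0], [0, 0, 0, 1, 1, 1], [1, 0, 0, 0], [0, 0, 1, 0], [1, 1, 1, 0], [0, 0, 0, 1], [0, 0, 0], [0], [0, 1],
  [1, 1, 0, 0], [0, 0], [0, 0, 0, 1, 1], [0, 1, 1, 0], [1, 1, 1], [1, 0, 1], [0, 1, 1, 0, 0, 0], [1, 0, 1, 1, 0, 0], [0,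
  1, 0], [0, 0, 1, 1, 1], [1, 0, 1, 1, 1], [0, 1, 1, 0, 0], [1, 0, 1, 0], [0, 1, 1, 1, 0], [0, 0, 1, 1, 0], [1, 1, 1, 1,
  1, 0, 0], [1, 0, 1, 1, 0, 0, 0]]

theorem main {G : Type*} [Group G] [IsSimpleGroup G] {φ : G →* Equiv.Perm ℕ} {y : ℕ → G}
    (M : Mdl φ 50 2 126000 y (fun j i => bif' (Nat.blt j 2) (act5 j i) i) (List.range 50)) :
    (∀ H : Subgroup G, H ≠ ⊤ → 50 ≤ H.index) ∧ ∃ H : Subgroup G, H.index = 50 := by
  letI := actOf φ
  haveI : Finite G := Nat.finite_of_card_ne_zero (by rw [M.card]; decide)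
  have hP := isCanon_PtN 50
  refine ⟨fun H hH => ?_, stabilizer G (0 : ℕ), ?_⟩
  · haveI : Fact (Nat.Prime 5) := ⟨by decide⟩
    have hx : ActBy _ _ ac := actBy_tab M.hy 6 tid tb (by decide +kernel)
    generalize (fun j => W y (nthL tid tb j).1) = x at hx
    obtain ⟨S, s1, s2, s3⟩ := enum hP hx M.base (exists_PtN (by decide +kernel)) 3 ws (by decide +kernel)
    have eq := fun u v => eq_of_eqB (u := u) (v := v) hP.func hx M.base
    have l3 : ∀ w ∈ ws, ∀ l ∈ w, l < 3 := by decide +kernel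
    have c1 : ∀ i < 3, Commute (x i) (x 2) := fun i hi => by
      simpa [commute_iff_eq] using eq [i, 2] [2, i] ((by decide +kernel : ∀ i < 3, eqB _ _ [i, 2] [2, i] = true) i hi)
    have t8 : W x (List.replicate 7 3) = (x 3)⁻¹ :=
      eq_inv_of_mul_eq_one_right ((W_cons x 3 _).symm.trans (eq _ [] (by decide +kernel)))
    have z1 : x 2 ≠ 1 := by simpa using ne_of_actW hP hx (b := 0) ⟨rfl, by decide⟩ (u := [2]) (v := []) (by decide +kernel)
    obtain ⟨ω, hω⟩ : ∃ ω : G ⧸ H, x 2 • ω ≠ ω := by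
      by_contra! h
      have : x 2 ∈ H.normalCore := H.normalCore_eq_ker ▸ Equiv.ext h
      rcases H.normalCore_normal.eq_bot_or_eq_top with e | e
      exacts [z1 (mem_bot.1 (e ▸ this)), hH (top_le_iff.1 (e ▸ H.normalCore_le))]
    refine heis_index (G ⧸ H) (p := 5) (t := x 3) s3 (s2 2 (by decide)) (orderOf_eq_prime
      ((W_replicate x 5 2).symm.trans (eq _ [] (by decide +kernel))) z1) (fun u hu => ?_) (fun u hu v hv => ?_)
      (fun u hu => ?_) ⟨2, ?_⟩ (fun u hu h c => ?_) hω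
    all_goals try obtain ⟨w, hw, rfl⟩ := (s1 _).1 hu
    · exact mem_centralizer_singleton_iff.1 (W_mem _ fun l hl => mem_centralizer_singleton_iff.2 (c1 l (l3 w hw l hl)))
    · obtain ⟨v, hv', rfl⟩ := (s1 _).1 hv
      refine comm_mem (Z := zpowers (x 2)) (fun i hi _ ⟨k, hk⟩ => hk ▸ (c1 i hi).zpow_right k) (fun i hi j hj => ?_) w
        (l3 w hw) v (l3 v hv')
      obtain ⟨k, -, e⟩ := (by decide +kernel : ∀ i < 3, ∀ j < 3, ∃ k < 5,
        eqB ac (List.range 50) [i, j] (List.replicate k 2 ++ [j, i]) = true) i hi j hj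
      have := eq _ _ e
      simp only [W_append, W_replicate, W_cons, W_nil, mul_one] at this
      exact ⟨k, by simp [commutatorElement_def, this, mul_assoc]⟩
    · refine (show x 3 * _ * _ = _ from map_W x (MulAut.conj (x 3)).toMonoidHom w) ▸ W_mem _ fun l hl => ?_
      obtain ⟨v, hv, e⟩ := (by decide +kernel : ∀ i < 3, ∃ v ∈ [[1], [0, 0, 0, 2], [2, 2]],
        (∀ l ∈ v, l < 3) ∧ eqB ac (List.range 50) [3, i] (v ++ [3]) = true) l (l3 w hw l hl)
      have := eq _ _ e.2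
      simp only [W_append, W_cons, W_nil, mul_one] at this
      show x 3 * x l * _ ∈ S
      rw [this, mul_inv_cancel_right]
      exact W_mem _ fun l hl => s2 l (e.1 l hl)
    · have := eq [3, 2] [2, 2, 3] (by decide +kernel)
      simp only [W_cons, W_nil, mul_one] at this
      simp only [zpow_two, mul_assoc, mul_inv_cancel_left, ← this, inv_mul_cancel_left]
    · rcases (by decide +kernel : ∀ w ∈ ws, (∀ l ∈ w, l = 2) ∨ ∃ b < 50, Nat.beq
        (actW ac (w ++ 3 :: w ++ List.replicate 7 3) b) (actW ac (3 :: w ++ List.replicate 7 3 ++ w) b) = false) w hw with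
        e | ⟨b, hb, e⟩
      · exact h (W_mem _ fun l hl => e l hl ▸ mem_zpowers _)
      · exact ne_of_actW hP hx ⟨rfl, hb⟩ e (by simpa only [W_append, W_cons, t8, mul_assoc] using c.eq)
  · rw [index_stabilizer, show orbit G (0 : ℕ) = Finset.range 50 from Set.ext fun p => ⟨fun ⟨g, e⟩ => ?_, fun h => ?_⟩,
      Set.ncard_coe_finset, Finset.card_range]
    · by_contra h
      have h : 50 ≤ p := by simpa using h
      have := (φ g).injective ((M.fix g p h).trans e.symm)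
      omega
    · exact ⟨W y (nthL [] tr p), (actW_spec M.hy _ (show PtN 50 0 0 from ⟨rfl, by decide⟩)).1.symm.trans
        ((by decide +kernel : ∀ p < 50, actW _ (nthL [] tr p) 0 = p) p (by simpa using h))⟩

/-- Minimal index of a proper subgroup of PSU₃(5), realised over the field with 25 elements: every proper subgroup has index at least 50, and that index is attained. -/
theorem result {F : Type*} [Field F] [Fintype F] (hF : Fintype.card F = 25) : (∀ H : Subgroup (Cfsg.PSU 3 F 5), H ≠ ⊤ → 50 ≤ H.index) ∧ (∃ H : Subgroup (Cfsg.PSU 3 F 5), H.index = 50) := by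
  have h25 : Fintype.card F25 = 25 := by decide +kernel
  obtain ⟨e⟩ := psu_congr 3 5 (hF.trans h25.symm)
  obtain ⟨e'⟩ := equiv h25
  have hc : Nat.card (St3 vv uu' y352) = 126000 := card_inf_stabilizer_of_orbit (orbs_HS.card 1) (by decide) card_HS
  obtain ⟨x, -, hx⟩ := exists_actBy isActV (d := c1) (L := [c0]) (K := St3 vv uu' y352)
    ((((codesC (by decide +kernel)).fixV_top PV_V (by decide +kernel)).fixV PV_U1 (by decide +kernel)).fixV
      (PV_vec cH352 (by decide +kernel)) (by decide +kernel))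
  have cv : IsCanon PV := ⟨fun _ _ _ => PV.func, fun _ _ _ h h' => h.pb.canon h'.pb⟩
  obtain ⟨φ, y, M⟩ := mdl_of_act cv hx (N := 50) (k := 2) (get2 216 v5) act5
    (fun i hi => ⟨_, PV_vec _ (allLt_iff.1 (by decide +kernel : allLt 50 (fun i => inL (get2 216 v5 i)) = true) i hi)⟩)
    hc (by decide) (by decide) [[1, 0, 1, 0, 0, 0, 0, 0, 1, 1, 0, 0, 1, 1], [1, 1, 0, 1, 0, 0, 0, 1, 0, 1, 1, 1, 0, 0],
      [1, 0, 1, 1, 0, 0, 0, 0, 1, 1, 0, 0], [0, 1, 0, 0, 1, 1, 0, 0, 1], [1, 0, 0, 0, 0], [0]] [1, 44, 5, 12, 21, 2]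
      (by decide +kernel)
  haveI := S0283.result (q := 5) hF 3 le_rfl (by decide)
  haveI := (e.trans e').symm.isSimpleGroup
  obtain ⟨h1, H, h2⟩ := main M
  exact ⟨fun K hK => (index_map_of_bijective (f := (e.trans e').toMonoidHom) (e.trans e').bijective K) ▸
    h1 _ fun h => hK (map_injective (e.trans e').injective (h.trans (map_top_of_surjective _ (e.trans e').surjective).symm)),
    H.comap (e.trans e').toMonoidHom, (index_comap_of_surjective _ (e.trans e').surjective).trans h2⟩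

end Cfsg.Agent.S2149
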