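import Cfsg.Statements.S2176
import Cfsg.Agent.Chev.Invol
import Cfsg.Agent.Chev.CoxE8

set_option autoImplicit false
open Cfsg

namespace Cfsg.Agent.S2176

open Cfsg.Agent.Chev Cfsg.Lie

/-- Conjugacy classes of involutions in the Chevalley group of type E₈ over a finite field F of characteristic two (the matrix group generated by the root elements x_r(t)). In this problem's root numbering for type E₈ (the Chevalley data module; fundamental roots numbered so that p₁–p₃–p₄–p₅–p₆–p₇–p₈ is the long chain of the diagram and p₂ is joined to p₄; roots indexed by their coefficient vectors in increasing order) let r = 239 be the highest root (2,3,4,6,5,4,3,2), α = 232 = (2,2,4,5,4,3,2,1), β = 233 = (2,3,3,5,4,3,2,1), γ = 228 = (2,2,3,4,3,2,2,1), δ = 222 = (1,2,3,4,3,3,2,1), ε = 218 = (1,2,2,4,4,3,2,1), φ = 226 = (2,2,3,4,3,2,1,0), ψ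 = 220 = (1,2,3,4,3,2,1,1), θ = 213 = (1,2,2,3,3,3,2,1), ω = 216 = (1,2,2,4,3,2,2,1) (the roots within each of {α, β}, {γ, δ, ε}, {φ, ψ, θ, ω} pairwise orthogonal); consider x_r(1), x_α(1)x_β(1), x_γ(1)x_δ(1)x_ε(1) and x_φ(1)x_ψ(1)x_θ(1)x_ω(1). Then: each invertible matrix equal to one of these four products lies in the group and has order 2; every element of order 2 of the group is conjugate in the group to one of them; and no two of them are conjugate in the group (so, the four matrices being distinct, the group has exactly four conjugacy classes of involutions). -/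
theorem result {F : Type*} [Field F] [Fintype F] [CharP F 2] :
    (∀ y : GL Cfsg.Lie.chevE8.Idx F, ((y : GL Cfsg.Lie.chevE8.Idx F) : Matrix Cfsg.Lie.chevE8.Idx Cfsg.Lie.chevE8.Idx F) ∈ [Cfsg.Lie.chevE8.x F 239 1, Cfsg.Lie.chevE8.x F 232 1 * Cfsg.Lie.chevE8.x F 233 1, Cfsg.Lie.chevE8.x F 228 1 * Cfsg.Lie.chevE8.x F 222 1 * Cfsg.Lie.chevE8.x F 218 1, Cfsg.Lie.chevE8.x F 226 1 * Cfsg.Lie.chevE8.x F 220 1 * Cfsg.Lie.chevE8.x F 213 1 * Cfsg.Lie.chevE8.x F 216 1] → y ∈ Cfsg.Lie.chevE8.group F ∧ orderOf y = 2) ∧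
    (∀ g ∈ Cfsg.Lie.chevE8.group F, orderOf g = 2 → ∃ y ∈ Cfsg.Lie.chevE8.group F, ((y : GL Cfsg.Lie.chevE8.Idx F) : Matrix Cfsg.Lie.chevE8.Idx Cfsg.Lie.chevE8.Idx F) ∈ [Cfsg.Lie.chevE8.x F 239 1, Cfsg.Lie.chevE8.x F 232 1 * Cfsg.Lie.chevE8.x F 233 1, Cfsg.Lie.chevE8.x F 228 1 * Cfsg.Lie.chevE8.x F 222 1 * Cfsg.Lie.chevE8.x F 218 1, Cfsg.Lie.chevE8.x F 226 1 * Cfsg.Lie.chevE8.x F 220 1 * Cfsg.Lie.chevE8.x F 213 1 * Cfsg.Lie.chevE8.x F 216 1] ∧ ∃ h ∈ Cfsg.Lie.chevE8.group F, h * g * h⁻¹ = y) ∧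
    (∀ y₁ ∈ Cfsg.Lie.chevE8.group F, ∀ y₂ ∈ Cfsg.Lie.chevE8.group F, ((y₁ : GL Cfsg.Lie.chevE8.Idx F) : Matrix Cfsg.Lie.chevE8.Idx Cfsg.Lie.chevE8.Idx F) ∈ [Cfsg.Lie.chevE8.x F 239 1, Cfsg.Lie.chevE8.x F 232 1 * Cfsg.Lie.chevE8.x F 233 1, Cfsg.Lie.chevE8.x F 228 1 * Cfsg.Lie.chevE8.x F 222 1 * Cfsg.Lie.chevE8.x F 218 1, Cfsg.Lie.chevE8.x F 226 1 * Cfsg.Lie.chevE8.x F 220 1 * Cfsg.Lie.chevE8.x F 213 1 * Cfsg.Lie.chevE8.x F 216 1] → ((y₂ : GL Cfsg.Lie.chevE8.Idx F) : Matrix Cfsg.Lie.chevE8.Idx Cfsg.Lie.chevE8.Idx F) ∈ [Cfsg.Lie.chevE8.x F 239 1, Cfsg.Lie.chevE8.x F 232 1 * Cfsg.Lie.chevE8.x F 233 1, Cfsg.Lie.chevE8.x F 228 1 * Cfsg.Lie.chevE8.x F 222 1 * Cfsg.Lie.chevE8.x F 218 1, Cfsg.Lie.chevE8.x F 226 1 * Cfsg.Lie.chevE8.x F 220 1 * Cfsg.Lie.chevE8.x F 213 1 * Cfsg.Lie.chevE8.x F 216 1] →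
      (∃ h ∈ Cfsg.Lie.chevE8.group F, h * y₁ * h⁻¹ = y₂) → ((y₁ : GL Cfsg.Lie.chevE8.Idx F) : Matrix Cfsg.Lie.chevE8.Idx Cfsg.Lie.chevE8.Idx F) = ((y₂ : GL Cfsg.Lie.chevE8.Idx F) : Matrix Cfsg.Lie.chevE8.Idx Cfsg.Lie.chevE8.Idx F)) := by
  have c := Sys.adCover chevE8 F
  have h1 := certE8_ok.cls_univ (fun _ _ => rfl) (c.split_SL (adS_mult _ F) (by decide +kernel)) isReflE8
    (R := [[], [239], [232, 233], [228, 222, 218], [226, 220, 213, 216]])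
    (E := [([], []), ([239], []), ([239, 226], [7, 6, 5, 4, 3, 1]), ([239, 226, 159], [0, 2, 3, 4, 7, 6, 5, 4, 3, 1, 2, 3, 4, 5]), ([239, 226, 159, 121], [20, 87, 127, 130, 0, 2, 3, 4, 7, 6, 5, 4, 3, 1, 2, 3, 4, 5]), ([239, 226, 159, 152, 121], [20, 87, 127, 130, 0, 2, 3, 4, 5, 4, 3, 6, 7, 6, 5, 4, 3, 1, 2, 3, 4, 5, 6, 7]), ([239, 226, 159, 152, 126, 121], [20, 87, 127, 130, 18, 92, 122, 137, 0, 2, 3, 4, 5, 4, 3, 6, 7, 6, 5, 4, 3, 1, 2, 3, 4, 5, 6, 7]), ([239, 226, 159, 152, 135, 126, 121], [20, 87, 127, 130, 18, 92, 122, 137, 66, 73, 85, 171, 0, 2, 3, 4, 5, 4, 3, 6, 7, 6, 5, 4, 3, 1, 2, 3, 4, 5, 6, 7]), ([239, 226, 159, 152, 141, 135, 126, 121], [20, 87, 127, 130, 18, 92, 122, 137, 16, 101, 113, 148, 44, 51, 79, 181, 0, 2, 3, 4, 5, 4, 3, 6, 7, 6, 5, 4, 3, 1, 2, 3, 4, 5, 6, 7]), ([239, 226, 159, 152, 141, 126, 121], [20, 87,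 127, 130, 18, 92, 122, 137, 44, 51, 79, 181, 0, 2, 3, 4, 5, 4, 3, 6, 7, 6, 5, 4, 3, 1, 2, 3, 4, 5, 6, 7]), ([239, 226, 159, 152, 135, 121], [20, 87, 127, 130, 66, 73, 85, 171, 0, 2, 3, 4, 5, 4, 3, 6, 7, 6, 5, 4, 3, 1, 2, 3, 4, 5, 6, 7]), ([239, 226, 159, 152, 141, 135, 121], [20, 87, 127, 130, 16, 101, 113, 148, 44, 51, 79, 181, 0, 2, 3, 4, 5, 4, 3, 6, 7, 6, 5, 4, 3, 1, 2, 3, 4, 5, 6, 7]), ([239, 226, 159, 152, 141, 121], [20, 87, 127, 130, 44, 51, 79, 181, 0, 2, 3, 4, 5, 4, 3, 6, 7, 6, 5, 4, 3, 1, 2, 3, 4, 5, 6, 7]), ([239, 226, 159, 152], [0, 2, 3, 4, 5, 4, 3, 6, 7, 6, 5, 4, 3, 1, 2, 3, 4, 5, 6, 7]), ([239, 226, 159, 152, 126], [18, 92, 122, 137, 0, 2, 3, 4, 5, 4, 3, 6, 7, 6, 5, 4, 3, 1, 2, 3, 4, 5, 6, 7]), ([239, 226, 159, 152, 135, 126], [18, 92, 122, 137, 66, 73, 85, 171, 0, 2, 3, 4, 5, 4, 3, 6, 7, 6, 5, 4, 3, 1, 2, 3,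 4, 5, 6, 7]), ([239, 226, 159, 152, 141, 135, 126], [18, 92, 122, 137, 16, 101, 113, 148, 44, 51, 79, 181, 0, 2, 3, 4, 5, 4, 3, 6, 7, 6, 5, 4, 3, 1, 2, 3, 4, 5, 6, 7]), ([239, 226, 159, 152, 141, 126], [18, 92, 122, 137, 44, 51, 79, 181, 0, 2, 3, 4, 5, 4, 3, 6, 7, 6, 5, 4, 3, 1, 2, 3, 4, 5, 6, 7]), ([239, 226, 159, 152, 135], [66, 73, 85, 171, 0, 2, 3, 4, 5, 4, 3, 6, 7, 6, 5, 4, 3, 1, 2, 3, 4, 5, 6, 7]), ([239, 226, 159, 152, 141, 135], [16, 101, 113, 148, 44, 51, 79, 181, 0, 2, 3, 4, 5, 4, 3, 6, 7, 6, 5, 4, 3, 1, 2, 3, 4, 5, 6, 7]), ([239, 226, 159, 152, 141], [44, 51, 79, 181, 0, 2, 3, 4, 5, 4, 3, 6, 7, 6, 5, 4, 3, 1, 2, 3, 4, 5, 6, 7])])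
    (by decide +kernel)
  have h2 := certE8_ok.sep (fun _ => rfl) c (R := [([239], [239]), ([232, 233], [232, 233, 234, 235, 236, 237, 238, 239]), ([228, 222, 218], [218, 222, 223, 224, 225, 228, 229, 230, 231, 232, 233, 234, 235, 236, 237, 238, 239]), ([226, 220, 213, 216], [213, 216, 217, 218, 220, 221, 222, 223, 224, 225, 226, 227, 228, 229, 230, 231, 232, 233, 234, 235, 236, 237, 238, 239])]) (by decide +kernel)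
  exact h1.list h2 (by simp [mul_assoc])

end Cfsg.Agent.S2176
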