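import Cfsg.Statements.S2212
import Cfsg.Agent.AutCl.LangCl
import Cfsg.Agent.Ly.U3M
import Cfsg.Agent.Gold.All
import Cfsg.Agent.GW.Inv
import Cfsg.Agent.Classical.DetQuot

set_option autoImplicit false
open Cfsg

namespace Cfsg.Agent.S2212

open Subgroup Matrix Cfsg.Agent.BG Cfsg.Agent.Suz Cfsg.Agent.Classical Cfsg.Agent.AutCl Cfsg.Agent.Rank1 SemidirectProduct

section Mat
variable {F : Type*} [Field F] [Fintype F] [CharP F 2] {q : ℕ} [hF : Fact (Fintype.card F = q ^ 2)]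

theorem un0 {c : F} (hc : c ^ q = c) : Un q (0 : F) c := by
  unfold Un; rw [hc, CharTwo.add_self_eq_zero, zero_pow (by omega)]

noncomputable def Nm (F : Type*) [Field F] [Fintype F] [CharP F 2] (q : ℕ) [Fact (Fintype.card F = q ^ 2)] :
    Matrix (Fin 3) (Fin 3) F := (uU q (0 : F) 1).1.1 - 1

theorem uU_mat {c : F} (hc : c ^ q = c) : (uU q (0 : F) c).1.1 = 1 + c • Nm F q := by
  refine Matrix.ext_of_mulVec_single fun i => ?_
  obtain ⟨x, y, z, e⟩ := Suz.exists_coord (Pi.single i (1 : F))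
  have h1 := uU_smul (un0 hc) x y z
  have h2 := uU_smul (un0 (q := q) (one_pow q : (1 : F) ^ q = 1)) x y z
  rw [su_smul_def] at h1 h2
  rw [e, Nm, add_mulVec, smul_mulVec, sub_mulVec, one_mulVec, h1, h2]
  simp only [zero_pow_q]; module

theorem Nm_ne : Nm F q ≠ 0 := fun h => by
  have h2 := uU_smul (un0 (q := q) (one_pow q : (1 : F) ^ q = 1)) 0 0 1
  rw [su_smul_def, uU_mat (one_pow q), h, smul_zero, add_zero, one_mulVec] at h2
  simpa using (coord_inj h2).2.1

theorem uU_sq {c : F} (hc : c ^ q = c) : uU q (0 : F) c * uU q (0 : F) c = 1 := su_ext' fun x y z => by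
  rw [mul_smul, uU_smul (un0 hc), uU_smul (un0 hc), one_smul]
  simp only [zero_pow_q, mul_zero, add_zero, zero_mul, add_assoc, CharTwo.add_self_eq_zero]

noncomputable def zc (q : ℕ) [Fact (Fintype.card F = q ^ 2)] (c : F) : PSU 3 F q := QuotientGroup.mk (uU q (0 : F) c)

theorem eq_of_mk {s s' : SU 3 F q} (h1 : s * s = 1) (h2 : s' * s' = 1)
    (h : (QuotientGroup.mk s : PSU 3 F q) = QuotientGroup.mk s') : s = s' := by
  have C := clSU hF.out (le_refl 3)
  obtain ⟨c, hc⟩ := (C.mk_eq_iff s s').1 h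
  have e := congrArg (jSU 3 F q) h2
  rw [map_mul, hc, mul_assoc, ← mul_assoc (jSU 3 F q s), ← scal_comm, mul_assoc, ← map_mul, h1, map_one, mul_one] at e
  have := congrArg (fun g : GL (Fin 3) F => ((g : Matrix (Fin 3) (Fin 3) F) *ᵥ (Pi.single 0 1 : Fin 3 → F)) 0) e
  simp only [Units.val_mul, ← mulVec_mulVec, scal_mulVec] at this
  have h3 : (c : F) * c = 1 := by simpa using this
  have h4 : (c : F) = 1 := by
    have : ((c : F) + 1) ^ 2 = 0 := by rw [CharTwo.add_sq, sq, h3, one_pow, CharTwo.add_self_eq_zero]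
    exact CharTwo.add_eq_zero.1 (pow_eq_zero_iff two_ne_zero |>.1 this)
  refine C.inj (Units.ext (Matrix.ext_of_mulVec_single fun i => ?_))
  rw [hc, Units.val_mul, ← mulVec_mulVec, scal_mulVec, h4, one_smul]

theorem zc_inj {c d : F} (hc : c ^ q = c) (hd : d ^ q = d) (h : zc q c = zc q d) : c = d := by
  have := congrArg (fun s : SU 3 F q => s.1.1) (eq_of_mk (uU_sq hc) (uU_sq hd) h)
  simp only [uU_mat hc, uU_mat hd, add_right_inj] at this
  exact smul_left_injective F Nm_ne this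

theorem zc_sq {c : F} (hc : c ^ q = c) : zc q c * zc q c = 1 := by
  rw [zc, ← QuotientGroup.mk_mul, uU_sq hc]; rfl

theorem zc_comm {c d : F} (hc : c ^ q = c) (hd : d ^ q = d) : Commute (zc q c) (zc q d) := by
  rw [zc, zc, Commute, SemiconjBy, ← QuotientGroup.mk_mul, ← QuotientGroup.mk_mul]
  congr 1
  refine su_ext' fun x y z => ?_
  simp only [mul_smul, uU_smul (un0 hc), uU_smul (un0 hd), zero_pow_q]; module

theorem zc_one_ne : zc q (1 : F) ≠ 1 := fun h => by
  have h0 : (0 : F) ^ q = 0 := zero_pow_q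
  have : zc q (0 : F) = 1 := by
    rw [zc, show uU q (0 : F) 0 = 1 from Subtype.ext (Subtype.ext (by rw [uU_mat h0]; simp))]; rfl
  exact one_ne_zero (zc_inj (one_pow q) h0 (h.trans this.symm))

theorem theta_zc (n : GamS (Geom.hermFormed hF.out 3)) (h : (clSU hF.out (le_refl 3)).theta n (zc q 1) = zc q 1) {c : F}
    (hc : c ^ q = c) : (clSU hF.out (le_refl 3)).theta n (zc q c) = zc q (n.1.right c) := by
  have C := clSU hF.out (le_refl 3)
  have m : ∀ {c : F}, c ^ q = c → (C.nu n (uU q 0 c)).1.1 = 1 + n.1.right c •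
      ((n.1.left : Matrix (Fin 3) (Fin 3) F) * (Nm F q).map n.1.right * (n.1.left⁻¹ : GL (Fin 3) F)) := fun {c} hc => by
    rw [← coe_jSU, C.j_nu, Units.val_mul, Units.val_mul, coe_glField, coe_jSU, uU_mat hc, Matrix.map_add _ (map_add _),
      Matrix.map_one _ (map_zero _) (map_one _), Matrix.map_smul' _ _ _ (map_mul _)]
    simp [mul_add, add_mul]
  rw [zc, Cl.theta_mk] at h ⊢
  have h1 := congrArg (fun s : SU 3 F q => s.1.1) (eq_of_mk (by rw [← map_mul, uU_sq (one_pow q), map_one])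
    (uU_sq (one_pow q)) h)
  simp only [m (one_pow q), uU_mat (one_pow q : (1 : F) ^ q = 1), map_one, one_smul, add_right_inj] at h1
  rw [zc]; congr 1
  exact Subtype.ext (Subtype.ext (by rw [m hc, h1, uU_mat (by rw [← map_pow, hc])]))

theorem sq_of_fix (σ : F ≃+* F) (h : ∀ c : F, c ^ q = c → σ c = c) : σ * σ = 1 := by
  ext x
  have h1 := h (x + x ^ q) (by rw [add_pow_q, pow_q_q, add_comm])
  have h2 := h (x * x ^ q) (by rw [mul_pow, pow_q_q, mul_comm])
  rw [map_add, map_pow] at h1; rw [map_mul, map_pow] at h2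
  have : (σ x - x) * (σ x - x ^ q) = 0 := by linear_combination σ x * h1 - h2
  change σ (σ x) = x
  rcases mul_eq_zero.1 this with e | e <;> rw [sub_eq_zero] at e
  · rw [e, e]
  · rw [e, map_pow, e, pow_q_q]

end Mat

section Abs
variable {L Ω : Type*} [Group L] [Finite L] [IsSimpleGroup L] [MulAction L Ω] {a : Ω} {t : L} {Q : Subgroup L}

theorem aut_odd (h : Hyp L Ω a t Q) (h2 : IsPGroup 2 Q) (β : MulAut L) (ho : Odd (orderOf β)) (hf : ∀ x ∈ Q, β x = x) :
    β = 1 := by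
  have S := h.setup
  have u2 : β t * β t = 1 := by rw [← map_mul, S.mul_self, map_one]
  have ua : β t • a ≠ a := fun e => by
    have h1 := Setup.mem_Q_of_mul_self S e u2
    have h3 : β t = t := β.injective (hf _ h1)
    exact Setup.t_smul_ne S (h3 ▸ e)
  obtain ⟨x, hx, e⟩ := Setup.exists_Q_ta S ua
  have xa := Setup.smul_a S hx
  have t2 : x * t * x⁻¹ * (x * t * x⁻¹) = 1 := by rw [conj_mul, S.mul_self]; simp
  have ta : (x * t * x⁻¹) • a = β t • a := by rw [mul_smul, mul_smul, inv_smul_eq_iff.2 xa.symm, e]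
  have S' := Setup.change S t2 (ta ▸ ua)
  obtain ⟨c, hc, ci, e2⟩ := Setup.exists_conj_of_swap S' u2 ta.symm
  obtain ⟨s, r, hs, s2, hr, e3⟩ := Setup.exists_struct S
  have sa := Setup.smul_a S hs
  have ca := (mem_D2.1 hc).1
  have cx : x * s = s * x := (h.Q0_comm (h.mem_Q0.2 ⟨hs, by rw [← sq, ← s2, pow_orderOf_eq_one]⟩) hx).eq.symm
  have e4 := congrArg β e3
  simp only [map_mul, map_inv, hf s hs, hf r hr, e2] at e4
  have := (Setup.struct_unique S' (s := s) (r := x * r * x⁻¹) (s' := c⁻¹ * s * c) (r' := c⁻¹ * r * c) sa s2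
    (mul_mem (mul_mem hx hr) (inv_mem hx)) (by
      calc _ = x * t * (x⁻¹ * (s * x)) * t * x⁻¹ := by group
        _ = x * (t * s * t) * x⁻¹ := by rw [← cx]; group
        _ = _ := by rw [e3]; group)
    (by rw [mul_smul, mul_smul, ca, sa, inv_smul_eq_iff, ca]) (by rw [← s2]; simpa using BG.orderOf_conj' c⁻¹ s)
    (Setup.conj_mem_Q' S ca hr) (by
      calc _ = c⁻¹ * (c * (x * t * x⁻¹) * c⁻¹ * s * (c * (x * t * x⁻¹) * c⁻¹)) * c := by group
        _ = _ := by rw [e4]; group)).1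
  have c1 : c = 1 := Setup.eq_one_of_inverted S' ci sa s2 (by
    rw [Commute, SemiconjBy]; conv_lhs => rw [this]
    group)
  rw [c1, one_mul, inv_one, mul_one] at e2
  have pw : ∀ k : ℕ, (β ^ k) t = x ^ k * t * (x ^ k)⁻¹ := fun k => by
    induction k with
    | zero => simp
    | succ k ih => rw [pow_succ', MulAut.mul_apply, ih, map_mul, map_mul, map_inv, hf _ (pow_mem hx k), e2, pow_succ]; group
  have h5 := pw (orderOf β)
  rw [pow_orderOf_eq_one, MulAut.one_apply] at h5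
  have h6 : x ^ orderOf β = 1 := Setup.eq_one_of_smul_ta S (pow_mem hx _) (by
    conv_rhs => rw [h5]
    rw [mul_smul, mul_smul, inv_smul_eq_iff.2 (Setup.smul_a S (pow_mem hx _)).symm])
  obtain ⟨k, hk⟩ := h2 ⟨x, hx⟩
  have x1 : x = 1 := by
    have := Nat.dvd_gcd (orderOf_dvd_of_pow_eq_one h6) (orderOf_dvd_of_pow_eq_one (congrArg Subtype.val hk))
    rwa [(Nat.Coprime.pow_right k (Nat.coprime_two_right.2 ho)), Nat.dvd_one, orderOf_eq_one_iff] at this
  have : Lg t Q ≤ β.toMonoidHom.eqLocus (MonoidHom.id L) := (closure_le _).2 (by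
    rintro y (hy | rfl)
    · exact hf y hy
    · exact (show β y = y by simpa [x1] using e2))
  ext y; exact this (h.Lg_eq_top.ge trivial)

theorem conj_inj (h : Hyp L Ω a t Q) : Function.Injective (MulAut.conj : L →* MulAut L) := by
  have := h.faithful
  refine (injective_iff_map_eq_one _).2 fun x hx => ?_
  have hc : ∀ y, x * y * x⁻¹ = y := fun y => congrArg (fun f : MulAut L => f y) hx
  rcases (inferInstance : (center L).Normal).eq_bot_or_eq_top with e | e
  · exact mem_bot.1 (e ▸ mem_center_iff.2 fun y => by conv_lhs => rw [← hc y]; ; group)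
  · obtain ⟨s, hs, s2⟩ := Setup.exists_invol_Q h.setup
    exact absurd (Setup.mem_H_of_commute h.setup hs (by rintro rfl; simp at s2)
      (mem_center_iff.1 (e.ge trivial : s ∈ center L) t)) (Setup.t_smul_ne h.setup)

theorem odd_bot (h : Hyp L Ω a t Q) (h2 : IsPGroup 2 Q) {z : L} (hz : z ∈ Q) (z1 : z ≠ 1) {C : Type*} [Group C] [Finite C]
    (j : C →* MulAut L) (hj : Function.Injective j) (hf : ∀ c, j c z = z) (hQ : ∀ x ∈ Q, ∃ c, j c = MulAut.conj x)
    (N : Subgroup C) [hN : N.Normal] (ho : Odd (Nat.card N)) : N = ⊥ := by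
  have := h.faithful
  have h0 : (N.map j).comap MulAut.conj = ⊥ := by
    refine h.eq_bot_of_odd (Odd.of_dvd_nat (show Odd (Nat.card (N.map j)) by rwa [card_map_of_injective hj])
      (card_comap_dvd_of_injective _ _ (conj_inj h))) (fun x ⟨c, _, e⟩ => ?_) fun x hx =>
        mem_normalizer_fintype fun y ⟨c, hc, e⟩ => ?_
    · refine Setup.mem_H_of_commute h.setup hz z1 ?_
      have := hf c
      rw [e] at this
      exact mul_inv_eq_iff_eq_mul.1 this
    · obtain ⟨d, hd⟩ := hQ x hx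
      exact ⟨d * c * d⁻¹, hN.conj_mem _ hc _, by simp [hd, e]⟩
  refine eq_bot_iff.2 fun c hc => hj ?_
  rw [map_one]
  refine aut_odd h h2 _ ((Invol.odd_orderOf_of_mem ho hc).of_dvd_nat (orderOf_map_dvd j c)) fun x hx => ?_
  obtain ⟨d, hd⟩ := hQ x hx
  have : j c x * x⁻¹ ∈ (N.map j).comap MulAut.conj := ⟨c * (d * c⁻¹ * d⁻¹), mul_mem hc (hN.conj_mem _ (inv_mem hc) _), by
    ext y; simp [hd, mul_assoc]⟩
  rw [h0, mem_bot] at this
  exact mul_inv_eq_one.1 this

end Abs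

section Main
variable {F : Type*} [Field F] [Fintype F] [CharP F 2] {q : ℕ} [hF : Fact (Fintype.card F = q ^ 2)]

theorem exH {n : ℕ} (hn : 2 ≤ n) (hq : q = 2 ^ n) : ∃ (H : Subgroup (PSU 3 F q)) (a : PSU 3 F q ⧸ H) (t : PSU 3 F q)
    (Q : Subgroup (PSU 3 F q)), Hyp (PSU 3 F q) (PSU 3 F q ⧸ H) a t Q ∧ IsPGroup 2 Q ∧ zc q (1 : F) ∈ Q ∧
      ∀ u, u * u = 1 → Commute u (zc q (1 : F)) → ∃ c : F, c ^ q = c ∧ zc q c = u := by
  subst hq
  obtain ⟨t, H, Q, h, h2, -, -, c0⟩ := psu3_hyp hn hF.out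
  obtain ⟨g, hg⟩ := Setup.exists_conj_mem_Q h.setup (zc_sq (F := F) (q := 2 ^ n) (one_pow _))
  have h' : Hyp _ _ _ _ _ := ⟨Setup.conj h.setup g⁻¹, h.rank⟩
  have hz : zc (2 ^ n) (1 : F) ∈ Q.map (MulAut.conj g⁻¹).toMonoidHom := ⟨_, hg, by simp [mul_assoc]⟩
  have key : ∀ u, u * u = 1 → Commute u (zc (2 ^ n) (1 : F)) → u ∈ Q0 (Q.map (MulAut.conj g⁻¹).toMonoidHom) :=
    fun u u2 hu => h'.mem_Q0.2 ⟨Setup.mem_Q_of_mul_self h'.setup (Setup.mem_H_of_commute h'.setup hz zc_one_ne hu) u2, u2⟩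
  refine ⟨H, _, _, _, h', h2.map _, hz, fun u u2 hu => ?_⟩
  have e : Q0 (Q.map (MulAut.conj g⁻¹).toMonoidHom) = (Q0 Q).map (MulAut.conj g⁻¹).toMonoidHom := by
    ext x; rw [h'.mem_Q0]; constructor
    · rintro ⟨⟨y, hy, rfl⟩, e⟩
      exact ⟨y, h.mem_Q0.2 ⟨hy, (MulAut.conj g⁻¹).injective (by rw [map_mul, map_one]; exact e)⟩, rfl⟩
    · rintro ⟨y, hy, rfl⟩
      exact ⟨⟨y, (h.mem_Q0.1 hy).1, rfl⟩, by rw [← map_mul, (h.mem_Q0.1 hy).2, map_one]⟩
  let φ : {c : F // c ^ 2 ^ n = c} → Q0 (Q.map (MulAut.conj g⁻¹).toMonoidHom) := fun c =>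
    ⟨zc _ c.1, key _ (zc_sq c.2) (zc_comm c.2 (one_pow _))⟩
  have : Function.Bijective φ := (Nat.bijective_iff_injective_and_card _).2
    ⟨fun c d e => Subtype.ext (zc_inj c.2 d.2 (congrArg Subtype.val e)), by
      rw [card_fixed, e, card_map_of_injective (MulAut.conj g⁻¹).injective, c0]⟩
  obtain ⟨c, hc⟩ := this.2 ⟨u, key u u2 hu⟩
  exact ⟨c.1, c.2, congrArg Subtype.val hc⟩

theorem ker_gu : (guAut hF.out (le_refl 3)).ker = center (GU 3 F q) := by
  ext g
  rw [MonoidHom.mem_ker, mem_center_GU_iff (by norm_num)]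
  refine ((clSU hF.out (le_refl 3)).theta_eq_one_iff _).trans ⟨fun ⟨c, e⟩ => ⟨c, ?_⟩, fun ⟨c, e⟩ => ?_⟩
  · have e : g.1 = scal c := inl_injective e
    refine Matrix.ext_of_mulVec_single fun i => ?_
    rw [e, scal_mulVec, smul_mulVec, one_mulVec]
  · obtain ⟨c', -, e'⟩ := exists_scal (g := g.1) (c := c) fun v => by rw [e, smul_mulVec, one_mulVec]
    exact ⟨c', congrArg inl e'⟩

noncomputable def jX : (GU 3 F q ⧸ center (GU 3 F q)) →* MulAut (PSU 3 F q) :=
  QuotientGroup.lift _ (guAut hF.out (le_refl 3)) ker_gu.ge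

theorem jX_inj : Function.Injective (jX (F := F) (q := q)) := (injective_iff_map_eq_one _).2 fun x hx => by
  obtain ⟨g, rfl⟩ := QuotientGroup.mk_surjective x
  exact (QuotientGroup.eq_one_iff _).2 (ker_gu.le hx)

theorem jX_range : (jX (F := F) (q := q)).range = (clSU hF.out (le_refl 3)).inD (Sim (Geom.hermFormed hF.out 3)) := by
  rw [← range_guAut hF.out (le_refl 3)]; ext β
  exact ⟨fun ⟨x, e⟩ => by obtain ⟨g, rfl⟩ := QuotientGroup.mk_surjective x; exact ⟨g, e⟩, fun ⟨g, e⟩ => ⟨g, e⟩⟩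

theorem jX_inn (x : PSU 3 F q) : ∃ c, jX c = MulAut.conj x :=
  jX_range.ge ((clSU hF.out (le_refl 3)).inn_le_inD (clSU hF.out (le_refl 3)).inl_mem ⟨x, rfl⟩)

theorem jX_cube (c : GU 3 F q ⧸ center (GU 3 F q)) : jX c ^ 3 ∈ Inn (PSU 3 F q) := by
  obtain ⟨g, rfl⟩ := QuotientGroup.mk_surjective c
  change guAut hF.out (le_refl 3) g ^ 3 ∈ _
  rw [← map_pow, guAut_mem_inn, map_pow]; exact ⟨_, rfl⟩

theorem jX_fix {c : GU 3 F q ⧸ center (GU 3 F q)} (h : jX c (zc q 1) = zc q 1) {d : F} (hd : d ^ q = d) :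
    jX c (zc q d) = zc q d := by
  obtain ⟨g, rfl⟩ := QuotientGroup.mk_surjective c
  exact theta_zc _ h hd

theorem sq_mem (hq : 2 < q) (β : MulAut (PSU 3 F q)) (h : ∀ d : F, d ^ q = d → β (zc q d) = zc q d) :
    β ^ 2 ∈ (jX (F := F) (q := q)).range := by
  obtain ⟨n, rfl⟩ := clSU_surj hF.out (le_refl 3) (by omega) β
  have := sq_of_fix n.1.right fun c hc =>
    zc_inj (by rw [← map_pow, hc]) hc ((theta_zc n (h 1 (one_pow q)) hc).symm.trans (h c hc))
  have e := inl_left_of_right (n := (n ^ 2).1) (by simp only [sq]; exact this)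
  rw [jX_range, ← map_pow]
  have hs : (n ^ 2).1.left ∈ Sim (Geom.hermFormed hF.out 3) := by
    change inl _ ∈ GamS _; rw [← e]; exact (n ^ 2).2
  exact (clSU hF.out (le_refl 3)).mem_inD.2 ⟨_, hs, hs, congrArg _ (Subtype.ext e)⟩

theorem mem_of_coprime {A : Type*} [Group A] {H : Subgroup A} {x : A} {m k : ℕ} (h1 : x ^ m ∈ H) (h2 : x ^ k ∈ H)
    (c : Nat.Coprime m k) : x ∈ H := by
  have := Nat.gcd_eq_gcd_ab m k
  rw [c, Nat.cast_one] at this
  rw [← zpow_one x, this, _root_.zpow_add, _root_.zpow_mul, _root_.zpow_mul, zpow_natCast, zpow_natCast]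
  exact mul_mem (zpow_mem h1 _) (zpow_mem h2 _)

end Main

theorem one_class {L Ω : Type*} [Group L] [Finite L] [MulAction L Ω] {a : Ω} {t : L} {Q : Subgroup L}
    (S : IsRankOneSetup L Ω a t Q) {u v : L} (hu : orderOf u = 2) (hv : orderOf v = 2) : ∃ l, l * u * l⁻¹ = v := by
  obtain ⟨g, hg⟩ := Setup.exists_conj_mem_Q S (Invol.mul_self_of hu)
  obtain ⟨g', hg'⟩ := Setup.exists_conj_mem_Q S (Invol.mul_self_of hv)
  obtain ⟨k, -, -, e⟩ := Setup.exists_K_conj S (Setup.smul_a S hg) (by rwa [BG.orderOf_conj']) (Setup.smul_a S hg')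
    (by rwa [BG.orderOf_conj'])
  exact ⟨g'⁻¹ * k * g, by calc _ = g'⁻¹ * (k * (g * u * g⁻¹) * k⁻¹) * g' := by group
    _ = _ := by rw [e]; group⟩

theorem bot4 {G : Type*} [Group G] [Finite G] (N : Subgroup G) [hN : N.Normal] (ho : Odd (Nat.card N)) {v w : G}
    (hv : v * v = 1) (hw : w * w = 1) (h1 : N ⊓ C1[v] = ⊥) (h2 : N ⊓ C1[w] = ⊥) (h3 : N ⊓ C1[v * w] = ⊥) : N = ⊥ := by
  have i1 := GW.inv_of_cent_bot ho hv (by rw [normalizer_eq_top]; trivial) h1
  have i2 := GW.inv_of_cent_bot ho hw (by rw [normalizer_eq_top]; trivial) h2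
  rw [← h3, eq_comm, inf_eq_left]
  intro x hx
  have j1 : v * x⁻¹ * v⁻¹ = x⁻¹⁻¹ := i1 _ (inv_mem hx)
  have j2 : w * x * w⁻¹ = x⁻¹ := i2 x hx
  rw [BG.mem_cent1]
  calc _ = (v * x⁻¹ * v⁻¹) * (v * w) := by rw [j1, inv_inv]
    _ = _ := by rw [← j2]; group

/-- Characterization of the three-dimensional projective unitary groups over finite fields of characteristic two by the centralizer of an involution. Let q = 2^n > 2 and let PGU₃(q) be the quotient of the full unitary group of a non-degenerate Hermitian form in three variables over the field with q² elements by its centre. Let G be a finite group of even order in which all involutions are conjugate, the centralizer of an involution is isomorphic to the centralizer of an involution in PGU₃(q), and a Sylow 2-subgroup is not normal. Then G ≅ PGU₃(q). -/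
theorem result {G : Type*} [Group G] [Finite G] {F : Type*} [Field F] [Fintype F] [CharP F 2] (q : ℕ) (hq : 2 < q) (hF : Fintype.card F = q ^ 2)
    (heven : Even (Nat.card G)) (hconj : ∀ s t : G, orderOf s = 2 → orderOf t = 2 → IsConj s t)
    (hC : ∀ (x : G) (y : (↥(Cfsg.GU 3 F q) ⧸ Subgroup.center ↥(Cfsg.GU 3 F q))), orderOf x = 2 → orderOf y = 2 →
      Nonempty (↥(Subgroup.centralizer ({x} : Set G)) ≃* ↥(Subgroup.centralizer ({y} : Set (↥(Cfsg.GU 3 F q) ⧸ Subgroup.center ↥(Cfsg.GU 3 F q))))))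
    (hS : ∀ P : Sylow 2 G, ¬ (P : Subgroup G).Normal) :
    Nonempty (G ≃* (↥(Cfsg.GU 3 F q) ⧸ Subgroup.center ↥(Cfsg.GU 3 F q))) := by
  have : Fact (Fintype.card F = q ^ 2) := ⟨hF⟩
  obtain ⟨n, hqn⟩ : ∃ n, q = 2 ^ n := by
    obtain ⟨k, -, hk⟩ := FiniteField.card F 2
    obtain ⟨n, -, e⟩ := (Nat.dvd_prime_pow Nat.prime_two).1 (hk ▸ hF ▸ dvd_pow_self q two_ne_zero)
    exact ⟨n, e⟩
  have hn : 2 ≤ n := by
    by_contra h
    obtain rfl | rfl : n = 0 ∨ n = 1 := by omega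
    all_goals omega
  obtain ⟨H, a, t, Q, h, h2, hz, hI⟩ := exH (F := F) hn hqn
  have := isSimpleGroup_PSU (F := F) (q := q) (le_refl 3) (by omega)
  have ci := conj_inj h
  set z : PSU 3 F q := zc q (1 : F)
  have oz : orderOf z = 2 := orderOf_eq_prime (by rw [sq, zc_sq (one_pow q)]) zc_one_ne
  obtain ⟨y, hy⟩ := jX_inn z
  have oy : orderOf y = 2 := by rw [← orderOf_injective jX jX_inj, hy, orderOf_injective _ ci, oz]
  have cj : ∀ (β : MulAut (PSU 3 F q)) u, β * MulAut.conj u = MulAut.conj (β u) * β := fun β u => by ext; simp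
  have mC : ∀ c, c ∈ centralizer {y} ↔ jX c z = z := fun c => by
    rw [BG.mem_cent1, ← jX_inj.eq_iff, map_mul, map_mul, hy, cj, mul_left_inj, ci.eq_iff]
  let jC := (jX (F := F) (q := q)).comp (centralizer {y}).subtype
  have jCi : Function.Injective jC := jX_inj.comp (centralizer {y}).subtype_injective
  have jCz : ∀ c, jC c z = z := fun c => (mC _).1 c.2
  have z0 : z ∈ Q0 Q := h.mem_Q0.2 ⟨hz, zc_sq (one_pow q)⟩
  have jCQ : ∀ x ∈ Q, ∃ c, jC c = MulAut.conj x := fun x hx => by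
    obtain ⟨c, hc⟩ := jX_inn x
    exact ⟨⟨c, (mC c).2 (by rw [hc, MulAut.conj_apply, ← (h.Q0_comm z0 hx).eq]; simp)⟩, hc⟩
  have two : ∀ c k, c ^ 2 ^ k = 1 → ∃ x ∈ Q, jC c = MulAut.conj x := fun c k hk => by
    have h1 : jC c ^ 2 ^ k = 1 := by rw [← map_pow, hk, map_one]
    obtain ⟨x, hx⟩ : jC c ∈ Inn _ := mem_of_coprime (jX_cube _) (h1 ▸ one_mem _) (Nat.Coprime.pow_right k (by norm_num))
    refine ⟨x, Setup.mem_Q_of_pow h.setup (Setup.mem_H_of_commute h.setup hz zc_one_ne ?_) (n := k)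
      (ci (by rw [map_pow, hx, h1, map_one])), hx.symm⟩
    have := jCz c
    rw [← hx] at this
    exact mul_inv_eq_iff_eq_mul.1 this
  have cen : ∀ u c : centralizer {y}, u * u = 1 → c * u = u * c := fun u c hu => by
    obtain ⟨x, hx, e⟩ := two u 1 (by rw [pow_one, sq, hu])
    obtain ⟨d, hd, rfl⟩ := hI x (ci (by rw [map_mul, ← e, ← map_mul, hu, map_one, map_one])) (h.Q0_comm z0 hx).symm
    refine jCi ?_
    rw [map_mul, map_mul, e, cj, show jC c (zc q d) = zc q d from jX_fix (jCz c) hd]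
  -- the Sylow subgroup of `G`
  obtain ⟨S⟩ : Nonempty (Sylow 2 G) := inferInstance
  obtain ⟨x, xS, ox, xc⟩ : ∃ x ∈ (S : Subgroup G), orderOf x = 2 ∧ (S : Subgroup G) ≤ centralizer {x} := by
    have : Nontrivial (S : Subgroup G) := (S : Subgroup G).nontrivial_iff_ne_bot.2 (S.ne_bot_of_dvd_card heven.two_dvd)
    have := S.2.center_nontrivial
    obtain ⟨k, hk0, hk⟩ := (S.2.to_subgroup (center _)).nontrivial_iff_card.1 this
    obtain ⟨x, hx⟩ := exists_prime_orderOf_dvd_card' (G := center (S : Subgroup G)) 2 (hk ▸ dvd_pow_self 2 hk0.ne')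
    exact ⟨x.1.1, x.1.2, by rw [orderOf_coe, orderOf_coe, hx], fun s hs =>
      BG.mem_cent1.2 (congrArg Subtype.val (mem_center_iff.1 x.2 ⟨s, hs⟩))⟩
  obtain ⟨E⟩ := hC x y ox oy
  let jE := jC.comp E.toMonoidHom
  have jEi : Function.Injective jE := jCi.comp E.injective
  have hT : ((Q.map MulAut.conj).comap jE).map (centralizer {x}).subtype = S := by
    refine S.3 (((h2.map _).comap_of_injective _ jEi).map _) fun s hs => ?_
    obtain ⟨k, hk⟩ := S.2 ⟨s, hs⟩
    obtain ⟨u, hu, e⟩ := two (E ⟨s, xc hs⟩) k (by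
      rw [← map_pow, ← map_one E]; congr 1
      exact Subtype.ext (congrArg Subtype.val hk : s ^ 2 ^ k = 1))
    exact ⟨⟨s, xc hs⟩, ⟨u, hu, e.symm⟩, rfl⟩
  have hψ : (jE.comp (inclusion xc)).range = Q.map MulAut.conj := by
    ext β; constructor
    · rintro ⟨s, rfl⟩
      obtain ⟨c, hc, e⟩ := hT.ge s.2
      rwa [MonoidHom.comp_apply, show inclusion xc s = c from Subtype.ext e.symm]
    · rintro ⟨u, hu, rfl⟩
      obtain ⟨c, hc⟩ := jCQ u hu
      have e : jE (E.symm c) = MulAut.conj u := by simp [jE, hc]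
      exact ⟨⟨E.symm c, hT.le ⟨_, ⟨u, hu, e.symm⟩, rfl⟩⟩, e⟩
  obtain ⟨P, hP⟩ := h.exists_sylow
  have eS : (S : Subgroup G) ≃* (P : Subgroup (PSU 3 F q)) :=
    ((MonoidHom.ofInjective (jEi.comp (inclusion_injective xc) : Function.Injective (jE.comp (inclusion xc)))).trans
      (MulEquiv.subgroupCongr hψ)).trans ((Q.equivMapOfInjective _ ci).symm.trans (MulEquiv.subgroupCongr hP.symm))
  obtain ⟨Z, hU⟩ : ∃ Z, Ly.U3S (S : Subgroup G) Z q := by
    subst hqn; exact Ly.u3s_of_iso hn hF P eS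
  have oO : Odd (Nat.card (pPrimeCore 2 G)) := Block.odd_card_pPrimeCore
  have hO : pPrimeCore 2 G = ⊥ := by
    have key : ∀ v, v * v = 1 → v ≠ 1 → pPrimeCore 2 G ⊓ C1[v] = ⊥ := fun v v2 v1 => by
      obtain ⟨E⟩ := hC v y (orderOf_eq_prime (by rw [sq, v2]) v1) oy
      have := odd_bot h h2 hz zc_one_ne (jC.comp E.toMonoidHom) (jCi.comp E.injective) (fun c => jCz _)
        (fun u hu => (jCQ u hu).elim fun c hc => ⟨E.symm c, by simp [hc]⟩) ((pPrimeCore 2 G).subgroupOf _)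
        (oO.of_dvd_nat (card_comap_dvd_of_injective _ _ (subtype_injective _)))
      rwa [subgroupOf_eq_bot, disjoint_iff] at this
    have := Fintype.ofFinite Z
    obtain ⟨u, v, w, huv, huw, hvw⟩ := Fintype.two_lt_card_iff.1 (Nat.card_eq_fintype_card (α := Z) ▸ hU.cZ ▸ hq)
    have s2 : ∀ u : Z, (u : G) * u = 1 := fun u => (hU.om _ (hU.le u.2)).2 u.2
    have ne : ∀ {u v : Z}, u ≠ v → ((u * v : Z) : G) ≠ 1 := fun {u v} huv e => huv (Subtype.ext (by
      rw [← mul_right_inj (u : G), s2]; exact e.symm))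
    refine bot4 _ oO (s2 (u * v)) (s2 (v * w)) (key _ (s2 _) (ne huv)) (key _ (s2 _) (ne hvw)) ?_
    have : ((u * v : Z) : G) * (v * w : Z) = (u * w : Z) := by
      simp only [coe_mul]; rw [mul_assoc, ← mul_assoc (v : G), s2, one_mul]
    rw [this]; exact key _ (s2 _) (ne huw)
  obtain ⟨L, hL, oL, ⟨e⟩⟩ := (hU.main Gold.sh hq (sylowIn_top S) (by rwa [Op'_top]) hF).resolve_left (hS S)
  let Φ : G →* MulAut (PSU 3 F q) := (MulAut.congr e).toMonoidHom.comp MulAut.conjNormal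
  have hΦ : ∀ g (x : L), Φ g (e x) = e (MulAut.conjNormal g x) := fun g x => by simp [Φ]
  have ΦL : ∀ l : L, Φ l = MulAut.conj (e l) := fun l => by
    ext u; obtain ⟨u, rfl⟩ := e.surjective u
    rw [hΦ, show MulAut.conjNormal (l : G) u = l * u * l⁻¹ from Subtype.ext (by simp)]; simp
  have Φi : Function.Injective Φ := by
    rw [← MonoidHom.ker_eq_bot_iff, eq_bot_iff, ← hO]
    refine PLocal.le_pPrimeCore inferInstance (Nat.coprime_two_right.2 (oL.of_dvd_nat ?_))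
    have : L.relIndex Φ.ker = Nat.card Φ.ker := by
      rw [relIndex, (subgroupOf_eq_bot.2 (disjoint_iff.2 (eq_bot_iff.2 fun l hl => ?_))), index_bot]
      have := (ΦL ⟨l, hl.1⟩).symm.trans hl.2
      rw [← map_one MulAut.conj, ci.eq_iff, map_eq_one_iff _ e.injective] at this
      exact congrArg Subtype.val this
    exact this ▸ relIndex_dvd_index_of_normal L _
  set x0 : G := ((e.symm z : L) : G)
  have fx : ∀ g (u : PSU 3 F q), Φ g u = u ↔ g * (e.symm u : L) = (e.symm u : L) * g := fun g u => by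
    obtain ⟨u, rfl⟩ := e.surjective u
    rw [hΦ, e.apply_eq_iff_eq, e.symm_apply_apply, Subtype.ext_iff, MulAut.conjNormal_apply, mul_inv_eq_iff_eq_mul]
  obtain ⟨E0⟩ := hC x0 y (by rw [orderOf_coe, MulEquiv.orderOf_eq, oz]) oy
  have le1 : ∀ g, Φ g z = z → Φ g ∈ jX.range := fun g hg => by
    refine mem_of_coprime (sq_mem hq _ fun d hd => (fx _ _).2 ?_) (k := L.index) ?_ (Nat.coprime_two_left.2 oL)
    · have m : ((e.symm (zc q d) : L) : G) ∈ centralizer {x0} := BG.mem_cent1.2 (by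
        rw [← coe_mul, ← map_mul, (zc_comm hd (one_pow q)).eq, map_mul, coe_mul])
      have := cen (E0 ⟨_, m⟩) (E0 ⟨g, BG.mem_cent1.2 ((fx _ _).1 hg)⟩) (by
        rw [← map_mul, ← map_one E0]; congr 1; apply Subtype.ext
        change ((e.symm (zc q d) * e.symm (zc q d) : L) : G) = 1
        rw [← map_mul, zc_sq hd, map_one]; rfl)
      rw [← map_mul, ← map_mul] at this
      exact congrArg Subtype.val (E0.injective this)
    · rw [← map_pow, show g ^ L.index = (⟨_, L.pow_index_mem g⟩ : L) from rfl, ΦL]; exact jX_inn _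
  have red : ∀ (A B : Subgroup (MulAut (PSU 3 F q))), (∀ u, MulAut.conj u ∈ A) → (∀ u, MulAut.conj u ∈ B) →
      (∀ β ∈ A, β z = z → β ∈ B) → A ≤ B := fun A B hA hB hAB β hβ => by
    obtain ⟨l, hl⟩ := one_class h.setup (u := β z) (by rw [MulEquiv.orderOf_eq, oz]) oz
    exact (mul_mem_cancel_left (hB l)).1 (hAB _ (mul_mem (hA l) hβ) hl)
  have iΦ : ∀ u, MulAut.conj u ∈ Φ.range := fun u => ⟨e.symm u, by rw [ΦL, e.apply_symm_apply]⟩
  have eq1 : (centralizer {x0}).map Φ = (centralizer {y}).map jX := by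
    refine eq_of_le_of_card_ge ?_ (by
      rw [card_map_of_injective Φi, card_map_of_injective jX_inj, Nat.card_congr E0.toEquiv])
    rintro _ ⟨g, hg, rfl⟩
    have h1 := (fx g z).2 (BG.mem_cent1.1 hg)
    obtain ⟨c, hc⟩ := le1 g h1
    exact ⟨c, (mC c).2 (hc ▸ h1), hc⟩
  have eq2 : Φ.range = jX.range := le_antisymm
    (red _ _ iΦ jX_inn (by rintro _ ⟨g, rfl⟩ hg; exact le1 g hg))
    (red _ _ jX_inn iΦ (by
      rintro _ ⟨c, rfl⟩ hc
      exact map_le_range _ _ (eq1.ge ⟨c, (mC c).2 hc, rfl⟩)))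
  exact ⟨(MonoidHom.ofInjective Φi).trans ((MulEquiv.subgroupCongr eq2).trans (MonoidHom.ofInjective jX_inj).symm)⟩

end Cfsg.Agent.S2212
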