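import Cfsg.Statements.S2479
import Cfsg.Agent.Classical.Kn5
import Cfsg.Agent.S2384

set_option autoImplicit false
open Cfsg

namespace Cfsg.Agent.S2479

open Cfsg.Agent.Classical Cfsg.Agent.Classical.Kn Matrix.SpecialLinearGroup

/-- The number of conjugacy classes of SL(n,q): for F a finite field with q elements, the number k of conjugacy classes of SL(n,F) satisfies q^(n−1) < k and k ≤ (5/2)·q^(n−1) for n ≥ 2, and k ≤ q^(n−1) + 3q^(n−2) for n ≥ 3. -/
theorem result {F : Type*} [Field F] [Fintype F] (n : ℕ) (hn : 2 ≤ n) :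
    Fintype.card F ^ (n - 1) < Nat.card (ConjClasses (Matrix.SpecialLinearGroup (Fin n) F)) ∧ 2 * Nat.card (ConjClasses (Matrix.SpecialLinearGroup (Fin n) F)) ≤ 5 * Fintype.card F ^ (n - 1) ∧
      (3 ≤ n → Nat.card (ConjClasses (Matrix.SpecialLinearGroup (Fin n) F)) ≤ Fintype.card F ^ (n - 1) + 3 * Fintype.card F ^ (n - 2)) := by
  obtain ⟨p, _⟩ := CharP.exists F
  have hp := Fact.mk (CharP.char_is_prime F p)
  have : NeZero n := ⟨by omega⟩
  have h0 : Nat.card Fˣ + 1 = Nat.card F := by rw [Nat.card_units, Nat.sub_add_cancel Nat.card_pos]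
  have h1 := card_sl_le (F := F) (n := n) 1 (z := 1) (by simp)
  rw [Nat.card_congr (Equiv.subtypeUnivEquiv fun c =>
    (ConjClasses.mk_surjective c).imp fun x h => ⟨h, by rw [one_mul]⟩), orderOf_one, Nat.div_one] at h1
  rw [Fintype.card_eq_nat_card]
  refine ⟨?_, (Nat.mul_le_mul_left _ h1).trans (sl_le' h0 1 (by omega)), fun h => h1.trans ((sl_le h0 1).2.2 n h)⟩
  have h : (⟨0, by omega⟩ : Fin n) ≠ ⟨1, hn⟩ := by simp
  have h2 : ∀ k : ℕ, transvection h (1 : F) ^ k = transvection h (k : F) := fun k => by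
    induction k with
    | zero => simp
    | succ k ih => rw [pow_succ, ih, ← transvection_add, Nat.cast_succ]
  have h3 : orderOf (transvection h (1 : F)) = p := orderOf_eq_prime (by rw [h2, CharP.cast_eq_zero, transvection_coeff_zero]) fun e =>
    one_ne_zero ((transvection_mem_center_iff h (1 : F)).1 (e ▸ one_mem _))
  rw [← S2384.result Fintype.card_eq_nat_card p n (by omega)]
  refine Finite.card_subtype_lt (x := ConjClasses.mk (transvection h 1)) fun ⟨g, e, hg⟩ => ?_
  obtain ⟨c, hc⟩ := ConjClasses.mk_eq_mk_iff_isConj.1 e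
  rw [hc.orderOf_eq, h3, Nat.coprime_self] at hg
  exact hp.1.ne_one hg

end Cfsg.Agent.S2479
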