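import Cfsg.Statements.S2480
import Cfsg.Agent.Classical.Kn5
import Cfsg.Agent.S2479

set_option autoImplicit false
open Cfsg

namespace Cfsg.Agent.S2480

open Cfsg.Agent.Classical Cfsg.Agent.Classical.Kn Matrix.SpecialLinearGroup

/-- The number of conjugacy classes of PSL(n,q): for F a finite field with q elements, n ≥ 2 and d = gcd(n, q − 1), the number k of conjugacy classes of PSL(n,F) satisfies q^(n−1) ≤ d·k ≤ q^(n−1) + 5q^(n−2). -/
theorem result {F : Type*} [Field F] [Fintype F] (n : ℕ) (hn : 2 ≤ n) :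
    Fintype.card F ^ (n - 1) ≤ Nat.gcd n (Fintype.card F - 1) * Nat.card (ConjClasses (Matrix.ProjectiveSpecialLinearGroup (Fin n) F)) ∧
      Nat.gcd n (Fintype.card F - 1) * Nat.card (ConjClasses (Matrix.ProjectiveSpecialLinearGroup (Fin n) F)) ≤ Fintype.card F ^ (n - 1) + 5 * Fintype.card F ^ (n - 2) := by
  classical
  have : NeZero n := ⟨by omega⟩
  have := Fintype.ofFinite (Subgroup.center (Matrix.SpecialLinearGroup (Fin n) F))
  have h0 : Nat.card Fˣ + 1 = Nat.card F := by rw [Nat.card_units, Nat.sub_add_cancel Nat.card_pos]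
  have h1 := card_center_SL (F := F) (ι := Fin n)
  have h2 := card_center_mul (G := Matrix.SpecialLinearGroup (Fin n) F)
  have h3 := (S2479.result (F := F) n hn).1.le
  have h4 := card_sl_le (F := F) (n := n) 1 (z := 1) (by simp)
  rw [← Finset.add_sum_erase _ _ (Finset.mem_univ 1), OneMemClass.coe_one] at h2
  rw [orderOf_one, Nat.div_one] at h4
  rw [← Nat.card_congr (Equiv.subtypeUnivEquiv (p := fun c => ∃ x, ConjClasses.mk x = c ∧ IsConj (1 * x) x)
    fun c => (ConjClasses.mk_surjective c).imp fun x h => ⟨h, by rw [one_mul]⟩)] at h3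
  rw [Fintype.card_fin] at h1
  rw [Fintype.card_eq_nat_card] at h3 ⊢
  rw [← h1, h2]
  refine ⟨h3.trans (Nat.le_add_right _ _), ?_⟩
  have h5 : ∀ b, (∀ d e, 2 ≤ d → n = d * e → Nat.card (Sl Fˣ (Nat.card F) e 1) ≤ b) → _ ≤ _ * b := fun b hb =>
    Finset.sum_le_card_nsmul (Finset.univ.erase (1 : Subgroup.center (Matrix.SpecialLinearGroup (Fin n) F)))
      (fun z => Nat.card {c // ∃ x, ConjClasses.mk x = c ∧ IsConj (z.1 * x) x}) b fun z hz => by
      obtain ⟨r, h6, h7⟩ := mem_center_iff.1 z.2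
      rw [Fintype.card_fin] at h6
      obtain ⟨r, rfl⟩ := IsUnit.of_pow_eq_one h6 (by omega)
      obtain ⟨e, he⟩ := orderOf_dvd_of_pow_eq_one (x := r) (n := n) (Units.ext (by simpa using h6))
      refine (card_sl_le r (by rw [← h7, Matrix.scalar_apply, Matrix.smul_one_eq_diagonal])).trans
        (hb (orderOf r) _ ?_ (Nat.mul_div_cancel' ⟨e, he⟩).symm)
      have h8 : orderOf r ≠ 1 := fun e => Finset.ne_of_mem_erase hz (Subtype.ext (Subtype.ext (by
        rw [← h7, orderOf_eq_one_iff.1 e]; simp)))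
      have := orderOf_pos r
      omega
  rw [Finset.card_erase_of_mem (Finset.mem_univ _), Finset.card_univ, Fintype.card_eq_nat_card, h1] at h5
  obtain ⟨h6, h7, h8⟩ := sl_le h0 1
  have h9 := Nat.gcd_le_left (Nat.card F - 1) (show 0 < n by omega)
  have h10 := Nat.gcd_le_right n (show 0 < Nat.card F - 1 from h0 ▸ Nat.card_pos)
  have h11 := fun m => sl_le' h0 1 (m := m)
  generalize n.gcd (Nat.card F - 1) = g at *
  generalize Nat.card F = q at *
  obtain ⟨q, rfl⟩ := Nat.exists_eq_add_of_le' (show 2 ≤ q by have := Nat.card_pos (α := Fˣ); omega)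
  have h12 : ∀ d e, 2 ≤ d → n = d * e → 1 ≤ e ∧ 2 * e ≤ n := fun d e hd he =>
    ⟨Nat.pos_of_ne_zero (by rintro rfl; omega), he ▸ Nat.mul_le_mul_right _ hd⟩
  rcases hn.eq_or_lt with rfl | hn
  · have := (h5 1 fun d e hd he => (show e = 1 by have := h12 d e hd he; omega) ▸ h6).trans
      (Nat.mul_le_mul_right _ (show g - 1 ≤ 1 by omega))
    simp only [Nat.add_one_sub_one, Nat.sub_self, pow_one, pow_zero] at *
    omega
  have h13 := h4.trans (h8 n hn)
  suffices ∃ b, (∀ e, 1 ≤ e → 2 * e ≤ n → Nat.card (Sl Fˣ (q + 2) e 1) ≤ b) ∧ q * b ≤ 2 * (q + 2) ^ (n - 2) by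
    obtain ⟨b, h14, h15⟩ := this
    have := (h5 b fun d e hd he => h14 e (h12 d e hd he).1 (h12 d e hd he).2).trans
      (Nat.mul_le_mul_right _ (show g - 1 ≤ q by omega))
    omega
  obtain rfl | rfl | h : n = 3 ∨ n = 4 ∨ 5 ≤ n := by omega
  · exact ⟨1, fun e _ _ => (show e = 1 by omega) ▸ h6, by simp; omega⟩
  · refine ⟨q + 6, fun e _ _ => ?_, by simp; nlinarith⟩
    obtain rfl | rfl : e = 1 ∨ e = 2 := by omega
    all_goals omega
  · obtain ⟨n, rfl⟩ := Nat.exists_eq_add_of_le' (show 4 ≤ n by omega)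
    refine ⟨3 * (q + 2) ^ n, fun e h1 h2 => ?_, ?_⟩
    · have := h11 e h1
      have := Nat.pow_le_pow_right (show 0 < q + 2 by omega) (show e - 1 ≤ n by omega)
      omega
    · rw [show n + 4 - 2 = n + 2 from rfl, pow_add]
      nlinarith [Nat.zero_le ((q + 2) ^ n), Nat.zero_le (q * q * (q + 2) ^ n), Nat.zero_le (q * (q + 2) ^ n)]

end Cfsg.Agent.S2480
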