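import Cfsg.Statements.S2219
import Cfsg.Agent.Hz.F
import Cfsg.Agent.S0997
import Cfsg.Agent.S1011
import Cfsg.Agent.S1020
-- import your own Cfsg.Agent.* helpers here

set_option autoImplicit false
open Cfsg

namespace Cfsg.Agent.S2219

open Cfsg.Agent.Char Cfsg.Agent.Small Cfsg.Agent.Hz3 Subgroup

theorem big {G : Type*} [Group G] [Finite G] [IsSimpleGroup G] (hG : ¬ IsCyclic G) {q a : ℕ} (hq : q.Prime)
    (h11 : 11 ≤ q) (h : Nat.card G = 9 * 2 ^ a * q) : Nat.card G = 2448 := by
  have hq2 := hq.eq_two_or_odd.resolve_left (by omega)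
  have h3 : ∀ n, n ∣ 9 * 2 ^ a * 2 → n % 2 = 1 → n = 1 ∨ n = 3 ∨ n = 9 := fun n hn h => by
    rw [mul_assoc, ← pow_succ] at hn
    have h1 := ((Nat.coprime_two_right.2 (Nat.odd_iff.2 h)).pow_right _).dvd_of_dvd_mul_right hn
    have := Nat.le_of_dvd (by decide) h1
    interval_cases n <;> omega
  rcases S0997.result hG q 2 a 9 hq Nat.prime_two (by omega) (by rw [h]; ring) (by omega) with
    ⟨m, F, _, _, e, -, ⟨f⟩⟩ | ⟨m, F, _, _, e, e', h5, ⟨f⟩⟩
  · have h5 := Classical.card_PSL2_mul (F := F)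
    rw [Nat.card_eq_fintype_card (α := F), e, ← Nat.card_congr f.toEquiv, Nat.gcd_eq_left (by omega)] at h5
    have h6 : (q - 1) * (q + 1) = 9 * 2 ^ a * 2 :=
      Nat.eq_of_mul_eq_mul_left hq.pos (by rw [← mul_assoc, ← h5, h]; ring)
    have h8 : q - 1 ∣ 9 * 2 ^ a * 2 := Dvd.intro _ h6
    have h9 : q + 1 ∣ 9 * 2 ^ a * 2 := Dvd.intro_left _ h6
    have : q = 17 ∨ q = 19 := by
      rcases (show q % 4 = 1 ∨ q % 4 = 3 by omega) with h | h
      · have := h3 ((q + 1) / 2) ((Nat.div_dvd_of_dvd (by omega)).trans h9) (by omega); omega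
      · have := h3 ((q - 1) / 2) ((Nat.div_dvd_of_dvd (by omega)).trans h8) (by omega); omega
    rcases this with rfl | rfl
    · omega
    · have := h3 5 ((by decide : 5 ∣ 19 + 1).trans h9) rfl; omega
  · have h6 := Classical.card_PSL2_mul (F := F)
    have hm : 2 ∣ 2 ^ m := by omega
    rw [Nat.card_eq_fintype_card (α := F), e, ← Nat.card_congr f.toEquiv, ← e',
      Nat.coprime_two_left.2 (Nat.odd_iff.2 (by omega)), one_mul] at h6
    have h7 : 2 ^ m * (2 ^ m - 1) = 9 * 2 ^ a := Nat.eq_of_mul_eq_mul_right hq.pos (by rw [← h6, h])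
    have h12 := h3 _ ((Dvd.intro_left _ h7).mul_right _) (by omega)
    exact absurd (Nat.prime_five.dvd_of_dvd_pow (n := m) (m := 2) (by omega)) (by decide)

/-- Let G be a non-abelian finite simple group of order 9·2ᵃ·qᵇ for a prime q other than 2 and 3, having at least three conjugacy classes of nonidentity 3-elements (elements of order 3 or 9). Then G is isomorphic to PSL(2,8) or to PSL(2,17). -/
theorem result {G : Type*} [Group G] [Finite G] [IsSimpleGroup G] (hG : ¬ IsMulCommutative G)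
    (q a b : ℕ) (hq : q.Prime) (hq2 : q ≠ 2) (hq3 : q ≠ 3) (hcard : Nat.card G = 9 * 2 ^ a * q ^ b)
    (h3 : 3 ≤ Nat.card {C : ConjClasses G // ∃ g ∈ C.carrier, g ≠ 1 ∧ orderOf g ∣ 9}) :
    (∃ (F : Type) (_ : Field F) (_ : Fintype F), Fintype.card F = 8 ∧
        Nonempty (G ≃* Matrix.ProjectiveSpecialLinearGroup (Fin 2) F)) ∨
      Nonempty (G ≃* Matrix.ProjectiveSpecialLinearGroup (Fin 2) (ZMod 17)) := by
  classical
  replace hG := not_isCyclic_of_not_comm hG
  obtain ⟨P⟩ : Nonempty (Sylow 3 G) := inferInstance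
  obtain ⟨M, _⟩ := exists_pmod 3
  have h : Nat.card G = 3 ^ 2 * 2 ^ a * q ^ b := hcard
  have hP : Nat.card (P : Subgroup G) = 9 := by
    rw [Sylow.card_eq_multiplicity, h, Nat.factorization_mul (by positivity) (by positivity [hq.pos]),
      Nat.factorization_mul (by positivity) (by positivity), Nat.prime_three.factorization_pow,
      Nat.prime_two.factorization_pow, hq.factorization_pow]
    simp [hq3]
  obtain ⟨R, h1, h2, h4, h5⟩ := syl hG P hP h3
  have h6 : R.relIndex P = 3 := by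
    have := (R.subgroupOf P).card_mul_index
    rw [Nat.card_congr (subgroupOfEquivOfLe h1).toEquiv, h2, hP] at this
    exact (by omega : (R.subgroupOf P).index = 3)
  obtain ⟨χ, θ, c1, c2, c3, c4, c5⟩ :=
    main P (IsPGroup.isMulCommutative_of_card_eq_prime_sq (p := 3) hP) h6 h4 h5 M
  have h7 : ∀ x ∈ (P : Subgroup G), Hz3.InT P R (Block.pPart 3 x) ↔ x ∉ R := fun x hx => by
    rw [Block.IsPPart.pPart_eq (x := x) ⟨1, mul_one _, Commute.one_right _,
      Block.orderOf_eq_pow_of_mem P.isPGroup' hx, by simp⟩]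
    exact ⟨fun ⟨t, h1, h2, h3⟩ e => h4 t h1 h2 x e h3, fun e => ⟨x, hx, e, IsConj.refl _⟩⟩
  obtain ⟨rfl, d1, d2⟩ := degs hG hq hq2 hq3 le_rfl h c1 c2 c3 c4
    (by rw [← c5, h7 1 (one_mem _), if_neg (by simp)])
  rw [pow_one] at h hcard
  by_cases h11 : 11 ≤ q
  · haveI : Fact (Nat.Prime 17) := ⟨by norm_num⟩
    exact .inr (S1020.result (big hG hq h11 hcard) (ZMod.card 17))
  have n2 : ∀ k n : ℕ, 3 ∣ n → n ≠ 2 ^ k := fun k n h e =>
    absurd (Nat.prime_three.dvd_of_dvd_pow (e ▸ h)) (by decide)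
  obtain rfl | rfl : q = 5 ∨ q = 7 := by
    have := hq.two_le
    interval_cases q <;> first | omega | exact absurd hq (by decide)
  · obtain ⟨d2, -⟩ := d2.resolve_left fun ⟨_, k, e⟩ => n2 k _ (by decide) e
    have := Fintype.ofFinite (P : Subgroup G)
    refine (five P hP c1 (by omega) d2 (fun g => by split_ifs <;> simp) c5 ?_).elim
    have e1 : (Finset.univ.filter fun x : (P : Subgroup G) => (x : G) ∈ R).card = 3 := by
      refine Eq.trans ?_ h2
      rw [← Nat.card_congr (subgroupOfEquivOfLe h1).toEquiv, Nat.card_eq_fintype_card,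
        Fintype.card_subtype]
      rfl
    have e2 := Finset.card_filter_add_card_filter_not (s := Finset.univ)
      fun x : (P : Subgroup G) => (x : G) ∈ R
    rw [e1, Finset.card_univ, ← Nat.card_eq_fintype_card, hP] at e2
    simp only [fun x : (P : Subgroup G) => h7 x x.2]
    rw [← Finset.sum_filter, Finset.sum_const, show Finset.card _ = 6 by omega]
    norm_num
  · obtain ⟨d2, -⟩ := d2.resolve_right fun ⟨e, k, e'⟩ => n2 k _ (by omega) e'
    have h8 : Nat.card (GaloisField 2 3) = 8 := GaloisField.card 2 3 (by decide)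
    have := Fintype.ofFinite (GaloisField 2 3)
    rw [Nat.card_eq_fintype_card] at h8
    exact .inl ⟨_, _, _, h8, S1011.result (seven hG h (θ := θ) (by omega)) h8⟩

end Cfsg.Agent.S2219
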