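import Cfsg.Statements.S2241
import Cfsg.Agent.Sz.Structure

set_option autoImplicit false
open Cfsg

namespace Cfsg.Agent.S2241

open Sz in
theorem aux {F : Type*} [Field F] [Finite F] [Tits F] {G : Type*} [Group G] [SzRep F G] {g : G}
    (hg : g ∈ U F G) (h1 : g ≠ 1) : IsConj g g⁻¹ ↔ orderOf g = 2 := by
  constructor
  · intro h
    obtain ⟨c, hc⟩ := isConj_iff.1 h
    have hB : c ∈ B F G := mem_B_of_conj_mem_U (hc ▸ (U F G).inv_mem hg) h1 (U_le_B hg)
    obtain ⟨x, y, l, rfl⟩ := mem_B.1 hB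
    obtain ⟨a, b, rfl⟩ := hg
    apply orderOf_eq_prime _ h1
    rw [sq, S_mul_self_eq_one]
    by_contra ha
    obtain ⟨e, he, _⟩ := B_conj_S (G := G) x y l a b
    rw [he, S_inv, S_inj] at hc
    have hl : l = 1 := Units.ext (θ_eq_one.1 ((mul_left_eq_self₀.1 hc.1).resolve_right ha))
    subst hl
    rw [M_one, mul_one, S_conj_S, S_inj, hc.2] at he
    have h2 : nrm (0 : F) 0 = 0 := nrm_zero_zero
    -- θ x * a + θ a * x = a θ a has no solution: put x = a t
    have h3 : θ (x / a) + x / a = 1 := by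
      have := θ_ne_zero ha
      rw [map_div₀]; field_simp; linear_combination he.2
    generalize x / a = t at h3
    have h4 := congrArg θ h3
    simp only [map_add, θθ, map_one] at h4
    have h5 : θ t = t := θ_eq_self_iff.2 (by grind)
    grind
  · intro h
    have : g⁻¹ = g := inv_eq_of_mul_eq_one_right (by rw [← sq, ← h, pow_orderOf_eq_one])
    rw [this]

/-- Real 2-elements of the Suzuki group: with q = 2^(2m+1), m ≥ 1, and the group realised as the stabiliser in SL₄ of the Suzuki–Tits ovoid, a non-identity element of a Sylow 2-subgroup is conjugate to its inverse if and only if it is an involution; in particular no element of order 4 is conjugate to its inverse. -/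
theorem result {F : Type*} [Field F] [Fintype F] {m : ℕ} (hm : 1 ≤ m) (hF : Fintype.card F = 2 ^ (2 * m + 1)) (P : Sylow 2 ↥(Cfsg.Sz F m)) (g : ↥(Cfsg.Sz F m)) (hg : g ∈ (P : Subgroup ↥(Cfsg.Sz F m))) (h1 : g ≠ 1) :
    IsConj g g⁻¹ ↔ orderOf g = 2 := by
  let := Sz.titsOfCard hm hF
  obtain ⟨inst, h⟩ := @Sz.exists_rep_U_eq F _ _ _ _ (Sz.ovoidRep (Sz.titsOfCard_θ hm hF)) _ P
  exact aux (F := F) (h ▸ hg) h1

end Cfsg.Agent.S2241
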