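import Cfsg.Statements.S2247
import Cfsg.Agent.Sz.Structure

set_option autoImplicit false
open Cfsg

namespace Cfsg.Agent.S2247

open Sz in
theorem aux {F : Type*} [Field F] [Finite F] [Tits F] {G : Type*} [Group G] [SzRep F G] {K : Subgroup G}
    (hK : U F G ≤ K) (h : ¬ K ≤ B F G) : K = ⊤ := by
  obtain ⟨k, hk, hkB⟩ := Set.not_subset.1 h
  have htr : ∀ g : G, ∃ x ∈ K, x⁻¹ * g ∈ B F G := by
    intro g
    by_cases hg : g ∈ B F G
    · exact ⟨1, K.one_mem, by simpa using hg⟩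
    · obtain ⟨u, hu, _⟩ := U_regular (G := G) hkB hg
      exact ⟨u * k, K.mul_mem (hK u.2) hk, by rw [mem_B', mul_smul, inv_smul_eq_iff, mul_smul, hu]⟩
  have hU : U F G ≤ K.normalCore := by
    intro u hu g
    obtain ⟨x, hx, hb⟩ := htr g
    have := K.mul_mem (K.mul_mem hx (hK (conj_mem_U hb hu))) (K.inv_mem hx)
    simpa [mul_assoc] using this
  exact top_le_iff.1 ((normal_eq_top inferInstance hU).ge.trans K.normalCore_le)

/-- In the Suzuki group with q = 2^(2m+1), m ≥ 1 (realised as the stabiliser in SL₄ of the Suzuki–Tits ovoid), the normalizer of a Sylow 2-subgroup P is a maximal subgroup and is the only maximal subgroup containing P. -/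
theorem result {F : Type*} [Field F] [Fintype F] {m : ℕ} (hm : 1 ≤ m) (hF : Fintype.card F = 2 ^ (2 * m + 1)) (P : Sylow 2 ↥(Cfsg.Sz F m)) :
    IsCoatom (Subgroup.normalizer ((P : Subgroup ↥(Cfsg.Sz F m)) : Set ↥(Cfsg.Sz F m))) ∧
    ∀ M : Subgroup ↥(Cfsg.Sz F m), IsCoatom M → (P : Subgroup ↥(Cfsg.Sz F m)) ≤ M → M = Subgroup.normalizer ((P : Subgroup ↥(Cfsg.Sz F m)) : Set ↥(Cfsg.Sz F m)) := by
  let := Sz.titsOfCard hm hF
  obtain ⟨inst, h⟩ := @Sz.exists_rep_U_eq F _ _ _ _ (Sz.ovoidRep (Sz.titsOfCard_θ hm hF)) _ P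
  rw [← h, Sz.normalizer_U]
  have hne : Sz.B F (Cfsg.Sz F m) ≠ ⊤ := fun h => Sz.T_not_mem_B (F := F) (h ▸ Subgroup.mem_top _)
  refine ⟨⟨hne, fun K hK => aux (Sz.U_le_B.trans hK.le) hK.not_ge⟩, fun M hM hU => ?_⟩
  by_cases h1 : M ≤ Sz.B F _
  · exact (hM.le_iff_eq hne).1 h1 |>.symm
  · exact absurd (aux hU h1) hM.1

end Cfsg.Agent.S2247
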