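import Cfsg.Statements.S2249
import Cfsg.Agent.Low.NRank

set_option autoImplicit false
open Cfsg

namespace Cfsg.Agent.S2249

open Cfsg.Agent.Low.NRk Cfsg.Agent.Syl2 Equiv Matrix Subgroup

theorem three {F : Type*} [Field F] [Fintype F] (h : Fintype.card F % 4 = 3) (m : ℕ) (ρ : Type)
    [Fintype ρ] [DecidableEq ρ] {n : ℕ} (hc : Fintype.card ((Fin 2 × Fin m) ⊕ ρ) = n)
    (hv : ∑ i ∈ Finset.range n, (Fintype.card F ^ (i + 1) - 1).factorization 2 =
      m * ((Fintype.card F + 1).factorization 2 + 2) + Fintype.card ρ + m.factorial.factorization 2)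
    (S : Sylow 2 (GL (Fin n) F)) : NR S (m + Fintype.card ρ) := by
  have ho : Odd (Fintype.card F) := Nat.odd_iff.2 (by omega)
  obtain ⟨A⟩ : Nonempty (Sylow 2 (GL (Fin 2) F)) := inferInstance
  obtain ⟨T⟩ : Nonempty (Sylow 2 (Perm (Fin m))) := inferInstance
  let B : Sylow 2 (ρ → ℤˣ) := Sylow.ofCard ⊤ (by rw [card_top, fac_signs, card_signs])
  let W := glWD (Fin 2) (Fin m) ρ (two_ne ho)
  obtain ⟨a, x, k, hm, h3, -, hx⟩ := PGrp.exists_mc_of_qd (ABG.gl2_qd A h)
  have := nr_grp_mc W (B := B) (T := T) (r := Fintype.card ρ) hm (fun y _ hy => by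
      by_contra hn
      have e := hm.conj_eq hn
      rw [hx] at e
      have e2 : a * y * a⁻¹ * y⁻¹ = a * (y * a * y⁻¹)⁻¹ := by group
      rw [e2, e, ← zpow_natCast a, ← _root_.zpow_neg, ← _root_.zpow_one_add, ← zpow_natCast,
        ← _root_.zpow_mul,
        hm.zpow_eq_one] at hy
      obtain ⟨j, rfl⟩ : ∃ j, k = j + 3 := ⟨k - 3, by omega⟩
      rw [Nat.cast_sub Nat.one_le_two_pow] at hy
      push_cast at hy
      have h8 : (8 : ℤ) ∣ 2 ^ (j + 3) := ⟨2 ^ j, by ring⟩
      have h9 := h8.trans hy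
      rw [pow_add] at h9
      omega)
    (fun e _ => signs_sq e) (by change Nat.card (⊤ : Subgroup _) = _; rw [card_top, card_signs])
  rw [Nat.card_eq_fintype_card, Fintype.card_fin] at this
  refine nr_sylow (W.sylow A B T ?_) this (glEquiv hc F) S
  rw [fac_GL ho hc, hv, fac_GL2 h, fac_signs]
  simp

/-- The normal 2-rank of the general linear group over a finite field of odd order q: for n ≥ 1 and S a Sylow 2-subgroup of GL_n(F), the largest rank of an elementary abelian subgroup of S that is normal in S equals n when q ≡ 1 (mod 4) and ⌊(n + 1)/2⌋ when q ≡ 3 (mod 4). -/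
theorem result {F : Type*} [Field F] [Fintype F] {q : ℕ} (hF : Fintype.card F = q) (hodd : Odd q) (n : ℕ) (hn : 1 ≤ n) (S : Sylow 2 (Matrix.GeneralLinearGroup (Fin n) F)) :
    (q % 4 = 1 → ((∃ E : Subgroup ↥(S : Subgroup (Matrix.GeneralLinearGroup (Fin n) F)), E.Normal ∧ Cfsg.IsElementaryAbelian 2 E ∧ 2 ^ (n) ≤ Nat.card ↥E) ∧
      ∀ E : Subgroup ↥(S : Subgroup (Matrix.GeneralLinearGroup (Fin n) F)), E.Normal → Cfsg.IsElementaryAbelian 2 E → Nat.card ↥E ≤ 2 ^ (n))) ∧
    (q % 4 = 3 → ((∃ E : Subgroup ↥(S : Subgroup (Matrix.GeneralLinearGroup (Fin n) F)), E.Normal ∧ Cfsg.IsElementaryAbelian 2 E ∧ 2 ^ ((n + 1) / 2) ≤ Nat.card ↥E) ∧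
      ∀ E : Subgroup ↥(S : Subgroup (Matrix.GeneralLinearGroup (Fin n) F)), E.Normal → Cfsg.IsElementaryAbelian 2 E → Nat.card ↥E ≤ 2 ^ ((n + 1) / 2))) := by
  subst hF
  refine ⟨fun h => ?_, fun h => ?_⟩
  · have hc : Fintype.card ((Unit × Fin n) ⊕ Empty) = n := by simp
    obtain ⟨A⟩ : Nonempty (Sylow 2 Fˣ) := inferInstance
    obtain ⟨B⟩ : Nonempty (Sylow 2 (Empty → ℤˣ)) := inferInstance
    obtain ⟨T⟩ : Nonempty (Sylow 2 (Perm (Fin n))) := inferInstance
    let ι : Fˣ →* GL Unit F := Units.map (scalar Unit : F →+* Matrix Unit Unit F).toMonoidHom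
    have hι : ∀ u, (ι u).1.det = u := fun u => by simp [ι]
    let W := (glWD Unit (Fin n) Empty (two_ne hodd)).pull ι fun a b e =>
      Units.ext (by rw [← hι, e, hι])
    obtain ⟨c, hc'⟩ : IsSquare (-1 : F) := FiniteField.isSquare_neg_one_iff.2 (by omega)
    have hc0 : c ≠ 0 := by rintro rfl; simp at hc'
    have hc2 : Units.mk0 c hc0 ^ 2 = -1 := Units.ext (by simp [sq, ← hc'])
    have h1 : (-1 : Fˣ) ≠ 1 := fun e => two_ne hodd (by
      have := congrArg Units.val e
      simp only [Units.val_neg, Units.val_one] at this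
      linear_combination -this)
    have hcA : Units.mk0 c hc0 ∈ (A : Subgroup Fˣ) := by
      have : IsPGroup 2 (zpowers (Units.mk0 c hc0)) := IsPGroup.of_card_dvd_pow (n := 2) (by
        rw [Nat.card_zpowers]
        exact orderOf_dvd_of_pow_eq_one (by rw [show 2 ^ 2 = 2 * 2 from rfl, pow_mul, hc2]; simp))
      exact this.le_sylow_of_normal A (mem_zpowers _)
    have := nr_grp W (A := A) (B := B) (T := T) (r := 0) (z := -1) (u := Units.mk0 c hc0)
      (orderOf_eq_prime (by simp) h1) (hc2 ▸ pow_mem hcA 2) (fun a _ => by simp) hcA (hc2 ▸ h1)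
      (fun x _ _ hx => by
        have : (x : F) ^ 2 = 1 := by simpa using congrArg Units.val hx
        rcases mul_self_eq_one_iff.1 (by rw [← sq]; exact this : (x : F) * x = 1) with e | e
        · rw [show x = 1 from Units.ext e]; exact one_mem _
        · rw [show x = -1 from Units.ext e]; exact mem_zpowers _)
      (fun e _ => signs_sq e) (by simp)
    rw [Nat.card_eq_fintype_card, Fintype.card_fin, add_zero] at this
    refine nr_sylow (W.sylow A B T ?_) this (glEquiv hc F) S
    rw [fac_GL hodd hc, v_gl_one h Fintype.one_lt_card, fac_signs, Nat.card_units]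
    simp
  · obtain ⟨m, rfl | rfl⟩ := Nat.even_or_odd' n
    · have := three h m Empty (by simp) (by rw [v_gl_three h]; simp) S
      rwa [show m + Fintype.card Empty = (2 * m + 1) / 2 by simp; omega] at this
    · have := three h m Unit (by simp) (by rw [v_gl_three' h]; simp) S
      rwa [show m + Fintype.card Unit = (2 * m + 1 + 1) / 2 by simp; omega] at this

end Cfsg.Agent.S2249
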