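import Cfsg.Statements.S2250
import Cfsg.Agent.Low.NRank

set_option autoImplicit false
open Cfsg

namespace Cfsg.Agent.S2250

open Cfsg.Agent.Low.NRk Cfsg.Agent.Syl2 Equiv
open scoped MatrixGroups

theorem quat {k : ℕ} (y : QuaternionGroup (2 ^ k)) (h : y ^ 2 = 1) :
    y ∈ Subgroup.zpowers (QuaternionGroup.a 1 : QuaternionGroup (2 ^ k)) := by
  haveI : NeZero (2 ^ k) := ⟨by positivity⟩
  rcases y with i | i
  · exact ⟨(i.val : ℤ), by
      change _ ^ ((i.val : ℕ) : ℤ) = _
      rw [zpow_natCast, QuaternionGroup.a_one_pow]; simp⟩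
  · have := orderOf_dvd_of_pow_eq_one h
    rw [QuaternionGroup.orderOf_xa] at this
    omega

/-- The normal 2-rank of the symplectic group over a finite field of odd order: for n ≥ 1 and S a Sylow 2-subgroup of Sp_{2n}(F), the largest rank of an elementary abelian subgroup of S that is normal in S equals n. -/
theorem result {F : Type*} [Field F] [Fintype F] (hF : Odd (Fintype.card F)) (n : ℕ) (hn : 1 ≤ n) (S : Sylow 2 ↥(Matrix.symplecticGroup (Fin n) F)) :
    ((∃ E : Subgroup ↥(S : Subgroup ↥(Matrix.symplecticGroup (Fin n) F)), E.Normal ∧ Cfsg.IsElementaryAbelian 2 E ∧ 2 ^ (n) ≤ Nat.card ↥E) ∧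
      ∀ E : Subgroup ↥(S : Subgroup ↥(Matrix.symplecticGroup (Fin n) F)), E.Normal → Cfsg.IsElementaryAbelian 2 E → Nat.card ↥E ≤ 2 ^ (n)) := by
  obtain ⟨A⟩ : Nonempty (Sylow 2 SL(2, F)) := inferInstance
  obtain ⟨B⟩ : Nonempty (Sylow 2 (Empty → ℤˣ)) := inferInstance
  obtain ⟨T⟩ : Nonempty (Sylow 2 (Perm (Fin n))) := inferInstance
  obtain ⟨k, hk, ⟨e⟩⟩ := S0261.result hF A
  have := nr_grp_mc (spWD n (two_ne hF)) (B := B) (T := T) (r := 0) ((PGrp.mc_quaternion hk).map e.symm)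
    (fun y hy _ => by
      obtain ⟨i, hi⟩ := quat (e y) (by rw [← map_pow, hy, map_one])
      exact ⟨i, e.injective (by simpa using hi)⟩)
    (fun e _ => signs_sq e) (by simp)
  rw [Nat.card_eq_fintype_card, Fintype.card_fin, add_zero] at this
  exact nr_sylow ((spWD n (two_ne hF)).sylow A B T (fac_Sp hF n)) this (MulEquiv.refl _) S

end Cfsg.Agent.S2250
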