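import Cfsg.Statements.S2271
import Mathlib.GroupTheory.SpecificGroups.Alternating.Centralizer
import Mathlib.Logic.Equiv.Fintype
import Mathlib.Tactic

set_option autoImplicit false
open Cfsg

namespace Cfsg.Agent.S2271

open Equiv Equiv.Perm Finset

section
variable {α : Type*} [Fintype α] [DecidableEq α]

def Q (a b h : Perm α) : ℕ := ∑ y, if a (h (b y)) = h y then 1 else 0

theorem card_eq_Q (a b h : Perm α) :
    Nat.card (Function.fixedPoints ⇑(1 * a * 1⁻¹ * (h * b * h⁻¹))) = Q a b h := by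
  rw [Q, ← card_filter, ← Fintype.card_subtype, ← Nat.card_eq_fintype_card]
  refine Nat.card_congr (h.subtypeEquiv fun y => ?_).symm
  simp [Function.mem_fixedPoints, Function.IsFixedPt]

theorem Q_mul (a b h k : Perm α) : Q a b (h * k) = Q (h⁻¹ * a * h) b k := by
  exact sum_congr rfl fun y _ => if_congr (Perm.inv_eq_iff_eq (f := h)).symm rfl rfl

theorem Q_right (a b h k : Perm α) : Q a b (h * k) = Q a (k * b * k⁻¹) h := by
  rw [Q, Q, ← Equiv.sum_comp k (fun y => if a (h ((k * b * k⁻¹) y)) = h y then 1 else 0)]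
  exact sum_congr rfl fun y _ => if_congr (by simp) rfl rfl

theorem key (a b s t : Perm α) (S T : Set α) (hd : ∀ u ∈ S, u ∉ T) (hs : ∀ u ∉ S, s u = u)
    (ht : ∀ u ∉ T, t u = u)
    (H1 : ∀ u ∈ S, b u ∈ T → a (b u) ≠ s u ∧ a (t (b u)) ≠ u)
    (H2 : ∀ u ∈ T, b u ∈ S → a (s (b u)) ≠ u ∧ a (b u) ≠ t u)
    (x : α) (hx : x ∈ S) (hx' : b x ∈ T) (hax : a (b x) = x) :
    Q a b s + Q a b t < Q a b 1 + Q a b (s * t) := by
  have e1 : ∀ u ∉ S, s (t u) = t u := fun u hu => hs _ fun h => by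
    have := ht _ (hd _ h)
    rw [t.injective this] at h
    exact hu h
  have c1 : ∀ u ∈ S, b u ∈ T → ((if a (s (b u)) = s u then 1 else 0) +
      if a (t (b u)) = t u then 1 else 0) = 0 := fun u hu hb => by
    rw [hs _ fun h => hd _ h hb, ht u (hd u hu), if_neg (H1 u hu hb).1, if_neg (H1 u hu hb).2]
  simp only [Q, ← sum_add_distrib]
  show ∑ u, ((if a (s (b u)) = s u then 1 else 0) + if a (t (b u)) = t u then 1 else 0) <
    ∑ u, ((if a (b u) = u then 1 else 0) + if a (s (t (b u))) = s (t u) then 1 else 0)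
  refine sum_lt_sum (fun u _ => ?_) ⟨x, mem_univ _, ?_⟩
  · by_cases h1 : u ∉ S ∧ b u ∉ S
    · rw [hs u h1.1, hs _ h1.2, e1 u h1.1, e1 _ h1.2]
    by_cases h2 : u ∉ T ∧ b u ∉ T
    · rw [ht u h2.1, ht _ h2.2, add_comm]
    by_cases h3 : u ∈ S
    · rw [c1 u h3 (by_contra fun h => h2 ⟨hd u h3, h⟩)]
      exact Nat.zero_le _
    · have h4 : b u ∈ S := by_contra fun h => h1 ⟨h3, h⟩
      have h5 : u ∈ T := by_contra fun h => h2 ⟨h, hd _ h4⟩
      rw [hs u h3, ht _ (hd _ h4), if_neg (H2 u h5 h4).1, if_neg (H2 u h5 h4).2]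
      exact Nat.zero_le _
  · rw [c1 x hx hx', if_pos hax]
    omega

omit [DecidableEq α] in
theorem exists_not_mem (l : Finset α) (h : l.card < Fintype.card α) : ∃ z, z ∉ l :=
  exists_mem_notMem_of_card_lt_card (t := univ) h |>.imp fun _ h => h.2

theorem config (h5 : 5 ≤ Fintype.card α) (x y u v : α) (hxy : x ≠ y) :
    ∃ z w, Function.Injective ![x, y, z, w] ∧ z ≠ u ∧ w ≠ v := by
  obtain ⟨z, hz⟩ := exists_not_mem {x, y, u} (card_le_three.trans_lt (by omega))
  obtain ⟨w, hw⟩ := exists_not_mem {x, y, z, v} (card_le_four.trans_lt (by omega))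
  simp only [mem_insert, mem_singleton, not_or] at hz hw
  refine ⟨z, w, ?_, hz.2.2, hw.2.2.2⟩
  intro i j
  fin_cases i <;> fin_cases j <;> simp <;> grind

theorem caseA (h5 : 5 ≤ Fintype.card α) {a b : Perm α} (ha : a ≠ 1) (hb : b ≠ 1) {N : ℕ}
    (h : ∀ k, Q a b k = N) : False := by
  obtain ⟨x, hx⟩ : ∃ x, b x ≠ x := by_contra fun h => hb (Equiv.ext (by simpa using h))
  obtain ⟨y', hy'⟩ : ∃ x, a x ≠ x := by_contra fun h => ha (Equiv.ext (by simpa using h))
  obtain ⟨z, w, h1, h2, h3⟩ := config h5 x (b x) (b (b x)) (b⁻¹ x) hx.symm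
  obtain ⟨z', w', h1', h2', h3'⟩ := config h5 (a y') y' (a⁻¹ y') (a (a y')) hy'
  obtain ⟨g, hg⟩ := Perm.exists_extending_pair _ _ h1 h1'
  have g0 : g x = a y' := hg 0
  have g1 : g (b x) = y' := hg 1
  have g2 : g z = z' := hg 2
  have g3 : g w = w' := hg 3
  have d1 : x ≠ z := fun e => absurd (h1 (a₁ := 0) (a₂ := 2) e) (by decide)
  have d2 : x ≠ w := fun e => absurd (h1 (a₁ := 0) (a₂ := 3) e) (by decide)
  have d3 : b x ≠ z := fun e => absurd (h1 (a₁ := 1) (a₂ := 2) e) (by decide)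
  have d4 : b x ≠ w := fun e => absurd (h1 (a₁ := 1) (a₂ := 3) e) (by decide)
  have d5 : z ≠ w := fun e => absurd (h1 (a₁ := 2) (a₂ := 3) e) (by decide)
  set a' := g⁻¹ * a * g with ha'
  have f0 : a' (b x) = x := by simp [ha', g1, ← g0]
  have f1 : a' z ≠ b x := by
    simp only [ha', Perm.mul_apply, Ne, Perm.inv_eq_iff_eq, g1, g2]
    exact fun e => h2' (Perm.eq_inv_iff_eq.mpr e)
  have f2 : a' x ≠ w := by
    simp only [ha', Perm.mul_apply, Ne, Perm.inv_eq_iff_eq, g0, g3]
    exact fun e => h3' e.symm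
  have f3 : a' w ≠ x := fun e => d4 (a'.injective (f0.trans e.symm))
  have := key a' b (swap x z) (swap (b x) w) {x, z} {b x, w}
    (by rintro _ (rfl | rfl) (h | h) <;> grind)
    (fun u hu => swap_apply_of_ne_of_ne (fun e => hu (Or.inl e)) fun e => hu (Or.inr e))
    (fun u hu => swap_apply_of_ne_of_ne (fun e => hu (Or.inl e)) fun e => hu (Or.inr e))
    (by
      rintro u (h | h) hu <;> rw [h] at hu ⊢
      · rw [swap_apply_left, swap_apply_left, f0]; exact ⟨d1, f3⟩
      · have : b z = w := hu.resolve_left fun e => d1 (b.injective e).symm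
        rw [this, swap_apply_right, swap_apply_right, f0]; exact ⟨f3, d1⟩)
    (by
      rintro u (h | h) hu <;> rw [h] at hu ⊢
      · have : b (b x) = x := hu.resolve_right fun e => h2 e.symm
        rw [this, swap_apply_left, swap_apply_left]; exact ⟨f1, f2⟩
      · have : b w = z := hu.resolve_left fun e => h3 (Perm.eq_inv_iff_eq.mpr e)
        rw [this, swap_apply_right, swap_apply_right]; exact ⟨f2, f1⟩)
    x (Or.inl rfl) (Or.inl rfl) f0
  simp only [ha', ← Q_mul, h] at this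
  exact lt_irrefl _ this

theorem caseB (h7 : 7 ≤ Fintype.card α) {a b : Perm α} (ha : a ≠ 1) (x : α)
    (hx : ∀ k, 1 ≤ k → k ≤ 4 → (b ^ k) x ≠ x) {N : ℕ}
    (h : ∀ k, sign k = 1 → Q a b k = N) : False := by
  obtain ⟨y', hy'⟩ : ∃ x, a x ≠ x := by_contra fun h => ha (Equiv.ext (by simpa using h))
  -- points `p ↦ z ↦ x₀ ↦ y`
  have x1 : b x ≠ x := by simpa using hx 1 le_rfl (by norm_num)
  have x2 : b (b x) ≠ x := by simpa [pow_succ] using hx 2 (by norm_num) (by norm_num)
  have x3 : b (b (b x)) ≠ x := by simpa [pow_succ] using hx 3 (by norm_num) (by norm_num)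
  have x4 : b (b (b (b x))) ≠ x := by simpa [pow_succ] using hx 4 (by norm_num) (by norm_num)
  have inj := b.injective
  obtain ⟨w, hw⟩ := exists_not_mem {x, b x, b (b x), b (b (b x)), b⁻¹ x}
    (card_le_five.trans_lt (by omega))
  obtain ⟨q, hq⟩ := exists_not_mem {x, b x, b (b x), b (b (b x)), b⁻¹ x, w}
    (card_le_six.trans_lt (by omega))
  simp only [mem_insert, mem_singleton, not_or, Perm.eq_inv_iff_eq] at hw hq
  obtain ⟨g, sg, g0, g1⟩ : ∃ g : Perm α, sign g = 1 ∧ g (b (b x)) = a y' ∧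
      g (b (b (b x))) = y' := by
    obtain ⟨g, hg⟩ := Perm.exists_extending_pair ![b (b x), b (b (b x))] ![a y', y']
      (by intro i j; fin_cases i <;> fin_cases j <;> simp <;> grind)
      (by intro i j; fin_cases i <;> fin_cases j <;> simp <;> grind)
    rcases Int.units_eq_one_or (sign g) with hs | hs
    · exact ⟨g, hs, hg 0, hg 1⟩
    · refine ⟨g * swap w q, ?_, ?_, ?_⟩
      · rw [Perm.sign_mul, hs, sign_swap (by grind)]; simp
      · rw [Perm.mul_apply, swap_apply_of_ne_of_ne (by grind) (by grind)]; exact hg 0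
      · rw [Perm.mul_apply, swap_apply_of_ne_of_ne (by grind) (by grind)]; exact hg 1
  set a' := g⁻¹ * a * g with ha'
  have f0 : a' (b (b (b x))) = b (b x) := by simp [ha', g1, ← g0]
  have s1 : sign (swap (b (b x)) (b x) * swap (b (b x)) x) = 1 := by
    rw [Perm.sign_mul, sign_swap (by grind), sign_swap x2]; simp
  have s2 : sign (swap (b (b (b x))) w * swap (b (b (b x))) q) = 1 := by
    rw [Perm.sign_mul, sign_swap (by grind), sign_swap (by grind)]; simp
  have := key a' b (swap (b (b x)) (b x) * swap (b (b x)) x)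
    (swap (b (b (b x))) w * swap (b (b (b x))) q) {b (b x), b x, x} {b (b (b x)), w, q}
    (by rintro _ (rfl | rfl | rfl) (h | h | h) <;> grind)
    (fun u hu => by
      simp only [Set.mem_insert_iff, Set.mem_singleton_iff, not_or] at hu
      rw [Perm.mul_apply, swap_apply_of_ne_of_ne hu.1 hu.2.2, swap_apply_of_ne_of_ne hu.1 hu.2.1])
    (fun u hu => by
      simp only [Set.mem_insert_iff, Set.mem_singleton_iff, not_or] at hu
      rw [Perm.mul_apply, swap_apply_of_ne_of_ne hu.1 hu.2.2, swap_apply_of_ne_of_ne hu.1 hu.2.1])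
    (by
      rintro _ (rfl | rfl | rfl) hu
      · rw [f0, Perm.mul_apply (swap _ _), Perm.mul_apply (swap _ _), swap_apply_left, swap_apply_left,
          swap_apply_of_ne_of_ne x2.symm x1.symm, swap_apply_of_ne_of_ne (by grind) (by grind)]
        exact ⟨x2, fun e => hq.2.2.2.1 (a'.injective (e.trans f0.symm))⟩
      · rcases hu with h | h | h <;> grind
      · rcases hu with h | h | h <;> grind)
    (by rintro _ (rfl | rfl | rfl) (h | h | h) <;> grind)
    (b (b x)) (Or.inl rfl) (Or.inl rfl) f0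
  simp only [ha', ← Q_mul] at this
  rw [h _ (by rw [Perm.sign_mul, sg, s1, mul_one]), h _ (by rw [Perm.sign_mul, sg, s2, mul_one]),
    h _ (by rw [mul_one, sg]),
    h _ (by rw [Perm.sign_mul, Perm.sign_mul, sg, s1, s2, mul_one, mul_one])] at this
  exact lt_irrefl _ this

theorem caseC {a b c : Perm α} (ha : IsConj c a) (hb : IsConj c b) {N : ℕ}
    (h : ∀ k, sign k = 1 → Q a b k = N) (k1 k2 k3 k4 : Perm α) (s1 : sign k1 = 1)
    (s2 : sign k2 = 1) (s3 : sign k3 = -1) (s4 : sign k4 = -1) (e1 : Q c c k1 ≠ Q c c k2)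
    (e2 : Q c c k3 ≠ Q c c k4) : False := by
  obtain ⟨g, rfl⟩ := isConj_iff.mp ha
  obtain ⟨f, rfl⟩ := isConj_iff.mp hb
  have : ∀ k, sign k = sign g * sign f → Q c c k = N := fun k hk => by
    rw [← h (g * k * f⁻¹) (by
      rw [Perm.sign_mul, Perm.sign_mul, hk, sign_inv]
      rcases Int.units_eq_one_or (sign g) with h | h <;>
        rcases Int.units_eq_one_or (sign f) with h' | h' <;> simp [h, h']),
      Q_right, Q_mul]
    simp [mul_assoc]
  rcases Int.units_eq_one_or (sign g * sign f) with h | h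
  · exact e1 ((this k1 (s1.trans h.symm)).trans (this k2 (s2.trans h.symm)).symm)
  · exact e2 ((this k3 (s3.trans h.symm)).trans (this k4 (s4.trans h.symm)).symm)

theorem five (h5 : 5 ≤ Fintype.card α) {b : Perm α}
    (h : Subgroup.centralizer {b} ≤ alternatingGroup α) : ∃ m ∈ b.cycleType, 5 ≤ m ∧ Odd m := by
  obtain ⟨h1, h2, h3⟩ := centralizer_le_alternating_iff.mp h
  by_contra hn
  have h4 : b.cycleType = Multiset.replicate b.cycleType.card 3 :=
    Multiset.eq_replicate.mpr ⟨rfl, fun m hm => by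
      have a1 := two_le_of_mem_cycleType hm
      have a2 := h1 m hm
      have a3 : ¬ 5 ≤ m := fun h => hn ⟨m, hm, h, a2⟩
      obtain ⟨k, rfl⟩ := a2
      omega⟩
  have h6 := h3 3
  rw [h4] at h2 h6
  simp at h2 h6
  omega

end

/-- Let n ≥ 5 and let a, b be non-identity permutations in the symmetric group S_n. Then the number of fixed points is not constant on the set of products a′b′ with a′ conjugate to a and b′ conjugate to b under the alternating group: there are even permutations g₁, h₁, g₂, h₂ such that (g₁ a g₁⁻¹)(h₁ b h₁⁻¹) and (g₂ a g₂⁻¹)(h₂ b h₂⁻¹) have different numbers of fixed points. -/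
theorem result (n : ℕ) (hn : 5 ≤ n) (a b : Equiv.Perm (Fin n)) (ha : a ≠ 1) (hb : b ≠ 1) :
    ∃ g₁ h₁ g₂ h₂ : Equiv.Perm (Fin n), g₁ ∈ alternatingGroup (Fin n) ∧ h₁ ∈ alternatingGroup (Fin n) ∧ g₂ ∈ alternatingGroup (Fin n) ∧ h₂ ∈ alternatingGroup (Fin n) ∧
      Nat.card (Function.fixedPoints ⇑(g₁ * a * g₁⁻¹ * (h₁ * b * h₁⁻¹))) ≠
        Nat.card (Function.fixedPoints ⇑(g₂ * a * g₂⁻¹ * (h₂ * b * h₂⁻¹))) := by
  by_contra hcon
  push Not at hcon
  have h : ∀ k, sign k = 1 → Q a b k = Q a b 1 := fun k hk => by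
    rw [← card_eq_Q, ← card_eq_Q]
    exact hcon 1 k 1 1 (one_mem _) hk (one_mem _) (one_mem _)
  have h5 : 5 ≤ Fintype.card (Fin n) := by simpa using hn
  have odd : ∀ c : Perm (Fin n), ¬ Subgroup.centralizer {c} ≤ alternatingGroup (Fin n) →
      ∃ σ : Perm (Fin n), sign σ = -1 ∧ c * σ = σ * c := fun c hc => by
    obtain ⟨σ, h1, h2⟩ := SetLike.not_le_iff_exists.mp hc
    exact ⟨σ, (Int.units_eq_one_or _).resolve_left h2, h1 c rfl⟩
  by_cases hA : Subgroup.centralizer {a} ≤ alternatingGroup (Fin n)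
  swap
  · obtain ⟨σ, h1, h2⟩ := odd a hA
    refine caseA h5 ha hb (N := Q a b 1) fun k => ?_
    rcases Int.units_eq_one_or (sign k) with hk | hk
    · exact h k hk
    · rw [← h (σ * k) (by rw [Perm.sign_mul, h1, hk]; simp), Q_mul, mul_assoc, h2,
        inv_mul_cancel_left]
  by_cases hB : Subgroup.centralizer {b} ≤ alternatingGroup (Fin n)
  swap
  · obtain ⟨σ, h1, h2⟩ := odd b hB
    refine caseA h5 ha hb (N := Q a b 1) fun k => ?_
    rcases Int.units_eq_one_or (sign k) with hk | hk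
    · exact h k hk
    · rw [← h (k * σ) (by rw [Perm.sign_mul, h1, hk]; simp), Q_right, ← h2, mul_inv_cancel_right]
  obtain ⟨m, hm, m5, mo⟩ := five h5 hB
  by_cases h7 : 7 ≤ n
  · obtain ⟨x, hx⟩ : ∃ x, ∀ k, 1 ≤ k → k ≤ 4 → (b ^ k) x ≠ x := by
      by_contra hx
      push Not at hx
      have h12 : b ^ 12 = 1 := Equiv.ext fun x => by
        obtain ⟨k, k1, k4, hk⟩ := hx x
        obtain ⟨j, hj⟩ : k ∣ 12 := by interval_cases k <;> norm_num
        rw [hj, pow_mul]
        exact pow_apply_eq_self_of_apply_eq_self hk j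
      have h1 := (dvd_of_mem_cycleType hm).trans (orderOf_dvd_of_pow_eq_one h12)
      have h2 := Nat.le_of_dvd (by norm_num) h1
      obtain ⟨k, rfl⟩ := mo
      have : k ≤ 5 := by omega
      interval_cases k <;> omega
    exact caseB (by simpa using h7) ha x hx h
  obtain ⟨m', hm', m5', mo'⟩ := five h5 hA
  have key : ∀ (c : Perm (Fin n)) m, m ∈ c.cycleType → 5 ≤ m → Odd m → c.cycleType = {5} := by
    intro c m hm m5 ⟨k, hk⟩
    have := (Multiset.le_sum_of_mem hm).trans c.sum_cycleType_le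
    rw [Fintype.card_fin] at this
    obtain rfl : m = 5 := by omega
    exact cycleType_of_card_le_mem_cycleType_add_two (by simp; omega) hm
  have ea := key a m' hm' m5' mo'
  have eb := key b m hm m5 mo
  have : n = 5 ∨ n = 6 := by omega
  rcases this with rfl | rfl
  · have ec : (finRotate 5).cycleType = {5} := by decide
    exact caseC (isConj_iff_cycleType_eq.mpr (ec.trans ea.symm))
      (isConj_iff_cycleType_eq.mpr (ec.trans eb.symm)) h 1 (swap 1 4 * swap 2 3) (swap 0 1)
      (swap 0 2) (by decide) (by decide) (by decide) (by decide) (by decide) (by decide)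
  · have ec : (swap 0 1 * swap 1 2 * swap 2 3 * swap 3 4 : Perm (Fin 6)).cycleType = {5} := by
      decide
    exact caseC (isConj_iff_cycleType_eq.mpr (ec.trans ea.symm))
      (isConj_iff_cycleType_eq.mpr (ec.trans eb.symm)) h 1 (swap 1 4 * swap 2 3) (swap 0 1)
      (swap 0 2) (by decide) (by decide) (by decide) (by decide) (by decide) (by decide)

end Cfsg.Agent.S2271
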