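import Cfsg.Statements.S2272
import Cfsg.Agent.Elu.AH

set_option autoImplicit false
open Cfsg

namespace Cfsg.Agent.S2272

theorem exists_mat {F : Type*} [Field F] (d : ℕ) (hd : 3 ≤ d)
    (A B : Matrix.SpecialLinearGroup (Fin d) F)
    (hA : A ∉ Subgroup.center (Matrix.SpecialLinearGroup (Fin d) F))
    (hB : B ∉ Subgroup.center (Matrix.SpecialLinearGroup (Fin d) F)) (s : F) :
    ∃ G : Matrix.SpecialLinearGroup (Fin d) F, Matrix.trace (A * (G * B * G⁻¹)).1 = s := by
  have ns : ∀ A : Matrix.SpecialLinearGroup (Fin d) F,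
      A ∉ Subgroup.center (Matrix.SpecialLinearGroup (Fin d) F) →
      ∀ c : F, Matrix.toLin' A.1 ≠ c • 1 := by
    intro A hA c hc
    apply hA
    have e : A.1 = c • (1 : Matrix (Fin d) (Fin d) F) := by
      apply Matrix.toLin'.injective
      rw [hc, map_smul, Matrix.toLin'_one]; rfl
    refine Subgroup.mem_center_iff.2 fun g => Subtype.ext ?_
    simp [e]
  obtain ⟨g, hg, ht⟩ := Cfsg.Agent.Elu.AH.exists_trace (F := F) (V := Fin d → F) (by simpa using hd)
    _ _ (ns A hA) (ns B hB) s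
  have hdet : (LinearMap.toMatrix' g.toLinearMap).det = 1 := by
    rw [LinearMap.det_toMatrix', ← LinearEquiv.coe_det, hg, Units.val_one]
  let G : Matrix.SpecialLinearGroup (Fin d) F := ⟨_, hdet⟩
  refine ⟨G, ?_⟩
  have e1 : Matrix.toLin' G.1 = g.toLinearMap := Matrix.toLin'_toMatrix' _
  have e2 : Matrix.toLin' (G⁻¹).1 = g.symm.toLinearMap := by
    have h1 : Matrix.toLin' (G⁻¹).1 ∘ₗ Matrix.toLin' G.1 = LinearMap.id := by
      rw [← Matrix.toLin'_mul, ← Matrix.SpecialLinearGroup.coe_mul, inv_mul_cancel,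
        Matrix.SpecialLinearGroup.coe_one, Matrix.toLin'_one]
    refine LinearMap.ext fun v => ?_
    have := LinearMap.congr_fun h1 (g.symm v)
    rw [LinearMap.comp_apply, e1, LinearEquiv.coe_coe, g.apply_symm_apply] at this
    exact this
  rw [← Matrix.trace_toLin'_eq, ← ht]
  simp only [Matrix.SpecialLinearGroup.coe_mul, Matrix.toLin'_mul, e1, e2]
  rfl

/-- Let F be a finite field and d ≥ 3, and let a, b be non-identity elements of PSL_d(F). Then the product of the conjugacy classes of a and b is not a single conjugacy class: there are conjugates a′ of a and b′ of b such that a′b′ is not conjugate to ab. -/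
theorem result {F : Type*} [Field F] [Fintype F] (d : ℕ) (hd : 3 ≤ d)
    (a b : Matrix.ProjectiveSpecialLinearGroup (Fin d) F) (ha : a ≠ 1) (hb : b ≠ 1) :
    ∃ g h : Matrix.ProjectiveSpecialLinearGroup (Fin d) F, ¬ IsConj (a * b) (g * a * g⁻¹ * (h * b * h⁻¹)) := by
  obtain ⟨A, rfl⟩ := QuotientGroup.mk_surjective a
  obtain ⟨B, rfl⟩ := QuotientGroup.mk_surjective b
  have hA : A ∉ Subgroup.center (Matrix.SpecialLinearGroup (Fin d) F) := fun h =>
    ha ((QuotientGroup.eq_one_iff _).2 h)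
  have hB : B ∉ Subgroup.center (Matrix.SpecialLinearGroup (Fin d) F) := fun h =>
    hb ((QuotientGroup.eq_one_iff _).2 h)
  obtain ⟨G0, h0⟩ := exists_mat d hd A B hA hB 0
  obtain ⟨G1, h1⟩ := exists_mat d hd A B hA hB 1
  by_contra hn
  push Not at hn
  have c0 := hn 1 (QuotientGroup.mk G0)
  have c1 := hn 1 (QuotientGroup.mk G1)
  simp only [one_mul, inv_one, mul_one] at c0 c1
  obtain ⟨k, hk⟩ := isConj_iff.1 (c0.symm.trans c1)
  obtain ⟨K, rfl⟩ := QuotientGroup.mk_surjective k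
  have hk' : (QuotientGroup.mk (K * (A * (G0 * B * G0⁻¹)) * K⁻¹) :
      Matrix.ProjectiveSpecialLinearGroup (Fin d) F) = QuotientGroup.mk (A * (G1 * B * G1⁻¹)) := hk
  obtain ⟨r, -, hr⟩ := Matrix.SpecialLinearGroup.mem_center_iff.1 (QuotientGroup.eq.1 hk')
  set X := A * (G0 * B * G0⁻¹)
  set Y := A * (G1 * B * G1⁻¹)
  have e : Y = K * X * K⁻¹ * ((K * X * K⁻¹)⁻¹ * Y) := by group
  have e2 : Y.1 = r • (K * X * K⁻¹).1 := by
    conv_lhs => rw [e]
    rw [Matrix.SpecialLinearGroup.coe_mul, ← hr]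
    simp [Matrix.scalar_apply, ← Matrix.smul_one_eq_diagonal]
  have e3 : Matrix.trace (K * X * K⁻¹).1 = 0 := by
    rw [Matrix.SpecialLinearGroup.coe_mul, Matrix.trace_mul_comm,
      ← Matrix.SpecialLinearGroup.coe_mul, ← mul_assoc, inv_mul_cancel, one_mul, h0]
  rw [e2, Matrix.trace_smul, e3, smul_zero] at h1
  exact zero_ne_one h1

end Cfsg.Agent.S2272
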