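import Cfsg.Statements.S2277
import Cfsg.Agent.BG.Base6
import Cfsg.Agent.Solv.CoprimeSylow
import Cfsg.Agent.PGrp.Basic

set_option autoImplicit false
open Cfsg

namespace Cfsg.Agent.S2277

open Subgroup Cfsg.Agent.BG
open scoped commutatorElement

/-- fixed points -/
def fx {V : Type*} [Group V] (a : MulAut V) : Subgroup V := a.toMonoidHom.eqLocus (MonoidHom.id V)

theorem mem_fx {V : Type*} [Group V] {a : MulAut V} {v : V} : v ∈ fx a ↔ a v = v := Iff.rfl

theorem cube_le {V : Type*} [CommGroup V] [Finite V] {c z x : MulAut V} (hc : Commute c z) (hx : x * c * x⁻¹ = z * c)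
    (hxz : Commute x z) (h1 : fx z = ⊥) (h2 : fx (z * z) = ⊥) : Nat.card (fx c) ^ 3 ≤ Nat.card V := by
  have k1 : ∀ u, c u = u → z (c (x u)) = x u := fun u hu => by
    have := congrArg (fun f : MulAut V => f (x u)) hx
    simp only [MulAut.mul_apply, MulAut.inv_apply, MulEquiv.symm_apply_apply, hu] at this
    exact this.symm
  have k2 : ∀ u, c u = u → z (z (c (x (x u)))) = x (x u) := fun u hu => by
    have e1 := congrArg (fun f : MulAut V => f (x (x u))) hx
    have e2 := congrArg (fun f : MulAut V => f (c (x u))) hxz.eq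
    simp only [MulAut.mul_apply, MulAut.inv_apply, MulEquiv.symm_apply_apply] at e1 e2
    rw [← e1, ← e2, k1 u hu]
  have hz : ∀ u, c (z u) = z (c u) := fun u => congrArg (fun f : MulAut V => f u) hc.eq
  have key : ∀ a B D, c a = a → z (c B) = B → z (z (c D)) = D → a * B * D = 1 → a = 1 ∧ B = 1 ∧ D = 1 := by
    intro a B D ha e1 e2 h
    have e3 : a * c B * c D = 1 := by simpa [ha] using congrArg c h
    have h' := h
    rw [← e1, ← e2, ← e3, mul_assoc, mul_assoc, mul_right_inj] at h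
    have e4 : c B * c D * z (c D) = 1 := by
      rw [← mem_bot, ← h1, mem_fx, map_mul, map_mul, mul_right_comm, h]
    have e5 := congrArg (fun u => c (z u)) e4
    simp only [map_mul, map_one, e1, e2] at e5
    rw [mul_right_comm, ← e4, mul_right_inj] at e5
    have e6 : c D = 1 := by
      rw [← mem_bot, ← h2, mem_fx, MulAut.mul_apply]
      conv_lhs => rw [← e5, ← hz, e2]
    have e7 : D = 1 := by rw [← e2, e6, map_one, map_one]
    have e8 : B = 1 := by
      rw [e6, map_one, mul_one, mul_one] at e4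
      rw [← e1, e4, map_one]
    exact ⟨by simpa [e7, e8] using h', e8, e7⟩
  let f : fx c × fx c × fx c →* V := MonoidHom.mk' (fun t => t.1 * x t.2.1 * x (x t.2.2)) fun a b => by
    simp only [Prod.fst_mul, Prod.snd_mul, coe_mul, map_mul]; ac_rfl
  have hf : Function.Injective f := by
    rw [injective_iff_map_eq_one]
    rintro ⟨⟨a, ha⟩, ⟨b, hb⟩, ⟨d, hd⟩⟩ h
    obtain ⟨e1, e2, e3⟩ := key _ _ _ ha (k1 b hb) (k2 d hd) h
    simp only [map_eq_one_iff _ x.injective] at e2 e3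
    subst e1 e2 e3; rfl
  simpa [pow_succ, mul_assoc] using Nat.card_le_card_of_injective f hf

theorem core {p : ℕ} [hp : Fact p.Prime] (hp3 : 3 ≤ p) {P V : Type*} [Group P] [Finite P] [CommGroup V] [Finite V]
    (hP : IsPGroup p P) (ψ : P →* MulAut V) (hirr : ∀ W : Subgroup V, (∀ a, ∀ v ∈ W, ψ a v ∈ W) → W = ⊥ ∨ W = ⊤)
    {C D : Set P} (hC : closure C = ⊤) (hD : closure D = ⊤)
    (h : ∀ c ∈ C, ∀ d ∈ D, ∀ x, ∃ u v, ψ c u = u ∧ ψ d v = v ∧ x = v * u) (a : P) : ψ a = 1 := by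
  have := hP.isNilpotent
  by_contra ha
  have fpf : ∀ z, (∀ g, ⁅z, g⁆ ∈ ψ.ker) → z ∉ ψ.ker → fx (ψ z) = ⊥ := fun z h1 h2 =>
    (hirr _ fun g v hv => by
      have := commutatorElement_eq_one_iff_mul_comm.1 ((map_commutatorElement ψ z g).symm.trans (h1 g))
      rw [mem_fx, ← MulAut.mul_apply, this, MulAut.mul_apply, mem_fx.1 hv]).resolve_right fun e =>
        h2 (MulEquiv.ext fun v => mem_fx.1 (e ▸ mem_top v))
  obtain ⟨M, hM, h1⟩ : ∃ M : Subgroup P, M ≠ ⊤ ∧ ∀ c ∉ M, Nat.card (fx (ψ c)) ^ 3 ≤ Nat.card V := by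
    let Z : Subgroup P := (center (P ⧸ ψ.ker)).comap (QuotientGroup.mk' ψ.ker)
    have hZ : ∀ z, z ∈ Z ↔ ∀ g, ⁅z, g⁆ ∈ ψ.ker := fun z => by
      simp only [Z, mem_comap, mem_center_iff, QuotientGroup.mk'_apply]
      refine ⟨fun h g => (QuotientGroup.eq_one_iff _).1 (commutatorElement_eq_one_iff_mul_comm.2 (h g).symm),
        fun h g => ?_⟩
      obtain ⟨g, rfl⟩ := QuotientGroup.mk_surjective g
      exact (commutatorElement_eq_one_iff_mul_comm.1 ((QuotientGroup.eq_one_iff _).2 (h g))).symm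
    by_cases hz : ⊤ ≤ Z
    · refine ⟨ψ.ker, fun e => ha (e ▸ mem_top a : a ∈ ψ.ker), fun c hc => ?_⟩
      rw [fpf c ((hZ c).1 (hz trivial)) hc, card_bot, one_pow]
      exact Nat.card_pos
    obtain ⟨x, -, hx1, hx⟩ := PGrp.exists_central_mod hz
    refine ⟨(centralizer {ψ x}).comap ψ, fun e => hx1 ((hZ x).2 fun g => ?_), fun c hc => ?_⟩
    · rw [MonoidHom.mem_ker, map_commutatorElement, commutatorElement_eq_one_iff_mul_comm]
      exact (mem_centralizer_singleton_iff.1 (e ▸ mem_top g : g ∈ (centralizer {ψ x}).comap ψ)).symm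
    have h2 : ⁅x, c⁆ ∉ ψ.ker := fun e => hc (mem_centralizer_singleton_iff.2
      (commutatorElement_eq_one_iff_mul_comm.1 ((map_commutatorElement ψ x c).symm.trans e)).symm)
    have h3 : ∀ g, Commute (ψ g) (ψ ⁅x, c⁆) := fun g => (commutatorElement_eq_one_iff_commute.1
      ((map_commutatorElement ψ _ g).symm.trans ((hZ _).1 (hx c) g))).symm
    refine cube_le (h3 c) (by rw [map_commutatorElement, commutatorElement_def]; group) (h3 x)
      (fpf _ ((hZ _).1 (hx c)) h2) ?_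
    rw [← map_mul]
    refine fpf _ ((hZ _).1 (mul_mem (hx c) (hx c))) fun e => h2 ?_
    obtain ⟨k, hk⟩ := hP ⁅x, c⁆
    obtain ⟨m, hm⟩ := (hp.out.odd_of_ne_two (by omega)).pow (n := k)
    have := pow_mem e m
    rw [← sq, ← pow_mul] at this
    rw [hm, pow_succ] at hk
    exact (mul_mem_cancel_left this).1 (hk ▸ one_mem _)
  obtain ⟨c, hc, hcM⟩ : ∃ c ∈ C, c ∉ M := by
    by_contra! e; exact hM (top_le_iff.1 (hC ▸ (closure_le M).2 e))
  obtain ⟨d, hd, hdM⟩ : ∃ c ∈ D, c ∉ M := by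
    by_contra! e; exact hM (top_le_iff.1 (hD ▸ (closure_le M).2 e))
  have h2 : Nat.card V ≤ Nat.card (fx (ψ d)) * Nat.card (fx (ψ c)) := by
    rw [← Nat.card_prod]
    refine Nat.card_le_card_of_surjective (fun t => (t.1 * t.2 : V)) fun x => ?_
    obtain ⟨u, v, hu, hv, e⟩ := h c hc d hd x
    exact ⟨(⟨v, hv⟩, ⟨u, hu⟩), e.symm⟩
  have h3 := Nat.pow_le_pow_left h2 3
  rw [mul_pow] at h3
  have h4 := h3.trans (Nat.mul_le_mul (h1 d hdM) (h1 c hcM))
  have : Nat.card V ≤ 1 := by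
    have := Nat.card_pos (α := V)
    nlinarith [Nat.mul_pos this this]
  have := Finite.card_le_one_iff_subsingleton.1 this
  exact ha (MulEquiv.ext fun _ => Subsingleton.elim _ _)

theorem exists_lt {p : ℕ} [hp : Fact p.Prime] (hp3 : 3 ≤ p) {P K : Type*} [Group P] [Finite P] [Group K] [Finite K]
    [Group.IsSolvable K] [Nontrivial K] (hP : IsPGroup p P) (φ : P →* MulAut K)
    {C D : Set P} (hC : closure C = ⊤) (hD : closure D = ⊤)
    (h : ∀ c ∈ C, ∀ d ∈ D, ∀ x, ∃ u v, φ c u = u ∧ φ d v = v ∧ x = v * u) :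
    ∃ L : Subgroup K, L ≠ ⊤ ∧ ∀ a x, x * (φ a x)⁻¹ ∈ L := by
  obtain ⟨L, ⟨h1, h2, h3⟩, hmax⟩ := exists_maximal_of_wellFoundedGT
    (fun L : Subgroup K => L.Normal ∧ L ≠ ⊤ ∧ ∀ a, ∀ v ∈ L, φ a v ∈ L) ⟨⊥, inferInstance, bot_ne_top, by simp⟩
  let ψ0 : P → (K ⧸ L →* K ⧸ L) := fun a => QuotientGroup.map L L (φ a).toMonoidHom (h3 a)
  have m0 : ∀ a (x : K), ψ0 a x = (φ a x : K) := fun _ _ => rfl
  let ψ : P →* MulAut (K ⧸ L) := MonoidHom.mk' (fun a => (ψ0 a).toMulEquiv (ψ0 a⁻¹)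
    (by ext x; simp [m0]) (by ext x; simp [m0]))
    fun a b => MulEquiv.ext fun x => by
      obtain ⟨x, rfl⟩ := QuotientGroup.mk_surjective x
      simp [m0]
  have m1 : ∀ a (x : K), ψ a x = (φ a x : K) := fun _ _ => rfl
  have irr : ∀ W : Subgroup (K ⧸ L), W.Normal → (∀ a, ∀ v ∈ W, ψ a v ∈ W) → W = ⊥ ∨ W = ⊤ := fun W hn hW => by
    by_cases e : W.comap (QuotientGroup.mk' L) = ⊤
    · exact Or.inr (comap_injective (QuotientGroup.mk'_surjective L) (e.trans (comap_top _).symm))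
    · refine Or.inl (eq_bot_iff.2 fun v hv => ?_)
      obtain ⟨v, rfl⟩ := QuotientGroup.mk_surjective v
      exact (QuotientGroup.eq_one_iff v).2 (hmax ⟨hn.comap _, e, fun a v hv => hW a _ hv⟩
        (fun x hx => mem_comap.2 (by
          rw [QuotientGroup.mk'_apply, (QuotientGroup.eq_one_iff x).2 hx]; exact one_mem W)) hv)
  have := QuotientGroup.nontrivial_iff.2 h2
  have hab : commutator (K ⧸ L) = ⊥ := (irr _ inferInstance fun a v hv =>
    (characteristic_iff_le_comap.1 inferInstance (ψ a)) hv).resolve_right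
      (Group.IsSolvable.commutator_lt_top_of_nontrivial _).ne
  let _ : CommGroup (K ⧸ L) := { (inferInstance : Group (K ⧸ L)) with
    mul_comm := fun a b => commutator_eq_bot_iff_le_centralizer.1 hab (mem_top b) a (mem_top a) }
  refine ⟨L, h2, fun a x => ?_⟩
  have := core hp3 hP ψ (fun W => irr W inferInstance) hC hD (fun c hc d hd x => by
    obtain ⟨x, rfl⟩ := QuotientGroup.mk_surjective x
    obtain ⟨u, v, hu, hv, rfl⟩ := h c hc d hd x
    exact ⟨u, v, by rw [m1, hu], by rw [m1, hv], rfl⟩) a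
  rw [← QuotientGroup.eq_one_iff, QuotientGroup.mk_mul, QuotientGroup.mk_inv, ← m1, this, MulAut.one_apply,
    mul_inv_cancel]

/-- Let p ≥ 3 be prime and G a finite group with a Sylow p-subgroup P and a normal p-complement N (N normal, of order prime to p, with NP = G). Suppose P is generated by a subset C and also by a subset D, and that ⟨x c x⁻¹, d⟩ is a p-group for all x ∈ N, c ∈ C, d ∈ D. Then P centralizes N, so that G = N × P. -/
theorem result {G : Type*} [Group G] [Finite G] (p : ℕ) [Fact p.Prime] (hp3 : 3 ≤ p) (P : Sylow p G)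
    (N : Subgroup G) [N.Normal] (hN : (Nat.card N).Coprime p) (hNP : N ⊔ (P : Subgroup G) = ⊤)
    (C D : Set G) (hC : Subgroup.closure C = (P : Subgroup G)) (hD : Subgroup.closure D = (P : Subgroup G))
    (h : ∀ x ∈ N, ∀ c ∈ C, ∀ d ∈ D, IsPGroup p ↥(Subgroup.closure ({x * c * x⁻¹, d} : Set G))) :
    ⁅(P : Subgroup G), N⁆ = ⊥ := by
  have hc : (Nat.card (P : Subgroup G)).Coprime (Nat.card N) := by
    obtain ⟨k, hk⟩ := P.isPGroup'.exists_card_eq
    exact hk ▸ hN.symm.pow_left k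
  have := P.isPGroup'.isNilpotent
  rw [commutator_comm, commutator_eq_bot_iff_le_centralizer]
  refine Solv.le_of_forall_invariant_sylIn (le_normalizer_of_normal) hc (Or.inl inferInstance) fun q _ R hR hn => ?_
  rw [← commutator_eq_bot_iff_le_centralizer]
  have hK := Solv.commutator_commutator_eq hn (Solv.coprime_of_le hc hR.le)
  have hKR := Solv.commutator_le_of_le_normalizer hn
  have hKn : (P : Subgroup G) ≤ N[⁅R, (P : Subgroup G)⁆] := commg_normr _ _
  generalize ⁅R, (P : Subgroup G)⁆ = K at *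
  by_contra h0
  have := (nontrivial_iff_ne_bot K).2 h0
  have := (hR.pg.to_le hKR).isNilpotent
  have hi : ∀ y ∈ K, y ∈ (P : Subgroup G) → y = 1 := fun y h1 h2 =>
    mem_bot.1 (coprime_TI hc ▸ (⟨h2, hR.le (hKR h1)⟩ : y ∈ (P : Subgroup G) ⊓ N))
  have cl : ∀ {C : Set G}, closure C = P → closure ((P : Subgroup G).subtype ⁻¹' C) = ⊤ := fun {C} hC => by
    refine map_injective (subtype_injective _) ?_
    rw [MonoidHom.map_closure, ← MonoidHom.range_eq_map, range_subtype, Set.image_preimage_eq_of_subset, hC]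
    rw [← MonoidHom.coe_range, range_subtype, ← hC]; exact subset_closure
  obtain ⟨L, h1, h2⟩ := exists_lt hp3 P.isPGroup' (K.normalizerMonoidHom.comp (inclusion hKn)) (cl hC) (cl hD) (by
    rintro ⟨c, hcP⟩ hc ⟨d, hdP⟩ hd ⟨x, hx⟩
    obtain ⟨g, hg, h3⟩ := Sylow_subJ (pHall_subl le_sup_right le_top (sylowIn_top P) : SylowIn p P (K ⊔ P))
      ((closure_le _).2 (Set.pair_subset (mul_mem (mul_mem (mem_sup_left hx) (mem_sup_right hcP))
        (inv_mem (mem_sup_left hx))) (mem_sup_right hdP))) (h x (hR.le (hKR hx)) c hc d hd)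
    obtain ⟨y, hy, a, ha, rfl⟩ := (mem_sup_norml hKn).1 hg
    have h4 : ∀ t ∈ ({x * c * x⁻¹, d} : Set G), y⁻¹ * t * y ∈ (P : Subgroup G) := fun t ht => by
      have := mul_mem (mul_mem ha (mem_cj.1 (h3 (subset_closure ht)))) (inv_mem ha)
      simpa [mul_assoc] using this
    have h5 := hi (y⁻¹ * (d * y * d⁻¹)) (mul_mem (inv_mem hy) ((mem_normalizer_iff.1 (hKn hdP) y).1 hy))
      (by simpa [mul_assoc] using mul_mem (h4 d (by simp)) (inv_mem hdP))
    have h6 := hi (y⁻¹ * x * (c * (y⁻¹ * x)⁻¹ * c⁻¹)) (mul_mem (mul_mem (inv_mem hy) hx)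
      ((mem_normalizer_iff.1 (hKn hcP) _).1 (inv_mem (mul_mem (inv_mem hy) hx))))
      (by simpa [mul_assoc] using mul_mem (h4 _ (Set.mem_insert _ _)) (inv_mem hcP))
    refine ⟨⟨y⁻¹ * x, mul_mem (inv_mem hy) hx⟩, ⟨y, hy⟩, Subtype.ext ?_, Subtype.ext ?_, Subtype.ext (by simp)⟩
    · change c * (y⁻¹ * x) * c⁻¹ = y⁻¹ * x
      rw [← inv_inj, mul_eq_one_iff_inv_eq.1 h6]; group
    · exact (inv_mul_eq_one.1 h5).symm)
  refine h1 (map_injective K.subtype_injective (le_antisymm (map_mono le_top) ?_))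
  rw [← MonoidHom.range_eq_map, range_subtype]
  refine hK.ge.trans (commutator_le.2 fun x hx a ha => ⟨_, h2 ⟨a, ha⟩ ⟨x, hx⟩, ?_⟩)
  change x * (a * x * a⁻¹)⁻¹ = _
  rw [commutatorElement_def]; group

end Cfsg.Agent.S2277
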