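import Cfsg.Statements.S2372
import Cfsg.Agent.Chev.Torus
import Cfsg.Agent.Chev.CoxF4
import Cfsg.Agent.Chev.Zker

set_option autoImplicit false
open Cfsg

namespace Cfsg.Agent.S2372

open Cfsg.Agent.Chev Cfsg.Lie


theorem tor : TorOK chevF4 reflF4 (Sym.one chevF4).π [2, 1, 2, 0, 1, 3] (tab [[1, 0, 0, 0], [1, 0, 1, -1], [1, 1, 1, -1], [0, 1, 0, -1]])
    (tab [[1, 0, 0, 0], [0, -1, 1, 0], [-1, 0, 1, -1], [0, -1, 1, -1], [-1, 0, 0, 0]]) (fun k => nth 0 [1, 0, 0, 0] k)
    (fun r k => (tbl 0x102030200000000020302030000000001030103000000000202020300000000030103030000000002010203000000000302010400000000010302020000000002020302000000000102020200000000020301030000000002010302000000000302020300000000020201030000000003010203000000000103030100000000000302010000000001040102000000000102030100000000020302020000000001030102000000000201040100000000030203020000000001010301000000000303010300000000010201020000000002030003000000000301030200000000020102020000000003020103000000000300030200000000040102030000000003010103000000000103020100000000020203010000000001020201000000000203010200000000020103010000000003020202000000000202010200000000030102020000000001020300000000000203020100000000010301010000000002020201000000000301030100000000020102010000000003020102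 k r : ℤ) - 2)
    [⟨24, by decide⟩, ⟨25, by decide⟩, ⟨27, by decide⟩, ⟨33, by decide⟩] := by decide +kernel

/-- The group F₄(q) contains a cyclic subgroup of order q⁴ + 1 which is its own centralizer. -/
theorem result {F : Type*} [Field F] [Fintype F] (q : ℕ) (hF : Fintype.card F = q) :
    ∃ H : Subgroup ↥(Cfsg.Lie.chevF4.group F), IsCyclic ↥H ∧ Nat.card ↥H = q ^ 4 + 1 ∧
      Subgroup.centralizer (H : Set ↥(Cfsg.Lie.chevF4.group F)) = H := by
  obtain ⟨H, h1, h2, h3⟩ := (TwD.one_ok chevF4).exists_torus (Sym.one _) (fun _ => rfl) (hasRep_of_zker (zkerF4_eq_bot _)) 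
    ((stS_mult _ _).tor_injective (stCover _ _) (zkerF4_eq_bot _)) 
    ((stS_mult _ _).tor_injective (stCover _ _) (zkerF4_eq_bot _)) Nat.cast_zero
    (φ := RingHom.id F) (fun t => (hF ▸ FiniteField.pow_card t).symm) TwD.one_ord (by simp [hF]) (fun _ => rfl)
    isReflF4 tor (N := q ^ 4 + 1) (by change _ = _ ^ 4 + ∑ k : Fin 4, _; simp [Fin.sum_univ_succ, nth]) (one_fix_map _ fun _ => rfl)
  rw [zkerF4_eq_bot, bot_inf_eq, Subgroup.card_bot, one_mul] at h2
  exact ⟨H, h1, h2, h3⟩

end Cfsg.Agent.S2372
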