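import Cfsg.Statements.S2373
import Cfsg.Agent.Chev.Torus
import Cfsg.Agent.Chev.CoxE6
import Cfsg.Agent.Chev.Zker

set_option autoImplicit false
open Cfsg

namespace Cfsg.Agent.S2373

open Cfsg.Agent.Chev Cfsg.Lie


theorem tor : TorOK chevE6 reflE6 (Sym.one chevE6).π [4, 1, 3, 5, 2, 0] (tab [[0, 0, 0, 0, 1, 1], [0, -1, -1, 0, 1, 1], [-1, -1, 0, 1, 1, 1], [-1, -2, -1, 1, 2, 1], [-1, -1, -1, 0, 1, 1], [0, 0, -1, 0, 1, 1]])
    (tab [[0, 1, 0, 0, -1, 0], [0, -1, 0, 0, 0, 1], [1, 0, 0, 0, 0, -1], [-1, 0, 1, 0, -1, 1], [1, -1, -1, 1, 0, 0], [0, 1, 1, -1, 0, 0], [-1, -1, 0, 1, 0, 0]]) (fun k => nth 0 [1, 1, 0, -1, 0, 1] k)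
    (fun r k => (tbl 0x3030201010200000203030201010000030202020201000003030302020200000202030301010000030301010202000003040201020300000203020201020000040301010303000003020102020200000303020202030000030302020302000002020203020100000203030302020000030202030302000003030102030300000202020101010000020303010102000001020302000100000302020102020000020102020101000002020302010200000303010002030000020201010102000002030201010300000302010102030000020203020201000001010303010000000102040301010000020103030201000002030201020200000102020201010000010303020102000003020101030200000201010202010000030302010303000001010203010100000203030202030000010203030102000003010102030200000302020203030000020102030202000002030101020300000302000103030000030301010304000002020102020300000102030302010000020102030301000002020303030200000101030402010000020201020302000002030202030300000102020302020000030201020403000002010103030200000202020303030000010103020101000001020201010200000201010102020000020202010203000001010202010200000101020202010000010203020202000000010303010100000201020203020000010002030201000001010303020200000202010103030000010101020202000001020202020300000201010203030000010102030302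 k r : ℤ) - 2)
    [⟨36, by decide⟩, ⟨37, by decide⟩, ⟨46, by decide⟩, ⟨39, by decide⟩, ⟨42, by decide⟩, ⟨56, by decide⟩] := by decide +kernel

/-- The group E₆(q) (the simple Chevalley group of type E₆) contains a cyclic subgroup of order (q⁴ − q² + 1)(q² + q + 1)/gcd(3, q − 1) which is its own centralizer. -/
theorem result {F : Type*} [Field F] [Fintype F] (q : ℕ) (hF : Fintype.card F = q) :
    ∃ H : Subgroup ↥(Cfsg.Lie.chevE6.group F), IsCyclic ↥H ∧ Nat.card ↥H = (q ^ 4 - q ^ 2 + 1) * (q ^ 2 + q + 1) / Nat.gcd 3 (q - 1) ∧
      Subgroup.centralizer (H : Set ↥(Cfsg.Lie.chevE6.group F)) = H := by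
  obtain ⟨H, h1, h2, h3⟩ := (TwD.one_ok chevE6).exists_torus (Sym.one _) (fun _ => rfl) (hasRepE6 _) (tor_injectiveE6 _) (tor_injectiveE6 _) Nat.cast_zero
    (φ := RingHom.id F) (fun t => (hF ▸ FiniteField.pow_card t).symm) TwD.one_ord (by simp [hF]) (fun _ => rfl)
    isReflE6 tor (N := (q ^ 4 - q ^ 2 + 1) * (q ^ 2 + q + 1)) (by
      have := Nat.pow_le_pow_right (n := q) (i := 2) (j := 4) (hF ▸ Fintype.card_pos) (by decide)
      change _ = _ ^ 6 + ∑ k : Fin 6, _; simp [Fin.sum_univ_succ, nth, this]; ring) (one_fix_map _ fun _ => rfl)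
  rw [one_fixT, inf_top_eq, card_zkerE6, Nat.card_eq_fintype_card, hF] at h2
  exact ⟨H, h1, (Nat.div_eq_of_eq_mul_right (Nat.gcd_pos_of_pos_left _ (by decide)) h2.symm).symm, h3⟩

end Cfsg.Agent.S2373
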