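import Cfsg.Statements.S2405
import Cfsg.Agent.Mult.Tg1
import Cfsg.Agent.ChAut.Sp4
import Cfsg.Agent.S2411

set_option autoImplicit false
open Cfsg

namespace Cfsg.Agent.S2405

/-- Each Chevalley group of type G₂, B₂, D₄, F₄, E₆, E₇ or E₈ over a finite field is generated by two of its elements (types B₂ and G₂ over the field with two elements, where the group is not simple, excepted). -/
theorem result {F : Type*} [Field F] [Finite F] (D : Cfsg.Lie.ChevalleyDatum) (hD : D ∈ [Cfsg.Lie.chevG2, Cfsg.Lie.chevB2, Cfsg.Lie.chevD4, Cfsg.Lie.chevF4, Cfsg.Lie.chevE6, Cfsg.Lie.chevE7, Cfsg.Lie.chevE8])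
    (hF : D ∈ [Cfsg.Lie.chevB2, Cfsg.Lie.chevG2] → ∃ x : F, x ≠ 0 ∧ x ≠ 1) :
    ∃ a b : ↥(D.group F), Subgroup.closure ({a, b} : Set ↥(D.group F)) = ⊤ := by
  simp only [List.mem_cons, List.not_mem_nil, or_false] at hD
  rcases hD with rfl | rfl | rfl | rfl | rfl | rfl | rfl
  · exact Mult.two_gen_chev Chev.isReflG2 (l := [1, 0]) (i := 1) (r := 0) (s := 3) (C := [(1, 1, 6), (2, 2, 4), (6,
      6, 11), (4, 4, 8), (11, 11, 10), (8, 8, 9), (10, 10, 5), (9, 9, 7)]) (by decide +kernel) (.inl (hF (by simp)))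
  · have := Fintype.ofFinite F
    obtain ⟨e⟩ := ChAut.equivSp4 (F := F)
    obtain ⟨x, h0, h1⟩ := hF (by simp)
    obtain ⟨a, b, h⟩ := S2411.result (F := F) (m := 2) le_rfl fun _ => Fintype.two_lt_card_iff.2 ⟨x, 0, 1, h0, h1, by simp⟩
    exact ⟨e.symm a, e.symm b, by
      simpa [MonoidHom.map_closure, Set.image_pair] using congrArg (Subgroup.map e.symm.toMonoidHom) h⟩
  · exact Mult.two_gen_chev Chev.isReflD4 (l := [0, 1, 2, 3]) (i := 0) (r := 9) (s := 7) (C := [(1, 1, 18), (11, 11,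
      20), (18, 18, 14), (20, 20, 16), (14, 14, 22), (16, 16, 12), (22, 22, 5), (5, 5, 9), (1, 20, 10), (16, 9,
      13)]) (by decide +kernel) (.inr ⟨[0, 1, 2, 3], 5, 10, 9, 7, [], [(5, 5, 9)], [(5, 5, 9), (7, 7, 11), (9, 9,
      1), (11, 11, 20), (1, 1, 18), (20, 20, 16), (18, 18, 14), (16, 16, 12), (7, 14, 10), (9, 16, 13)], by
      decide +kernel⟩)
  · exact Mult.two_gen_chev Chev.isReflF4 (l := [0, 1, 2, 3]) (i := 3) (r := 19) (s := 17) (C := [(11, 11, 33), (4,
      4, 16), (33, 33, 27), (16, 16, 22), (27, 27, 35), (22, 22, 23), (35, 35, 38), (23, 23, 42), (38, 38, 28), (42,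
      42, 30), (28, 28, 36), (30, 30, 43), (36, 36, 14), (43, 43, 31), (14, 14, 20), (31, 31, 25), (25, 25, 24)])
      (by decide +kernel) (.inr ⟨[0, 1, 2, 3], 0, 10, 41, 33, [17], [(0, 0, 15), (15, 15, 21), (21, 21, 41), (41,
      41, 45), (45, 45, 46), (46, 46, 47), (47, 47, 32), (32, 32, 26), (15, 26, 17)], [(0, 0, 15), (33, 33, 27),
      (15, 15, 21), (27, 27, 35), (21, 21, 41), (35, 35, 38), (41, 41, 45), (38, 38, 28), (45, 45, 46), (28, 28,
      36), (46, 46, 47), (36, 36, 14), (47, 47, 32), (14, 14, 20), (32, 32, 26), (26, 26, 6), (6, 6, 2), (2, 2, 1),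
      (0, 46, 23), (45, 1, 22), (46, 2, 25), (47, 1, 24)], by decide +kernel⟩)
  · exact Mult.two_gen_chev Chev.isReflE6 (l := [0, 1, 2, 3, 4, 5]) (i := 0) (r := 8) (s := 42) (C := [(28, 28, 23),
      (47, 47, 59), (23, 23, 11), (59, 59, 52), (11, 11, 56), (52, 52, 39), (56, 56, 42), (39, 39, 37), (37, 37,
      36), (36, 36, 8), (28, 39, 29), (28, 42, 32), (47, 23, 34), (47, 32, 46), (23, 37, 24), (59, 11, 35), (52, 8,
      15), (39, 24, 25)]) (by decide +kernel) (.inr ⟨[0, 1, 2, 3, 4, 5], 0, 14, 61, 47, [], [(0, 0, 1), (1, 1, 16),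
      (16, 16, 30), (30, 30, 61)], [(0, 0, 1), (47, 47, 59), (1, 1, 16), (59, 59, 52), (16, 16, 30), (52, 52, 39),
      (30, 30, 61), (39, 39, 37), (61, 61, 67), (37, 37, 36), (67, 67, 71), (36, 36, 8), (71, 71, 70), (8, 8, 28),
      (28, 28, 23), (23, 23, 11), (11, 11, 56), (56, 56, 42), (0, 70, 25), (47, 23, 34), (1, 59, 17), (1, 71, 46),
      (59, 11, 35), (52, 8, 15), (52, 17, 32), (39, 28, 29)], by decide +kernel⟩)
  · exact Mult.two_gen_chev Chev.isReflE7 (l := [0, 1, 2, 3, 4, 5, 6]) (i := 0) (r := 28) (s := 74) (C := [(39, 39,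
      56), (80, 80, 97), (56, 56, 59), (97, 97, 86), (59, 59, 61), (86, 86, 69), (61, 61, 62), (69, 69, 66), (62,
      62, 102), (66, 66, 64), (102, 102, 74), (64, 64, 63), (63, 63, 23), (23, 23, 51), (39, 102, 93), (80, 59, 79),
      (56, 74, 73), (56, 79, 78), (97, 63, 98), (86, 23, 32), (69, 51, 52), (23, 98, 47)]) (by decide +kernel) (.inr
      ⟨[0, 1, 2, 3, 4, 5, 6], 0, 37, 85, 56, [], [(0, 0, 1), (1, 1, 2), (2, 2, 7), (7, 7, 33), (33, 33, 53), (53,
      53, 99), (99, 99, 109), (109, 109, 119), (119, 119, 125), (125, 125, 124), (124, 124, 123), (123, 123, 118),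
      (118, 118, 92), (53, 92, 85)], [(0, 0, 1), (56, 56, 59), (1, 1, 2), (59, 59, 61), (2, 2, 7), (61, 61, 62), (7,
      7, 33), (62, 62, 102), (33, 33, 53), (102, 102, 74), (53, 53, 99), (74, 74, 80), (99, 99, 109), (80, 80, 97),
      (109, 109, 119), (97, 97, 86), (119, 119, 125), (86, 86, 69), (125, 125, 124), (69, 69, 66), (124, 124, 123),
      (66, 66, 64), (123, 123, 118), (64, 64, 63), (0, 124, 32), (56, 74, 73), (56, 123, 122), (1, 125, 93), (1,
      123, 52), (1, 118, 42), (7, 122, 78), (74, 42, 47)], by decide +kernel⟩)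
  · exact Mult.two_gen_chev Chev.isReflE8 (l := [0, 1, 2, 3, 4, 5, 6, 7]) (i := 0) (r := 9) (s := 137) (C := [(17,
      17, 23), (144, 144, 167), (23, 23, 38), (167, 167, 151), (38, 38, 80), (151, 151, 130), (80, 80, 56), (130,
      130, 126), (56, 56, 99), (126, 126, 123), (123, 123, 121), (121, 121, 120), (120, 120, 66), (66, 66, 103),
      (103, 103, 96), (96, 96, 73), (73, 73, 89), (89, 89, 62), (62, 62, 102), (102, 102, 95), (95, 95, 72), (72,
      72, 88), (88, 88, 109), (109, 109, 113), (113, 113, 116), (116, 116, 118), (118, 118, 119), (144, 80, 100),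
      (167, 56, 93), (167, 120, 168), (167, 100, 162), (151, 99, 141), (151, 66, 77), (151, 93, 135), (130, 103,
      104), (66, 168, 98)]) (by decide +kernel) (.inr ⟨[0, 1, 2, 3, 4, 5, 6, 7], 0, 13, 78, 1, [], [(0, 0, 15), (15,
      15, 21), (21, 21, 36), (36, 36, 78)], [(0, 0, 15), (15, 15, 21), (21, 21, 36), (36, 36, 78), (78, 78, 105),
      (105, 105, 169), (169, 169, 184), (184, 184, 204), (204, 204, 226), (226, 226, 234), (234, 234, 235), (235,
      235, 236), (236, 236, 237), (237, 237, 238), (238, 238, 239), (239, 239, 224), (224, 224, 218), (218, 218,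
      203), (203, 203, 161), (161, 161, 134), (134, 134, 70), (70, 70, 55), (55, 55, 35), (35, 35, 13), (13, 13, 5),
      (5, 5, 4), (4, 4, 3), (3, 3, 2), (0, 238, 119), (1, 237, 118), (1, 239, 120), (15, 161, 45), (15, 134, 20),
      (21, 70, 6), (78, 35, 14), (105, 13, 8), (169, 5, 16), (204, 45, 141), (226, 20, 162), (234, 4, 109), (234, 6,
      135), (235, 5, 130), (235, 3, 113), (236, 4, 126), (236, 2, 116), (237, 3, 123), (238, 2, 121), (224, 14, 98),
      (224, 8, 77), (218, 16, 104)], by decide +kernel⟩)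

end Cfsg.Agent.S2405
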