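import Cfsg.Statements.S2419
import Cfsg.Agent.Chev.WGen
import Cfsg.Agent.Chev.CoxB2
import Cfsg.Agent.Chev.CoxG2
import Cfsg.Agent.Chev.CoxD4
import Cfsg.Agent.Chev.CoxF4
import Cfsg.Agent.Chev.CoxE6
import Cfsg.Agent.Chev.CoxE7
import Cfsg.Agent.Chev.CoxE8

set_option autoImplicit false
open Cfsg

namespace Cfsg.Agent.S2419

open Cfsg.Agent.Chev Cfsg.Lie

/-- The Coxeter groups of types B₂, G₂, E₆, E₇, E₈ are generated by the Coxeter element `s₁ s₂ ⋯ s_l` together with one suitable reflection (a conjugate of a simple reflection); for types D₄ and F₄ the Coxeter element together with two suitable reflections suffices. -/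
theorem result (c : (Σ n : ℕ, CoxeterMatrix (Fin n)) × ℕ)
    (hc : c ∈ [(⟨2, CoxeterMatrix.B 2⟩, 1), (⟨2, CoxeterMatrix.G₂⟩, 1), (⟨4, Cfsg.Lie.coxeterD4⟩, 2), (⟨4, CoxeterMatrix.F₄⟩, 2),
      (⟨6, CoxeterMatrix.E₆⟩, 1), (⟨7, CoxeterMatrix.E₇⟩, 1), (⟨8, CoxeterMatrix.E₈⟩, 1)]) :
    ∃ T : Finset c.1.2.Group, T.card = c.2 ∧ (∀ t ∈ T, ∃ (g : c.1.2.Group) (i : Fin c.1.1), t = g * c.1.2.simple i * g⁻¹) ∧
      Subgroup.closure (({((List.finRange c.1.1).map c.1.2.simple).prod} : Set c.1.2.Group) ∪ ↑T) = ⊤ := by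
  simp only [List.mem_cons, List.not_mem_nil, or_false] at hc
  rcases hc with rfl | rfl | rfl | rfl | rfl | rfl | rfl
  · exact isReflB2.gen_cox coxB2 [⟨0, by decide⟩] (by decide) (C := [([], [1]), ([], [1, 0])]) (by decide +kernel)
  · exact isReflG2.gen_cox coxG2 [⟨0, by decide⟩] (by decide) (C := [([], [1]), ([], [1, 0])]) (by decide +kernel)
  · exact isReflD4.gen_cox coxD4 [⟨0, by decide⟩, ⟨2, by decide⟩] (by decide)
      (C := [([], [1]), ([0], [0, 1]), ([], [2]), ([0, 2, 0], [0, 2, 0, 1])]) (by decide +kernel)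
  · exact isReflF4.gen_cox coxF4 [⟨0, by decide⟩, ⟨2, by decide⟩] (by decide)
      (C := [([], [1]), ([0], [0, 1]), ([], [2]), ([0], [0, 2])]) (by decide +kernel)
  · exact isReflE6.gen_cox coxE6 [⟨3, by decide⟩] (by decide)
      (C := [([0, 0, 0, 0, 0, 0, 0], [0, 0, 0, 0, 0, 0, 0, 1]), ([0, 0, 0, 1, 0, 0, 0], [0, 0, 0, 1, 0, 0, 0, 1]),
        ([1, 0, 0, 0, 0], [1, 0, 0, 0, 0, 1]), ([], [1]), ([0], [0, 1]), ([0, 0], [0, 0, 1])]) (by decide +kernel)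
  · exact isReflE7.gen_cox coxE7 [⟨3, by decide⟩] (by decide)
      (C := [([0, 0, 0, 0, 1, 0, 0, 0, 0], [0, 0, 0, 0, 1, 0, 0, 0, 0, 1]),
        ([1, 0, 1, 0, 0, 0, 0, 0], [1, 0, 1, 0, 0, 0, 0, 0, 1]), ([1, 0, 0, 0, 0, 0], [1, 0, 0, 0, 0, 0, 1]),
        ([], [1]), ([0], [0, 1]), ([0, 0], [0, 0, 1]), ([0, 0, 0], [0, 0, 0, 1])]) (by decide +kernel)
  · exact isReflE8.gen_cox coxE8 [⟨3, by decide⟩] (by decide)
      (C := [([0, 0, 0, 0, 0, 1, 0, 0, 0, 0, 0, 0, 0, 0, 0], [0, 0, 0, 0, 0, 1, 0, 0, 0, 0, 0, 0, 0, 0, 0, 1]),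
        ([1, 0, 1, 0, 0, 0, 0, 0, 0], [1, 0, 1, 0, 0, 0, 0, 0, 0, 1]), ([1, 0, 0, 0, 0, 0, 0], [1, 0, 0, 0, 0, 0, 0, 1]),
        ([], [1]), ([0], [0, 1]), ([0, 0], [0, 0, 1]), ([0, 0, 0], [0, 0, 0, 1]), ([0, 0, 0, 0], [0, 0, 0, 0, 1])])
      (by decide +kernel)

end Cfsg.Agent.S2419
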