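import Cfsg.Statements.S2457
import Cfsg.Agent.SzCh.Sig
import Mathlib.Tactic.Group

set_option autoImplicit false
open Cfsg

namespace Cfsg.Agent.S2457
open scoped commutatorElement

/-- A strong covering result in the direction of Thompson's conjecture (non-identity elements) for the Suzuki groups: let q = 2^(2m+1) ≥ 8, F the field with q elements and Sz(q) the Suzuki group over F. For every element x of Sz(q) of order greater than 2, every non-identity element of Sz(q) is a product of two conjugates of x. -/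
theorem result {F : Type*} [Field F] [Fintype F] (m : ℕ) (hm : 1 ≤ m) (hF : Fintype.card F = 2 ^ (2 * m + 1))
    (x : Cfsg.Lie.Sz F (2 ^ (m + 1))) (hx2 : 2 < orderOf x) : ∀ g : Cfsg.Lie.Sz F (2 ^ (m + 1)), g ≠ 1 → ∃ u v : Cfsg.Lie.Sz F (2 ^ (m + 1)), g = (u * x * u⁻¹) * (v * x * v⁻¹) := by
  intro g hg
  let := Sz.titsOfCard hm hF
  let := Sz.lieRep (Sz.titsOfCard_θ hm hF)
  have := Sz.finite_G F (Cfsg.Lie.Sz F (2 ^ (m + 1)))
  have := Fintype.ofFinite (Cfsg.Lie.Sz F (2 ^ (m + 1)))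
  have h := SzCh.card_pairs_ge F (x := x) (fun e => by
    have := orderOf_le_of_pow_eq_one two_pos (by rw [sq, e] : x ^ 2 = 1); omega) hg
  have h0 := Nat.card_pos (α := Cfsg.Lie.Sz F (2 ^ (m + 1)))
  obtain ⟨⟨⟨u, v⟩, e⟩⟩ := (Nat.card_pos_iff.1 (Nat.pos_of_mul_pos_left (h0.trans_le h))).1
  exact ⟨u, v, e.symm⟩

end Cfsg.Agent.S2457
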