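import Cfsg.Statements.S2468
import Cfsg.Agent.Classical.Eig6

set_option autoImplicit false
open Cfsg

namespace Cfsg.Agent.S2468

open Cfsg.Agent.Classical Cfsg.Agent.Classical.Eig Cfsg.Agent.Elu Cfsg.Agent.Geom

/-- Adjacency of two odd primes in the prime graph of PSL(n,q): let F be a finite field of characteristic p with q elements, n ≥ 2 with PSL(n,F) simple, and let r ≠ s be odd primes different from p dividing the order of PSL(n,F). Let k and l be the multiplicative orders of q modulo r and modulo s, and suppose 2 ≤ k ≤ l. Then PSL(n,F) has NO element of order r·s if and only if k + l > n and k does not divide l. -/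
theorem result {F : Type*} [Field F] [Fintype F] (p : ℕ) [Fact p.Prime] [CharP F p] (n : ℕ) (hn : 2 ≤ n) (hsmall : n = 2 → 4 ≤ Fintype.card F)
    (r s : ℕ) (hr : r.Prime) (hs : s.Prime) (hr2 : r ≠ 2) (hs2 : s ≠ 2) (hrp : r ≠ p) (hsp : s ≠ p) (hrs : r ≠ s)
    (hrG : r ∣ Nat.card (Matrix.ProjectiveSpecialLinearGroup (Fin n) F)) (hsG : s ∣ Nat.card (Matrix.ProjectiveSpecialLinearGroup (Fin n) F))
    (k l : ℕ) (hk : k = orderOf ((Fintype.card F : ℕ) : ZMod r)) (hl : l = orderOf ((Fintype.card F : ℕ) : ZMod s))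
    (h2k : 2 ≤ k) (hkl : k ≤ l) :
    (r * s ∉ Set.range (orderOf : Matrix.ProjectiveSpecialLinearGroup (Fin n) F → ℕ)) ↔ (n < k + l ∧ ¬ k ∣ l) := by
  have hp : p.Prime := Fact.out
  have hc := (Nat.coprime_primes hr hs).2 hrs
  have hr' := mt (Nat.prime_dvd_prime_iff_eq hp hr).1 hrp.symm
  have hs' := mt (Nat.prime_dvd_prime_iff_eq hp hs).1 hsp.symm
  obtain ⟨ζ, hζ⟩ := exists_ord (F := F) hr'
  obtain ⟨ξ, hξ⟩ := exists_ord (F := F) hs'
  rw [← Nat.card_eq_fintype_card] at hk hl
  have h1 : per (qz F) ζ = k := hk ▸ per_eq_orderOf hζ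
  have h2 : per (qz F) ξ = l := hl ▸ per_eq_orderOf hξ
  have h3 := coprime_of_per (Q := qz F) hr hζ (by omega)
  have h4 := coprime_of_per (Q := qz F) hs hξ (by omega)
  have := Fact.mk hs
  have h5 := exists_prime_orderOf_dvd_card' s hsG
  rw [← Set.mem_range, spec_PSL (p := p)] at h5
  have h6 := per_le_of_mem du_card hs hsp h5 dvd_rfl hξ
  rw [spec_PSL (p := p), ← not_le, ← not_or, not_iff_not]
  constructor
  · intro h
    refine or_iff_not_imp_right.2 fun h7 => (add_le_of_mem du_card hr hs hrp hsp h hζ hξ).elim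
      (by omega) fun h8 => ?_
    rw [h1, h2] at h8
    obtain ⟨t, ht⟩ := Nat.dvd_lcm_right k l
    have := Nat.lcm_pos (show 0 < k by omega) (show 0 < l by omega)
    rcases t with _ | _ | t
    · omega
    · exact (h7 (by simpa [ht] using Nat.dvd_lcm_left k l)).elim
    · nlinarith
  · rintro (h | h)
    · exact mem_spec_pad (A := (ζ, 1) ::ₘ {(ξ, 1)}) (by simp) (by simp; omega) (by
        simp [zpow_geo_of_coprime (hζ ▸ h3) (zpow_per _ _), zpow_geo_of_coprime (hξ ▸ h4) (zpow_per _ _)])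
        (fun k h => h.kil (Multiset.mem_cons_self _ _) (hζ ▸ h3)) fun k => by
          simp [hζ, hξ, ← hc.lcm_eq_mul, Nat.lcm_dvd_iff]
    obtain ⟨θ, hθ⟩ := exists_ord (F := F) (p := p) (m := r * s) fun h =>
      ((Nat.Prime.dvd_mul hp).1 h).elim hr' hs'
    have h7 : per (qz F) θ ∣ l := per_dvd_iff'.2 (by
      rw [hθ, Nat.cast_mul]
      exact (Nat.isCoprime_iff_coprime.2 hc).mul_dvd (hζ ▸ per_dvd_iff'.1 (h1 ▸ h))
        (hξ ▸ per_dvd_iff'.1 h2.dvd))
    have h8 : (orderOf θ).Coprime (qz F - 1).natAbs := hθ ▸ Nat.Coprime.mul_left h3 h4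
    have := Nat.le_of_dvd (by omega) h7
    exact mem_spec_pad (A := {(θ, 1)}) (by simp) (by simp; omega)
      (by simp [zpow_geo_of_coprime h8 (zpow_per _ _)])
      (fun k h => h.kil (Multiset.mem_singleton_self _) h8) fun k => by simp [hθ]

end Cfsg.Agent.S2468
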