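import Cfsg.Statements.S2469
import Cfsg.Agent.Classical.Eig5

set_option autoImplicit false
open Cfsg

namespace Cfsg.Agent.S2469

open Cfsg.Agent.Classical Cfsg.Agent.Classical.Eig Cfsg.Agent.Elu Cfsg.Agent.Geom

/-- Adjacency of two odd primes in the prime graph of PSp(2n,q): let F be a finite field of characteristic p with q elements, n ≥ 2 with PSp(2n,F) simple, and let r ≠ s be odd primes different from p dividing the order of PSp(2n,F). Let k, l be the multiplicative orders of q modulo r and s, put η(m) = m for odd m and η(m) = m/2 for even m, and suppose η(k) ≤ η(l). Then PSp(2n,F) has NO element of order r·s if and only if η(k) + η(l) > n and l/k is not an odd integer. -/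
theorem result {F : Type*} [Field F] [Fintype F] (p : ℕ) [Fact p.Prime] [CharP F p] (n : ℕ) (hn : 2 ≤ n) (hsmall : n = 2 → 3 ≤ Fintype.card F)
    (r s : ℕ) (hr : r.Prime) (hs : s.Prime) (hr2 : r ≠ 2) (hs2 : s ≠ 2) (hrp : r ≠ p) (hsp : s ≠ p) (hrs : r ≠ s)
    (hrG : r ∣ Nat.card (Cfsg.PSp n F)) (hsG : s ∣ Nat.card (Cfsg.PSp n F))
    (k l ηk ηl : ℕ) (hk : k = orderOf ((Fintype.card F : ℕ) : ZMod r)) (hl : l = orderOf ((Fintype.card F : ℕ) : ZMod s))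
    (hηk : (Odd k ∧ ηk = k) ∨ (Even k ∧ 2 * ηk = k)) (hηl : (Odd l ∧ ηl = l) ∨ (Even l ∧ 2 * ηl = l)) (hkl : ηk ≤ ηl) :
    (r * s ∉ Set.range (orderOf : Cfsg.PSp n F → ℕ)) ↔ (n < ηk + ηl ∧ ¬ ∃ t : ℕ, Odd t ∧ l = k * t) := by
  have hp : p.Prime := Fact.out
  have hr3 : 2 < r := lt_of_le_of_ne hr.two_le hr2.symm
  have hs3 : 2 < s := lt_of_le_of_ne hs.two_le hs2.symm
  have hc := (Nat.coprime_primes hr hs).2 hrs
  have ho := (hr.odd_of_ne_two hr2).mul (hs.odd_of_ne_two hs2)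
  have hr' := mt (Nat.prime_dvd_prime_iff_eq hp hr).1 hrp.symm
  have hs' := mt (Nat.prime_dvd_prime_iff_eq hp hs).1 hsp.symm
  obtain ⟨ζ, hζ⟩ := exists_ord (F := F) hr'
  obtain ⟨ξ, hξ⟩ := exists_ord (F := F) hs'
  have h1 := sq_ne_one_of_dvd hr3 hζ.symm.dvd
  have h1' := sq_ne_one_of_dvd hs3 hξ.symm.dvd
  rw [← Nat.card_eq_fintype_card] at hk hl
  have hk0 : 0 < k := hk ▸ per_eq_orderOf hζ ▸ per_card_pos ζ
  have hl0 : 0 < l := hl ▸ per_eq_orderOf hξ ▸ per_card_pos ξ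
  have h2 : eta (qz F) ζ = ηk := eta_prime hr hr2 hζ hk hk0 hηk
  have h2' : eta (qz F) ξ = ηl := eta_prime hs hs2 hξ hl hl0 hηl
  have := Fact.mk hr
  have := Fact.mk hs
  have hm : ∀ {r : ℕ} {k j}, k = orderOf (Nat.card F : ZMod r) →
      ((r : ℤ) ∣ qz F ^ j - 1 ↔ k ∣ j) := fun h => by
    rw [h, orderOf_dvd_iff_pow_eq_one, ← ZMod.intCast_zmod_eq_zero_iff_dvd]; simp [sub_eq_zero]
  have hm' : ∀ {r : ℕ} [Fact r.Prime] {k j}, r ≠ 2 → k = orderOf (Nat.card F : ZMod r) →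
      ((r : ℤ) ∣ qz F ^ j + 1 ↔ ¬ k ∣ j ∧ k ∣ 2 * j) := fun h0 h => by
    rw [h, ← pow_eq_neg_one_iff h0, ← dvd_pow_add_one_iff]; norm_cast
  rw [← not_le, ← not_or, not_iff_not]
  constructor
  · intro h
    obtain ⟨A, h3, h4, h5⟩ := exists_of_mem_PSp (p := p) h
    obtain ⟨z, hz, h6⟩ := exists_dvd_ord hp (fun k h => (h5 k).1 h.kill) hr hrp (dvd_mul_right _ _)
    obtain ⟨w, hw, h7⟩ := exists_dvd_ord hp (fun k h => (h5 k).1 h.kill) hs hsp (dvd_mul_left _ _)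
    have h8 := edim_ss_le h3
    have h9 := eta_dvd_of_dvd (Q := qz F) (hζ ▸ h6)
    have h10 := eta_dvd_of_dvd (Q := qz F) (hξ ▸ h7)
    have h11 := Nat.le_of_dvd (eta_pos _) h9
    have h12 := Nat.le_of_dvd (eta_pos _) h10
    obtain ⟨A, rfl⟩ := Multiset.exists_cons_of_mem hz
    simp only [ss_cons_ne (sq_ne_one_of_dvd hr3 h6), edim_cons, mul_one] at h8
    rcases Multiset.mem_cons.1 hw with rfl | hw
    · refine or_iff_not_imp_left.2 fun h13 => ?_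
      obtain ⟨t, ht⟩ := h10
      have h14 := eta_pos w.1
      obtain rfl : t = 1 := by
        rw [h2'] at ht
        rcases t with _ | _ | t <;> simp at ht ⊢ <;> nlinarith
      rw [mul_one, h2'] at ht
      rcases eta_dvd_iff'.1 ht.dvd with h15 | h15
      · obtain ⟨t, h16⟩ := (hm hk).1 ((Int.natCast_dvd_natCast.2 h6).trans h15)
        have h17 := Nat.le_of_dvd (by omega) ((hm hl).1 ((Int.natCast_dvd_natCast.2 h7).trans h15))
        obtain ⟨h18, rfl⟩ := hηl.resolve_right (by omega)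
        exact ⟨t, (Nat.odd_mul.1 (h16 ▸ h18)).2, h16⟩
      · obtain ⟨h16, t, h17⟩ := (hm' hr2 hk).1 ((Int.natCast_dvd_natCast.2 h6).trans h15)
        obtain ⟨-, rfl⟩ := hηl.resolve_left fun h =>
          ((hm' hs2 hl).1 ((Int.natCast_dvd_natCast.2 h7).trans h15)).1 h.2.symm.dvd
        refine ⟨t, Nat.not_even_iff_odd.1 ?_, h17⟩
        rintro ⟨t, rfl⟩
        exact h16 ⟨t, by rw [mul_add] at h17; omega⟩
    · have := eta_le_edim_ss hw (sq_ne_one_of_dvd hs3 h7)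
      exact .inl (by omega)
  · rintro (h | ⟨t, h3, h4⟩)
    · exact (SpR.of_ne (A := (ζ, 1) ::ₘ {(ξ, 1)}) (by simp) (by simp [h1, h1'])).mem_pad (p := p)
        (by rw [bdim_of_ne (by simp [h1, h1'])]; simp [h2, h2']; omega) (.inl ho) fun k => by
          simp [hζ, hξ, ← hc.lcm_eq_mul, Nat.lcm_dvd_iff]
    obtain ⟨A, h5, h6, h7⟩ := exists_of_mem_PSp (p := p) (exists_prime_orderOf_dvd_card' s hsG)
    obtain ⟨z, hz, h8⟩ := exists_dvd_ord hp (fun k h => (h7 k).1 h.kill) hs hsp dvd_rfl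
    have h9 := edim_ss_le h5
    have h10 := eta_le_edim_ss hz (sq_ne_one_of_dvd hs3 h8)
    have h11 := Nat.le_of_dvd (eta_pos _) (eta_dvd_of_dvd (Q := qz F) (hξ ▸ h8))
    obtain ⟨θ, hθ⟩ := exists_ord (F := F) (p := p) (m := r * s) fun h =>
      ((Nat.Prime.dvd_mul hp).1 h).elim hr' hs'
    have h12 := sq_ne_one_of_dvd hr3 (hθ ▸ dvd_mul_right r s)
    have h13 : eta (qz F) θ ∣ ηl := eta_dvd_iff'.2 (by
      rw [hθ, Nat.cast_mul]
      have hc' := Nat.isCoprime_iff_coprime.2 hc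
      rcases hηl with ⟨-, rfl⟩ | ⟨-, rfl⟩
      · exact .inl (hc'.mul_dvd ((hm hk).2 ⟨t, h4⟩) ((hm hl).2 dvd_rfl))
      · refine .inr (hc'.mul_dvd ((hm' hr2 hk).2 ⟨?_, t, h4⟩) ((hm' hs2 hl).2
          ⟨fun h => by have := Nat.le_of_dvd (by omega) h; omega, dvd_rfl⟩))
        rintro ⟨u, rfl⟩
        rw [mul_left_comm, Nat.mul_right_inj hk0.ne'] at h4
        exact Nat.not_even_iff_odd.2 h3 (h4 ▸ even_two_mul u))
    exact (SpR.of_ne (pos_eb θ ηl) (ne_eb h12 _)).mem_pad (p := p) (by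
      rw [bdim_of_ne (ne_eb h12 _), edim_eb h13]; omega) (.inl ho) fun k => by
        rw [kil_eb h13 (h2' ▸ eta_pos ξ), hθ]

end Cfsg.Agent.S2469
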