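import Cfsg.Statements.S2470
import Cfsg.Agent.Classical.Eig6

set_option autoImplicit false
open Cfsg

namespace Cfsg.Agent.S2470

open Cfsg.Agent.Classical Cfsg.Agent.Classical.Eig Cfsg.Agent.Elu Cfsg.Agent.Geom

/-- Adjacency of an odd prime and the characteristic in the prime graph of PSL(n,q): let F be a finite field of characteristic p with q elements, n ≥ 2 with PSL(n,F) simple, and let r ≠ p be an odd prime dividing the order of PSL(n,F), with k the multiplicative order of q modulo r. Then PSL(n,F) has NO element of order r·p if and only if either k > n − 2, or n = 3, r = 3 and 3 divides q − 1 exactly once. -/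
theorem result {F : Type*} [Field F] [Fintype F] (p : ℕ) [Fact p.Prime] [CharP F p] (n : ℕ) (hn : 2 ≤ n) (hsmall : n = 2 → 4 ≤ Fintype.card F)
    (r : ℕ) (hr : r.Prime) (hr2 : r ≠ 2) (hrp : r ≠ p) (hrG : r ∣ Nat.card (Matrix.ProjectiveSpecialLinearGroup (Fin n) F))
    (k : ℕ) (hk : k = orderOf ((Fintype.card F : ℕ) : ZMod r)) :
    (r * p ∉ Set.range (orderOf : Matrix.ProjectiveSpecialLinearGroup (Fin n) F → ℕ)) ↔
      (n - 2 < k ∨ (n = 3 ∧ r = 3 ∧ 3 ∣ Fintype.card F - 1 ∧ ¬ 9 ∣ Fintype.card F - 1)) := by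
  have hp : p.Prime := Fact.out
  have hc := (Nat.coprime_primes hr hp).2 hrp
  have hr' := mt (Nat.prime_dvd_prime_iff_eq hp hr).1 hrp.symm
  obtain ⟨ζ, hζ⟩ := exists_ord (F := F) hr'
  have hq := Fintype.one_lt_card (α := F)
  have hu : (qz F - 1).natAbs = Fintype.card F - 1 := by rw [qz, Nat.card_eq_fintype_card]; omega
  rw [← Nat.card_eq_fintype_card] at hk
  have h1 : per (qz F) ζ = k := hk ▸ per_eq_orderOf hζ
  have h2 := per_card_pos ζ
  by_cases h3 : per (qz F) ζ = 1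
  swap
  · have h4 := coprime_of_per hr hζ h3
    have h5 : ¬ (n = 3 ∧ r = 3 ∧ 3 ∣ Fintype.card F - 1 ∧ ¬ 9 ∣ Fintype.card F - 1) := by
      rintro ⟨-, rfl, h, -⟩
      exact (hr.coprime_iff_not_dvd.1 h4) (hu ▸ h)
    rw [or_iff_left h5, spec_PSL (p := p), ← not_le, not_iff_not]
    refine ⟨fun h => by have := per_add_two_le du_card hr hrp h hζ h3; omega, fun h => ?_⟩
    exact mem_spec_pad (A := (1, 2) ::ₘ {(ζ, 1)}) (by simp) (by simp; omega) (by
      simp [zpow_geo_of_coprime (hζ ▸ h4) (zpow_per _ _)])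
      (fun k h => h.kil (Multiset.mem_cons_self _ _) (by simp)) fun k => by
        simp [hζ, up_two hp.one_lt, ← hc.lcm_eq_mul, Nat.lcm_dvd_iff, and_comm]
  have h4 : r ∣ (qz F - 1).natAbs :=
    hζ ▸ orderOf_dvd_of_pow_eq_one (fix_iff.1 (per_eq_one_iff.1 h3))
  obtain rfl | rfl | h5 : n = 2 ∨ n = 3 ∨ 4 ≤ n := by omega
  · refine iff_of_true ?_ (.inl (by omega))
    rw [spec_PSL (p := p)]
    rintro ⟨A, ⟨h5, h6, -⟩, h7⟩
    obtain ⟨⟨ξ, e⟩, hw, h8⟩ := exists_two_le (fun k h => (h7 k).1 h.kill) (dvd_mul_left _ _)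
    obtain ⟨A, rfl⟩ := Multiset.exists_cons_of_mem hw
    have := card_le_tdim per_card_pos (pos_cons.1 h5).2
    have := per_card_pos ξ
    simp only [tdim_cons] at h6 h8
    obtain rfl : A = 0 := Multiset.card_eq_zero.1 (by nlinarith)
    have h9 : per (qz F) ξ = 1 := by nlinarith
    obtain rfl : e = 2 := by simpa [h9] using h6
    have := (h7 p).1 (kill_singleton.2 ⟨by simp [zpow_sub_one, per_eq_one_iff.1 h9],
      (up_two hp.one_lt).2 dvd_rfl⟩)
    have := Nat.le_of_dvd hp.pos this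
    nlinarith [hr.two_le, hp.pos]
  · have hd := Nat.gcd_dvd_right 3 (qz F - 1).natAbs
    have h6 : ∀ {a b}, ¬ p ∣ a → b ∣ a → ¬ r * p ∣ a / b := fun h h' h'' =>
      h (((dvd_mul_left _ _).trans h'').trans (Nat.div_dvd_of_dvd h'))
    have h7 := h6 (not_dvd_geo hp.one_lt (char_dvd_card (F := F)) three_pos)
      (gcd_geo (qz F) 3 ▸ Nat.gcd_dvd_left _ _)
    have h8 := h6 (not_dvd_pow_sub hp.one_lt (char_dvd_card (F := F)) two_pos)
      (hd.trans (Int.natAbs_dvd_natAbs.2 (by simpa using sub_dvd_pow_sub_pow (qz F) 1 2)))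
    have h9 := h6 (not_dvd_pow_sub hp.one_lt (char_dvd_card (F := F)) one_pos) (one_dvd _)
    have h10 : ¬ r * p ∣ p ^ Nat.clog p 3 := fun h =>
      hrp ((Nat.prime_dvd_prime_iff_eq hr hp).1 (hr.dvd_of_dvd_pow ((dvd_mul_right _ _).trans h)))
    rw [pow_one, Nat.div_one] at h9
    rw [spec_three (spec_PSL 3) du_card char_dvd_card, or_iff_right h7, or_iff_right h8,
      or_iff_right h9, or_iff_left h10, or_iff_right (by omega), Nat.mul_div_assoc _ hd, mul_comm r,
      Nat.mul_dvd_mul_iff_left hp.pos, Nat.dvd_div_iff_mul_dvd hd, ← hu]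
    by_cases h : r = 3
    · subst h
      simp [h4, Nat.gcd_eq_left h4]
    · exact iff_of_false (not_not.2 ((((Nat.coprime_primes Nat.prime_three hr).2 (Ne.symm h)).coprime_dvd_left
        (Nat.gcd_dvd_left _ _)).mul_dvd_of_dvd_of_dvd hd h4)) (h ·.2.1)
  · refine iff_of_false (not_not.2 ?_) (by omega)
    rw [spec_PSL (p := p)]
    exact mem_spec_pad (A := (1, 2) ::ₘ (ζ, 1) ::ₘ {(ζ⁻¹, 1)}) (by simp)
      (by simp [per_inv, h3]; omega) (by simp [per_inv, h3])
      (fun k h => h.kil (Multiset.mem_cons_self _ _) (by simp)) fun k => by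
        simp [hζ, up_two hp.one_lt, ← hc.lcm_eq_mul, Nat.lcm_dvd_iff, and_comm]

end Cfsg.Agent.S2470
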