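import Cfsg.Statements.S2472
import Cfsg.Agent.Classical.Eig5

set_option autoImplicit false
open Cfsg

namespace Cfsg.Agent.S2472

open Cfsg.Agent.Classical Cfsg.Agent.Classical.Eig Cfsg.Agent.Elu Cfsg.Agent.Geom

/-- Adjacency of a prime and the characteristic in the prime graph of PSp(2n,q): let F be a finite field of characteristic p with q elements, n ≥ 2 with PSp(2n,F) simple, and let r ≠ p be an odd prime dividing the order of PSp(2n,F), with k the multiplicative order of q modulo r and η(k) = k for odd k, k/2 for even k. Then PSp(2n,F) has NO element of order r·p if and only if η(k) > n − 1. -/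
theorem result {F : Type*} [Field F] [Fintype F] (p : ℕ) [Fact p.Prime] [CharP F p] (n : ℕ) (hn : 2 ≤ n) (hsmall : n = 2 → 3 ≤ Fintype.card F)
    (r : ℕ) (hr : r.Prime) (hr2 : r ≠ 2) (hrp : r ≠ p) (hrG : r ∣ Nat.card (Cfsg.PSp n F))
    (k ηk : ℕ) (hk : k = orderOf ((Fintype.card F : ℕ) : ZMod r)) (hηk : (Odd k ∧ ηk = k) ∨ (Even k ∧ 2 * ηk = k)) :
    (r * p ∉ Set.range (orderOf : Cfsg.PSp n F → ℕ)) ↔ n - 1 < ηk := by
  have hp : p.Prime := Fact.out
  have hr3 : 2 < r := lt_of_le_of_ne hr.two_le hr2.symm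
  have hc := (Nat.coprime_primes hr hp).2 hrp
  obtain ⟨ζ, hζ⟩ := exists_ord (F := F) (p := p) (m := r) fun h =>
    hrp ((Nat.prime_dvd_prime_iff_eq hp hr).1 h).symm
  have h1 := sq_ne_one_of_dvd hr3 hζ.symm.dvd
  rw [← Nat.card_eq_fintype_card] at hk
  have h2 : eta (qz F) ζ = ηk := eta_prime hr hr2 hζ hk (hk ▸ per_eq_orderOf hζ ▸ per_card_pos ζ) hηk
  rw [← not_le, not_iff_not]
  constructor
  · intro h
    obtain ⟨A, h3, h4, h5⟩ := exists_of_mem_PSp (p := p) h
    obtain ⟨z, hz, h6⟩ := exists_dvd_ord hp (fun k h => (h5 k).1 h.kill) hr hrp (dvd_mul_right _ _)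
    obtain ⟨w, hw, h7⟩ := exists_two_le (fun k h => (h5 k).1 h.kill) (dvd_mul_left _ _)
    have := edim_ss_add_le h3 hw h7
    have := eta_le_edim_ss hz (sq_ne_one_of_dvd hr3 h6)
    have := Nat.le_of_dvd (eta_pos _) (eta_dvd_of_dvd (Q := qz F) (hζ ▸ h6))
    omega
  · intro h
    refine ((SpR.of_ne (A := {(ζ, 1)}) (by simp) (by simpa)).add (SpR.unip one_pos)).mem_pad (p := p)
      (by rw [bdim_add, bdim_of_ne (by simpa)]; simp [bdim_of_sq, h2]; omega) (.inr ⟨2, by simp⟩)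
      fun k => ?_
    simp [hζ, up_two hp.one_lt, ← hc.lcm_eq_mul, Nat.lcm_dvd_iff]

end Cfsg.Agent.S2472
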