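import Cfsg.Statements.S2509
import Cfsg.Agent.Classical.Pron11

set_option autoImplicit false
open Cfsg

namespace Cfsg.Agent.S2509

open Cfsg.Agent.Classical

/-- Let G be a finite direct product of groups PSp_{2m_i}(F_i) (the symplectic group on a 2m_i-dimensional space modulo its centre), where each m_i is a power of 2 (m_i = 1, giving PSL₂, is allowed), each F_i is a finite field of odd order, and each factor PSp_{2m_i}(F_i) is a simple group. Then every subgroup H of G of odd index is pronormal in G: for every g ∈ G the subgroups H and gHg⁻¹ are conjugate by an element of the subgroup they generate. -/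
theorem result {t : ℕ}
    (m : Fin t → ℕ) (F : Fin t → Type*) [∀ i, Field (F i)] [∀ i, Fintype (F i)]
    (hm : ∀ i, ∃ k : ℕ, m i = 2 ^ k) (hodd : ∀ i, Odd (Fintype.card (F i)))
    (hs : ∀ i, IsSimpleGroup (Cfsg.PSp (m i) (F i)))
    (H : Subgroup (Π i, Cfsg.PSp (m i) (F i))) (hH : Odd H.index) : Cfsg.IsPronormal H := by
  have h2 : ∀ i, NeZero (2 : F i) := fun i => ⟨fun h => by
    have := FiniteField.odd_card_of_char_ne_two (F := F i)
    have h3 : ringChar (F i) = 2 := by
      have : ringChar (F i) ∣ 2 := (ringChar.spec _ _).1 (by exact_mod_cast h)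
      exact ((Nat.dvd_prime Nat.prime_two).1 this).resolve_left CharP.ringChar_ne_one
    have := FiniteField.even_card_of_char_two h3
    have := Nat.odd_iff.1 (hodd i)
    omega⟩
  choose k hk using hm
  have h := fun i => Psp.op_U (F := F i) (κ := Fin (m i)) (n := k i) (by simp [hk])
  choose S hS using fun i => (h i).2
  have e := fun i => (Psp.exists_equiv_Sp (F := F i) (m i)).some
  exact (op_pi (fun i => (h i).1) S hS).of_surj
    (MonoidHom.piMap fun i => (QuotientGroup.mk' _).comp (e i).toMonoidHom)
    (Function.Surjective.piMap fun i => (QuotientGroup.mk'_surjective _).comp (e i).surjective) H hH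

end Cfsg.Agent.S2509
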