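import Cfsg.Statements.S2530
import Cfsg.Agent.Pres.Cox

set_option autoImplicit false
open Cfsg

namespace Cfsg.Agent.S2530

/-- The Coxeter presentation of the symmetric group: for every n, the symmetric group on n+1 letters is the Coxeter group of type A_n with the adjacent transpositions (i, i+1) as simple reflections; that is, it is presented by generators r_1, …, r_n subject to r_i² = 1, (r_i r_j)² = 1 for |i − j| > 1 and (r_i r_{i+1})³ = 1, with r_i mapping to (i, i+1). -/
theorem result (n : ℕ) :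
    ∃ cs : CoxeterSystem (CoxeterMatrix.A n) (Equiv.Perm (Fin (n + 1))), ∀ i : Fin n, cs.simple i = Equiv.swap i.castSucc i.succ := by
  have hc : ∀ {a b c d : Fin (n + 1)}, a ≠ c → a ≠ d → b ≠ c → b ≠ d →
      Commute (Equiv.swap a b) (Equiv.swap c d) := fun h1 h2 h3 h4 => by
    change _ = _
    rw [Equiv.mul_swap_eq_swap_mul, Equiv.swap_apply_of_ne_of_ne h1.symm h3.symm,
      Equiv.swap_apply_of_ne_of_ne h2.symm h4.symm]
  have hb : ∀ {a b c : Fin (n + 1)}, a ≠ b → a ≠ c → b ≠ c →
      (Equiv.swap a b * Equiv.swap b c) ^ 3 = 1 := fun {a b c} h1 h2 h3 => by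
    have e2 : Equiv.swap c a = Equiv.swap b c * Equiv.swap b a * (Equiv.swap b c)⁻¹ := by
      rw [← Equiv.swap_apply_apply, Equiv.swap_apply_of_ne_of_ne h1 h2, Equiv.swap_apply_left]
    have e4 : Equiv.swap a c = Equiv.swap a b * Equiv.swap b c * (Equiv.swap a b)⁻¹ := by
      rw [← Equiv.swap_apply_apply, Equiv.swap_apply_of_ne_of_ne h2.symm h3.symm,
        Equiv.swap_apply_right]
    rw [Equiv.swap_inv] at e4 e2
    calc _ = (Equiv.swap a b * Equiv.swap b c * Equiv.swap a b) *
          (Equiv.swap b c * Equiv.swap a b * Equiv.swap b c) := by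
          simp only [pow_succ, pow_zero, one_mul, mul_assoc]
      _ = 1 := by rw [← e4, Equiv.swap_comm a b, ← e2, Equiv.swap_comm c a, Equiv.swap_mul_self]
  have hl : (CoxeterMatrix.A n).IsLiftable
      fun i : Fin n => Equiv.swap i.castSucc i.succ := by
    intro i j
    beta_reduce
    by_cases h : i = j
    · subst h; simp
    by_cases h1 : (j : ℕ) + 1 = i
    · have e : j.succ = i.castSucc := Fin.ext h1
      have : CoxeterMatrix.A n i j = 3 := by simp [CoxeterMatrix.A, h, h1]
      rw [this, Equiv.swap_comm i.castSucc, Equiv.swap_comm j.castSucc, e]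
      refine hb ?_ ?_ ?_ <;> simp only [Ne, Fin.ext_iff, Fin.val_succ, Fin.val_castSucc] <;> omega
    by_cases h2 : (i : ℕ) + 1 = j
    · have e : j.castSucc = i.succ := Fin.ext h2.symm
      have : CoxeterMatrix.A n i j = 3 := by simp [CoxeterMatrix.A, h, h2]
      rw [this, e]
      refine hb ?_ ?_ ?_ <;> simp only [Ne, Fin.ext_iff, Fin.val_succ, Fin.val_castSucc] <;> omega
    · have : CoxeterMatrix.A n i j = 2 := by simp [CoxeterMatrix.A, h, h1, h2]
      rw [this, Commute.mul_pow, sq, sq, Equiv.swap_mul_self, Equiv.swap_mul_self, one_mul]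
      simp only [Fin.ext_iff] at h
      refine hc ?_ ?_ ?_ ?_ <;> simp only [Ne, Fin.ext_iff, Fin.val_succ, Fin.val_castSucc] <;> omega
  let cs := (CoxeterMatrix.A n).toCoxeterSystem
  let π := cs.lift ⟨_, hl⟩
  have hπ : ∀ i, π (cs.simple i) = Equiv.swap i.castSucc i.succ := cs.lift_apply_simple hl
  let s : ℕ → (CoxeterMatrix.A n).Group := fun i => if h : i < n then cs.simple ⟨i, h⟩ else 1
  have hs : ∀ i (h : i < n), s i = cs.simple ⟨i, h⟩ := fun i h => dif_pos h
  have hs' : ∀ i, ¬ i < n → s i = 1 := fun i h => dif_neg h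
  have h2 : ∀ i, s i * s i = 1 := fun i => by
    by_cases h : i < n
    · rw [hs i h, cs.simple_mul_simple_self]
    · rw [hs' i h, one_mul]
  have hi : ∀ i, (s i)⁻¹ = s i := fun i => inv_eq_of_mul_eq_one_right (h2 i)
  have inj := Pres.cox_inj (s := s) π (fun i => if h : i ≤ n then ⟨i, by omega⟩ else 0) n
    (fun i j h h' e => by simpa [h, h'] using e) h2 (fun i j h => by
      by_cases h' : j < n
      · have := cs.simple_mul_simple_pow ⟨i, by omega⟩ ⟨j, h'⟩
        have e : CoxeterMatrix.A n ⟨i, by omega⟩ ⟨j, h'⟩ = 2 := by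
          simp only [CoxeterMatrix.A, Matrix.of_apply, Fin.mk.injEq]
          rw [if_neg (by omega), if_neg (by omega)]
        rw [e, ← hs, ← hs, sq, mul_eq_one_iff_eq_inv, mul_inv_rev, hi, hi] at this
        exact this
      · rw [hs' j h']; exact Commute.one_right _) (fun i h => by
      have := cs.simple_mul_simple_pow ⟨i + 1, h⟩ ⟨i, by omega⟩
      have e : CoxeterMatrix.A n ⟨i + 1, h⟩ ⟨i, by omega⟩ = 3 := by simp [CoxeterMatrix.A]
      rw [e, ← hs, ← hs] at this
      rw [← mul_inv_eq_one, ← this]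
      simp only [mul_inv_rev, hi, pow_succ, pow_zero, one_mul, mul_assoc])
    (fun i h => by rw [hs i h, hπ, dif_pos h.le, dif_pos (by omega)]; rfl) n le_rfl
  have e : s '' {i | i < n} = Set.range cs.simple := by
    ext g
    exact ⟨fun ⟨i, h, e⟩ => ⟨⟨i, h⟩, (hs i h).symm.trans e⟩, fun ⟨i, e⟩ => ⟨i, i.2, (hs i i.2).trans e⟩⟩
  rw [e, cs.subgroup_closure_range_simple] at inj
  have h1 : Function.Injective π := (injective_iff_map_eq_one π).2 fun g => inj g trivial
  have h3 : Function.Surjective π := by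
    rw [← MonoidHom.mrange_eq_top, eq_top_iff, ← Equiv.Perm.mclosure_swap_castSucc_succ n,
      Submonoid.closure_le]
    rintro _ ⟨i, rfl⟩
    exact ⟨_, hπ i⟩
  exact ⟨cs.map (MulEquiv.ofBijective π ⟨h1, h3⟩), fun i => hπ i⟩

end Cfsg.Agent.S2530
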