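import Cfsg.Statements.S2553
import Cfsg.Agent.Perm.SylCount
import Cfsg.Agent.Perm.AutAlt
import Cfsg.Agent.Gen.GL42
import Cfsg.Agent.GW.D8A6
import Cfsg.Agent.S0496
import Cfsg.Agent.S0494
import Cfsg.Agent.S0984

set_option autoImplicit false
open Cfsg

namespace Cfsg.Agent.S2553

open Cfsg.Agent.Comp Cfsg.Agent.BG Cfsg.Agent.SylCount MulAction Subgroup Equiv
local notation "Sol" => Group.IsSolvable
local notation "S8" => Perm (Fin 8)
local notation "A8" => alternatingGroup (Fin 8)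

theorem card_A8 : #A8 = 20160 := by rw [nat_card_alternatingGroup]; simp [Nat.factorial]

theorem card_cent {y : S8} {p : ℕ} (hp : p = 5 ∨ p = 7) (hy : orderOf y = p) : #C1[y] = (8 - p).factorial * p := by
  obtain ⟨n, hn⟩ := Perm.cycleType_prime_order (σ := y) (by rcases hp with rfl | rfl <;> rw [hy] <;> norm_num)
  have h1 := y.sum_cycleType_le
  rw [hn, hy, Multiset.sum_replicate, smul_eq_mul, Fintype.card_fin] at h1
  obtain rfl : n = 0 := by rcases hp with rfl | rfl <;> omega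
  rw [Perm.nat_card_centralizer, hn, hy]; simp

theorem exists_elt {A : Subgroup S8} {p : ℕ} (hp : p.Prime) (h : p ∣ #A) : ∃ y ∈ A, orderOf y = p :=
  have := Fact.mk hp
  let ⟨y, hy⟩ := exists_prime_orderOf_dvd_card' (G := A) p h
  ⟨y, y.2, (orderOf_coe y).trans hy⟩

theorem comm2 {A B : Subgroup S8} (hA : A ≤ A8) (hB : B ≤ A8) (sA : ¬ Sol A) (sB : ¬ Sol B) (h : A ≤ C[B])
    (hi : A ⊓ B = ⊥) : False := by
  have h1 : ∀ {A : Subgroup S8}, A ≤ A8 → ¬ Sol A → 5 ∣ #A ∨ 7 ∣ #A := fun {A} hA sA => by_contra fun h =>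
    sA (Char.isSolvable_of_two_primes (p := 2) (q := 3) fun r hr hd => by
      have := (Nat.mem_primeFactorsList (n := 20160) (by norm_num)).2 ⟨hr, hd.trans (card_A8 ▸ card_dvd_of_le hA)⟩
      simp only [Nat.primeFactorsList_ofNat, List.mem_cons, List.not_mem_nil, or_false] at this
      have h5 : r ≠ 5 := by rintro rfl; exact h (.inl hd)
      have h7 : r ≠ 7 := by rintro rfl; exact h (.inr hd)
      omega)
  have h2 := card_A8 ▸ card_dvd_of_le (sup_le hA hB)
  rw [card_sup_TI (.inl (h.trans (cent_sub B))) hi] at h2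
  have h3 : ∀ {A B : Subgroup S8}, A ≤ C[B] → 5 ∣ #A → 7 ∣ #B → False := fun {A B} h a b => by
    obtain ⟨y, hy, e⟩ := exists_elt (by norm_num) b
    have := a.trans (card_dvd_of_le (h.trans (centralizer_le (Set.singleton_subset_iff.2 hy))))
    rw [card_cent (.inr rfl) e] at this
    exact absurd this (by decide)
  rcases h1 hA sA with a | a <;> rcases h1 hB sB with b | b
  · exact absurd ((Nat.mul_dvd_mul a b).trans h2) (by norm_num)
  · exact h3 h a b
  · exact h3 (le_centralizer_iff.1 h) b a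
  · exact absurd ((Nat.mul_dvd_mul a b).trans h2) (by norm_num)

theorem simple_card {G : Type*} [Group G] [Finite G] [IsSimpleGroup G] (hG : ¬ IsMulCommutative G)
    (h : Nat.card G ∣ 20160) : Nat.card G ∈ [60, 168, 360, 504, 2520, 20160] := by
  by_cases h1 : Nat.card G ≤ 1092
  · rcases S0496.result hG h1 with e | e | e | e | e | e <;> rw [e] at h ⊢ <;> first | decide | omega
  have h2 : ∀ n ∈ Nat.divisors 20160, ¬ n ≤ 1092 → n ∈ [60, 168, 360, 504, 2520, 20160] ∨
      ([(1, 5, 0), (1, 7, 0), (3, 5, 7)].any (Small.chk n 110) = true ∧ n < 110 * 110) := by decide +kernel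
  refine (h2 _ (Nat.mem_divisors.2 ⟨h, by norm_num⟩) h1).resolve_right fun ⟨a, b⟩ => ?_
  obtain ⟨c, -, hc⟩ := List.any_eq_true.1 a
  exact Small.not_chk (Small.not_isCyclic_of_not_comm hG) rfl b c hc

theorem norm7 {y : S8} (h : y ∈ A8) (hy : orderOf y = 7) : #(A8 ⊓ N[zpowers y]) = 21 := by
  have h1 := card_norm_dvd A8 (by norm_num) hy
  have h2 := card_cent (.inr rfl) hy ▸ card_dvd_of_le (inf_le_right : A8 ⊓ C1[y] ≤ _)
  obtain ⟨m, hm⟩ := hy ▸ order_dvd_norm h
  obtain ⟨i, h5, h6⟩ := syl (by norm_num) h hy (by rw [card_A8]; norm_num)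
  have h3 := Nat.le_of_dvd (by decide) (h1.trans (Nat.mul_dvd_mul_left _ h2))
  rw [card_A8] at h6
  rw [hm] at h6 h3 ⊢
  have : m ≤ 6 := by simp [Nat.factorial] at h3; omega
  interval_cases m <;> omega

theorem alt_or_perm {G α : Type*} [Group G] [Fintype α] [DecidableEq α] {n : ℕ} (hn : Fintype.card α = n)
    {φ : G →* Perm α} (hφ : Function.Injective φ) (h : n.factorial ≤ 2 * Nat.card G) :
    Nonempty (G ≃* alternatingGroup (Fin n)) ∨ Nonempty (G ≃* Perm (Fin n)) := by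
  let ψ := (Fintype.equivFinOfCardEq hn).permCongrHom.toMonoidHom.comp φ
  have hψ : Function.Injective ψ := (Fintype.equivFinOfCardEq hn).permCongrHom.injective.comp hφ
  have h1 := ψ.range.index_mul_card
  rw [← Nat.card_congr (MonoidHom.ofInjective hψ).toEquiv, Nat.card_perm, Nat.card_fin] at h1
  have h2 := n.factorial_pos
  have h3 : ψ.range.index = 1 ∨ ψ.range.index = 2 := by
    generalize ψ.range.index = i at *
    have : i ≤ 2 := by_contra fun h => by nlinarith
    interval_cases i <;> omega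
  rcases h3 with e | e
  · exact .inr ⟨(MonoidHom.ofInjective hψ).trans ((MulEquiv.subgroupCongr (index_eq_one.1 e)).trans topEquiv)⟩
  · exact .inl ⟨(MonoidHom.ofInjective hψ).trans (MulEquiv.subgroupCongr (Perm.eq_alternatingGroup_of_index_eq_two e))⟩

theorem six {K N : Subgroup S8} [IsSimpleGroup N] (hK : N ≤ K) (hn : K ≤ N[N]) (hC : K ⊓ C[N] = ⊥) (hN : #N = 360) :
    Nonempty (K ≃* alternatingGroup (Fin 6)) ∨ Nonempty (K ≃* Perm (Fin 6)) := by
  classical
  let D : Set (Fin 8) := {x | ∃ n ∈ N, n x ≠ x}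
  have h8 : ∀ T : Set (Fin 8), T.ncard ≤ 8 := fun T => (Set.ncard_le_card T).trans (by simp)
  have h1 : ∀ x ∈ D, (orbit N x).ncard = 6 := by
    rintro x ⟨n, hn, e⟩
    have h2 := Small.two_mul_card_dvd (Small.not_isCyclic_of_card (G := N) (by rw [hN]; norm_num))
      (H := stabilizer N x) fun h => e (h.ge (mem_top ⟨n, hn⟩) :)
    have h3 := card_eq_ncard_orbit_mul N x
    rw [index_stabilizer, hN] at h2
    rw [hN] at h3
    have h4 := h8 (orbit N x)
    have h5 : (orbit N x).ncard ≠ 8 := fun e => by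
      have h5 : #(N ⊓ stabilizer S8 x) = 45 := by rw [e] at h3; omega
      obtain ⟨y, hy, e⟩ := exists_elt (A := N ⊓ stabilizer S8 x) Nat.prime_five (by rw [h5]; norm_num)
      obtain ⟨i, h6, h7⟩ := syl Nat.prime_five hy e (by rw [h5]; norm_num)
      have h9 := (card_norm_dvd (N ⊓ stabilizer S8 x) Nat.prime_five e).trans (Nat.mul_dvd_mul_left _
        (card_cent (.inl rfl) e ▸ card_dvd_of_le (inf_le_right : _ ⊓ C1[y] ≤ _)))
      obtain ⟨m, hm⟩ := e ▸ order_dvd_norm hy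
      rw [hm] at h9 h7
      rw [h5] at h7
      have : m ≤ 9 := Nat.le_of_dvd (by norm_num) ⟨i, by linarith⟩
      revert h9
      interval_cases m <;> first | omega | decide
    generalize (orbit N x).ncard = m at *
    revert h2
    interval_cases m <;> first | omega | decide
  have h2 : ∀ g ∈ K, ∀ x ∈ D, g x ∈ D := by
    rintro g hg x ⟨n, h, e⟩
    exact ⟨g * n * g⁻¹, le_norm_iff.1 hn g hg n h, by simpa using e⟩
  have h3 : D.ncard = 6 := by
    obtain ⟨y, hy, e⟩ := exists_elt (A := N) Nat.prime_five (by rw [hN]; norm_num)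
    obtain ⟨x, hx⟩ : ∃ x, y x ≠ x := by_contra fun h => by
      rw [show y = 1 from Equiv.ext (by simpa using h), orderOf_one] at e; omega
    have h4 : ∀ x ∈ D, orbit N x ⊆ D := by rintro x hx _ ⟨g, rfl⟩; exact h2 g (hK g.2) x hx
    rw [← h1 x ⟨y, hy, hx⟩]
    congr 1
    refine (h4 x ⟨y, hy, hx⟩).antisymm' fun z hz => by_contra fun h => ?_
    have h5 := Set.ncard_union_eq ((orbit.eq_or_disjoint (G := N) x z).resolve_left fun e => h (e ▸ mem_orbit_self z))
    have := h8 (orbit N x ∪ orbit N z)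
    rw [h1 x ⟨y, hy, hx⟩, h1 z hz] at h5
    omega
  let U : SubMulAction K (Fin 8) := ⟨D, fun g x hx => h2 g g.2 x hx⟩
  have := Fintype.ofFinite U
  refine alt_or_perm (φ := toPermHom K U) (Nat.card_eq_fintype_card.symm.trans h3) ((injective_iff_map_eq_one _).2
    fun g hg => Subtype.ext (mem_bot.1 (hC ▸ ⟨g.2, fun n hn => Equiv.ext fun x => ?_⟩))) ?_
  · have h5 : ∀ x ∈ D, g.1 x = x := fun x hx => congrArg Subtype.val (Equiv.congr_fun hg ⟨x, hx⟩)
    have h6 : ∀ x ∉ D, n x = x := fun x hx => by_contra fun h => hx ⟨n, hn, h⟩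
    change n (g.1 x) = g.1 (n x)
    by_cases hx : x ∈ D
    · rw [h5 x hx, h5 _ (h2 n (hK hn) x hx)]
    · rw [h6 x hx, h6 _ fun h => hx (by simpa using h2 _ (K.inv_mem g.2) _ h)]
  · have := card_le_of_le hK
    rw [show Nat.factorial 6 = 720 from rfl]; omega

theorem main {K : Subgroup S8} (hK : K ≤ A8) (h0 : K ≠ ⊥) (hs : ∀ M ≤ K, K ≤ N[M] → Sol M → M = ⊥) :
    (∃ n : ℕ, 5 ≤ n ∧ n ≤ 8 ∧ Nonempty (K ≃* alternatingGroup (Fin n))) ∨ Nonempty (K ≃* Perm (Fin 5)) ∨
      Nonempty (K ≃* Perm (Fin 6)) ∨ Nonempty (K ≃* GL (Fin 3) (ZMod 2)) := by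
  obtain ⟨N, hN, hNK⟩ := minnormal_exists h0 (normG K)
  have sN : ¬ Sol N := fun h => hN.ne (hs N hNK hN.norm h)
  have hNA := hNK.trans hK
  have hZ : N ⊓ C[N] = ⊥ := hs _ (inf_le_left.trans hNK) (norms_center hN.norm) (abelian_sol (center_abelian N))
  have hC : K ⊓ C[N] = ⊥ := hs _ inf_le_left (normsI (normG K) (norms_cent hN.norm)) (by_contra fun h =>
    comm2 (inf_le_left.trans hK) hNA h sN inf_le_right (eq_bot_iff.2 fun g hg => hZ ▸ ⟨hg.2, hg.1.2⟩))
  have hL : ∀ M ≤ N, N ≤ N[M] → M = ⊥ ∨ M = N := fun M hM hn => or_iff_not_imp_left.2 fun h => by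
    obtain ⟨L, hL, hLM⟩ := minnormal_exists h hn
    have hLN := hLM.trans hM
    have sL : ¬ Sol L := fun h => by
      have h1 := hs _ ((Fitting_sub N).trans hNK) (norms_Fitting hN.norm) (nilpotent_sol (Fitting_nil N))
      refine hL.ne (trivg_Fitting h (eq_bot_iff.2 (h1 ▸ ?_)))
      exact Fitting_max ⟨(Fitting_sub L).trans hLN, norms_Fitting hL.norm⟩ (Fitting_nil L)
    refine hM.antisymm ((hN.min L hLN fun g hg => mem_norm_of_cj_le (by_contra fun h1 => ?_)).resolve_left hL.ne ▸ hLM)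
    have h2 : cj g N = N := cj_of_norm (hN.norm hg)
    have h3 : N ≤ N[cj g L] := h2.ge.trans (N_cj g L ▸ cj_mono g hL.norm)
    have h4 : cj g L ≤ N := h2 ▸ cj_mono g hLN
    have h5 : cj g L ⊓ L = ⊥ := (hL.min _ inf_le_right (normsI h3 hL.norm)).resolve_right fun e =>
      h1 (eq_of_le_of_card_ge (e.ge.trans inf_le_left) (card_cj g L).le).ge
    exact comm2 (h4.trans hNA) (hLN.trans hNA) (fun h => sL (cj_inv_cj g L ▸ solvableJ g⁻¹ h)) sL
      (TI_cent (h4.trans hL.norm) (hLN.trans h3) h5) h5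
  have : Nontrivial N := (nontrivial_iff_ne_bot N).2 hN.ne
  have : IsSimpleGroup N := ⟨fun M hM => (hL _ (map_subtype_le M) (normal_map_subtype hM).norm).imp
    (fun e => map_subtype_inj.1 (by rw [e, Subgroup.map_bot])) fun e => map_subtype_inj.1 (by rw [e, map_subtype_top])⟩
  have nc : ¬ IsMulCommutative N := fun h => sN (abelian_sol h)
  have h7 : 7 ∣ #N → K = N ∧ ∃ i, i % 7 = 1 ∧ i * 21 = #N := fun h => by
    obtain ⟨y, hy, e⟩ := exists_elt (by norm_num) h
    have hd := card_A8 ▸ card_dvd_of_le hNA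
    obtain ⟨i, h1, h2⟩ := syl (by norm_num) hy e fun h => absurd (h.trans hd) (by norm_num)
    have h3 := norm7 (hNA hy) e
    have h4 := h3 ▸ card_dvd_of_le (inf_le_inf_right N[zpowers y] hNA)
    obtain ⟨m, hm⟩ := e ▸ order_dvd_norm hy
    have h5 : #(N ⊓ N[zpowers y]) = 21 := by
      have h5 := simple_card nc hd
      rw [hm] at h2 h4 ⊢
      have : m ≤ 3 := by have := Nat.le_of_dvd (by norm_num) h4; omega
      simp only [List.mem_cons, List.not_mem_nil, or_false] at h5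
      interval_cases m <;> omega
    have h6 := eq_of_le_of_card_ge (inf_le_inf_right N[zpowers y] hNA) (h3.trans h5.symm).le
    have : Fact (Nat.Prime 7) := ⟨by norm_num⟩
    refine ⟨hNK.antisymm' ?_, i, h1, h5 ▸ h2⟩
    rw [← Frattini_arg (p := 7) (P := zpowers y) ⟨hNK, hN.norm⟩ ?_]
    · exact sup_le le_rfl (((inf_le_inf_right _ hK).trans h6.ge).trans inf_le_left)
    · refine sylow_mk (zpowers_le.2 hy) (.of_card (n := 1) (by rw [Nat.card_zpowers, e]; rfl)) fun h => ?_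
      have h7 := card_mul_relIndex (zpowers_le.2 hy)
      rw [Nat.card_zpowers, e] at h7
      exact absurd ((h7 ▸ Nat.mul_dvd_mul_left 7 h).trans hd) (by norm_num)
  have h1 := simple_card nc (card_A8 ▸ card_dvd_of_le hNA)
  simp only [List.mem_cons, List.not_mem_nil, or_false] at h1
  rcases h1 with e | e | e | e | e | e
  · obtain ⟨e1⟩ := S0494.result e
    let e2 := (MulAut.congr e1).trans (MulEquiv.ofBijective _ (Perm.AutAlt.conjNormal_bijective (α := Fin 5)
      (by simp) (by simp))).symm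
    let ψ := (conjAut N).comp (inclusion hN.norm)
    have hψ : Function.Injective ψ := (injective_iff_map_eq_one ψ).2 fun g hg =>
      Subtype.ext (mem_bot.1 (hC ▸ ⟨g.2, ker_conjAut N ▸ ⟨_, hg, rfl⟩⟩))
    have := card_le_of_le hNK
    exact (alt_or_perm (φ := e2.toMonoidHom.comp ψ) (Fintype.card_fin 5) (e2.injective.comp hψ)
      (by rw [show Nat.factorial 5 = 120 from rfl]; omega)).elim
      (fun h => .inl ⟨5, le_rfl, by norm_num, h⟩) fun h => .inr (.inl h)
  · obtain ⟨rfl, -⟩ := h7 (by rw [e]; norm_num)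
    have : Fact (Nat.Prime 7) := ⟨by norm_num⟩
    have := GW.isSimpleGroup_SL3_two
    obtain ⟨e1⟩ := S0495.result e (ZMod.card 7)
    obtain ⟨e2⟩ := S0495.result GW.card_SL3_two (ZMod.card 7)
    refine .inr (.inr (.inr ⟨(e1.trans e2.symm).trans (MulEquiv.ofBijective Matrix.SpecialLinearGroup.toGL
      ((Nat.bijective_iff_injective_and_card _).2 ⟨Matrix.SpecialLinearGroup.toGL_injective, ?_⟩))⟩))
    rw [GW.card_SL3_two, Matrix.card_GL_field]; simp [Fin.prod_univ_succ]
  · exact (six hNK hN.norm hC e).elim (fun h => .inl ⟨6, by norm_num, by norm_num, h⟩) fun h => .inr (.inr (.inl h))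
  · obtain ⟨-, i, h1, h2⟩ := h7 (by rw [e]; norm_num)
    omega
  · obtain ⟨rfl, -⟩ := h7 (by rw [e]; norm_num)
    exact .inl ⟨7, by norm_num, by norm_num, S0984.result e⟩
  · obtain ⟨rfl, -⟩ := h7 (by rw [e]; norm_num)
    exact .inl ⟨8, by norm_num, le_rfl, ⟨MulEquiv.subgroupCongr (eq_of_le_of_card_ge hK (card_A8.trans e.symm).le)⟩⟩

/-- Let H be a nontrivial subgroup of GL(4,2) (a group isomorphic to the alternating group of degree 8) whose largest normal 2-subgroup and largest normal subgroup of odd order are both trivial. Then H is isomorphic to an alternating group of degree n for some 5 ≤ n ≤ 8, to the symmetric group of degree 5 or 6, or to GL(3,2). -/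
theorem result (H : Subgroup (GL (Fin 4) (ZMod 2))) (hH : H ≠ ⊥) (hO : Cfsg.pPrimeCore 2 ↥H = ⊥) (hO2 : Cfsg.pCore 2 ↥H = ⊥) :
    (∃ n : ℕ, 5 ≤ n ∧ n ≤ 8 ∧ Nonempty (↥H ≃* alternatingGroup (Fin n))) ∨
    Nonempty (↥H ≃* Equiv.Perm (Fin 5)) ∨ Nonempty (↥H ≃* Equiv.Perm (Fin 6)) ∨ Nonempty (↥H ≃* GL (Fin 3) (ZMod 2)) := by
  obtain ⟨e⟩ := Gen.gl4_equiv
  let φ : H →* S8 := (A8).subtype.comp (e.toMonoidHom.comp H.subtype)
  have hφ : Function.Injective φ := (subtype_injective _).comp (e.injective.comp (subtype_injective _))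
  let e1 := MonoidHom.ofInjective hφ
  have h := main (K := φ.range) (by rintro _ ⟨g, rfl⟩; exact (e g).2) (fun h => hH (by
    rw [← card_eq_one, Nat.card_congr e1.toEquiv, h, card_bot])) fun M hM hn hs => by_contra fun h => by
      obtain ⟨V, p, h1, h2, h3, hp, -, h4⟩ := solvable_norm_abelem hs h hn
      have h5 : (V.comap φ).Normal := ⟨fun a ha g => by
        simpa using le_norm_iff.1 h2 (φ g) ⟨g, rfl⟩ _ ha⟩
      have := Fact.mk hp
      have h6 : IsPGroup p (V.comap φ) := fun g => ⟨1, Subtype.ext (hφ (by simpa using h4 _ g.2))⟩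
      have h7 : V.comap φ = ⊥ := by
        by_cases e : p = 2
        · exact eq_bot_iff.2 (hO2 ▸ le_sSup ⟨h5, e ▸ h6⟩)
        · obtain ⟨k, hk⟩ := IsPGroup.iff_card.1 h6
          exact eq_bot_iff.2 (hO ▸ le_sSup ⟨h5, hk ▸ Nat.Coprime.pow_left k ((Nat.coprime_primes hp Nat.prime_two).2 e)⟩)
      exact h3 (by rw [← map_comap_eq_self (h1.trans hM), h7, Subgroup.map_bot])
  rcases h with ⟨n, a, b, ⟨c⟩⟩ | ⟨⟨c⟩⟩ | ⟨⟨c⟩⟩ | ⟨⟨c⟩⟩
  exacts [.inl ⟨n, a, b, ⟨e1.trans c⟩⟩, .inr (.inl ⟨e1.trans c⟩), .inr (.inr (.inl ⟨e1.trans c⟩)),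
    .inr (.inr (.inr ⟨e1.trans c⟩))]

end Cfsg.Agent.S2553
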