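import Cfsg.Statements.S4030
import Cfsg.Agent.S0506
import Cfsg.Agent.S1169
import Cfsg.Agent.LieM.Omega
import Cfsg.Agent.Small.L2Cent
import Cfsg.Agent.AB.SolC
import Mathlib.Tactic.Group

set_option autoImplicit false
open Cfsg

namespace Cfsg.Agent.S4030
open scoped commutatorElement

open Subgroup Cfsg.Agent.LieM Cfsg.Agent.BG
open scoped MatrixGroups

theorem even_case {G : Type*} [Group G] {F : Type} [Field F] [Fintype F] {n : ℕ} (hn : 2 ≤ n)
    (hF : Fintype.card F = 2 ^ n) (e : G ≃* PSL(2, F)) :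
    ∃ (F : Type) (_ : Field F) (_ : Fintype F), 4 ≤ Fintype.card F ∧
        (Fintype.card F % 8 = 0 ∨ Fintype.card F % 8 = 3 ∨ Fintype.card F % 8 = 5) ∧
        Nonempty (G ≃* Matrix.ProjectiveSpecialLinearGroup (Fin 2) F) := by
  rcases hn.eq_or_lt with rfl | hn
  · obtain ⟨f⟩ := Small.psl4_equiv (F := F) (by rw [Nat.card_eq_fintype_card, hF]; rfl)
    haveI : Fact (Nat.Prime 5) := ⟨by norm_num⟩
    exact ⟨ZMod 5, inferInstance, inferInstance, by simp, by simp, ⟨e.trans f⟩⟩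
  · obtain ⟨k, rfl⟩ := Nat.exists_eq_add_of_le (show 3 ≤ n from hn)
    have h1 : 0 < 2 ^ k := by positivity
    have h2 : Fintype.card F = 8 * 2 ^ k := by rw [hF, pow_add]; rfl
    exact ⟨F, _, _, by omega, Or.inl (by omega), ⟨e⟩⟩

/-- Let G be a finite non-abelian simple group in which N_G(⟨x⟩) = C_G(x) for every 2-element x. Then G is isomorphic to PSL₂(q) for a prime power q ≥ 4 with q ≡ 0, 3 or 5 (mod 8), or G is simple of the order of a Suzuki group, of a Ree group in characteristic 3, or of order 175560. -/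
theorem result {G : Type*} [Group G] [Finite G] [IsSimpleGroup G] (hna : ¬ IsMulCommutative G)
    (hirr : ∀ x : G, (∀ r : ℕ, r.Prime → r ∣ orderOf x → r = 2) →
      Subgroup.normalizer ((Subgroup.zpowers x : Subgroup G) : Set G) ≤ Subgroup.centralizer {x}) :
    (∃ (F : Type) (_ : Field F) (_ : Fintype F), 4 ≤ Fintype.card F ∧
        (Fintype.card F % 8 = 0 ∨ Fintype.card F % 8 = 3 ∨ Fintype.card F % 8 = 5) ∧
        Nonempty (G ≃* Matrix.ProjectiveSpecialLinearGroup (Fin 2) F)) ∨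
    Cfsg.IsSuzuki G ∨ Cfsg.IsRee G ∨ Cfsg.IsJ1 G := by
  have hinv : ∀ {S : Subgroup G}, IsPGroup 2 S → ∀ d ∈ S, ∀ y : G, y * d * y⁻¹ = d⁻¹ → Commute y d := by
    intro S hS d hd y e
    obtain ⟨k, hk⟩ := (IsPGroup.iff_orderOf (p := 2)).1 hS ⟨d, hd⟩
    have hk' : orderOf d = 2 ^ k := by rw [← hk]; exact orderOf_coe (⟨d, hd⟩ : S)
    refine mem_centralizer_singleton_iff.1 (hirr d (fun r hr h => ?_) (mem_norm_of_cj_le ?_))
    · rw [hk'] at h
      exact (Nat.prime_dvd_prime_iff_eq hr Nat.prime_two).1 (hr.dvd_of_dvd_pow h)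
    · exact (MonoidHom.map_zpowers _ _).le.trans (zpowers_le.2 (e.symm ▸ inv_mem (mem_zpowers d) : y * d * y⁻¹ ∈ _))
  obtain ⟨P⟩ : Nonempty (Sylow 2 G) := inferInstance
  have hi : ∀ a ∈ (P : Subgroup G), ∀ b ∈ (P : Subgroup G), a * a = 1 → b * b = 1 → Commute a b := by
    intro a ha b hb h1 h2
    have ia : a⁻¹ = a := inv_eq_of_mul_eq_one_right h1
    have ib : b⁻¹ = b := inv_eq_of_mul_eq_one_right h2
    have e : a * (a * b) * a⁻¹ = (a * b)⁻¹ := by
      rw [mul_inv_rev, ia, ib, ← mul_assoc, h1, one_mul]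
    have := (hinv P.isPGroup' _ (mul_mem ha hb) a e).eq
    rw [mul_assoc] at this
    exact mul_left_cancel this
  have hP1 : (P : Subgroup G) ≠ ⊥ := (AB.sylow_ne_simple hna (sylowIn_top P)).1
  rcases Cfsg.Agent.S1169.result P (omegaOne 2 P) (omega_ne_bot P.isPGroup' hP1) (omega_comm hi) (omega_sc hi)
    with hc | ⟨H, hH⟩
  · rcases Cfsg.Agent.S0506.result hna P hc with ⟨n, hn, F, _, _, hF, ⟨e⟩⟩ | ⟨F, _, _, hF, ⟨e⟩⟩ | h | h
    · exact Or.inl (even_case hn hF e)
    · refine Or.inl ⟨F, _, _, ?_, Or.inr hF, ⟨e⟩⟩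
      by_contra h4
      have h3 : Nat.card F = 3 := by rw [Nat.card_eq_fintype_card]; omega
      have h5 := Classical.card_PSL2_mul (F := F)
      rw [← Nat.card_congr e.toEquiv, h3] at h5
      have h6 : Nat.card G = 2 ^ 2 * 3 := by norm_num at h5; omega
      refine hna ⟨⟨IsSimpleGroup.comm_iff_isSolvable.2 (Char.isSolvable_of_two_primes (p := 2) (q := 3) fun r h1 h2 => ?_)⟩⟩
      rw [h6] at h2
      rcases (Nat.Prime.dvd_mul h1).1 h2 with h | h
      · exact Or.inl ((Nat.prime_dvd_prime_iff_eq h1 Nat.prime_two).1 (h1.dvd_of_dvd_pow h))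
      · exact Or.inr ((Nat.prime_dvd_prime_iff_eq h1 Nat.prime_three).1 h)
    · exact Or.inr (Or.inr (Or.inl h))
    · exact Or.inr (Or.inr (Or.inr h))
  · obtain ⟨t, Q, hQ⟩ := SE.bender_simple (SE.exists_not_comm hna) hH
    rcases psl_or_sz hQ (fun d hd y hy e => by
      have := (hinv hQ.tri.1 d hd y e).eq
      rw [this, mul_inv_cancel_right] at e
      exact mul_eq_one_iff_eq_inv.2 e) with ⟨-, F, _, _, n, hn, hF, ⟨e⟩⟩ | ⟨-, -, h⟩
    · exact Or.inl (even_case hn hF e)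
    · exact Or.inr (Or.inl (Suz.isSuzuki_of_iso inferInstance h))

end Cfsg.Agent.S4030
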