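import Cfsg.Statements.S2554
import Cfsg.Agent.LieM.ReeT4
import Cfsg.Agent.S4030
import Mathlib.Tactic.Group

set_option autoImplicit false
open Cfsg

namespace Cfsg.Agent.S2554
open scoped commutatorElement

open Cfsg.Agent.LieM Cfsg.Agent.BG

/-- A non-abelian finite simple group all of whose Sylow subgroups are abelian is isomorphic to the Janko group J₁ or to PSL₂(q) for some prime power q > 3 with q ≡ 0, 3 or 5 (mod 8). -/
theorem result {G : Type*} [Group G] [Finite G]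
    [IsSimpleGroup G] (hna : ¬ IsMulCommutative G)
    (hA : ∀ (p : ℕ), p.Prime → ∀ (P : Sylow p G), IsMulCommutative ↥P) :
    Cfsg.Spor.IsoJ1 G ∨
      ∃ (F : Type) (_ : Field F) (_ : Fintype F), 3 < Fintype.card F ∧
        (Fintype.card F % 8 = 0 ∨ Fintype.card F % 8 = 3 ∨ Fintype.card F % 8 = 5) ∧
        Nonempty (G ≃* Matrix.ProjectiveSpecialLinearGroup (Fin 2) F) := by
  obtain ⟨S⟩ : Nonempty (Sylow 2 G) := inferInstance
  have hS := hA 2 Nat.prime_two S
  rcases ab_simple (fun hp h ho e => AB.wj_eq hp h ho e) hna S hS with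
    ⟨F, i1, i2, n, k1, k2, ⟨e⟩, -⟩ | ⟨F, i1, i2, k1, k2, k3, -⟩ | k | k
  · exact .inr (S4030.even_case k1 k2 e)
  · exact .inr ⟨F, i1, i2, by omega, .inr k1, k3⟩
  · obtain ⟨t, L, U, τ, w, u, s, K, q, c, m, d, h⟩ := exists_rt k.1 (AB.hab_of_sylow S hS)
    obtain ⟨P⟩ : Nonempty (Sylow 3 G) := inferInstance
    exact (h.nonab (sylowIn_top P) (hA 3 Nat.prime_three P)).elim
  · exact .inl k.1

end Cfsg.Agent.S2554
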