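import Cfsg.Statements.S2555
import Cfsg.Agent.S2554
import Cfsg.Agent.S2065
import Cfsg.Agent.AB.ESetQ
import Cfsg.Agent.AB.Zs

set_option autoImplicit false
open Cfsg

namespace Cfsg.Agent.S2555

open Subgroup Cfsg.Agent.AB
open scoped MatrixGroups Pointwise

theorem fix_of_inner {G : Type*} [Group G] [Finite G] {r k : ℕ} [hr : Fact r.Prime] (Q : Sylow r G)
    (ab : IsMulCommutative (Q : Subgroup G)) (ψ : MulAut G) (hψ : ψ ^ r ^ k = 1)
    (hQ : ∀ x ∈ (Q : Subgroup G), ψ x ∈ (Q : Subgroup G)) (y : G)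
    (hy : ∀ x ∈ (Q : Subgroup G), ψ x = y * x * y⁻¹) : ∀ x ∈ (Q : Subgroup G), ψ x = x := by
  have yN : y ∈ normalizer ((Q : Subgroup G) : Set G) :=
    mem_normalizer_fintype fun x hx => by rw [← hy x hx]; exact hQ x hx
  have pw : ∀ n : ℕ, ∀ x ∈ (Q : Subgroup G), (ψ ^ n) x = y ^ n * x * (y ^ n)⁻¹ := fun n => by
    induction n with
    | zero => simp
    | succ n ih =>
      intro x hx
      rw [pow_succ, MulAut.mul_apply, ih _ (hQ x hx), hy x hx, pow_succ]; group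
  have c1 : y ^ r ^ k ∈ centralizer ((Q : Subgroup G) : Set G) := mem_centralizer_iff.2 fun x hx => by
    have := pw (r ^ k) x hx
    rw [hψ, MulAut.one_apply, eq_mul_inv_iff_mul_eq] at this
    exact this
  let N := normalizer ((Q : Subgroup G) : Set G)
  have hle : (Q : Subgroup G) ≤ N := le_normalizer
  have nd : ¬ r ∣ ((Q : Subgroup G).subgroupOf N).index := (Q.subtype hle).not_dvd_index
  have c2 : y ^ ((Q : Subgroup G).subgroupOf N).index ∈ centralizer ((Q : Subgroup G) : Set G) := by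
    have := ((Q : Subgroup G).subgroupOf N).pow_index_mem ⟨y, yN⟩
    rw [mem_subgroupOf, coe_pow] at this
    exact le_centralizer (H := (Q : Subgroup G)) this
  have co : IsCoprime ((r ^ k : ℕ) : ℤ) ((((Q : Subgroup G).subgroupOf N).index : ℕ) : ℤ) :=
    Nat.isCoprime_iff_coprime.2 (Nat.Coprime.pow_left _ ((Nat.Prime.coprime_iff_not_dvd hr.out).2 nd))
  obtain ⟨a, b, hab⟩ := co
  have c3 : y ∈ centralizer ((Q : Subgroup G) : Set G) := by
    have := mul_mem (zpow_mem c1 a) (zpow_mem c2 b)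
    rwa [← zpow_natCast, ← zpow_natCast, ← zpow_mul, ← zpow_mul, ← zpow_add, mul_comm _ a, mul_comm _ b, hab,
      zpow_one] at this
  intro x hx
  rw [hy x hx, ← mem_centralizer_iff.1 c3 x hx, mul_inv_cancel_right]

theorem arith {r q n : ℕ} (hr : r.Prime) (hq : 1 ≤ q) (hn : r ∣ n) (h0 : n ≠ 0) (h : r ∣ q * (q - 1) * (q + 1)) :
    r * (q * (q - 1) * (q + 1)) ∣ q ^ n * (q ^ n - 1) * (q ^ n + 1) := by
  have e : ∀ m : ℕ, 1 ≤ m → ((m * (m - 1) * (m + 1) : ℕ) : ℤ) = m * ((m : ℤ) ^ 2 - 1) := fun m hm => by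
    push_cast [Nat.cast_sub hm]; ring
  rw [← Int.natCast_dvd_natCast, Nat.cast_mul, e _ hq, e _ (Nat.one_le_pow _ _ hq)]
  rw [← Int.natCast_dvd_natCast, e _ hq] at h
  have g : (((q ^ n : ℕ) : ℤ)) ^ 2 - 1 = (∑ i ∈ Finset.range n, ((q : ℤ) ^ 2) ^ i) * ((q : ℤ) ^ 2 - 1) := by
    rw [geom_sum_mul]; push_cast; ring
  obtain ⟨m, rfl⟩ : ∃ m, n = m + 2 := ⟨n - 2, by have := Nat.le_of_dvd (Nat.pos_of_ne_zero h0) hn; have := hr.two_le; omega⟩
  rw [g]
  rcases (Nat.prime_iff_prime_int.1 hr).dvd_or_dvd h with h | h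
  · obtain ⟨c, hc⟩ := h
    refine ⟨c * (q : ℤ) ^ m * ∑ i ∈ Finset.range (m + 2), ((q : ℤ) ^ 2) ^ i, ?_⟩
    push_cast
    linear_combination ((q : ℤ) ^ (m + 1) * (∑ i ∈ Finset.range (m + 2), ((q : ℤ) ^ 2) ^ i) * ((q : ℤ) ^ 2 - 1)) * hc
  · have : (r : ℤ) ∣ ∑ i ∈ Finset.range (m + 2), ((q : ℤ) ^ 2) ^ i := by
      have h1 : (r : ℤ) ∣ ∑ i ∈ Finset.range (m + 2), (((q : ℤ) ^ 2) ^ i - 1) :=
        Finset.dvd_sum fun i _ => h.trans (by simpa using sub_dvd_pow_sub_pow ((q : ℤ) ^ 2) 1 i)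
      rw [Finset.sum_sub_distrib, Finset.sum_const, Finset.card_range, nsmul_eq_mul, mul_one] at h1
      simpa using dvd_add h1 (Int.natCast_dvd_natCast.2 hn)
    obtain ⟨c, hc⟩ := this
    refine ⟨c * (q : ℤ) ^ (m + 1), ?_⟩
    rw [hc]; push_cast; ring

theorem no_fix {F : Type*} [Field F] [Finite F] {r j : ℕ} [hr : Fact r.Prime] (r2 : r ≠ 2) (σ : F ≃+* F)
    (hσ : orderOf σ = r ^ (j + 1)) {G : Type*} [Group G] [Finite G] (e : G ≃* PSL(2, F)) (hG : r ∣ Nat.card G)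
    (Q : Sylow r G) (hQ : ∀ x ∈ (Q : Subgroup G), AutCl.fieldAut σ (e x) = e x) : False := by
  have ro : Odd r := hr.out.odd_of_ne_two r2
  obtain ⟨K, hK, hc⟩ := AutCl.exists_isFix_card σ
  have d1 : Nat.card Q ∣ Nat.card PSL(2, K) := by
    rw [Nat.card_congr (MonoidHom.ofInjective (Classical.pslMap_injective (ι := Fin 2) K.subtype)).toEquiv,
      ← card_map_of_injective (K := (Q : Subgroup G)) (f := e.toMonoidHom) e.injective]
    refine card_dvd_of_le ?_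
    rintro _ ⟨x, hx, rfl⟩
    exact (psl_fix hK (hσ ▸ ro.pow) _).2 (hQ x hx)
  have d2 : Nat.card Q ∣ Nat.card K * (Nat.card K - 1) * (Nat.card K + 1) :=
    Classical.card_PSL2_mul (F := K) ▸ d1.mul_left _
  have rQ : r ∣ Nat.card Q := Q.dvd_card_of_dvd_card hG
  have d3 := (Nat.mul_dvd_mul_left r d2).trans
    (arith hr.out Nat.card_pos (dvd_pow_self r j.succ_ne_zero) (pow_ne_zero _ hr.out.ne_zero) (rQ.trans d2))
  rw [← hσ, hc, ← Classical.card_PSL2_mul, ← Nat.card_congr e.toEquiv] at d3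
  obtain ⟨a, ha⟩ := IsPGroup.iff_card.1 Q.isPGroup'
  have co : (r * Nat.card Q).Coprime (Nat.gcd 2 (Nat.card F - 1)) := by
    rw [ha, ← pow_succ']
    exact Nat.Coprime.coprime_dvd_right (Nat.gcd_dvd_left _ _) (Nat.coprime_two_right.2 ro.pow)
  have d4 := co.dvd_of_dvd_mul_left d3
  rw [← (Q : Subgroup G).index_mul_card] at d4
  exact Q.not_dvd_index (Nat.dvd_of_mul_dvd_mul_right Nat.card_pos d4)


/-- Let G be a non-abelian finite simple group all of whose Sylow subgroups are abelian, r a prime dividing |G|, and α an automorphism of G whose order is a power of r. If α fixes some Sylow r-subgroup of G elementwise, then α is an inner automorphism. -/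
theorem result {G : Type*} [Group G] [Finite G]
    [IsSimpleGroup G] (hna : ¬ IsMulCommutative G)
    (hA : ∀ (p : ℕ), p.Prime → ∀ (P : Sylow p G), IsMulCommutative ↥P)
    (r : ℕ) [Fact r.Prime] (hr : r ∣ Nat.card G) (α : G ≃* G) (k : ℕ) (hα : orderOf α = r ^ k)
    (R : Sylow r G) (hR : ∀ x ∈ (R : Subgroup G), α x = x) :
    ∃ g : G, ∀ x : G, α x = g * x * g⁻¹ := by
  have hZ : center G = ⊥ := (IsSimpleGroup.eq_bot_or_eq_top_of_normal (center G) inferInstance).resolve_right fun h =>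
    hna ⟨⟨fun a b => (mem_center_iff.1 (h ▸ mem_top b : b ∈ center G) a)⟩⟩
  have h1 : α ^ r ^ k = 1 := hα ▸ pow_orderOf_eq_one α
  by_cases r2 : r = 2
  · subst r2
    exact aut_inner hZ (SE.oddCore_simple (even_iff_two_dvd.2 hr)) R (hA 2 Nat.prime_two R) α h1 hR
  have ro : Odd r := (Fact.out : r.Prime).odd_of_ne_two r2
  suffices h : (α : MulAut G) ∈ Inn G by
    obtain ⟨g, hg⟩ := h
    exact ⟨g, fun x => by rw [← hg]; rfl⟩
  rcases S2554.result hna hA with ⟨⟨e⟩⟩ | ⟨F, _, _, -, -, ⟨e⟩⟩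
  · have := (Known.card_out_congr e).trans S2065.result
    rw [← index_eq_card, index_eq_one] at this
    exact this ▸ mem_top _
  obtain ⟨p, _⟩ := CharP.exists F
  have := Fact.mk (CharP.char_is_prime F p)
  obtain ⟨pr, -, kpr, hpr⟩ := AutCl.exists_autHom_two (F := F) (p := p)
  let c := MulAut.congr e
  have sq : ∀ β : MulAut G, pr (c β) = 1 → β * β ∈ Inn G := fun β hβ => by
    obtain ⟨g, hg⟩ : c β ∈ AutCl.diagAut.range := kpr ▸ hβ
    have h2 : c (β * β) ∈ Inn PSL(2, F) := by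
      rw [map_mul, ← hg, ← map_mul]
      exact (AutCl.diagAut_mem_inn_iff (p := p) (by simp) _).2 ⟨Matrix.GeneralLinearGroup.det g, by simp [sq]⟩
    obtain ⟨z, hz⟩ := h2
    refine ⟨e.symm z, c.injective (hz ▸ ?_)⟩
    ext x; simp [c]
  have cj : ∀ g : G, pr (c (MulAut.conj g)) = 1 := fun g => by
    rw [← MonoidHom.mem_ker, kpr]
    exact AutCl.inn_le_range_diagAut ⟨e g, by ext x; simp [c]⟩
  by_cases hs : pr (c α) = 1
  · exact (zpowers_le.2 (sq α hs)) (odd_sq_root (hα ▸ ro.pow))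
  exfalso
  set σ := pr (c α) with hσ
  have s1 : σ ^ r ^ k = 1 := by rw [hσ, ← map_pow, ← map_pow, h1, map_one, map_one]
  have := AutCl.finite_ringAut (F := F)
  let φ : MulAut G := c.symm (AutCl.fieldAut σ)
  have f1 : φ ^ r ^ k = 1 := by rw [← map_pow, ← map_pow, s1, map_one, map_one]
  have pg : IsPGroup r (zpowers φ) := IsPGroup.of_card_dvd_pow (n := k) (by
    rw [Nat.card_zpowers]; exact orderOf_dvd_of_pow_eq_one f1)
  obtain ⟨Q, hQ⟩ := pg.nonempty_fixed_point_of_prime_not_dvd_card (Sylow r G) (not_dvd_card_sylow r G)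
  have hQ' : φ • Q = Q := hQ ⟨φ, mem_zpowers φ⟩
  have φQ : ∀ x ∈ (Q : Subgroup G), φ x ∈ (Q : Subgroup G) := fun x hx => by
    nth_rw 1 [← hQ']
    exact smul_mem_pointwise_smul _ φ _ hx
  obtain ⟨g, rfl⟩ := MulAction.exists_smul_eq G R Q
  let α' : MulAut G := MulAut.conj g * α * (MulAut.conj g)⁻¹
  have a' : ∀ x ∈ ((g • R : Sylow r G) : Subgroup G), α'⁻¹ x = x := by
    rintro _ ⟨x, hx, rfl⟩
    rw [MulAut.inv_def, MulEquiv.symm_apply_eq]
    change g * x * g⁻¹ = g * α (g⁻¹ * (g * x * g⁻¹) * g) * g⁻¹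
    rw [show g⁻¹ * (g * x * g⁻¹) * g = x by group, hR x hx]
  obtain ⟨y, hy⟩ := sq (φ * α'⁻¹) (by
    simp only [α', φ, map_mul, map_inv, cj, MulEquiv.apply_symm_apply, hpr, ← hσ, one_mul, inv_one, mul_one,
      mul_inv_cancel])
  have fx := fix_of_inner (k := k) (g • R) (hA r Fact.out _) (φ ^ 2) (by rw [← pow_mul, mul_comm, pow_mul, f1, one_pow])
    (fun x hx => by rw [_root_.sq, MulAut.mul_apply]; exact φQ _ (φQ x hx)) y (fun x hx => by
      rw [← MulAut.conj_apply, hy, _root_.sq]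
      simp only [MulAut.mul_apply]
      rw [a' x hx, a' _ (φQ x hx)])
  obtain ⟨j, -, hj⟩ := (Nat.dvd_prime_pow (Fact.out : r.Prime)).1
    (orderOf_dvd_of_pow_eq_one (show (σ ^ 2) ^ r ^ k = 1 by rw [← pow_mul, mul_comm, pow_mul, s1, one_pow]))
  rcases j with _ | j
  · rw [pow_zero, orderOf_eq_one_iff] at hj
    exact hs (eq_one_of_odd_sq (ro.pow.of_dvd_nat (orderOf_dvd_of_pow_eq_one s1)) (by rw [← _root_.sq, hj]))
  refine no_fix r2 (σ ^ 2) hj e hr (g • R) fun x hx => ?_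
  have t : AutCl.fieldAut (σ ^ 2) = c (φ ^ 2) := by rw [map_pow, map_pow, c.apply_symm_apply]
  rw [t]
  simp only [c, MulAut.congr_apply, MulEquiv.trans_apply, MulEquiv.symm_apply_apply, fx x hx]

end Cfsg.Agent.S2555
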