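import Cfsg.Statements.S2603
import Cfsg.Agent.AutCl.OutCl

set_option autoImplicit false
open Cfsg

namespace Cfsg.Agent.S2603

/-- Structure of the outer automorphism group of PSU_n(q), n ≥ 3, (n, q) ≠ (3, 2), q = p^f, realised over the field with q² elements: it has a normal cyclic subgroup of order gcd(n, q + 1) (diagonal automorphisms) with cyclic quotient of order 2f (generated by the Frobenius field automorphism of the field with q² elements, whose f-th power is the graph automorphism). -/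
theorem result {K : Type*} [Field K] [Fintype K] {p f q n : ℕ} [Fact p.Prime] (hf : 1 ≤ f) (hq : q = p ^ f) (hK : Fintype.card K = q ^ 2) (hn : 3 ≤ n) (h32 : ¬ (n = 3 ∧ q = 2)) : ∃ φ : Cfsg.Out (Cfsg.PSU n K q) →* Multiplicative (ZMod (2 * f)), Function.Surjective φ ∧ IsCyclic φ.ker ∧ Nat.card φ.ker = Nat.gcd n (q + 1) := by
  open Cfsg.Agent.AutCl Cfsg.Agent.Geom SemidirectProduct in
  haveI : Fact (Fintype.card K = q ^ 2) := ⟨hK⟩
  have C := clSU hK hn
  obtain ⟨π, hs, hk, hπ⟩ := C.exists_out_hom (clSU_surj hK hn h32) (std_herm hK n).fld_surj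
    (card_out_herm hK hn)
  obtain ⟨e⟩ := nonempty_ringAut_equiv (F := K) (p := p) (f := 2 * f)
    (by rw [hK, hq, ← pow_mul, mul_comm])
  have e1 : (e.toMonoidHom.comp π).ker = π.ker := by ext x; simp [MonoidHom.mem_ker]
  refine ⟨e.toMonoidHom.comp π, e.surjective.comp hs, ?_, e1 ▸ hk⟩
  rw [e1]
  let ι : GU n K q →* GamS (hermFormed hK n) := (inl.comp (GU n K q).subtype).codRestrict _
    fun g => ⟨_, semi_of_isom (guEquiv hK n g).2⟩
  let ψ : GU n K q →* π.ker := (C.outHom.comp ι).codRestrict _ fun g => hπ _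
  have hψ : Function.Surjective ψ := by
    rintro ⟨x, hx⟩
    obtain ⟨x, rfl⟩ := C.outHom_surj (clSU_surj hK hn h32) x
    have h1 : x.1.right = 1 := (hπ x).symm.trans hx
    have h := mult_spec x
    rw [inl_left_of_right h1] at h
    obtain ⟨t, ht⟩ := Classical.exists_norm_eq (q := q) (C.semi_sigma h)
    have ht0 : t ≠ 0 := by rintro rfl; exact h.ne (by simpa using ht.symm)
    obtain ⟨g, hg, e⟩ := Semi.exists_isom (t := Units.mk0 t ht0) (by
      rw [Units.val_mk0, Geom.frobq_apply, mul_comm, ht]; exact h)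
    refine ⟨⟨g, (mem_hermFormed_isom hK n).1 hg⟩, Subtype.ext ?_⟩
    change C.outHom _ = C.outHom x
    rw [eq_comm, ← mul_inv_eq_one, ← map_inv, ← map_mul, C.outHom_eq_one_iff]
    refine ⟨Units.mk0 t ht0, 1, ?_⟩
    change x.1 * (inl g)⁻¹ = _
    rw [inl_left_of_right h1, e, ← map_inv, ← map_mul, map_one, mul_one, mul_inv_cancel_right]
  have hle : (Classical.guDet n K q).rangeRestrict.ker ≤ ψ.ker := by
    rw [MonoidHom.ker_rangeRestrict, ← Classical.range_suToGU]
    rintro _ ⟨s, rfl⟩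
    refine Subtype.ext ((C.outHom_eq_one_iff _).2 ⟨1, s, ?_⟩)
    rw [scal, map_one, one_mul]; rfl
  refine isCyclic_of_surjective ((Classical.guDet n K q).rangeRestrict.liftOfSurjective
    (MonoidHom.rangeRestrict_surjective _) ⟨ψ, hle⟩) fun y => ?_
  obtain ⟨g, rfl⟩ := hψ y
  exact ⟨(Classical.guDet n K q).rangeRestrict g, by simp⟩

end Cfsg.Agent.S2603
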