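import Cfsg.Statements.S2604
import Cfsg.Agent.AutCl.OutCl

set_option autoImplicit false
open Cfsg

namespace Cfsg.Agent.S2604

/-- Outer automorphism group of the simple orthogonal group Ω_(2m+1)(q), m ≥ 3, q = p^f odd: it is the direct product of a group of order 2 (diagonal automorphisms, from SO) and a cyclic group of order f (field automorphisms). -/
theorem result {F : Type*} [Field F] [Fintype F] {p f m : ℕ} [Fact p.Prime] (hf : 1 ≤ f) (hF : Fintype.card F = p ^ f) (hp : p ≠ 2) (hm : 3 ≤ m) : Nonempty (Cfsg.Out (Cfsg.POmega F (Cfsg.quadFormOdd m F)) ≃* Multiplicative (ZMod 2 × ZMod f)) := by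
  open Cfsg.Agent.AutCl Cfsg.Agent.Geom in
  haveI := charP_of_card_eq hF
  have h2 : (2 : F) ≠ 0 :=
    two_ne_zero_of_odd_card (hF ▸ ((Fact.out : p.Prime).odd_of_ne_two hp).pow)
  rw [← coe_quadOdd]
  have hQ := quadOdd_nondeg F m h2
  have h7 : 7 ≤ Fintype.card (Unit ⊕ (Fin m ⊕ Fin m)) := by simp; omega
  have C := clO hQ h7
  obtain ⟨e⟩ := C.out_two_prod hF (std_odd m) (card_out_odd hQ h7 ⟨m, by simp; omega⟩
      (std_odd m).fld_surj)
  refine ⟨(C.outEquiv (clO_surj hQ h7 ?_)).trans e⟩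
  rcases hm.eq_or_lt with rfl | h
  · exact Or.inr (quadOdd_wittIndex F 3 h2)
  · exact Or.inl (by simp; omega)

end Cfsg.Agent.S2604
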