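import Cfsg.Statements.S2648
import Cfsg.Agent.Pool10.DLRep

set_option autoImplicit false
open Cfsg

namespace Cfsg.Agent.S2648

open Cfsg.Agent.Syl2 Cfsg.Agent.Pool10

/-- Let q be odd, F a field with q elements and n ≥ 1. A Sylow 2-subgroup R of the symplectic group Sp_{2n}(F) has derived length exactly k + 1, where 2^k ≤ 2n < 2^{k+1}: the (k+1)-st term of its derived series is trivial and the k-th is not. -/
theorem result {F : Type*} [Field F] [Fintype F] [DecidableEq F] (q : ℕ) (hF : Fintype.card F = q) (hq : Odd q) (n : ℕ) (hn : 1 ≤ n) (R : Sylow 2 ↥(Matrix.symplecticGroup (Fin n) F)) : derivedSeries ↥(R : Subgroup ↥(Matrix.symplecticGroup (Fin n) F)) (Nat.log 2 (2 * n) + 1) = ⊥ ∧ derivedSeries ↥(R : Subgroup ↥(Matrix.symplecticGroup (Fin n) F)) (Nat.log 2 (2 * n)) ≠ ⊥ := by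
  subst hF
  refine ⟨ds_GL_two R.isPGroup' (by simpa [two_mul] using Nat.lt_pow_succ_log_self one_lt_two (2 * n))
    (((Matrix.symplecticGroup (Fin n) F).subtype.comp (Subgroup.subtype _)).toHomUnits)
    fun a b h => Subtype.ext (Subtype.ext (congrArg Units.val h)), fun h => ?_⟩
  let A : Sylow 2 (Matrix.SpecialLinearGroup (Fin 2) F) := default
  obtain ⟨k, hk, ⟨e⟩⟩ := S0261.result hq A
  obtain ⟨a, x, m, hm⟩ := PGrp.isMC_of_quaternion e hk
  obtain ⟨K, hK, h1⟩ := ds_low (p := 2) (d := 1) (Nat.log 2 n)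
    ((spWD n (two_ne hq)).pull _ (A : Subgroup (Matrix.SpecialLinearGroup (Fin 2) F)).subtype_injective)
    A.isPGroup' (fun e => hm.not_comm (PGrp.commutator_eq_bot_iff.1 e))
    (by simpa using Nat.pow_log_le_self 2 (by omega))
  refine h1 (ds_sylow R hK ?_)
  rwa [mul_comm, Nat.log_mul_base one_lt_two (by omega), add_comm] at h

end Cfsg.Agent.S2648
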