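import Cfsg.Statements.S2649
import Cfsg.Agent.Small.M23Code

set_option autoImplicit false
open Cfsg

namespace Cfsg.Agent.S2649



/-- Extensions of the Mathieu group M₂₃ by its code module split. Let E be a finite group with a normal subgroup N, an isomorphism φ from E/N onto M₂₃ = `Spor.M23` (the stabiliser of the extra point `none` in M₂₄ acting on the 24 points `GolayPt`), and an injective additive homomorphism ψ from N onto the set of words of the binary Golay code `golayCode` that vanish at `none` (an 11-dimensional space over the field with two elements), such that conjugation by g ∈ E on N corresponds under ψ to the coordinate permutation w ↦ w ∘ σ⁻¹, σ the permutation φ(gN). Then N has a complement in E: some subgroup H meets N trivially and generates E together with N. (Equivalently, the second cohomology group of M₂₃ with coefficients in this module vanishes.) -/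
theorem result
    {E : Type*} [Group E] [Finite E] (N : Subgroup E) [hN : N.Normal]
    (φ : E ⧸ N ≃* ↥Cfsg.Spor.M23)
    (ψ : Additive ↥N →+ (Cfsg.GolayPt → ZMod 2)) (hinj : Function.Injective ψ)
    (hrange : ∀ w : Cfsg.GolayPt → ZMod 2, w ∈ Set.range ψ ↔ (w ∈ Cfsg.golayCode ∧ w none = 0))
    (hψ : ∀ (g : E) (n : ↥N),
      ψ (Additive.ofMul ⟨g * n * g⁻¹, hN.conj_mem n n.2 g⟩)
        = ψ (Additive.ofMul n) ∘ ⇑(((φ (QuotientGroup.mk g) : ↥Cfsg.Spor.M23) : Equiv.Perm Cfsg.GolayPt)⁻¹)) :
    ∃ H : Subgroup E, H ⊓ N = ⊥ ∧ H ⊔ N = ⊤ := by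
  classical
  let π : E →* Cfsg.Spor.M23 := φ.toMonoidHom.comp (QuotientGroup.mk' N)
  have hk : π.ker = N := by
    ext g
    simp [π, MonoidHom.mem_ker]
  let ψ' : E → Cfsg.GolayPt → ZMod 2 := fun e => if h : e ∈ N then ψ (Additive.ofMul ⟨e, h⟩) else 0
  have e : ∀ (n : E) (h : n ∈ N), ψ' n = ψ (Additive.ofMul ⟨n, h⟩) := fun n h => dif_pos h
  have := Small.M23Code.split (π := π) (φ.surjective.comp (QuotientGroup.mk'_surjective N)) ψ'
  rw [hk] at this
  refine this (fun n hn n' hn' => ?_) (fun n hn h => ?_) (fun w => ?_) fun g n hn => ?_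
  · rw [e _ (N.mul_mem hn hn'), e n hn, e n' hn', ← map_add]; rfl
  · rw [e n hn, ← ψ.map_zero] at h
    exact congrArg Subtype.val (hinj h)
  · rw [← hrange]
    exact ⟨fun ⟨n, hn, h⟩ => ⟨_, (e n hn).symm.trans h⟩, fun ⟨n, h⟩ => ⟨n.toMul.1, n.toMul.2, (e _ n.toMul.2).trans h⟩⟩
  · have := hψ g⁻¹ ⟨n, hn⟩
    rw [e _ (hN.conj_mem' n hn g), e n hn]
    simp only [inv_inv, QuotientGroup.mk_inv, map_inv, Subgroup.coe_inv] at this
    exact this

end Cfsg.Agent.S2649
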