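import Cfsg.Statements.S2650
import Cfsg.Agent.Small.M23NS

set_option autoImplicit false
open Cfsg

namespace Cfsg.Agent.S2650



/-- A non-split extension of the Mathieu group M₂₃ by its cocode module exists. There is a finite group E with a normal subgroup N, an isomorphism φ from E/N onto M₂₃ = `Spor.M23` (the stabiliser of the extra point `none` in M₂₄ acting on the 24 points `GolayPt`), and a surjective additive homomorphism θ from the binary words on `GolayPt` onto N whose kernel consists of the words of the Golay code `golayCode` and their translates by the unit vector at `none` (so N is elementary abelian of order 2¹¹), such that θ carries the coordinate permutation w ↦ w ∘ σ⁻¹, σ = φ(gN), to conjugation by g on N — and such that N has no complement in E. -/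
theorem result :
    ∃ (E : Type) (_ : Group E) (_ : Finite E) (N : Subgroup E) (_ : N.Normal)
      (φ : E ⧸ N ≃* ↥Cfsg.Spor.M23) (θ : (Cfsg.GolayPt → ZMod 2) →+ Additive ↥N),
      Function.Surjective θ ∧
      (∀ w : Cfsg.GolayPt → ZMod 2, θ w = 0 ↔ (w ∈ Cfsg.golayCode ∨ w + Pi.single none 1 ∈ Cfsg.golayCode)) ∧
      (∀ (g : E) (w : Cfsg.GolayPt → ZMod 2),
        ((θ (w ∘ ⇑(((φ (QuotientGroup.mk g) : ↥Cfsg.Spor.M23) : Equiv.Perm Cfsg.GolayPt)⁻¹))).toMul : E)
          = g * ((θ w).toMul : E) * g⁻¹) ∧
      ∀ H : Subgroup E, H ⊓ N = ⊥ → H ⊔ N ≠ ⊤ := by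
  obtain ⟨E, _, π, τ, C, h⟩ := Small.M23NS.exists_ns
  haveI : Finite π.ker := Finite.of_surjective (fun w => (⟨τ w, C.mem w⟩ : π.ker)) fun n =>
    ((C.ker _).1 n.2).imp fun _ => Subtype.ext
  let φ := QuotientGroup.quotientKerEquivOfSurjective π C.surj
  haveI : Finite (E ⧸ π.ker) := Finite.of_equiv _ φ.toEquiv.symm
  haveI : Finite E := Finite.of_equiv _ (Subgroup.groupEquivQuotientProdSubgroup (s := π.ker)).symm
  refine ⟨E, inferInstance, inferInstance, π.ker, inferInstance, φ,
    AddMonoidHom.mk' (fun w => Additive.ofMul ⟨τ w, C.mem w⟩) fun w w' => congrArg _ (Subtype.ext (C.add w w')),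
    fun n => ((C.ker _).1 n.toMul.2).imp fun _ h => congrArg Additive.ofMul (Subtype.ext h), fun w => ?_, fun g w => ?_, h⟩
  · exact (ofMul_eq_zero.trans Subtype.ext_iff).trans (C.one w)
  · have := C.conj g⁻¹ w
    rw [inv_inv, map_inv] at this
    exact this

end Cfsg.Agent.S2650
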