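import Cfsg.Statements.S2651
import Cfsg.Agent.Small.M23Coc

set_option autoImplicit false
open Cfsg

namespace Cfsg.Agent.S2651

open Cfsg.Agent.Small Cfsg.Agent.Small.M23X in
theorem coc {E : Type*} [Group E] (N : Subgroup E) [hN : N.Normal]
    (φ : E ⧸ N ≃* ↥Cfsg.Spor.M23) (θ : (Cfsg.GolayPt → ZMod 2) →+ Additive ↥N)
    (hsurj : Function.Surjective θ)
    (hker : ∀ w : Cfsg.GolayPt → ZMod 2, θ w = 0 ↔ (w ∈ Cfsg.golayCode ∨ w + Pi.single none 1 ∈ Cfsg.golayCode))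
    (hθ : ∀ (g : E) (w : Cfsg.GolayPt → ZMod 2),
      ((θ (w ∘ ⇑(((φ (QuotientGroup.mk g) : ↥Cfsg.Spor.M23) : Equiv.Perm Cfsg.GolayPt)⁻¹))).toMul : E)
        = g * ((θ w).toMul : E) * g⁻¹) :
    ∃ (π : E →* Cfsg.Spor.M23) (τ : V → E), Coc π τ ∧ π.ker = N := by
  let π : E →* Cfsg.Spor.M23 := φ.toMonoidHom.comp (QuotientGroup.mk' N)
  have hk : ∀ g, π g = 1 ↔ g ∈ N := fun g => by simp [π]
  refine ⟨π, fun w => ((θ w).toMul : N), ⟨φ.surjective.comp (QuotientGroup.mk'_surjective N), fun w w' => ?_,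
    fun e => (hk e).trans ⟨fun h => ?_, fun ⟨w, h⟩ => h ▸ (θ w).toMul.2⟩, fun w => ?_, fun g w => ?_⟩, Subgroup.ext hk⟩
  · rw [map_add]; rfl
  · obtain ⟨w, hw⟩ := hsurj (Additive.ofMul ⟨e, h⟩)
    exact ⟨w, by rw [hw]; rfl⟩
  · rw [OneMemClass.coe_eq_one, toMul_eq_one, hker]; rfl
  · have := hθ g⁻¹ w
    simp only [inv_inv, QuotientGroup.mk_inv, map_inv, Subgroup.coe_inv] at this
    exact this

/-- The non-split extension of the Mathieu group M₂₃ by its cocode module is unique. Suppose E and E' are finite groups, each with a normal subgroup (N, N'), an isomorphism of the quotient onto M₂₃ = `Spor.M23`, and a surjective additive homomorphism from the binary words on the 24 points `GolayPt` onto the normal subgroup with kernel the Golay code `golayCode` together with its translate by the unit vector at the extra point `none`, intertwining the coordinate permutation w ↦ w ∘ σ⁻¹ (σ the image of gN) with conjugation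 by g; and suppose that in each group the normal subgroup has no complement. Then E and E' are isomorphic. -/
theorem result
    {E : Type*} [Group E] [Finite E] (N : Subgroup E) [hN : N.Normal]
    (φ : E ⧸ N ≃* ↥Cfsg.Spor.M23) (θ : (Cfsg.GolayPt → ZMod 2) →+ Additive ↥N)
    (hsurj : Function.Surjective θ)
    (hker : ∀ w : Cfsg.GolayPt → ZMod 2, θ w = 0 ↔ (w ∈ Cfsg.golayCode ∨ w + Pi.single none 1 ∈ Cfsg.golayCode))
    (hθ : ∀ (g : E) (w : Cfsg.GolayPt → ZMod 2),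
      ((θ (w ∘ ⇑(((φ (QuotientGroup.mk g) : ↥Cfsg.Spor.M23) : Equiv.Perm Cfsg.GolayPt)⁻¹))).toMul : E)
        = g * ((θ w).toMul : E) * g⁻¹)
    (hns : ∀ H : Subgroup E, H ⊓ N = ⊥ → H ⊔ N ≠ ⊤)
    {E' : Type*} [Group E'] [Finite E'] (N' : Subgroup E') [hN' : N'.Normal]
    (φ' : E' ⧸ N' ≃* ↥Cfsg.Spor.M23) (θ' : (Cfsg.GolayPt → ZMod 2) →+ Additive ↥N')
    (hsurj' : Function.Surjective θ')
    (hker' : ∀ w : Cfsg.GolayPt → ZMod 2, θ' w = 0 ↔ (w ∈ Cfsg.golayCode ∨ w + Pi.single none 1 ∈ Cfsg.golayCode))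
    (hθ' : ∀ (g : E') (w : Cfsg.GolayPt → ZMod 2),
      ((θ' (w ∘ ⇑(((φ' (QuotientGroup.mk g) : ↥Cfsg.Spor.M23) : Equiv.Perm Cfsg.GolayPt)⁻¹))).toMul : E')
        = g * ((θ' w).toMul : E') * g⁻¹)
    (hns' : ∀ H : Subgroup E', H ⊓ N' = ⊥ → H ⊔ N' ≠ ⊤) :
    Nonempty (E ≃* E') := by
  obtain ⟨π, τ, C, rfl⟩ := coc N φ θ hsurj hker hθ
  obtain ⟨π', τ', C', rfl⟩ := coc N' φ' θ' hsurj' hker' hθ'
  exact Small.M23Coc.uniq C C' hns hns'

end Cfsg.Agent.S2651
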