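import Cfsg.Statements.S2652
import Cfsg.Agent.Fischer.Base
-- import your own Cfsg.Agent.* helpers here

set_option autoImplicit false
open Cfsg

namespace Cfsg.Agent.S2652

/-- Let T be a Sylow 2-subgroup of the Fischer group Fi₂₃ (the finitely presented group `Spor.Fi23`; T has order 2¹⁸). Then every elementary abelian subgroup of Fi₂₃ contained in T and normal in T has order at most 2¹¹, and there is exactly one such subgroup of order 2¹¹. -/
theorem result
    (T : Sylow 2 Cfsg.Spor.Fi23) :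
    (∀ A : Subgroup Cfsg.Spor.Fi23, A ≤ T → (A.subgroupOf T).Normal → Cfsg.IsElementaryAbelian 2 A →
        Nat.card A ≤ 2 ^ 11) ∧
    ∃! A : Subgroup Cfsg.Spor.Fi23, A ≤ T ∧ (A.subgroupOf T).Normal ∧ Cfsg.IsElementaryAbelian 2 A ∧
        Nat.card A = 2 ^ 11 := by
  classical
  have h := Fischer.F23.b
  obtain ⟨B, k, e⟩ := h.k.wEq.2
  obtain ⟨g, hg⟩ := Fischer.TG.exists_conj_sylow h.fl.tg (E := {b | b ∈ B}) k.2.1 k.2.2 T
  replace k := k.conj h.fl.wt (h.fl.top g)
  have m : ∀ b ∈ B.map fun x => g * x * g⁻¹, b ∈ (T : Subgroup Cfsg.Spor.Fi23) := List.forall_mem_map.2 hg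
  rw [← B.length_map fun x => g * x * g⁻¹] at e
  generalize B.map (fun x => g * x * g⁻¹) = B at k m e
  have J := h.bs.main k e T.isPGroup' (Subgroup.subtype_injective _) (by simpa only [Subgroup.range_subtype] using m)
  obtain ⟨F, f1, f2⟩ := Finset.exists_subset_card_eq (s := B.toFinset) (n := 8) (by
    rw [List.toFinset_card_of_nodup k.1, e]; decide)
  have c := (h.bs.fix' k e T.isPGroup' m (one_mem _) (fun b hb => by simpa using f1 hb) f2
    fun b _ => Commute.one_left b).2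
  have le : Subgroup.closure {b | b ∈ B} ≤ T := (Subgroup.closure_le _).2 m
  have sq : ∀ x ∈ Subgroup.closure {b | b ∈ B}, x * x = 1 := fun x hx => by
    obtain ⟨r, r1, -, rfl⟩ := k.mem_closure h.fl.wt hx
    exact r1.prod_sq h.fl.wt
  have ea : ∀ A : Subgroup Cfsg.Spor.Fi23, Cfsg.IsElementaryAbelian 2 A → Cfsg.IsElementaryAbelian 2 (A.subgroupOf T) :=
    fun A hA => ⟨⟨⟨fun a b => Subtype.ext (Subtype.ext (congrArg Subtype.val (hA.1.1.1 ⟨a.1.1, a.2⟩ ⟨b.1.1, b.2⟩) :))⟩⟩,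
      fun a ha => Subtype.ext (hA.2 a ha)⟩
  have mx : ∀ A ∈ Cfsg.maxElementaryAbelianSubgroups 2 (T : Subgroup Cfsg.Spor.Fi23),
      A.map (Subgroup.subtype _) ≤ Subgroup.closure {b | b ∈ B} := fun A hA => J ▸ Subgroup.map_mono (le_sSup hA)
  have bd : ∀ A : Subgroup (T : Subgroup Cfsg.Spor.Fi23), Cfsg.IsElementaryAbelian 2 A → Nat.card A ≤ 2 ^ 11 := by
    intro A hA
    obtain ⟨E, h1, h2⟩ := Set.exists_max_image {A : Subgroup (T : Subgroup Cfsg.Spor.Fi23) |
      Cfsg.IsElementaryAbelian 2 A} (fun A => Nat.card A) (Set.toFinite _) ⟨A, hA⟩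
    have := Subgroup.card_le_of_le (mx E ⟨h1, h2⟩)
    rw [Subgroup.card_map_of_injective (Subgroup.subtype_injective _), c] at this
    exact (h2 A hA).trans this
  have cd : ∀ A : Subgroup Cfsg.Spor.Fi23, A ≤ T → Nat.card (A.subgroupOf T) = Nat.card A := fun A hA =>
    Nat.card_congr (Subgroup.subgroupOfEquivOfLe hA).toEquiv
  refine ⟨fun A h1 _ h3 => cd A h1 ▸ bd _ (ea A h3), _, ⟨le, ⟨fun v hv t => ?_⟩,
    ⟨⟨⟨fun a b => Subtype.ext ((Fischer.commute_iff_sq (sq _ a.2) (sq _ b.2)).2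
      (by rw [pow_two, sq _ (mul_mem a.2 b.2)]))⟩⟩, fun a ha => by rw [pow_two, sq a ha]⟩, c⟩,
    fun A ⟨h1, _, h3, h4⟩ => Subgroup.eq_of_le_of_card_ge ?_ (c.trans h4.symm).le⟩
  · have := Subgroup.mem_map_of_mem (MulAut.conj t.1).toMonoidHom (Subgroup.mem_subgroupOf.1 hv)
    rw [MonoidHom.map_closure] at this
    exact Subgroup.closure_mono (by
      rintro _ ⟨y, hy, rfl⟩
      exact h.bs.max k e T.isPGroup' m (Fischer.TG.conj h.fl.tg _ (k.2.1 y hy))
        (mul_mem (mul_mem t.2 (m y hy)) (inv_mem t.2))) this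
  · have := mx (A.subgroupOf T) ⟨ea A h3, fun E hE => (bd E hE).trans_eq ((cd A h1).trans h4).symm⟩
    rwa [Subgroup.subgroupOf_map_subtype, inf_eq_left.2 h1] at this

end Cfsg.Agent.S2652
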