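import Cfsg.Statements.S2756
import Cfsg.Agent.LieM.SuffInv
import Cfsg.Agent.LieM.Omega
import Cfsg.Agent.Invol.More
import Cfsg.Agent.Solv.Core
import Mathlib.Tactic.Group

set_option autoImplicit false
open Cfsg

namespace Cfsg.Agent.S2756
open scoped commutatorElement

open Subgroup Cfsg.Agent.BG Cfsg.Agent.LieM

theorem no_inv {G : Type*} [Group G] [Finite G] {M P : Subgroup G} (hP : SylowIn 2 P M) (hn : P ⊴ M) {x g : G}
    (hx : x ∈ M) (hg : g ∈ M) (ox : PiElt {2}ᶜ x) (e : g * x * g⁻¹ = x⁻¹) : x = 1 := by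
  have o : Odd (P.relIndex M) := pnat_odd.1 hP.idx
  haveI := hn.subgroupOf
  let f := QuotientGroup.mk' (P.subgroupOf M)
  have e1 : f ⟨g, hg⟩ * f ⟨x, hx⟩ * (f ⟨g, hg⟩)⁻¹ = (f ⟨x, hx⟩)⁻¹ := by
    rw [← map_inv, ← map_inv, ← map_mul, ← map_mul]; exact congrArg f (Subtype.ext e)
  have pw : ∀ k : ℕ, f ⟨g, hg⟩ ^ (2 * k + 1) * f ⟨x, hx⟩ * (f ⟨g, hg⟩ ^ (2 * k + 1))⁻¹ = (f ⟨x, hx⟩)⁻¹ := fun k => by
    generalize f ⟨g, hg⟩ = a at *
    generalize f ⟨x, hx⟩ = b at *
    induction k with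
    | zero => simpa using e1
    | succ k ih =>
      rw [show a ^ (2 * (k + 1) + 1) * b * (a ^ (2 * (k + 1) + 1))⁻¹ =
        a * (a * (a ^ (2 * k + 1) * b * (a ^ (2 * k + 1))⁻¹) * a⁻¹) * a⁻¹ by group, ih,
        show a * b⁻¹ * a⁻¹ = (a * b * a⁻¹)⁻¹ by group, e1, inv_inv, e1]
  obtain ⟨k, hk⟩ := o
  have h1 := pw k
  rw [← hk, show f ⟨g, hg⟩ ^ P.relIndex M = 1 from pow_card_eq_one', one_mul, inv_one, mul_one,
    eq_inv_iff_mul_eq_one, ← map_mul] at h1
  have h2 : x * x ∈ P := (QuotientGroup.eq_one_iff (N := P.subgroupOf M) _).1 h1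
  have h3 : x ^ 2 = 1 := p_elt_eq_one (mem_p_elt hP.pi (by rwa [sq])) (p_eltX ox 2)
  exact p_elt_eq_one ((pnat_pow_self Nat.prime_two 1).of_dvd (orderOf_dvd_of_pow_eq_one h3)) ox

/-- For a finite group G the following are equivalent: (a) G has a normal Sylow 2-subgroup; (b) for every odd prime q dividing the order of G and every Sylow q-subgroup T, the normalizer of Z(J(T)) has a normal Sylow 2-subgroup; (c) for every odd prime q and every Sylow q-subgroup T, no nonidentity element of T is inverted by an element of the normalizer of Z(J(T)). Here J(T) is the Thompson subgroup generated by the abelian subgroups of T of largest order. Stated as the two equivalences (a) ⇔ (b) and (a) ⇔ (c). -/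
theorem result {G : Type*} [Group G] [Finite G] : ((∀ P : Sylow 2 G, (P : Subgroup G).Normal) ↔ ∀ (q : ℕ) [Fact q.Prime], q ≠ 2 → q ∣ Nat.card G → ∀ T : Sylow q G, ∀ P : Sylow 2 ↥(Subgroup.normalizer (Cfsg.centerThompsonAOf (T : Subgroup G) : Set G)), (P : Subgroup ↥(Subgroup.normalizer (Cfsg.centerThompsonAOf (T : Subgroup G) : Set G))).Normal) ∧ ((∀ P : Sylow 2 G, (P : Subgroup G).Normal) ↔ ∀ (q : ℕ) [Fact q.Prime], q ≠ 2 → ∀ T : Sylow q G, ∀ x ∈ (T : Subgroup G), x ≠ 1 → ∀ g ∈ Subgroup.normalizer (Cfsg.centerThompsonAOf (T : Subgroup G) : Set G), g * x * g⁻¹ ≠ x⁻¹) := by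
  have ab : (∀ P : Sylow 2 G, (P : Subgroup G).Normal) → ∀ (M : Subgroup G) (P : Sylow 2 M), (P : Subgroup M).Normal :=
    fun h M P => by
      obtain ⟨Q⟩ : Nonempty (Sylow 2 G) := inferInstance
      haveI := h Q
      have h1 := setI_normal_Hall (normal_top _) (sylowIn_top Q) (le_top (a := M))
      rw [← normal_map_subtype_iff,
        uniq_normal_Hall h1 (normalGI le_top (normal_top _)) (sylowIn_of_sylow P)]
      exact normalGI le_top (normal_top _)
  have bc : (∀ (q : ℕ) [Fact q.Prime], q ≠ 2 → q ∣ Nat.card G → ∀ T : Sylow q G,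
      ∀ P : Sylow 2 N[centerThompsonAOf (T : Subgroup G)], (P : Subgroup N[centerThompsonAOf (T : Subgroup G)]).Normal) →
      ∀ (q : ℕ) [Fact q.Prime], q ≠ 2 → ∀ T : Sylow q G, ∀ x ∈ (T : Subgroup G), x ≠ 1 →
        ∀ g ∈ N[centerThompsonAOf (T : Subgroup G)], g * x * g⁻¹ ≠ x⁻¹ := fun h q _ hq T x hx x1 g hg e => by
    obtain ⟨P⟩ : Nonempty (Sylow 2 N[centerThompsonAOf (T : Subgroup G)]) := inferInstance
    exact x1 (no_inv (sylowIn_of_sylow P) (normal_map_subtype (h q hq ((pgroup_pdiv T.isPGroup' fun e =>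
      x1 (mem_bot.1 (e ▸ hx))).trans (card_subgroup_dvd_card _)) T P))
      (PLocal.normalizer_le_normalizer_ZJA _ (normG _ hx)) hg (mem_p_elt (p'group_of_ne T.isPGroup' hq) hx) e)
  have ca : (∀ (q : ℕ) [Fact q.Prime], q ≠ 2 → ∀ T : Sylow q G, ∀ x ∈ (T : Subgroup G), x ≠ 1 →
      ∀ g ∈ N[centerThompsonAOf (T : Subgroup G)], g * x * g⁻¹ ≠ x⁻¹) → ∀ P : Sylow 2 G, (P : Subgroup G).Normal :=
    fun h P => by
      let f := QuotientGroup.mk' (pCore 2 G)
      have h1 : (P : Subgroup G).map f = ⊥ := by_contra fun h0 => by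
        obtain ⟨t, -, ot⟩ := exists_invol_of_pgroup (P.isPGroup'.map f) h0
        obtain ⟨r, pr, odd, e⟩ := Invol.exists_prime_inverted ot (by
          rw [Solv.pCore_quotient_pCore, mem_bot]; rintro rfl; simp at ot)
        haveI := Fact.mk pr
        have hq : orderOf r ≠ 2 := fun e => by rw [e] at odd; exact absurd odd (by decide)
        obtain ⟨T⟩ : Nonempty (Sylow (orderOf r) G) := inferInstance
        exact not_dihedral_of_ZJ hq T (h _ hq T) (PLocal.involves_iff_top.2 ((PLocal.involves_quot _).trans'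
          (PLocal.involves_iff_top.1 ((S2758.result hq).2.2 ⟨t, r, ⟨1, ot⟩, ⟨1, (pow_one _).symm⟩,
            fun e => pr.one_lt.ne' (by rw [e, orderOf_one]), e⟩))))
      rw [Subgroup.map_eq_bot_iff, QuotientGroup.ker_mk'] at h1
      rw [← P.is_maximal' (Solv.isPGroup_pCore 2 G) h1]
      infer_instance
  exact ⟨⟨fun h q _ _ _ T P => ab h _ P, fun h => ca (bc h)⟩, fun h => bc fun q _ _ _ T P => ab h _ P, ca⟩

end Cfsg.Agent.S2756
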