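import Cfsg.Statements.S2757
import Cfsg.Agent.S2754
import Cfsg.Agent.S2755
import Cfsg.Agent.LieM.SuffInv
import Cfsg.Agent.S2759
import Mathlib.Tactic.Group

set_option autoImplicit false
universe u
open Cfsg

namespace Cfsg.Agent.S2757
open scoped commutatorElement

open Subgroup Cfsg.Agent.BG Cfsg.Agent.LieM

/-- Let G be a finite group and T a Sylow 3-subgroup such that no nonidentity element of T is inverted by an element of the normalizer of Z(J(T)) (J(T) the Thompson subgroup generated by the abelian subgroups of largest order). Then the symmetric group of degree 3 is not involved in G, and every non-abelian composition factor of G is a Suzuki group Sz(2^(2n+1)) or PSL₂ over a field with 3^(2n+1) elements. -/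
theorem result {G : Type u} [Group G] [Finite G] (T : Sylow 3 G) (h : ∀ x ∈ (T : Subgroup G), x ≠ 1 → ∀ g ∈ Subgroup.normalizer (Cfsg.centerThompsonAOf (T : Subgroup G) : Set G), g * x * g⁻¹ ≠ x⁻¹) : ¬ Cfsg.Involves (Equiv.Perm (Fin 3)) G ∧ Cfsg.IsCompositionKGroupWith Cfsg.IsSuzukiOrPSL2OddPowerThree G := by
  have h3 : ¬ PLocal.Involves (⊤ : Subgroup G) (Equiv.Perm (Fin 3)) := fun h3 => by
    obtain ⟨e⟩ := S2759.D3
    exact not_dihedral_of_ZJ (by decide) T h (PLocal.involves_iff_top.2 (h3.of_surjective (g := e.symm.toMonoidHom)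
      e.symm.surjective))
  refine ⟨fun h => h3 (PLocal.involves_iff_top.1 h), fun H _ N _ _ hna => ?_⟩
  have h4 : ¬ Cfsg.Involves (Equiv.Perm (Fin 3)) (H ⧸ N) := fun h => h3 ((PLocal.involves_sub H).trans'
    ((PLocal.involves_quot N).trans' (PLocal.involves_iff_top.1 h)))
  refine (Cfsg.Agent.S2755.result ((Cfsg.Agent.S2754.result hna).1 fun h => h4 (PLocal.involves_iff_top.2 ?_))).2.1 h4
  obtain ⟨e⟩ := S2759.quot_V4
  exact (PLocal.involves_iff_top.1 h).of_surjective (g := e.toMonoidHom.comp (QuotientGroup.mk' _))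
    (e.surjective.comp (QuotientGroup.mk'_surjective _))

end Cfsg.Agent.S2757
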