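import Cfsg.Statements.S2787
import Cfsg.Agent.PLocal.Stable
import Cfsg.Agent.Classical.PSL2Basic
import Cfsg.Agent.PLocal.PU1
import Cfsg.Agent.S1157
-- import your own Cfsg.Agent.* helpers here

set_option autoImplicit false
open Cfsg

namespace Cfsg.Agent.S2787


open Subgroup Cfsg Cfsg.Agent.Transfer Cfsg.Agent.BG Cfsg.Agent.PLocal Pointwise
open scoped commutatorElement

/-- Two elements of a `2`-subgroup commute unless one of them squares to `1`. -/
def DP (Γ : Type*) [Group Γ] : Prop := ∀ R : Subgroup Γ, IsPGroup 2 R → ∀ x ∈ R, ∀ y ∈ R, x * y = y * x ∨ x * x = 1 ∨ y * y = 1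

theorem DP.equiv {Γ Δ : Type*} [Group Γ] [Group Δ] (h : DP Δ) (e : Γ ≃* Δ) : DP Γ := fun R hR x hx y hy => by
  simpa only [← map_mul, e.injective.eq_iff, MulEquiv.coe_toMonoidHom, map_eq_one_iff e e.injective] using
    h _ (hR.map e.toMonoidHom) _ (mem_map_of_mem _ hx) _ (mem_map_of_mem _ hy)

theorem dp_psl {F : Type*} [Field F] [Finite F] (h2 : (2 : F) ≠ 0) : DP (Matrix.ProjectiveSpecialLinearGroup (Fin 2) F) :=
  fun R hR x hx y hy => by
  obtain ⟨T, hT, rfl⟩ := exists_lift_pgroup Classical.pslMk_surjective hR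
  obtain ⟨x, hx, rfl⟩ := hx
  obtain ⟨y, hy, rfl⟩ := hy
  rcases Classical.sl_isCyclic_or_quaternion h2 T.subtype T.subtype_injective hT with h | ⟨k, -, ⟨e⟩⟩
  · exact .inl (by
      rw [← map_mul, ← map_mul]
      exact congrArg _ (congrArg Subtype.val (h.isMulCommutative.is_comm.comm (⟨x, hx⟩ : T) ⟨y, hy⟩)))
  have key : ∀ z : T, ∀ i, e z = .xa i → Classical.pslMk F z * Classical.pslMk F z = 1 := fun z i hz => by
    have : (z * z) * (z * z) = 1 := e.injective (by
      have := QuaternionGroup.xa_pow_four i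
      rw [← hz] at this
      simpa only [map_mul, map_one, pow_succ, pow_zero, one_mul, mul_assoc] using this)
    rcases Classical.sl_eq_of_mul_self_eq_one h2 (congrArg Subtype.val this) with h | h <;>
      · rw [← map_mul]; change Classical.pslMk F (z * z : T).1 = 1; rw [h]; first | exact map_one _ | exact (Classical.pslMk_neg 1).trans (map_one _)
  rcases h1 : e ⟨x, hx⟩ with i | i
  · rcases h3 : e ⟨y, hy⟩ with j | j
    · refine .inl (by
        rw [← map_mul, ← map_mul]
        exact congrArg _ (congrArg Subtype.val (e.injective (a₁ := ⟨x, hx⟩ * ⟨y, hy⟩) (a₂ := ⟨y, hy⟩ * ⟨x, hx⟩)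
          (by rw [map_mul, map_mul, h1, h3]; simp [add_comm]))))
    · exact .inr (.inr (key _ j h3))
  · exact .inr (.inl (key _ i h1))


/-- Let p be a prime and let H act by conjugation on the elementary abelian p-subgroup V of a finite group, irreducibly (no H-invariant subgroups of V other than 1 and V) and nontrivially, and suppose H/C_H(V) is isomorphic to PSL₂(F) for a field F with p^n elements, p^n odd, or p = 3 and H/C_H(V) is isomorphic to a Ree group ²G₂(3^(2m+1)), m ≥ 1. Then no subgroup A of H acting nontrivially on V acts quadratically: [V, A, A] = 1 forces [V, A] = 1. -/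
theorem result {G : Type*} [Group G] [Finite G] {p : ℕ} [Fact p.Prime] (V H : Subgroup G) (hV : Cfsg.IsElementaryAbelian p V) (hHV : H ≤ Subgroup.normalizer (V : Set G)) (hirr : ∀ U : Subgroup G, U ≤ V → H ≤ Subgroup.normalizer (U : Set G) → U = ⊥ ∨ U = V) (hnt : ¬ H ≤ Subgroup.centralizer (V : Set G)) [hn : ((Subgroup.centralizer (V : Set G)).subgroupOf H).Normal] (hq : (∃ (F : Type) (_ : Field F) (_ : Fintype F) (n : ℕ), Fintype.card F = p ^ n ∧ Odd (Fintype.card F) ∧ Nonempty (↥H ⧸ (Subgroup.centralizer (V : Set G)).subgroupOf H ≃* Matrix.ProjectiveSpecialLinearGroup (Fin 2) F)) ∨ (p = 3 ∧ Cfsg.Lie.IsoRee (↥H ⧸ (Subgroup.centralizer (V : Set G)).subgroupOf H))) (A : Subgroup G) (hA : A ≤ H) (hquad : ⁅⁅V, A⁆, A⁆ = ⊥) : ⁅V, A⁆ = ⊥ := by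
  have ⟨hp, hD⟩ : p ≠ 2 ∧ DP (↥H ⧸ (Subgroup.centralizer (V : Set G)).subgroupOf H) := by
    rcases hq with ⟨F, _, _, n, h1, h2, ⟨e⟩⟩ | ⟨rfl, K, _, _, m, hm, hK, ⟨e⟩⟩
    · have := PU.charP_of_card h1
      have h3 := Classical.two_ne_zero_iff_odd.2 (Nat.card_eq_fintype_card (α := F) ▸ h2)
      exact ⟨by rintro rfl; exact h3 (CharP.cast_eq_zero F 2), (dp_psl h3).equiv e⟩
    · refine ⟨by decide, DP.equiv (fun R hR x hx y hy => ?_) e⟩
      obtain ⟨S, hS⟩ := hR.exists_le_sylow
      exact .inl ((S1157.result hm hK S).1.ge (hS hy) x (hS hx))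
  have hs : StableOn p H V := by
    by_contra hs
    obtain ⟨a, ha, b, hb, h1, h2, h3⟩ := exists_pair_of_not_stableOn hHV hs
    have hL : closure {a, b} ≤ H := (closure_le _).2 (by rintro _ (rfl | rfl) <;> assumption)
    obtain ⟨K, _, _, _, _, φ, R, h4, h5⟩ := exists_SL2_of_quad hV (hL.trans hHV) rfl h1 h2 h3
    have ha' : a ∈ closure {a, b} := subset_closure (by simp)
    have hb' : b ∈ closure {a, b} := subset_closure (by simp)
    have e := range_eq_closure_pair rfl ha' hb' φ
    refine h4 ?_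
    rw [e]
    refine sl2_isPGroup_of_abelian_two hp
      (by rintro _ (rfl | rfl); exacts [(h5.unip (x := ⟨a, ha'⟩) h1).pow_eq_one, (h5.unip (x := ⟨b, hb'⟩) h2).pow_eq_one])
      fun Q hQ hQ2 => ?_
    rw [← e] at hQ
    obtain ⟨T, hT, e⟩ := exists_lift_pgroup φ.rangeRestrict_surjective (Loc.isPGroup_subgroupOf hQ2 φ.range)
    refine isMulCommutative_of_forall fun x hx y hy => ?_
    obtain ⟨x, hx', e1⟩ : (⟨x, hQ hx⟩ : φ.range) ∈ T.map φ.rangeRestrict := e ▸ hx
    obtain ⟨y, hy', e2⟩ : (⟨y, hQ hy⟩ : φ.range) ∈ T.map φ.rangeRestrict := e ▸ hy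
    obtain rfl := congrArg Subtype.val e1
    obtain rfl := congrArg Subtype.val e2
    let π := (QuotientGroup.mk' ((Subgroup.centralizer (V : Set G)).subgroupOf H)).comp (inclusion hL)
    have k : ∀ z, π z = 1 → φ z = 1 := fun z hz => h5.eq_one (mem_subgroupOf.1 ((QuotientGroup.eq_one_iff (inclusion hL z)).1 hz))
    have c : ∀ z, π z * π z = 1 → φ z = 1 ∨ φ z = -1 := fun z hz => Classical.sl_eq_of_mul_self_eq_one
      (Classical.two_ne_zero_of_char K p hp) (by rw [← map_mul] at hz ⊢; exact k _ hz)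
    change φ x * φ y = φ y * φ x
    rcases hD _ (hT.map π) _ (mem_map_of_mem _ hx') _ (mem_map_of_mem _ hy') with h | h | h
    · have := k ⁅x, y⁆ (by rwa [map_commutatorElement, commutatorElement_eq_one_iff_mul_comm])
      rwa [map_commutatorElement, commutatorElement_eq_one_iff_mul_comm] at this
    · rcases c x h with h | h <;> simp [h]
    · rcases c y h with h | h <;> simp [h]
  have hC := Loc.le_normalizer_centralizer hHV
  have hD := Loc.le_normalizer_commutator hHV (le_normalizer_opMod (p := p) le_normalizer hC)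
  have hle := (opMod_le p H (centralizer (V : Set G))).trans hHV
  rcases hirr _ (comm_le_left hle) hD with h | h
  · exact le_bot_iff.1 ((commutator_mono le_rfl (hs.le hA hquad)).trans h.le)
  · exact absurd (comm_eq_bot_iff.1 (by rw [eq_bot_of_commutator_eq (ea_isPGroup hV) hle
      (fun a ha => exists_pow_mem_of_mem_opMod hC ha) h.ge, commutator_bot_left])) hnt


end Cfsg.Agent.S2787
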