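import Cfsg.Statements.S2799
import Cfsg.Agent.PLocal.FF9
-- import your own Cfsg.Agent.* helpers here

set_option autoImplicit false
open Cfsg

namespace Cfsg.Agent.S2799


open Subgroup Cfsg Cfsg.Agent.Transfer Cfsg.Agent.BG Cfsg.Agent.PLocal Pointwise
open scoped commutatorElement

/-- Let S be a Sylow p-subgroup of the finite group G, J(S) the subgroup generated by the abelian subgroups of S of largest order, and x an element of S lying in the centre of N_G(J(S)). Assume that p is odd, or that x is a p-th power of an element of Z(S), or that the symmetric group of degree 4 is not involved in G. Then x is weakly closed in S with respect to G: every G-conjugate of x that lies in S equals x. -/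
theorem result {G : Type*} [Group G] [Finite G] {p : ℕ} [Fact p.Prime] (S : Sylow p G) (x : G) (hxS : x ∈ (S : Subgroup G)) (hxZ : x ∈ (Subgroup.center ↥(Subgroup.normalizer ((Cfsg.thompsonSubgroupAOf (S : Subgroup G)) : Set G))).map (Subgroup.normalizer ((Cfsg.thompsonSubgroupAOf (S : Subgroup G)) : Set G)).subtype) (h : p ≠ 2 ∨ (∃ z ∈ (S : Subgroup G) ⊓ Subgroup.centralizer ((S : Subgroup G) : Set G), z ^ p = x) ∨ ¬ Cfsg.Involves (Equiv.Perm (Fin 4)) G) : ∀ g : G, g * x * g⁻¹ ∈ (S : Subgroup G) → g * x * g⁻¹ = x := by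
  have hS := isSylowIn_top S
  have hW : IsConjugacyFunctor p (thompsonSubgroupAOf (G := G)) := by
    have := ind_functor (G := G) (JAF_char (p := p))
    rwa [show inducedFunctor (G := G) JAF = thompsonSubgroupAOf from funext ind_JAF] at this
  have hx : x ∈ C[N[thompsonSubgroupAOf (S : Subgroup G)]] := by
    obtain ⟨y, hy, rfl⟩ := hxZ
    exact fun g hg => congrArg Subtype.val (mem_center_iff.1 hy ⟨g, hg⟩)
  have hx' : x ∈ (S : Subgroup G) ⊓ C[⊤ ⊓ N[thompsonSubgroupAOf (S : Subgroup G)]] := ⟨hxS, by rwa [top_inf_eq]⟩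
  intro g hg
  by_cases hp : p = 2
  swap
  · exact wc_of_degree hW (fun P _ => center_le_JA P) (fun H T hT hn =>
      let ⟨u, h1, h2, h3⟩ := JA_quad hT hn; ⟨u, h1, h2, fun U V _ hU => degree_of_quad hp h3 U V hU⟩) hS hx'
      (mem_top g) hg
  rcases h with h | ⟨z, hz, rfl⟩ | h
  · exact absurd hp h
  · exact (wc_pow hW (fun P _ => center_le_JA P) (fun H T hT hn => JA_quad hT hn) hS rfl).1 _
      ⟨subset_closure ⟨z, hz, rfl⟩, hx⟩ g hg
  subst hp
  refine wc_of_min hW (fun P _ => center_le_JA P) (fun H T hT hn y hy h1 h2 => by_contra fun hc => hn ?_) hS hx'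
    (mem_top g) hg
  have hT' := IsSylowIn.subgroupOf_top hT
  have := (FF.J_normal_of_umax (M := C1[y]) ⟨h1, lt_top_iff_ne_top.2 fun e => hc (mem_center_iff.2 fun k =>
    ((e.ge (mem_top k)) y rfl).symm), fun K a b => h2 K a b.ne⟩ (IsSylowIn.sylIn hT')
    (centralizer_le (Set.singleton_subset_iff.2 ⟨hy, fun k hk =>
      ((h1 (pCore_le_isSylowIn hT' hk)) y rfl).symm⟩))
    fun e => FF.not_qd_of_S4 h ((involves_sub H).trans' e)).1
  rw [← map_subgroupOf_eq_of_le hT.1, ← map_JA (inf_ker_of_injective H.subtype_injective _)]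
  exact H.range_subtype.ge.trans (by
    rw [MonoidHom.range_eq_map]
    exact (map_mono (normalizer_eq_top _).ge).trans (le_normalizer_map _))


end Cfsg.Agent.S2799
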