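import Cfsg.Statements.S2802
import Cfsg.Agent.Loc.Red

set_option autoImplicit false
open Cfsg

namespace Cfsg.Agent.S2802

/-- Let L be a finite group and p a prime with C_L(O_p(L)) ≤ O_p(L), T a Sylow p-subgroup of L and R a subgroup with T ≤ R. If X is a p-reduced normal subgroup of R (normal in R, elementary abelian, O_p(R/C_R(X)) = 1), then the normal closure of X in L is a p-reduced normal subgroup of L. -/
theorem result {L : Type*} [Group L] [Finite L] {p : ℕ} [Fact p.Prime] (hchar : Subgroup.centralizer (Cfsg.pCore p L : Set L) ≤ Cfsg.pCore p L) (T : Sylow p L) (R : Subgroup L) (hTR : (T : Subgroup L) ≤ R) (X : Subgroup ↥R) (hX : Cfsg.IsPReducedNormal p X) : Cfsg.IsPReducedNormal p (Subgroup.normalClosure ((X.map R.subtype : Subgroup L) : Set L)) := by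
  open Cfsg.Agent.Loc Subgroup in
  rw [isPReducedNormal_iff_top, normalClosure_eq_iSup_cj]
  have := (chP_top.2 hchar).pRed_iSup_cj (sylIn_top T) hTR le_top (isPReducedNormal_iff.1 hX)
  convert this using 1
  apply le_antisymm
  · exact iSup_le fun g => le_iSup (fun g : (⊤ : Subgroup L) => cj (g : L) (X.map R.subtype)) ⟨g, mem_top g⟩
  · exact iSup_le fun g => le_iSup (fun g : L => cj g (X.map R.subtype)) g

end Cfsg.Agent.S2802
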