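import Cfsg.Statements.S2803
import Cfsg.Agent.Loc.Red

set_option autoImplicit false
open Cfsg

namespace Cfsg.Agent.S2803

/-- Let L be a finite group and p a prime with C_L(O_p(L)) ≤ O_p(L), T a Sylow p-subgroup, and Y the largest p-reduced normal subgroup of L. Put T_L = C_T(Y) and L_T = N_L(T_L). Then L = L_T · C_L(Y) (elementwise), T_L = O_p(L_T), and Y = Ω₁(Z(T_L)). -/
theorem result {L : Type*} [Group L] [Finite L] {p : ℕ} [Fact p.Prime] (hchar : Subgroup.centralizer (Cfsg.pCore p L : Set L) ≤ Cfsg.pCore p L) (T : Sylow p L) (Y : Subgroup L) (hY : (Cfsg.IsPReducedNormal p Y ∧ ∀ V : Subgroup L, Cfsg.IsPReducedNormal p V → V ≤ Y)) (TL : Subgroup L) (hTL : TL = (T : Subgroup L) ⊓ Subgroup.centralizer (Y : Set L)) : (∀ g : L, ∃ a ∈ Subgroup.normalizer (TL : Set L), ∃ c ∈ Subgroup.centralizer (Y : Set L), g = a * c) ∧ (Cfsg.pCore p ↥(Subgroup.normalizer (TL : Set L))).map (Subgroup.normalizer (TL : Set L)).subtype = TL ∧ Y = Cfsg.omegaOne p (TL ⊓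 Subgroup.centralizer (TL : Set L)) := by
  open Cfsg.Agent.Loc Subgroup in
  have e : Y = largestPReducedOf p ⊤ :=
    le_antisymm (isPReducedNormal_iff_top.1 hY.1).le_Y
      (hY.2 _ (isPReducedNormal_iff_top.2 (pRed_Y ⊤)))
  have hP := isPReducedNormal_iff_top.1 hY.1
  refine ⟨fun g => ?_, ?_, ?_⟩
  · have := (sylIn_top T).frattini_centralizer hP.norm
    rw [top_inf_eq, top_sup_eq, ← hTL] at this
    obtain ⟨a, ha, c, hc, e⟩ := (mem_sup_of_le_normalizer_right
      (le_top.trans (le_normalizer_centralizer hP.norm))).1 (this.ge (mem_top g))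
    exact ⟨a, ha, c, hc, e.symm⟩
  · have := hP.red.pCoreOf_normalizer (sylIn_top T) hP.norm
    rw [top_inf_eq, ← hTL] at this
    exact this
  · rw [e] at hTL
    rw [e]
    exact (chP_top.2 hchar).Y_eq (sylIn_top T) hTL

end Cfsg.Agent.S2803
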