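import Cfsg.Statements.S2806
import Cfsg.Agent.Loc.Wiel
import Cfsg.Agent.Loc.Red
import Cfsg.Agent.Loc.SE

set_option autoImplicit false
open Cfsg

namespace Cfsg.Agent.S2806

section helpers
open Cfsg.Agent.Loc Subgroup
open scoped commutatorElement

open Cfsg.Agent.Loc Subgroup in
theorem kiel {G : Type*} [Group G] [Finite G] {p : ℕ} [Fact p.Prime]
    (hG : ∀ T : Subgroup G, IsPGroup p T → T ≠ ⊥ → ChP p (normalizer (T : Set G)))
    {T L : Subgroup G} (hT : SylIn p T ⊤) (hL : Sig.SubnIn L ⊤) : T ⊓ L ≠ ⊥ →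
    L ⊓ centralizer ((omegaOne p (T ⊓ centralizer (T : Set G)) : Subgroup G) : Set G) =
      L ⊓ centralizer ((omegaOne p ((T ⊓ L) ⊓ centralizer ((T ⊓ L : Subgroup G) : Set G)) : Subgroup G) : Set G) := by
  refine hL.induction (P := fun L => T ⊓ L ≠ ⊥ →
    L ⊓ centralizer ((omegaOne p (T ⊓ centralizer (T : Set G)) : Subgroup G) : Set G) =
      L ⊓ centralizer ((omegaOne p ((T ⊓ L) ⊓ centralizer ((T ⊓ L : Subgroup G) : Set G)) : Subgroup G) : Set G))
    (fun _ => by rw [inf_top_eq]) (fun A B hAB hn hB ih hne => ?_)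
  have hB0 : T ⊓ B ≠ ⊥ := fun e => hne (le_bot_iff.1 (e ▸ inf_le_inf_left T hAB))
  have e1 := ih hB0
  have e2 : A ⊓ centralizer ((omegaOne p (T ⊓ centralizer (T : Set G)) : Subgroup G) : Set G) =
      A ⊓ centralizer ((omegaOne p ((T ⊓ B) ⊓ centralizer ((T ⊓ B : Subgroup G) : Set G)) : Subgroup G) : Set G) := by
    have := congrArg (fun X => A ⊓ X) e1
    simpa only [← inf_assoc, inf_eq_left.2 hAB] using this
  rw [e2]
  have hTB := hT.inf_subnIn hB
  have pA : IsPGroup p (T ⊓ A : Subgroup G) := hT.pg.to_le inf_le_left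
  have hnA : T ⊓ B ≤ normalizer ((T ⊓ A : Subgroup G) : Set G) :=
    le_normalizer_inf (le_normalizer_of_le inf_le_left) (inf_le_right.trans hn)
  obtain ⟨z, hz, z1, zp⟩ := exists_pow_eq_one_of_isPGroup (pA.to_le inf_le_left)
    (inf_centralizer_ne_bot hTB.pg pA hnA hne)
  have pz : IsPGroup p (zpowers z) := pA.to_le (zpowers_le.2 hz.1)
  have hC : ChP p (centralizer ((zpowers z : Subgroup G) : Set G)) :=
    (chP_normalizer_iff pz).1 (hG _ pz (by rwa [Ne, zpowers_eq_bot]))
  have hle : T ⊓ A ≤ T ⊓ B := inf_le_inf_left T hAB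
  have hM : ChP p (B ⊓ centralizer ((zpowers z : Subgroup G) : Set G)) :=
    hC.subnIn (hB.inf_of_le _ le_top)
  have hTc : T ⊓ B ≤ centralizer ((zpowers z : Subgroup G) : Set G) :=
    le_centralizer_iff.1 (zpowers_le.2 hz.2)
  have hS : SylIn p (T ⊓ B) (B ⊓ centralizer ((zpowers z : Subgroup G) : Set G)) :=
    hTB.mono (le_inf inf_le_right hTc) inf_le_left
  have k := hM.kieler hS ((Sig.SubnIn.of_normal hAB hn).inf_right _)
  have e3 : T ⊓ B ⊓ (A ⊓ centralizer ((zpowers z : Subgroup G) : Set G)) = T ⊓ A :=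
    le_antisymm (inf_le_inf inf_le_left inf_le_left)
      (le_inf hle (le_inf inf_le_right (hle.trans hTc)))
  rw [e3] at k
  have c1 : centralizer ((omegaOne p ((T ⊓ B) ⊓ centralizer ((T ⊓ B : Subgroup G) : Set G)) : Subgroup G) : Set G) ≤
      centralizer ((zpowers z : Subgroup G) : Set G) :=
    centralizer_anti (zpowers_le.2 (mem_omegaOne ⟨hle hz.1, hz.2⟩ zp))
  have c2 : centralizer ((omegaOne p ((T ⊓ A) ⊓ centralizer ((T ⊓ A : Subgroup G) : Set G)) : Subgroup G) : Set G) ≤
      centralizer ((zpowers z : Subgroup G) : Set G) :=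
    centralizer_anti (zpowers_le.2 (mem_omegaOne ⟨hz.1, centralizer_anti hle hz.2⟩ zp))
  rwa [inf_assoc A, inf_assoc A, inf_eq_right.2 c1, inf_eq_right.2 c2] at k

open Cfsg.Agent.Loc Subgroup in
theorem ps_eq {G : Type*} [Group G] [Finite G] {p : ℕ} [Fact p.Prime]
    (hG : ∀ T : Subgroup G, IsPGroup p T → T ≠ ⊥ → ChP p (normalizer (T : Set G)))
    {T L : Subgroup G} (hT : SylIn p T ⊤) (hL : Sig.SubnIn L ⊤) :
    pointStabilizer p L (T ⊓ L) = pElementClosure p
      (L ⊓ centralizer ((omegaOne p (T ⊓ centralizer (T : Set G)) : Subgroup G) : Set G)) := by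
  have e : pointStabilizer p L (T ⊓ L) = pElementClosure p
      (L ⊓ centralizer ((omegaOne p ((T ⊓ L) ⊓ centralizer ((T ⊓ L : Subgroup G) : Set G)) : Subgroup G) : Set G)) := rfl
  rw [e]
  by_cases h : T ⊓ L = ⊥
  · have hS := hT.inf_subnIn hL
    rw [h] at hS
    have : ∀ X : Subgroup G, X ≤ L → pElementClosure p X = ⊥ := fun X hX =>
      le_bot_iff.1 (pElementClosure_le_of_forall fun Q h1 h2 =>
        (hS.max Q (h1.trans hX) h2 bot_le).le)
    rw [this _ inf_le_left, this _ inf_le_left]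
  · rw [kiel hG hT hL h]

open Cfsg.Agent.Loc Subgroup in
theorem pec_le {G : Type*} [Group G] [Finite G] {p : ℕ} [Fact p.Prime]
    {T K X : Subgroup G} (hT : SylIn p T K) (hX : Sig.SubnIn X K) (h : T ≤ X) :
    pElementClosure p K ≤ X := by
  have : T ≤ X → pElementClosure p K ≤ pElementClosure p X := by
    refine hX.induction (P := fun X => T ≤ X → pElementClosure p K ≤ pElementClosure p X)
      (fun _ => le_rfl) (fun A B hAB hn hB ih hA => ?_)
    refine (ih (hA.trans hAB)).trans ?_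
    have hTB : SylIn p T B := hT.mono (hA.trans hAB) hB.le
    exact hTB.pElementClosure_le (le_pElementClosure hA hT.pg)
      (hn.trans (normalizer_le_normalizer_pElementClosure p A))
  exact (this h).trans (pElementClosure_le p X)

end helpers

/-- Let H be a finite group of local characteristic p, T a Sylow p-subgroup, and L₁, L₂ subnormal subgroups of H generating the subgroup L. Then the point stabilizer of L with respect to T ∩ L is generated by the point stabilizers of L₁ and L₂ with respect to T ∩ L₁ and T ∩ L₂ (point stabilizer of X w.r.t. R: the subgroup generated by the p-elements of X centralizing Ω₁(Z(R))). -/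
theorem result {H : Type*} [Group H] [Finite H] {p : ℕ} [Fact p.Prime] (hH : Cfsg.IsOfLocalCharacteristic p H) (T : Sylow p H) (L₁ L₂ : Subgroup H) (h₁ : L₁.IsSubnormal) (h₂ : L₂.IsSubnormal) : Cfsg.pointStabilizer p (L₁ ⊔ L₂) ((T : Subgroup H) ⊓ (L₁ ⊔ L₂)) = Cfsg.pointStabilizer p L₁ ((T : Subgroup H) ⊓ L₁) ⊔ Cfsg.pointStabilizer p L₂ ((T : Subgroup H) ⊓ L₂) := by
  open Cfsg.Agent.Loc Subgroup in
  open scoped commutatorElement in
  have hG := (localCharP_iff.1 hH).2
  have hT := sylIn_top T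
  have s₁ := Sig.SubnIn.top_iff.2 h₁
  have s₂ := Sig.SubnIn.top_iff.2 h₂
  have s := subnIn_sup s₁ s₂
  rw [ps_eq hG hT s₁, ps_eq hG hT s₂, ps_eq hG hT s]
  set C := centralizer ((omegaOne p ((T : Subgroup H) ⊓ centralizer ((T : Subgroup H) : Set H)) : Subgroup H) : Set H) with hC
  have hTC : (T : Subgroup H) ≤ C := le_centralizer_omegaOne_center p _
  refine le_antisymm ?_ (sup_le (pElementClosure_mono (inf_le_inf_right C le_sup_left))
    (pElementClosure_mono (inf_le_inf_right C le_sup_right)))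
  have sub : ∀ L : Subgroup H, Sig.SubnIn L ⊤ → Sig.SubnIn (pElementClosure p (L ⊓ C)) C := fun L hL =>
    (Sig.SubnIn.of_normal (pElementClosure_le p _) (le_normalizer_pElementClosure p _)).trans
      (hL.inf_of_le C le_top)
  have hX := subnIn_sup (sub _ s₁) (sub _ s₂)
  have hS : SylIn p ((T : Subgroup H) ⊓ (L₁ ⊔ L₂)) ((L₁ ⊔ L₂) ⊓ C) :=
    (hT.inf_subnIn s).mono (le_inf inf_le_right (inf_le_left.trans hTC)) inf_le_left
  refine (pec_le hS (hX.inf_of_le _ inf_le_right) (le_inf ?_ hS.le)).trans inf_le_left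
  rw [hT.inf_sup_subnIn s₁ s₂]
  exact sup_le_sup (le_pElementClosure (le_inf inf_le_right (inf_le_left.trans hTC)) (hT.pg.to_le inf_le_left))
    (le_pElementClosure (le_inf inf_le_right (inf_le_left.trans hTC)) (hT.pg.to_le inf_le_left))

end Cfsg.Agent.S2806
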