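import Cfsg.Statements.S2810
import Cfsg.Agent.Loc.CharP

set_option autoImplicit false
open Cfsg

namespace Cfsg.Agent.S2810

/-- Let H be a finite group of characteristic p and L a subgroup of H centralizing every factor of some H-invariant chain 1 = A₀ ≤ A₁ ≤ … ≤ Aₙ = O_p(H) of normal subgroups (that is, [A_{i+1}, L] ≤ Aᵢ for each i). Then L ≤ O_p(H). -/
theorem result {H : Type*} [Group H] [Finite H] {p : ℕ} [Fact p.Prime] (hchar : Subgroup.centralizer (Cfsg.pCore p H : Set H) ≤ Cfsg.pCore p H) (L : Subgroup H) (n : ℕ) (A : Fin (n + 1) → Subgroup H) (h0 : A 0 = ⊥) (hn : A (Fin.last n) = Cfsg.pCore p H) (hmono : Monotone A) (hnorm : ∀ i, (A i).Normal) (hcent : ∀ i : Fin n, ⁅A i.succ, L⁆ ≤ A i.castSucc) : L ≤ Cfsg.pCore p H := by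
  open Cfsg.Agent.Loc Subgroup in
  set K := normalClosure (L : Set H) with hK
  have hKn : ∀ X : Subgroup H, X.Normal → ∀ Y : Subgroup H, Y ≤ normalizer (X : Set H) :=
    fun X hX Y => by rw [normalizer_eq_top_iff.2 hX]; exact le_top
  have h1 : ∀ i : Fin n, ⁅A i.succ, K⁆ ≤ A i.castSucc := by
    intro i
    rw [hK, normalClosure_eq_iSup_cj, Subgroup.commutator_comm]
    refine commutator_iSup_left_le (fun _ => hKn _ (hnorm _) _) fun g => ?_
    haveI := hnorm i.succ
    haveI := hnorm i.castSucc
    rw [Subgroup.commutator_comm, ← cj_eq_of_normal g (A i.succ), ← cj_commutator,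
      ← cj_eq_of_normal g (A i.castSucc)]
    exact cj_mono g (hcent i)
  have hp : ∀ i, IsPGroup p (A i) := fun i =>
    (isPGroup_pCore p H).to_le (hn ▸ hmono (Fin.le_last i))
  have h2 : ∀ i, pResidualOf p K ≤ centralizer (A i : Set H) := by
    intro i
    induction i using Fin.induction with
    | zero => rw [h0, centralizer_bot']; exact le_top
    | succ i ih =>
      exact pResidualOf_le_centralizer_of_le (hp _) (hKn _ (hnorm _) _)
        ((commutator_mono le_rfl (pResidualOf_le p K)).trans (h1 i)) ih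
  have h3 := h2 (Fin.last n)
  rw [hn] at h3
  exact le_normalClosure.trans (le_pCore inferInstance
    (isPGroup_of_pResidualOf_le (isPGroup_pCore p H) (h3.trans hchar)))

end Cfsg.Agent.S2810
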