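import Cfsg.Statements.S2814
import Cfsg.Agent.Loc.CharP

set_option autoImplicit false
open Cfsg

namespace Cfsg.Agent.S2814

/-- Let A be a subgroup of the finite group H and K the subnormal closure of A (intersection of the subnormal subgroups containing A). Then K is the normal closure of A inside K and N_H(A) ≤ N_H(K); K = A·O^p(K), O^p(K) being generated by the elements of K of order prime to p; and if A is a p-group, O^p(K) = [O^p(K), A]. -/
theorem result {H : Type*} [Group H] [Finite H] {p : ℕ} [Fact p.Prime] (A : Subgroup H) (K : Subgroup H) (hK : K = Cfsg.subnormalClosure A) : (Subgroup.normalClosure ((A.subgroupOf K : Subgroup ↥K) : Set ↥K)).map K.subtype = K ∧ Subgroup.normalizer (A : Set H) ≤ Subgroup.normalizer (K : Set H) ∧ A ⊔ (Cfsg.pResidual p ↥K).map K.subtype = K ∧ (IsPGroup p ↥A → ⁅(Cfsg.pResidual p ↥K).map K.subtype, A⁆ = (Cfsg.pResidual p ↥K).map K.subtype) := by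
  open Cfsg.Agent.Loc Subgroup in
  obtain ⟨h1, h2, h3⟩ := subnormalClosure_spec A
  rw [← hK] at h1 h2 h3
  have hn : ∀ X, A ≤ X → X ≤ K → K ≤ normalizer (X : Set H) → K ≤ X := fun X a b c =>
    h3 X a ((Sig.SubnIn.of_normal b c).isSubnormal h2)
  have e3 : A ⊔ pResidualOf p K = K := by
    refine le_antisymm (sup_le h1 (pResidualOf_le p K)) (h3 _ le_sup_left ?_)
    exact (subnIn_of_pResidualOf_le le_sup_right (sup_le h1 (pResidualOf_le p K))).isSubnormal h2
  refine ⟨?_, ?_, e3, fun hA => ?_⟩
  · rw [map_normalClosure_subgroupOf h1]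
    exact le_antisymm (iSup_cj_le h1 le_normalizer) (hn _ (le_iSup_cj A K)
      (iSup_cj_le h1 le_normalizer) (le_normalizer_iSup_cj A K))
  · refine le_normalizer_of_cj_le fun g hg => ?_
    rw [cj_le_iff]
    refine h3 _ ?_ (Sig.SubnIn.top_iff.1 (subnIn_cj_of_mem_normalizer (Sig.SubnIn.top_iff.2 h2)
      (le_normalizer (mem_top _))))
    rw [← cj_le_iff, cj_eq_of_mem_normalizer hg]; exact h1
  · show ⁅pResidualOf p K, A⁆ = pResidualOf p K
    have hAR := h1.trans (le_normalizer_pResidualOf p K)
    refine le_antisymm (commutator_le_left_of_le_normalizer hAR) ?_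
    refine pResidualOf_le_of_le_sup hA (normalizer_commutator_ge_right _ _) ?_
    rw [sup_comm]
    refine hn _ le_sup_left (sup_le h1 ((commutator_le_left_of_le_normalizer hAR).trans
      (pResidualOf_le p K))) (e3.ge.trans (sup_le (le_sup_left.trans le_normalizer) ?_))
    exact le_normalizer_sup_commutator A _

end Cfsg.Agent.S2814
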