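import Cfsg.Statements.S2815
import Cfsg.Agent.Loc.Fst

set_option autoImplicit false
open Cfsg

namespace Cfsg.Agent.S2815

/-- Let H be a finite group and p a prime dividing its order with O_p(H) = 1, and suppose K = O^p(H) (generated by the elements of order prime to p) is quasisimple. Then K = F*(H); for every nontrivial p-subgroup Y of H, K = [K, Y] and K lies in the subgroup generated by the K-conjugates of Y; every normal subgroup of H not containing K has order prime to p; and H is p-irreducible. -/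
theorem result {H : Type*} [Group H] [Finite H] {p : ℕ} [Fact p.Prime] (hp : p ∣ Nat.card H) (hO : Cfsg.pCore p H = ⊥) (hq : Cfsg.IsQuasisimple ↥(Cfsg.pResidual p H)) : Cfsg.pResidual p H = Cfsg.generalizedFittingSubgroup H ∧ (∀ Y : Subgroup H, IsPGroup p ↥Y → Y ≠ ⊥ → ⁅Cfsg.pResidual p H, Y⁆ = Cfsg.pResidual p H ∧ Cfsg.pResidual p H ≤ ⨆ k : ↥(Cfsg.pResidual p H), Y.map (MulAut.conj (k : H)).toMonoidHom) ∧ (∀ C : Subgroup H, C.Normal → ¬ Cfsg.pResidual p H ≤ C → (Nat.card ↥C).Coprime p) ∧ Cfsg.IsPIrreducible p H := by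
  open Cfsg.Agent.Loc Subgroup in
  open scoped commutatorElement in
  rw [← pCoreOf_top] at hO
  rw [← pResidualOf_top] at hq ⊢
  have e := fstarIn_eq_pResidualOf hO hq
  have h3 : ∀ C : Subgroup H, C.Normal → ¬ pResidualOf p ⊤ ≤ C → (Nat.card C).Coprime p := by
    intro C hC h
    have h1 := (Sig.CompIn.le_or_commutator ⟨subnIn_pResidualOf p ⊤, hq⟩
      (Sig.SubnIn.top_iff.2 hC.isSubnormal)).resolve_left h
    rw [← e, commutator_eq_bot_iff'] at h1
    exact Sig.coprime_card_of_le ((le_inf le_top h1).trans (Sig.inf_centralizer_fstarIn_le_fitIn ⊤))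
      (coprime_fitIn hO)
  refine ⟨by rw [← e, Sig.fstarIn_top], fun Y h1 h2 => ?_, h3, isPIrreducible_iff_top.2
    ⟨fun h => ?_, fun N _ h1 h2 => ?_⟩⟩
  · have := commutator_pResidualOf_eq_of_qs hO hq h1 le_top h2
    exact ⟨this, this.ge.trans (le_sup_right.trans (iSup_cj_eq_sup_commutator _ _).ge)⟩
  · have := h.coprime_of_pCoreOf_eq_bot hO
    rw [card_top] at this
    exact (Nat.Prime.coprime_iff_not_dvd Fact.out).1 this.symm hp
  · by_contra h4
    exact h2 (pCl_of_coprime (h3 N (normal_of_top_le_normalizer h1) h4))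

end Cfsg.Agent.S2815
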