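import Cfsg.Statements.S2816
import Cfsg.Agent.Loc.Fst

set_option autoImplicit false
open Cfsg

namespace Cfsg.Agent.S2816

/-- Let H be a finite group and p a prime with O_p(H) = 1, and Y a p-subgroup of H. Then for every subnormal subgroup K of H containing Y, [F*(H), Y] = [F*(K), Y] = [F*(K), Y, Y]; and if Y₀ ≤ Y with [F*(H), Y, Y₀] = 1 then Y₀ = 1 (in particular [F*(H), Y] = 1 forces Y = 1). -/
theorem result {H : Type*} [Group H] [Finite H] {p : ℕ} [Fact p.Prime] (hO : Cfsg.pCore p H = ⊥) (Y : Subgroup H) (hY : IsPGroup p ↥Y) : (∀ K : Subgroup H, K.IsSubnormal → Y ≤ K → ⁅Cfsg.generalizedFittingSubgroup H, Y⁆ = ⁅(Cfsg.generalizedFittingSubgroup ↥K).map K.subtype, Y⁆ ∧ ⁅(Cfsg.generalizedFittingSubgroup ↥K).map K.subtype, Y⁆ = ⁅⁅(Cfsg.generalizedFittingSubgroup ↥K).map K.subtype, Y⁆, Y⁆) ∧ (∀ Y₀ : Subgroup H, Y₀ ≤ Y → ⁅⁅Cfsg.generalizedFittingSubgroup H, Y⁆, Y₀⁆ = ⊥ → Y₀ = ⊥) := by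
  open Cfsg.Agent.Loc Subgroup in
  open scoped commutatorElement in
  rw [← pCoreOf_top] at hO
  rw [← Sig.fstarIn_top]
  have e := commutator_fstarIn hO hY (le_top.trans le_normalizer)
  refine ⟨fun K hK hYK => ?_, fun Y₀ h1 h2 => eq_bot_of_quadratic_fstarIn hO (hY.to_le h1) le_top
    (eq_bot_iff.2 ((commutator_mono (commutator_mono le_rfl h1) le_rfl).trans h2.le))⟩
  have hs := Sig.SubnIn.top_iff.2 hK
  refine ⟨le_antisymm (e.le.trans (commutator_mono ?_ le_rfl))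
    (commutator_mono (Sig.fstarIn_mono hs) le_rfl),
    commutator_fstarIn (pCoreOf_eq_bot_of_subnIn hO hs) hY (hYK.trans le_normalizer)⟩
  refine le_trans (le_inf ?_ (le_of_le_commutator_of_subnIn hs le_top hYK e.le))
    (Sig.fstarIn_eq_inf hs).ge
  exact commutator_le_left_of_le_normalizer (Sig.le_normalizer_fstarIn (le_top.trans le_normalizer))

end Cfsg.Agent.S2816
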