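import Cfsg.Statements.S2817
import Cfsg.Agent.Loc.Fst

set_option autoImplicit false
open Cfsg

namespace Cfsg.Agent.S2817

/-- Let H be a finite group and p a prime with O_p(H) = 1, Q a p-subgroup of H, L = [F*(H), Q], and F the largest normal subgroup of F*(H) centralized by Q (a normal subgroup of F*(H) centralized by Q and containing every such). Then F = C_{F*(H)}(LQ); L = [L, Q]; L ∩ F ≤ Φ(L); every p-subgroup B of N_H(Q) with [L, B] ≤ F satisfies [L, B] = 1; and C_H(FL) has order prime to p. -/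
theorem result {H : Type*} [Group H] [Finite H] {p : ℕ} [Fact p.Prime] (hO : Cfsg.pCore p H = ⊥) (Q : Subgroup H) (hQ : IsPGroup p ↥Q) (L : Subgroup H) (hL : L = ⁅Cfsg.generalizedFittingSubgroup H, Q⁆) (F : Subgroup H) (hF : F ≤ Cfsg.generalizedFittingSubgroup H ∧ Cfsg.generalizedFittingSubgroup H ≤ Subgroup.normalizer (F : Set H) ∧ Q ≤ Subgroup.centralizer (F : Set H) ∧ ∀ N : Subgroup H, N ≤ Cfsg.generalizedFittingSubgroup H → Cfsg.generalizedFittingSubgroup H ≤ Subgroup.normalizer (N : Set H) → Q ≤ Subgroup.centralizer (N : Set H) → N ≤ F) : F = Cfsg.generalizedFittingSubgroup H ⊓ Subgroup.centralizer ((L ⊔ Q : Subgroup H) : Set H) ∧ ⁅L, Q⁆ = L ∧ L ⊓ F ≤ (frattini ↥L).map L.subtype ∧ (∀ B : Subgroup H, IsPGroup p ↥B → B ≤ Subgroup.normalizer (Q : Set H) → ⁅L, B⁆ ≤ F → ⁅L, B⁆ = ⊥) ∧ (Nat.card ↥(Subgroup.centralizer ((F ⊔ L : Subgroup H) : Set H))).Coprime p := by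
  open Cfsg.Agent.Loc Subgroup in
  open scoped commutatorElement in
  rw [← pCoreOf_top] at hO
  rw [← Sig.fstarIn_top] at hL hF ⊢
  obtain ⟨hF1, hF2, hF3, hF4⟩ := hF
  set E := Sig.fstarIn (⊤ : Subgroup H) with hE
  have hEn : ∀ X : Subgroup H, X ≤ normalizer (E : Set H) := fun X =>
    Sig.le_normalizer_fstarIn (le_top.trans le_normalizer)
  have hLE : L ≤ E := hL ▸ commutator_le_left_of_le_normalizer (hEn Q)
  have hEL : E ≤ normalizer (L : Set H) := hL ▸ normalizer_commutator_ge_left _ _
  have hLQ : ⁅L, Q⁆ = L := by rw [hL]; exact (commutator_fstarIn hO hQ (le_top.trans le_normalizer)).symm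
  have hFL : F ≤ centralizer (L : Set H) := by
    rw [← commutator_eq_bot_iff', hL]
    refine commutator_commutator_eq_bot_of_rotate ?_ ?_
    · rw [commutator_eq_bot_iff_le_centralizer.2 hF3, commutator_bot_left]
    · exact commutator_eq_bot_iff'.2 (hF3.trans (centralizer_anti
        (commutator_le_left_of_le_normalizer hF2)))
  have e1 : F = E ⊓ centralizer ((L ⊔ Q : Subgroup H) : Set H) := by
    apply le_antisymm
    · rw [centralizer_sup']; exact le_inf hF1 (le_inf hFL (le_centralizer_iff.1 hF3))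
    · refine hF4 _ inf_le_left (le_normalizer_inf le_normalizer (le_normalizer_centralizer ?_))
        (le_centralizer_iff.1 (inf_le_right.trans (centralizer_anti le_sup_right)))
      rw [sup_comm, hL]; exact le_normalizer_sup_commutator _ _
  have hOL : pCoreOf p L = ⊥ := pCoreOf_eq_bot_of_subnIn hO
    ((Sig.SubnIn.of_normal hLE hEL).trans Sig.subnIn_fstarIn)
  have hNQ : normalizer (Q : Set H) ≤ normalizer (L : Set H) :=
    hL ▸ le_normalizer_commutator (hEn _) le_rfl
  have e3 : L ⊓ F ≤ (frattini L).map L.subtype := by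
    refine le_frattini_of_central (fun z hz => ?_) (inf_le_right.trans hFL)
    have h1 := pow_card_mem_commutator (le_normalizer.trans hNQ) (hLQ.ge hz.1)
      (le_centralizer_iff.1 hF3 hz.2)
    refine mem_of_pow_mem_of_coprime h1 (Nat.Coprime.coprime_dvd_left ?_
      (Sig.coprime_of_isPGroup_of_coprime hQ (coprime_fitIn hOL)).symm)
    exact orderOf_dvd_natCard _ (Sig.center_le_fitIn (Sig.SubnIn.refl L) ⟨hz.1, hFL hz.2⟩)
  refine ⟨e1, hLQ, e3, fun B h1 h2 h3 => ?_, ?_⟩
  · refine commutator_eq_bot_iff'.2 (Solv.le_centralizer_of_commutator_le_frattini (h2.trans hNQ) ?_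
      ((le_inf (commutator_le_left_of_le_normalizer (h2.trans hNQ)) h3).trans e3))
    exact (Solv.coprime_card_of_isPGroup h1 (coprime_card_frattini hOL))
  · by_contra hc
    have hd : p ∣ Nat.card (centralizer ((F ⊔ L : Subgroup H) : Set H)) := by
      by_contra h; exact hc ((Nat.Prime.coprime_iff_not_dvd Fact.out).2 h).symm
    have hQF : Q ≤ normalizer (F : Set H) := le_normalizer_of_le_centralizer hF3
    set C := centralizer ((F ⊔ L : Subgroup H) : Set H) with hC
    have hQC : Q ≤ normalizer (C : Set H) :=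
      le_normalizer_centralizer (le_normalizer_sup hQF (le_normalizer.trans hNQ))
    obtain ⟨T, hT, hQT⟩ := exists_sylIn_ge (le_sup_right : Q ≤ C ⊔ Q) hQ
    have hS := hT.inf_normal' le_sup_left (sup_le le_normalizer hQC)
    refine inf_centralizer_ne_bot hQ hS.pg (le_normalizer_inf (hQT.trans le_normalizer) hQC)
      (hS.ne_bot hd) ?_
    set B := T ⊓ C ⊓ centralizer (Q : Set H) with hB
    have hBC : B ≤ C := inf_le_left.trans inf_le_right
    refine eq_bot_of_quadratic_fstarIn hO (hS.pg.to_le inf_le_left) le_top ?_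
    have h1 : ⁅⁅B, E⁆, Q⁆ = ⊥ := by
      refine commutator_commutator_eq_bot_of_rotate ?_ ?_
      · rw [← hL]; exact commutator_eq_bot_iff'.2 (hBC.trans (centralizer_anti le_sup_right))
      · rw [commutator_eq_bot_iff'.2 (inf_le_right : B ≤ _), commutator_bot_left]
    rw [Subgroup.commutator_comm B E] at h1
    have h2 := hF4 _ (commutator_le_left_of_le_normalizer (hEn B))
      (normalizer_commutator_ge_left _ _) (commutator_eq_bot_iff'.1 h1)
    exact commutator_eq_bot_iff'.2 (hBC.trans (centralizer_anti (h2.trans le_sup_left)))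

end Cfsg.Agent.S2817
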