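import Cfsg.Statements.S2818
import Cfsg.Agent.Loc.CharP

set_option autoImplicit false
open Cfsg

namespace Cfsg.Agent.S2818

/-- Let P be a finite p-subgroup of a group G and H a subgroup of N_G(P) with [P, H] ≤ Ω₁(Z(P)) (the elements of order dividing p in the centre of P). Then H centralizes the Frattini subgroup of P. -/
theorem result {G : Type*} [Group G] [Finite G] {p : ℕ} [Fact p.Prime] (P : Subgroup G) (hP : IsPGroup p ↥P) (H : Subgroup G) (hH : H ≤ Subgroup.normalizer (P : Set G)) (h : ⁅P, H⁆ ≤ Cfsg.omegaOne p (P ⊓ Subgroup.centralizer (P : Set G))) : ⁅(frattini ↥P).map P.subtype, H⁆ = ⊥ := by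
  open Cfsg.Agent.Loc Subgroup in
  open scoped commutatorElement in
  rw [commutator_eq_bot_iff_le_centralizer, Solv.map_frattini_le_iff hP]
  have hc : ⁅P, H⁆ ≤ centralizer (P : Set G) := h.trans (omegaOne_center_le_centralizer p P)
  constructor
  · rw [← commutator_eq_bot_iff_le_centralizer]
    refine commutator_commutator_eq_bot_of_rotate (commutator_eq_bot_iff_le_centralizer.2 hc) ?_
    rw [Subgroup.commutator_comm H P]
    exact commutator_eq_bot_iff_le_centralizer.2 hc
  · intro x hx y hy
    have hm : ⁅y, x⁆ ∈ ⁅P, H⁆ := by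
      rw [Subgroup.commutator_comm]; exact commutator_mem_commutator hy hx
    have h1 : Commute ⁅y, x⁆ x := (hc hm x hx).symm
    have h2 : ⁅y, x⁆ ^ p = 1 := (isElementaryAbelian_omegaOne_center p P).2 _ (h hm)
    have h3 : y * x * y⁻¹ = ⁅y, x⁆ * x := by rw [commutatorElement_def]; group
    have h4 : y * x ^ p * y⁻¹ = x ^ p := by rw [← conj_pow, h3, h1.mul_pow, h2, one_mul]
    rw [mul_inv_eq_iff_eq_mul] at h4
    exact h4

end Cfsg.Agent.S2818
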