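import Cfsg.Statements.S2819
import Cfsg.Agent.Loc.CharP

set_option autoImplicit false
open Cfsg

namespace Cfsg.Agent.S2819

section helpers
open Cfsg.Agent.Loc Subgroup

open scoped commutatorElement in
theorem aux {G : Type*} [Group G] {P : Subgroup G} {a b : G} (ha : a ∈ P) (hb : b ∈ P) (n : ℕ) :
    (a * b) ^ n * (b ^ n)⁻¹ * (a ^ n)⁻¹ ∈ ⁅P, P⁆ := by
  induction n with
  | zero => simp
  | succ n ih =>
    have h1 : a * b ∈ normalizer ((⁅P, P⁆ : Subgroup G) : Set G) :=
      normalizer_commutator_ge_left P P (mul_mem ha hb)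
    have h2 := conj_mem_of_mem_normalizer h1 ih
    have h3 : ⁅b, a ^ n⁆ ∈ ⁅P, P⁆ := commutator_mem_commutator hb (pow_mem ha n)
    have h4 := conj_mem_of_mem_normalizer (normalizer_commutator_ge_left P P ha) h3
    convert mul_mem h2 h4 using 1
    rw [commutatorElement_def, pow_succ' (a * b), pow_succ b, pow_succ' a]
    group

end helpers

/-- Let P be a finite p-subgroup of a group G, H a subgroup of N_G(P), and Y a subgroup of H centralizing the derived subgroup P' such that [P, Y] is elementary abelian. Then O^p(⟨Y^H⟩), the subgroup of the normal closure of Y in H generated by its elements of order prime to p, centralizes the Frattini subgroup of P. -/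
theorem result {G : Type*} [Group G] [Finite G] {p : ℕ} [Fact p.Prime] (P : Subgroup G) (hP : IsPGroup p ↥P) (H : Subgroup G) (hH : H ≤ Subgroup.normalizer (P : Set G)) (Y : Subgroup G) (hYH : Y ≤ H) (hYc : Y ≤ Subgroup.centralizer ((⁅P, P⁆ : Subgroup G) : Set G)) (hel : Cfsg.IsElementaryAbelian p ⁅P, Y⁆) (NY : Subgroup G) (hNY : NY = (Subgroup.normalClosure ((Y.subgroupOf H : Subgroup ↥H) : Set ↥H)).map H.subtype) : (Cfsg.pResidual p ↥NY).map NY.subtype ≤ Subgroup.centralizer (((frattini ↥P).map P.subtype : Subgroup G) : Set G) := by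
  open Cfsg.Agent.Loc Subgroup in
  open scoped commutatorElement in
  show pResidualOf p NY ≤ _
  rw [map_normalClosure_subgroupOf hYH] at hNY
  have hNH : NY ≤ H := hNY ▸ iSup_cj_le hYH le_normalizer
  set F := (frattini P).map P.subtype with hF
  have hHF : H ≤ normalizer (F : Set G) := hH.trans (normalizer_le_normalizer_map_subtype _)
  have hHP' : H ≤ normalizer ((⁅P, P⁆ : Subgroup G) : Set G) := le_normalizer_commutator hH hH
  have h1 : ⁅F, Y⁆ ≤ ⁅P, P⁆ := by
    refine (le_commKer_iff.1 ((Solv.map_frattini_le_iff hP).2 ⟨le_commKer_iff.2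
      ⟨le_normalizer, commutator_le_of_le_centralizer' hYc _⟩, fun x hx => ?_⟩)).2
    refine le_commKer_iff.2 ⟨zpowers_le.2 (normalizer_commutator_ge_left P P (pow_mem hx p)),
      commutator_zpowers_left_le (normalizer_commutator_ge_left P P (pow_mem hx p))
        fun y hy => ?_⟩ (mem_zpowers _)
    have hm : ⁅y, x⁻¹⁆ ∈ ⁅P, Y⁆ := by
      rw [Subgroup.commutator_comm]; exact commutator_mem_commutator hy (inv_mem hx)
    have hmP : ⁅y, x⁻¹⁆ ∈ P := commutator_le_left_of_le_normalizer (hYH.trans hH) hm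
    have h2 := aux hmP (inv_mem hx) p
    rw [hel.2 _ hm] at h2
    have h3 : ⁅y, x⁻¹⁆ * x⁻¹ = y * x⁻¹ * y⁻¹ := by rw [commutatorElement_def]; group
    rw [h3, conj_pow] at h2
    convert conj_mem_of_mem_normalizer (normalizer_commutator_ge_left P P (pow_mem hx p)) h2 using 1
    rw [commutatorElement_def]; group
  have h2 : ⁅F, NY⁆ ≤ ⁅P, P⁆ := by
    rw [hNY, Subgroup.commutator_comm]
    refine commutator_iSup_left_le (fun g => (cj_le_of_mem g.2 hYH).trans hHP') fun g => ?_
    rw [Subgroup.commutator_comm, ← cj_eq_of_mem_normalizer (hHF g.2), ← cj_commutator,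
      ← cj_eq_of_mem_normalizer (hHP' g.2)]
    exact cj_mono _ h1
  have h3 : NY ≤ centralizer ((⁅P, P⁆ : Subgroup G) : Set G) :=
    hNY ▸ iSup_cj_le hYc (le_normalizer_centralizer hHP')
  exact pResidualOf_le_centralizer_of_le (hP.to_le (map_subtype_le _))
    ((pResidualOf_le p _).trans (hNH.trans hHF))
    ((commutator_mono le_rfl (pResidualOf_le p _)).trans h2) ((pResidualOf_le p _).trans h3)

end Cfsg.Agent.S2819
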