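import Cfsg.Statements.S2823
import Cfsg.Agent.Loc.Red

set_option autoImplicit false
open Cfsg

namespace Cfsg.Agent.S2823

/-- Let H be a finite group, p a prime, T a Sylow p-subgroup and L a subgroup of characteristic p containing T; let Z_L be the subgroup generated by the Ω₁(Z(S)) over the Sylow p-subgroups S of L and O^p(L) the subgroup generated by the elements of L of order prime to p. Then Z_L = Ω₁(Z(L))·[Z_L, O^p(L)] and [Z_L, L] = [Z_L, O^p(L)]. -/
theorem result {H : Type*} [Group H] [Finite H] {p : ℕ} [Fact p.Prime] (T : Sylow p H) (L : Subgroup H) (hTL : (T : Subgroup H) ≤ L) (hL : Subgroup.centralizer (Cfsg.pCore p ↥L : Set ↥L) ≤ Cfsg.pCore p ↥L) : Cfsg.sylowCenterClosure p L = (Cfsg.omegaOne p (L ⊓ Subgroup.centralizer ((L : Subgroup H) : Set H))) ⊔ ⁅Cfsg.sylowCenterClosure p L, (Cfsg.pResidual p ↥L).map L.subtype⁆ ∧ ⁅Cfsg.sylowCenterClosure p L, L⁆ = ⁅Cfsg.sylowCenterClosure p L, (Cfsg.pResidual p ↥L).map L.subtype⁆ := by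
  open Cfsg.Agent.Loc Subgroup in
  rw [← chP_iff] at hL
  have hT := sylIn_of_sylow_le T hTL
  have he := isElementaryAbelian_of_le (pRed_Y (p := p) L).ea hL.sylowCenterClosure_le_Y
  have hn := le_normalizer_sylowCenterClosure p L
  have hle : ⁅sylowCenterClosure p L, pResidualOf p L⁆ ≤ sylowCenterClosure p L :=
    commutator_le_left_of_le_normalizer ((pResidualOf_le p L).trans hn)
  have e : sylowCenterClosure p L = omegaOne p (L ⊓ centralizer (L : Set H)) ⊔
      ⁅sylowCenterClosure p L, pResidualOf p L⁆ := by
    refine le_antisymm (sylowCenterClosure_le_iff.2 fun S hS z hz => ?_) (sup_le ?_ hle)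
    · have hz' := hS.le_sylowCenterClosure hz
      obtain ⟨c, hc, w, hw, e⟩ := exists_centralizer_mul_commutator
        (isElementaryAbelian_iff.1 he).1 (isPGroup_of_isElementaryAbelian he) hn hS
        ⟨hz', omegaOne_center_le_centralizer p S hz⟩
      rw [e]
      exact mul_mem (mem_sup_left (mem_omegaOne ⟨sylowCenterClosure_le p L hc.1, hc.2⟩
        (he.2 c hc.1))) (mem_sup_right (commutator_mono (zpowers_le.2 hz') le_rfl hw))
    · refine le_trans ?_ hT.le_sylowCenterClosure
      refine le_omegaOne (le_inf ?_ ((omegaOne_center_le_centralizer p L).trans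
        (centralizer_anti hTL))) (isElementaryAbelian_omegaOne_center p L).2
      exact hT.le_of_le_normalizer (omegaOne_center_le p L)
        (isPGroup_of_isElementaryAbelian (isElementaryAbelian_omegaOne_center p L))
        (hTL.trans (le_normalizer.trans (normalizer_le_normalizer_omegaOne_center p L)))
  refine ⟨e, le_antisymm ?_ (commutator_mono le_rfl (pResidualOf_le p L))⟩
  have hn2 : L ≤ normalizer ((⁅sylowCenterClosure p L, pResidualOf p L⁆ : Subgroup H) : Set H) :=
    le_normalizer_commutator hn (le_normalizer_pResidualOf p L)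
  refine (commutator_mono e.le le_rfl).trans (commutator_sup_left_le
    ((omegaOne_center_le p L).trans hn2) le_normalizer
    (commutator_le_of_le_centralizer (omegaOne_center_le_centralizer p L) _)
    (commutator_le_left_of_le_normalizer hn2))

end Cfsg.Agent.S2823
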