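import Cfsg.Statements.S2825
import Cfsg.Agent.Loc.Red

set_option autoImplicit false
open Cfsg

namespace Cfsg.Agent.S2825

/-- Let L be a subnormal subgroup of the finite group H, p a prime, Y_H and Y_L the largest p-reduced normal subgroups. Then Y_H ∩ L = Y_H ∩ Y_L and this subgroup is a p-reduced normal subgroup of L; C_L(Y_L) = C_L(Y_H) = C_L(Y_H ∩ L); and if O^p(H) ≤ L, then [Y_L, L] = 1 if and only if [Y_H, H] = 1. -/
theorem result {H : Type*} [Group H] [Finite H] {p : ℕ} [Fact p.Prime] (L : Subgroup H) (hL : L.IsSubnormal) : Cfsg.largestPReduced p H ⊓ L = Cfsg.largestPReduced p H ⊓ (Cfsg.largestPReducedOf p L) ∧ Cfsg.IsPReducedNormal p ((Cfsg.largestPReduced p H ⊓ L).subgroupOf L) ∧ L ⊓ Subgroup.centralizer ((Cfsg.largestPReducedOf p L : Subgroup H) : Set H) = L ⊓ Subgroup.centralizer (Cfsg.largestPReduced p H : Set H) ∧ L ⊓ Subgroup.centralizer (Cfsg.largestPReduced p H : Set H) = L ⊓ Subgroup.centralizer ((Cfsg.largestPReduced p H ⊓ L : Subgroup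 H) : Set H) ∧ (Cfsg.pResidual p H ≤ L → (⁅(Cfsg.largestPReducedOf p L), L⁆ = ⊥ ↔ ⁅Cfsg.largestPReduced p H, (⊤ : Subgroup H)⁆ = ⊥)) := by
  open Cfsg.Agent.Loc Subgroup in
  rw [← Y_top]
  have hs := Sig.SubnIn.top_iff.2 hL
  have hY := pRed_Y (p := p) (⊤ : Subgroup H)
  have h1 := hY.inf_subnIn hs
  have h2 := inf_centralizer_Y (p := p) hs
  refine ⟨le_antisymm (le_inf inf_le_left h1.le_Y) (inf_le_inf_left _ (pRed_Y L).le),
    (isPReducedNormal_subgroupOf h1.le).2 h1, h2, hY.inf_centralizer_inf hs, fun h => ?_⟩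
  rw [commutator_eq_bot_iff', commutator_eq_bot_iff']
  constructor
  · intro h3
    refine hY.red ⊤ le_rfl le_normalizer ?_
    rw [pResidualOf_top]
    exact h.trans (((le_inf le_rfl h3).trans h2.le).trans inf_le_right)
  · intro h3
    exact ((le_inf le_rfl (le_top.trans h3)).trans h2.ge).trans inf_le_right

end Cfsg.Agent.S2825
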