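import Cfsg.Statements.S2826
import Cfsg.Agent.Loc.Red

set_option autoImplicit false
open Cfsg

namespace Cfsg.Agent.S2826

/-- Let H be a finite group of characteristic p, T a Sylow p-subgroup, and V a normal elementary abelian p-subgroup of H containing Ω₁(Z(T)). Then C_H(Ω₁(Z(T))) = C_H([V, O^p(H)] ∩ Ω₁(Z(T))), O^p(H) being generated by the elements of order prime to p. -/
theorem result {H : Type*} [Group H] [Finite H] {p : ℕ} [Fact p.Prime] (hH : Subgroup.centralizer (Cfsg.pCore p H : Set H) ≤ Cfsg.pCore p H) (T : Sylow p H) (V : Subgroup H) [V.Normal] (hV : Cfsg.IsElementaryAbelian p V) (hZV : (Cfsg.omegaOne p ((T : Subgroup H) ⊓ Subgroup.centralizer (((T : Subgroup H) : Subgroup H) : Set H))) ≤ V) : Subgroup.centralizer ((Cfsg.omegaOne p ((T : Subgroup H) ⊓ Subgroup.centralizer (((T : Subgroup H) : Subgroup H) : Set H))) : Set H) = Subgroup.centralizer (((⁅V, Cfsg.pResidual p H⁆ ⊓ (Cfsg.omegaOne p ((T : Subgroup H) ⊓ Subgroup.centralizer (((T : Subgroup H) : Subgroup H) : Set H))))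 : Subgroup H) : Set H) := by
  open Cfsg.Agent.Loc Subgroup in
  refine le_antisymm (centralizer_anti inf_le_right) (le_centralizer_iff.1 fun z hz => ?_)
  have hzT := omegaOne_center_le_centralizer p _ hz
  obtain ⟨c, hc, w, hw, e⟩ := exists_centralizer_mul_commutator
    (isElementaryAbelian_iff.1 hV).1 (isPGroup_of_isElementaryAbelian hV)
    (normalizer_eq_top V).ge (sylIn_top T) ⟨hZV hz, hzT⟩
  rw [pResidualOf_top] at hw
  have hw1 : w ∈ ⁅V, pResidual p H⁆ := commutator_mono (zpowers_le.2 (hZV hz)) le_rfl hw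
  have hw2 : w ∈ V := commutator_le_left V _ hw1
  have hw3 : w ∈ centralizer ((T : Subgroup H) : Set H) := by
    have : w = c⁻¹ * z := by rw [e]; group
    rw [this]
    exact mul_mem (inv_mem (centralizer_anti le_top hc.2)) hzT
  have hVT : V ≤ T := (le_pCore inferInstance (isPGroup_of_isElementaryAbelian hV)).trans
    (pCore_le_sylow T)
  rw [e]
  exact mul_mem (centralizer_anti le_top hc.2) (le_centralizer_centralizer _
    ⟨hw1, mem_omegaOne ⟨hVT hw2, hw3⟩ (hV.2 w hw2)⟩)

end Cfsg.Agent.S2826
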