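import Cfsg.Statements.S2830
import Cfsg.Agent.Loc.Irr
import Cfsg.Agent.Loc.Red

set_option autoImplicit false
open Cfsg

namespace Cfsg.Agent.S2830

/-- Let H act by conjugation on the elementary abelian p-subgroup V of a finite group G (H ≤ N(V)), with H p-irreducible and O^p(H) not centralizing V. Then C_H(V) is p-closed and C_T(V) ≤ O_p(H) for every p-subgroup T of H. If in addition O_p(H) centralizes V, then C_T(V) = T ∩ O_p(H) for every p-subgroup T of H, and V is p-reduced for H: O_p(H/C_H(V)) = 1. -/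
theorem result {G : Type*} [Group G] [Finite G] {p : ℕ} [Fact p.Prime] (V H : Subgroup G) (hV : Cfsg.IsElementaryAbelian p V) (hHV : H ≤ Subgroup.normalizer (V : Set G)) (hH : Cfsg.IsPIrreducible p ↥H) (hnc : ¬ (Cfsg.pResidual p ↥H).map H.subtype ≤ Subgroup.centralizer (V : Set G)) [hn : ((Subgroup.centralizer (V : Set G)).subgroupOf H).Normal] : Cfsg.IsPClosed p ↥(H ⊓ Subgroup.centralizer (V : Set G)) ∧ (∀ T : Subgroup G, T ≤ H → IsPGroup p ↥T → T ⊓ Subgroup.centralizer (V : Set G) ≤ Cfsg.pCoreOf p H) ∧ (Cfsg.pCoreOf p H ≤ Subgroup.centralizer (V : Set G) → (∀ T : Subgroup G, T ≤ H → IsPGroup p ↥T → T ⊓ Subgroup.centralizer (V : Set G) = T ⊓ Cfsg.pCoreOf p H) ∧ Cfsg.pCore p (↥H ⧸ (Subgroup.centralizer (V : Set G)).subgroupOf H) = ⊥) := by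
  open Cfsg.Agent.Loc Subgroup in
  open scoped commutatorElement in
  rw [isPIrreducible_iff] at hH
  change ¬ pResidualOf p H ≤ _ at hnc
  have hn' : H ≤ normalizer ((H ⊓ centralizer (V : Set G) : Subgroup G) : Set G) :=
    le_normalizer_inf le_normalizer (le_normalizer_centralizer hHV)
  have h1 := hH.pCl inf_le_left hn' fun h => hnc (h.trans inf_le_right)
  have h2 : ∀ T : Subgroup G, T ≤ H → IsPGroup p ↥T → T ⊓ centralizer (V : Set G) ≤ pCoreOf p H :=
    fun T a b => (h1 _ (inf_le_inf_right _ a) (b.to_le inf_le_left)).trans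
      (pCoreOf_le_of_normal inf_le_left hn')
  refine ⟨isPClosed_iff.2 h1, h2, fun h => ⟨fun T a b => le_antisymm
    (le_inf inf_le_left (h2 T a b)) (inf_le_inf_left _ h), red_iff_quotient.1 fun D a b c => ?_⟩⟩
  have h3 := hH.pCl a b fun h4 => hnc ((pResidualOf_pResidualOf p H).ge.trans
    ((pResidualOf_mono h4).trans c))
  exact h3.pResidualOf_sup.ge.trans (sup_le c ((pCoreOf_le_of_normal a b).trans h))

end Cfsg.Agent.S2830
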