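import Cfsg.Statements.S2833
import Cfsg.Agent.Loc.Irr

set_option autoImplicit false
open Cfsg

namespace Cfsg.Agent.S2833

/-- Let V be a subgroup of a finite group G normalized by the subgroup L, let X ≤ L and g ∈ L with [V, X, X] = 1 and L generated by X and gXg⁻¹. Put W = [V, L]. Then W = [V, X]·[V, gXg⁻¹], C_W(X) = [V, X], and C_W(L) = [V, X] ∩ [V, gXg⁻¹]. -/
theorem result {G : Type*} [Group G] [Finite G] (V L : Subgroup G) (hLV : L ≤ Subgroup.normalizer (V : Set G)) (X : Subgroup G) (hX : X ≤ L) (g : G) (hg : g ∈ L) (hq : ⁅⁅V, X⁆, X⁆ = ⊥) (hgen : X ⊔ X.map (MulAut.conj g).toMonoidHom = L) (W : Subgroup G) (hW : W = ⁅V, L⁆) : ⁅V, X⁆ ⊔ ⁅V, X.map (MulAut.conj g).toMonoidHom⁆ = W ∧ W ⊓ Subgroup.centralizer (X : Set G) = ⁅V, X⁆ ∧ W ⊓ Subgroup.centralizer (L : Set G) = ⁅V, X⁆ ⊓ ⁅V, X.map (MulAut.conj g).toMonoidHom⁆ := by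
  open Cfsg.Agent.Loc Subgroup in
  open scoped commutatorElement in
  have hXg := cj_le_of_mem hg hX
  have hgV : cj g V = V := cj_eq_of_mem_normalizer (hLV hg)
  have eB : cj g ⁅V, X⁆ = ⁅V, cj g X⁆ := by rw [cj_commutator, hgV]
  have hA : X ≤ centralizer ((⁅V, X⁆ : Subgroup G) : Set G) := commutator_eq_bot_iff'.1 hq
  have hB : cj g X ≤ centralizer ((⁅V, cj g X⁆ : Subgroup G) : Set G) := by
    rw [← eB, ← cj_centralizer]; exact cj_mono g hA
  have hAV : ⁅V, X⁆ ≤ V := commutator_le_left_of_le_normalizer (hX.trans hLV)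
  have hBV : ⁅V, cj g X⁆ ≤ V := commutator_le_left_of_le_normalizer (hXg.trans hLV)
  have e1 : ⁅V, X⁆ ⊔ ⁅V, cj g X⁆ = W := by
    rw [hW]
    refine le_antisymm (sup_le (commutator_mono le_rfl hX) (commutator_mono le_rfl hXg)) ?_
    rw [← hgen]
    exact commutator_sup_right_le (le_normalizer_of_commutator_le'
      ((commutator_mono (sup_le hAV hBV) le_rfl).trans le_sup_left))
      (le_normalizer_of_commutator_le' ((commutator_mono (sup_le hAV hBV) le_rfl).trans le_sup_right))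
      le_sup_left le_sup_right
  have hCL : centralizer (L : Set G) = centralizer (X : Set G) ⊓
      centralizer ((cj g X : Subgroup G) : Set G) := by rw [← centralizer_sup', hgen]
  have e2 : W ⊓ centralizer (X : Set G) = ⁅V, X⁆ := by
    rw [← e1, sup_inf_of_le_left (hBV.trans (normalizer_commutator_ge_left V X))
      (le_centralizer_iff.1 hA)]
    refine le_antisymm (sup_le le_rfl fun x hx => ?_) le_sup_left
    have h1 : x ∈ centralizer (L : Set G) := hCL.ge ⟨hx.2, le_centralizer_iff.1 hB hx.1⟩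
    have h2 : x ∈ cj g ⁅V, X⁆ := eB.ge hx.1
    rw [mem_cj, mul_assoc, ← h1 g hg, inv_mul_cancel_left] at h2
    exact h2
  have e3 : W ⊓ centralizer ((cj g X : Subgroup G) : Set G) = ⁅V, cj g X⁆ := by
    have : cj g W = W := cj_eq_of_mem_normalizer (hW ▸ normalizer_commutator_ge_right V L hg)
    rw [← eB, ← e2, cj_inf, this, cj_centralizer]
  refine ⟨e1, e2, ?_⟩
  rw [hCL, inf_inf_distrib_left, e2, e3]

end Cfsg.Agent.S2833
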