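import Cfsg.Statements.S2834
import Cfsg.Agent.Loc.WC

set_option autoImplicit false
open Cfsg

namespace Cfsg.Agent.S2834

section helpers
open Cfsg.Agent.Loc Subgroup
open scoped commutatorElement

theorem exists_conj_le_normalizer {G : Type*} [Group G] [Finite G] {p : ℕ} [Fact p.Prime]
    {A O X T : Subgroup G} [O.Normal] (hT : IsPGroup p T) (hX : X ≤ T) (hO : O ≤ X)
    (hW : X ≤ weakClosure A X ⊔ O) (hne : ¬ weakClosure A T ≤ X) :
    ∃ h, cj h A ≤ T ⊓ normalizer (X : Set G) ∧ ¬ cj h A ≤ X := by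
  by_contra hc
  push Not at hc
  have e : weakClosure A (T ⊓ normalizer (X : Set G)) ⊔ O = X :=
    le_antisymm (sup_le (weakClosure_le_iff.2 hc) hO)
      (hW.trans (sup_le_sup_right (weakClosure_mono A (le_inf hX le_normalizer)) _))
  have h1 : T ⊓ normalizer (X : Set G) = T := by
    refine eq_of_inf_normalizer_le hT inf_le_left (inf_le_inf_left _ ?_)
    conv_rhs => rw [← e]
    exact le_normalizer_sup (normalizer_le_normalizer_weakClosure _ _) (normalizer_eq_top O ▸ le_top)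
  rw [h1] at e
  exact hne (le_sup_left.trans e.le)

end helpers

/-- The L-Lemma: let H be a finite group with Sylow p-subgroup T such that H is T-minimal (generated by the conjugates of T, T in exactly one maximal subgroup M), and let A ≤ T with A not contained in O_p(H). Then there is a subgroup L of H containing A·O_p(H) such that (a) A·O_p(L) lies in exactly one maximal subgroup L₀ of L, and L₀ = L ∩ gMg⁻¹ for some g ∈ H; (b) L = ⟨A, xAx⁻¹⟩·O_p(L) for every x ∈ L outside L₀. -/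
theorem result {H : Type*} [Group H] [Finite H] {p : ℕ} [Fact p.Prime] (T : Sylow p H) (hmin : Cfsg.IsMinimalOver (T : Subgroup H)) (M : Subgroup H) (hM : IsCoatom M ∧ (T : Subgroup H) ≤ M) (A : Subgroup H) (hAT : A ≤ (T : Subgroup H)) (hA : ¬ A ≤ Cfsg.pCore p H) : ∃ L : Subgroup H, A ⊔ Cfsg.pCore p H ≤ L ∧ ∃ L₀ : Subgroup H, A ⊔ (Cfsg.pCoreOf p L) ≤ L₀ ∧ L₀ < L ∧ (∀ X : Subgroup H, A ⊔ (Cfsg.pCoreOf p L) ≤ X → X < L → X ≤ L₀) ∧ (∃ g : H, L₀ = L ⊓ ((M : Subgroup H).map (MulAut.conj (g : H)).toMonoidHom)) ∧ ∀ x ∈ L, x ∉ L₀ → (A ⊔ ((A : Subgroup H).map (MulAut.conj (x : H)).toMonoidHom)) ⊔ (Cfsg.pCoreOf p L) = L := by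
  open Cfsg.Agent.Loc Subgroup in
  open scoped commutatorElement in
  have hM' := uMax_of_isMinimalOver hmin hM.1 hM.2
  have hg := (isMinimalOver_iff_top.1 hmin).1
  have hT := sylIn_top T
  haveI := pCore_normal' p H
  set O := pCore p H with hO
  have hOT : ∀ R, SylIn p R ⊤ → O ≤ R := fun R hR => by
    rw [hO, ← pCoreOf_top]; exact hR.pCoreOf_le
  have huniq : ∀ R a b, SylIn p R ⊤ → R ≤ cj a M → R ≤ cj b M → cj a M = cj b M := by
    intro R a b hR h1 h2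
    obtain ⟨c, -, rfl⟩ := hT.exists_conj hR
    have k : ∀ a, cj c (T : Subgroup H) ≤ cj a M → cj a M = cj c M := fun a h => by
      rw [cj_le_iff, cj_cj] at h
      have := hM'.cj_eq_of_le (mem_top _) h
      rw [← cj_cj, cj_eq_iff, inv_inv] at this
      exact this
    rw [k a h1, k b h2]
  have hsyl : ∀ (X : Subgroup H) a, IsPGroup p X → X ≤ cj a M → ∃ R, SylIn p R ⊤ ∧ X ≤ R ∧ R ≤ cj a M := by
    intro X a h1 h2
    have h3 := hT.conj_of_mem (mem_top a)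
    obtain ⟨g, hg, e⟩ := (h3.mono (cj_mono a hM.2) le_top).exists_le_conj h2 h1
    exact ⟨_, h3.conj_of_mem (mem_top g), e, cj_le_of_mem hg (cj_mono a hM.2)⟩
  obtain ⟨x₀, hx₀⟩ : ∃ x, cj x M ≠ M := by
    by_contra hc
    push Not at hc
    exact hM'.not_le_normalizer hg hM.2 le_rfl (le_normalizer_of_cj_eq fun g _ => hc g)
  have hOM : ∀ a, O ≤ cj a M := fun a => by
    rw [← cj_eq_of_normal a O]; exact cj_mono a ((hOT _ hT).trans hM.2)
  obtain ⟨X, ⟨hXp, hOX, hXW, a, b, hab, ha, hb⟩, hmax⟩ := exists_maximal_mem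
    (S := {X : Subgroup H | IsPGroup p X ∧ O ≤ X ∧ X ≤ weakClosure A X ⊔ O ∧
      ∃ a b, cj a M ≠ cj b M ∧ X ≤ cj a M ∧ X ≤ cj b M})
    ⟨O, isPGroup_pCore p H, le_rfl, le_sup_right, x₀, 1, by rwa [cj_one], hOM _, hOM _⟩
  obtain ⟨R₁, hR₁, hX₁, ha₁⟩ := hsyl X a hXp ha
  obtain ⟨R₂, hR₂, hX₂, hb₂⟩ := hsyl X b hXp hb
  have hnot : ∀ R₁ R₂ a b, SylIn p R₁ ⊤ → SylIn p R₂ ⊤ → X ≤ R₁ → X ≤ R₂ → R₁ ≤ cj a M →
      R₂ ≤ cj b M → cj a M ≠ cj b M → ¬ weakClosure A R₁ ≤ X := by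
    intro R₁ R₂ a b hR₁ hR₂ hX₁ hX₂ ha₁ hb₂ hab hle
    obtain ⟨c, -, e⟩ := hR₁.exists_conj hR₂
    have e1 : X = weakClosure A R₁ ⊔ O := le_antisymm
      (hXW.trans (sup_le_sup_right (weakClosure_mono A hX₁) _)) (sup_le hle hOX)
    have e2 : X = weakClosure A R₂ ⊔ O := by
      refine eq_of_le_of_card_ge (hXW.trans (sup_le_sup_right (weakClosure_mono A hX₂) _)) ?_
      rw [← e, ← cj_weakClosure, ← cj_eq_of_normal c O, ← cj_sup, card_cj, ← e1]
    have hn : ∀ R, X = weakClosure A R ⊔ O → R ≤ normalizer (X : Set H) := fun R e => by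
      rw [e]; exact le_normalizer_sup (le_normalizer_weakClosure _ _) (normalizer_eq_top O ▸ le_top)
    obtain ⟨d, -, e3⟩ := hT.exists_conj hR₂
    have h4 := hM'.conj d
    rw [e3, cj_top] at h4
    rcases h4.eq_or_le (hn _ e2) le_top with h5 | h5
    · apply hA
      rw [← cj_le_cj_iff (g := d), cj_eq_of_normal d O]
      refine ((le_weakClosure (e3 ▸ cj_mono d hAT)).trans (le_sup_left.trans e2.ge)).trans
        (le_pCore (normal_of_top_le_normalizer h5.ge) hXp)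
    · exact hab ((huniq R₁ a d hR₁ ha₁ ((hn _ e1).trans h5)).trans (huniq R₂ d b hR₂ h4.le hb₂))
  have hstep : ∀ h, cj h A ≤ normalizer (X : Set H) → ¬ cj h A ≤ X → ∀ a b,
      cj h A ⊔ X ≤ cj a M → cj h A ⊔ X ≤ cj b M → cj a M = cj b M := by
    intro h h1 h2 a b h3 h4
    by_contra hne
    refine h2 (le_sup_left.trans (hmax _ ⟨isPGroup_sup (isPGroup_cj h (T.2.to_le hAT)) hXp h1,
      hOX.trans le_sup_right, sup_le ((le_weakClosure le_sup_left).trans le_sup_left)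
        (hXW.trans (sup_le_sup_right (weakClosure_mono A le_sup_right) _)), a, b, hne, h3, h4⟩
          le_sup_right).le)
  obtain ⟨h₁, hh₁, hh₁'⟩ := exists_conj_le_normalizer hR₁.pg hX₁ hOX hXW
    (hnot R₁ R₂ a b hR₁ hR₂ hX₁ hX₂ ha₁ hb₂ hab)
  obtain ⟨h₂, hh₂, hh₂'⟩ := exists_conj_le_normalizer hR₂.pg hX₂ hOX hXW
    (hnot R₂ R₁ b a hR₂ hR₁ hX₂ hX₁ hb₂ ha₁ hab.symm)
  have hB₁ : cj h₁ A ⊔ X ≤ cj a M := sup_le ((hh₁.trans inf_le_left).trans ha₁) ha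
  have hB₂ : cj h₂ A ⊔ X ≤ cj b M := sup_le ((hh₂.trans inf_le_left).trans hb₂) hb
  have hBn : cj h₁ A ⊔ X ≤ normalizer (X : Set H) := sup_le (hh₁.trans inf_le_right) le_normalizer
  obtain ⟨L, ⟨hL1, hL2, hL3⟩, hLmin⟩ := exists_minimal_mem (S := {L | cj h₁ A ⊔ X ≤ L ∧
    L ≤ normalizer (X : Set H) ∧ ¬ L ≤ cj a M}) ⟨_, hBn, le_rfl, fun h =>
      hab (hstep h₂ (hh₂.trans inf_le_right) hh₂' a b
        ((sup_le (hh₂.trans inf_le_right) le_normalizer).trans h) hB₂)⟩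
  have hU : UMax (cj h₁ A ⊔ X) L (L ⊓ cj a M) := ⟨le_inf hL1 hB₁,
    lt_of_le_of_ne inf_le_left fun e => hL3 (e.ge.trans inf_le_right), fun Z z1 z2 => by
      by_contra z3
      exact z2.ne (hLmin Z ⟨z1, z2.le.trans hL2, fun h => z3 (le_inf z2.le h)⟩ z2.le)⟩
  have hXO : X ≤ pCoreOf p L := le_pCoreOf (le_sup_right.trans hL1) hL2 hXp
  have hAL : cj h₁ A ≤ L := le_sup_left.trans hL1
  have hp2 : IsPGroup p (cj h₁ A ⊔ pCoreOf p L : Subgroup H) := isPGroup_sup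
    (isPGroup_cj _ (T.2.to_le hAT)) (isPGroup_pCoreOf p L) (hAL.trans (le_normalizer_pCoreOf p L))
  have hU2 : UMax (cj h₁ A ⊔ pCoreOf p L) L (L ⊓ cj a M) := by
    refine hU.mono (sup_le_sup_left hXO _) ((hU.eq_or_le (sup_le_sup_left hXO _)
      (sup_le hAL (pCoreOf_le p L))).resolve_left fun e => hL3 ?_)
    obtain ⟨d, -, hd⟩ := hT.exists_le_conj le_top hp2
    have h5 := (e.ge.trans hd).trans (cj_mono d hM.2)
    rw [hstep h₁ (hh₁.trans inf_le_right) hh₁' a d hB₁ (hL1.trans h5)]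
    exact h5
  have hgen : ∀ x ∈ L, x ∉ L ⊓ cj a M → (cj h₁ A ⊔ cj x (cj h₁ A)) ⊔ pCoreOf p L = L := by
    intro x hx hx'
    refine hU2.eq_of_not_le (sup_le_sup_right le_sup_left _)
      (sup_le (sup_le hAL (cj_le_of_mem hx hAL)) (pCoreOf_le p L)) fun h5 => hx' ⟨hx, ?_⟩
    have h6 : cj h₁ A ⊔ X ≤ cj (x⁻¹ * a) M := by
      rw [← cj_cj, ← cj_le_iff, cj_sup, cj_eq_of_mem_normalizer (hL2 hx)]
      exact sup_le (((le_sup_right.trans le_sup_left).trans h5).trans inf_le_right) ha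
    have h7 := hstep h₁ (hh₁.trans inf_le_right) hh₁' a _ hB₁ h6
    rw [← cj_cj, eq_comm] at h7
    have h8 := hM'.inf_normalizer_le hg hM.2 le_rfl
    rw [top_inf_eq, ← cj_le_cj_iff (g := a), cj_normalizer] at h8
    exact (cj a M).inv_mem_iff.1 (h8 (mem_normalizer_iff_cj.2 h7))
  have hU3 := hU2.conj h₁⁻¹
  rw [cj_sup, cj_inv_cj, cj_pCoreOf, cj_inf, cj_cj] at hU3
  refine ⟨cj h₁⁻¹ L, sup_le (cj_le_iff.1 hAL) ?_, _, hU3.le, hU3.lt, hU3.max, ⟨_, rfl⟩,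
    fun x hx hx' => ?_⟩
  · rw [← cj_le_iff, cj_eq_of_normal]; exact hOX.trans (le_sup_right.trans hL1)
  · have := hgen (h₁ * x * h₁⁻¹) (mem_cj_inv.1 hx) fun h => hx' (by
      rw [← cj_cj, ← cj_inf]; exact mem_cj_inv.2 h)
    rw [← cj_inj (g := h₁⁻¹), cj_sup, cj_sup, cj_inv_cj, cj_pCoreOf, cj_cj, cj_cj] at this
    convert this using 4
    group

end Cfsg.Agent.S2834
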