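import Cfsg.Statements.S2835
import Cfsg.Agent.Loc.Irr

set_option autoImplicit false
open Cfsg

namespace Cfsg.Agent.S2835

/-- Let L be a finite group, L₀ a maximal subgroup, T a Sylow p-subgroup of L₀ and Y ≤ T, and suppose L is Y-minimal (generated by the conjugates of Y, with Y in exactly one maximal subgroup, necessarily L₀). Then N_L(T) ≤ L₀, O_p(L) ≤ L₀ and T is a Sylow p-subgroup of L; N_L(L₀) = L₀; L = ⟨Y, gYg⁻¹⟩ for each g ∈ L outside L₀; and if Y is abelian then Y ∩ gYg⁻¹ = C_Y(L) for each such g. -/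
theorem result {L : Type*} [Group L] [Finite L] {p : ℕ} [Fact p.Prime] (L₀ : Subgroup L) (hL₀ : IsCoatom L₀) (T : Sylow p ↥L₀) (Y : Subgroup L) (hYT : Y ≤ (T : Subgroup ↥L₀).map L₀.subtype) (hmin : Cfsg.IsMinimalOver Y) : Subgroup.normalizer (((T : Subgroup ↥L₀).map L₀.subtype : Subgroup L) : Set L) ≤ L₀ ∧ Cfsg.pCore p L ≤ L₀ ∧ (∃ P : Sylow p L, (P : Subgroup L) = (T : Subgroup ↥L₀).map L₀.subtype) ∧ Subgroup.normalizer (L₀ : Set L) = L₀ ∧ (∀ g : L, g ∉ L₀ → Y ⊔ Y.map (MulAut.conj g).toMonoidHom = ⊤) ∧ (IsMulCommutative ↥Y → ∀ g : L, g ∉ L₀ → Y ⊓ Y.map (MulAut.conj g).toMonoidHom = Y ⊓ Subgroup.center L) := by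
  open Cfsg.Agent.Loc Subgroup in
  open scoped commutatorElement in
  have hM := uMax_of_isMinimalOver hmin hL₀ (hYT.trans (map_subtype_le _))
  have hg := (isMinimalOver_iff_top.1 hmin).1
  have hT := sylIn_map_subtype T
  have hT' := hM.sylIn hg hT hYT
  refine ⟨?_, ?_, hT'.exists_sylow_top, le_antisymm ?_ le_normalizer,
    fun g hg' => hM.sup_cj_eq hg (mem_top g) hg', fun hc g hg' => le_antisymm (fun x hx => ⟨hx.1, ?_⟩)
      (fun x hx => ⟨hx.1, ?_⟩)⟩
  · simpa using hM.inf_normalizer_le hg hYT hT.le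
  · rw [← pCoreOf_top]; exact hT'.pCoreOf_le.trans hT.le
  · simpa using hM.inf_normalizer_le hg hM.le le_rfl
  · refine mem_cj.2 ?_
    rw [mul_assoc, ← mem_center_iff.1 hx.2 g, inv_mul_cancel_left]
    exact hx.1
  · have h1 : Y ≤ centralizer (Y : Set L) := fun a ha b hb => congrArg Subtype.val
      (hc.is_comm.comm (⟨b, hb⟩ : Y) ⟨a, ha⟩)
    have h2 : cj g Y ≤ centralizer ((cj g Y : Subgroup L) : Set L) := by
      rw [← cj_centralizer]; exact cj_mono g h1
    have h3 : x ∈ centralizer ((Y ⊔ cj g Y : Subgroup L) : Set L) := by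
      rw [centralizer_sup']; exact ⟨h1 hx.1, h2 hx.2⟩
    rw [hM.sup_cj_eq hg (mem_top g) hg'] at h3
    exact mem_center_iff.2 fun a => h3 a (mem_top a)

end Cfsg.Agent.S2835
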