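import Cfsg.Statements.S2836
import Cfsg.Agent.Loc.Irr
import Cfsg.Agent.PLocal.Basic

set_option autoImplicit false
open Cfsg

namespace Cfsg.Agent.S2836

section helpers
open Cfsg.Agent.Loc Subgroup
open scoped commutatorElement

theorem index_coprime {G : Type*} [Group G] [Finite G] {p : ℕ} [Fact p.Prime] {N M : Subgroup G}
    [N.Normal] (hN : (Nat.card N).Coprime p) (h : N ⊔ M = ⊤) : ¬ p ∣ M.relIndex ⊤ := by
  rw [relIndex_top_right, Solv.index_eq_relIndex_of_sup_eq_top (normalizer_eq_top N ▸ le_top) h]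
  intro hd
  exact (Nat.Prime.coprime_iff_not_dvd Fact.out).1 hN.symm (hd.trans (relIndex_dvd_card _ _))

end helpers

/-- Let L be a finite group, L₀ a maximal subgroup, T a Sylow p-subgroup of L₀, Y ≤ T, and suppose L is Y-minimal. Let D be the intersection of the conjugates of L₀ (the core of L₀). Then D contains O_p(L) and D/O_p(L) is the Frattini subgroup of L/O_p(L), so D is p-closed; and every normal subgroup N of L contained in L₀ is p-closed with N/O_p(N) a nilpotent group of order prime to p. -/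
theorem result {L : Type*} [Group L] [Finite L] {p : ℕ} [Fact p.Prime] (L₀ : Subgroup L) (hL₀ : IsCoatom L₀) (T : Sylow p ↥L₀) (Y : Subgroup L) (hYT : Y ≤ (T : Subgroup ↥L₀).map L₀.subtype) (hmin : Cfsg.IsMinimalOver Y) : (Cfsg.pCore p L ≤ L₀.normalCore ∧ (L₀.normalCore).map (QuotientGroup.mk' (Cfsg.pCore p L)) = frattini (L ⧸ Cfsg.pCore p L) ∧ Cfsg.IsPClosed p ↥(L₀.normalCore)) ∧ ∀ (N : Subgroup L) [N.Normal], N ≤ L₀ → Cfsg.IsPClosed p ↥N ∧ Group.IsNilpotent (↥N ⧸ Cfsg.pCore p ↥N) ∧ (Nat.card (↥N ⧸ Cfsg.pCore p ↥N)).Coprime p := by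
  open Cfsg.Agent.Loc Subgroup in
  open scoped commutatorElement in
  have hM := uMax_of_isMinimalOver hmin hL₀ (hYT.trans (map_subtype_le _))
  have hg := (isMinimalOver_iff_top.1 hmin).1
  have hT := sylIn_map_subtype T
  have hT' := hM.sylIn hg hT hYT
  have hM' := hM.mono hYT hT.le
  set S := (T : Subgroup L₀).map L₀.subtype with hS
  have hO : pCore p L ≤ L₀ := by rw [← pCoreOf_top]; exact hT'.pCoreOf_le.trans hT.le
  haveI := pCore_normal' p L
  set f := QuotientGroup.mk' (pCore p L) with hf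
  have hfs : Function.Surjective f := QuotientGroup.mk'_surjective _
  have hker : f.ker = pCore p L := QuotientGroup.ker_mk' _
  have hcl : ∀ (N : Subgroup L) [N.Normal], N ≤ L₀ → PCl p N := fun N _ hN =>
    hM'.pCl hT' hN (normalizer_eq_top N).ge
  have hcop : ∀ (N : Subgroup L) [N.Normal], N ≤ L₀ → (Nat.card (N.map f)).Coprime p := by
    intro N _ hN
    refine ((hcl N hN).map f).coprime_of_pCoreOf_eq_bot (eq_bot_iff.2 ?_)
    haveI := Normal.map ‹N.Normal› f hfs
    exact (PLocal.pCoreOf_le_pCore_of_normal _).trans (pCore_quotient_pCore p L).le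
  have hcore : L₀.normalCore.map f = frattini (L ⧸ pCore p L) := by
    apply le_antisymm
    · rw [Solv.le_frattini_iff]
      intro M hMc
      by_contra hne
      haveI := Normal.map (normalCore_normal L₀) f hfs
      have h1 : L₀.normalCore.map f ⊔ M = ⊤ := by
        by_contra h
        exact hne (le_sup_left.trans ((hMc.le_iff_eq h).1 le_sup_right).le)
      obtain ⟨R, hR⟩ := exists_sylIn p M
      have hR' : SylIn p R ⊤ := sylIn_of_not_dvd_relIndex le_top hR.pg (by
        rw [← relIndex_mul_relIndex R M ⊤ hR.le le_top]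
        exact (Fact.out : p.Prime).prime.not_dvd_mul hR.not_dvd_relIndex
          (index_coprime (hcop _ (normalCore_le L₀)) h1))
      have h2 := hT'.map f
      have h3 := hM'.map f (by rw [hker]; exact inf_le_left.trans hO)
      rw [map_top_of_surjective f hfs] at h2 h3
      obtain ⟨g, -, e⟩ := hR'.exists_conj h2
      have h4 : cj g M ≤ L₀.map f := h3.max _ (e ▸ cj_mono g hR.le)
        (lt_top_iff_ne_top.2 (mt cj_eq_top_iff.1 hMc.1))
      have h5 : M = cj g⁻¹ (L₀.map f) :=
        ((hMc.le_iff_eq (mt cj_eq_top_iff.1 h3.lt.ne)).1 (cj_le_iff.1 h4)).symm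
      apply hne
      rw [h5, ← cj_eq_of_normal g⁻¹ (L₀.normalCore.map f)]
      exact cj_mono _ (map_mono (normalCore_le L₀))
    · rw [← map_comap_eq_self_of_surjective hfs (frattini _)]
      refine map_mono (normal_le_normalCore.2 ?_)
      refine (comap_mono (frattini_le_coatom (Solv.isCoatom_map_of_ker_le hfs hL₀
        (hker.le.trans hO)))).trans ?_
      rw [comap_map_eq, hker]
      exact sup_le le_rfl hO
  refine ⟨⟨normal_le_normalCore.2 hO, hcore, isPClosed_iff.2 (hcl _ (normalCore_le L₀))⟩,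
    fun N _ hN => ⟨isPClosed_iff.2 (hcl N hN), ?_⟩⟩
  have hk : (f.subgroupMap N).ker = pCore p N := by
    rw [← pCoreOf_subgroupOf, pCoreOf_eq_inf_of_normal le_top (normalizer_eq_top N).ge, pCoreOf_top]
    ext x
    rw [MonoidHom.mem_ker, mem_subgroupOf, Subtype.ext_iff]
    exact ⟨fun h => ⟨hker.le h, x.2⟩, fun h => hker.ge h.1⟩
  have e : (N ⧸ pCore p N) ≃* N.map f :=
    (QuotientGroup.quotientMulEquivOfEq hk.symm).trans
      (QuotientGroup.quotientKerEquivOfSurjective _ (f.subgroupMap_surjective N))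
  constructor
  · haveI : Group.IsNilpotent (N.map f) := Solv.isNilpotent_of_le_fitting
      (((map_mono (normal_le_normalCore.2 hN)).trans hcore.le).trans Solv.frattini_le_fitting)
    exact Group.nilpotent_of_mulEquiv e.symm
  · rw [Nat.card_congr e.toEquiv]; exact hcop N hN

end Cfsg.Agent.S2836
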