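import Cfsg.Statements.S2837
import Cfsg.Agent.Loc.Irr

set_option autoImplicit false
open Cfsg

namespace Cfsg.Agent.S2837

section helpers
open Cfsg.Agent.Loc Subgroup
open scoped commutatorElement

theorem aux {G : Type*} [Group G] {P : Subgroup G} {a b : G} (ha : a ∈ P) (hb : b ∈ P) (n : ℕ) :
    (a * b) ^ n * (b ^ n)⁻¹ * (a ^ n)⁻¹ ∈ ⁅P, P⁆ := by
  induction n with
  | zero => simp
  | succ n ih =>
    have h1 : a * b ∈ normalizer ((⁅P, P⁆ : Subgroup G) : Set G) :=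
      normalizer_commutator_ge_left P P (mul_mem ha hb)
    have h2 := conj_mem_of_mem_normalizer h1 ih
    have h3 : ⁅b, a ^ n⁆ ∈ ⁅P, P⁆ := commutator_mem_commutator hb (pow_mem ha n)
    have h4 := conj_mem_of_mem_normalizer (normalizer_commutator_ge_left P P ha) h3
    convert mul_mem h2 h4 using 1
    rw [commutatorElement_def, pow_succ' (a * b), pow_succ b, pow_succ' a]
    group

end helpers

/-- Let L be a finite group of characteristic p, L₀ a maximal subgroup, Y an elementary abelian p-subgroup of L₀ with L Y-minimal and O_p(L) ≤ N_L(Y). Put A = the normal closure of O_p(L) ∩ Y in L. Then for every g ∈ L outside L₀: Φ(A) = A' = [A ∩ Y, A] = [A ∩ Y, A ∩ gYg⁻¹] ≤ C_Y(L), and Y ∩ gYg⁻¹ = (A ∩ Y) ∩ (A ∩ gYg⁻¹) = C_Y(L) = C_A(L). -/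
theorem result {L : Type*} [Group L] [Finite L] {p : ℕ} [Fact p.Prime] (hchar : Subgroup.centralizer (Cfsg.pCore p L : Set L) ≤ Cfsg.pCore p L) (L₀ : Subgroup L) (hL₀ : IsCoatom L₀) (Y : Subgroup L) (hYL₀ : Y ≤ L₀) (hYel : Cfsg.IsElementaryAbelian p Y) (hmin : Cfsg.IsMinimalOver Y) (hOY : Cfsg.pCore p L ≤ Subgroup.normalizer (Y : Set L)) (A : Subgroup L) (hA : A = Subgroup.normalClosure (((Cfsg.pCore p L ⊓ Y : Subgroup L)) : Set L)) (g : L) (hg : g ∉ L₀) : (frattini ↥A).map A.subtype = ⁅A, A⁆ ∧ ⁅A, A⁆ = ⁅A ⊓ Y, A⁆ ∧ ⁅A ⊓ Y, A⁆ = ⁅A ⊓ Y, A ⊓ Y.map (MulAut.conj g).toMonoidHom⁆ ∧ ⁅A ⊓ Y, A⁆ ≤ Y ⊓ Subgroup.center L ∧ Y ⊓ Y.map (MulAut.conj g).toMonoidHom = Y ⊓ Subgroup.center L ∧ (A ⊓ Y) ⊓ (A ⊓ Y.map (MulAut.conj g).toMonoidHom) = Y ⊓ Subgroup.center L ∧ A ⊓ Subgroup.center L = Y ⊓ Subgroup.center L := by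
  open Cfsg.Agent.Loc Subgroup in
  open scoped commutatorElement in
  have hM := uMax_of_isMinimalOver hmin hL₀ hYL₀
  have hgen := hM.sup_cj_eq (isMinimalOver_iff_top.1 hmin).1 (mem_top g) hg
  haveI := pCore_normal' p L
  set Q := pCore p L with hQ
  have hY : Y ≤ centralizer (Y : Set L) := (isElementaryAbelian_iff.1 hYel).1
  have hY' : cj g Y ≤ centralizer ((cj g Y : Subgroup L) : Set L) := by
    rw [← cj_centralizer]; exact cj_mono g hY
  have hQg : cj g Q = Q := cj_eq_of_normal g Q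
  have hOY' : Q ≤ normalizer ((cj g Y : Subgroup L) : Set L) := by
    rw [← cj_normalizer, ← hQg]; exact cj_mono g hOY
  have hAQ : A ≤ Q := hA ▸ normalClosure_le_normal inf_le_left
  haveI hAn : A.Normal := hA ▸ normalClosure_normal
  have hBA : Q ⊓ Y ≤ A := hA ▸ le_normalClosure
  have hB'A : Q ⊓ cj g Y ≤ A := by
    rw [← hQg, ← cj_inf, ← cj_eq_of_normal g A]; exact cj_mono g hBA
  have eB : A ⊓ Y = Q ⊓ Y := le_antisymm (inf_le_inf_right _ hAQ) (le_inf hBA inf_le_right)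
  have eB' : A ⊓ cj g Y = Q ⊓ cj g Y :=
    le_antisymm (inf_le_inf_right _ hAQ) (le_inf hB'A inf_le_right)
  have hc1 : ⁅Q, Y⁆ ≤ Q ⊓ Y := commutator_le_inf_of_normalizes hOY (normalizer_eq_top Q ▸ le_top)
  have hc2 : ⁅Q, cj g Y⁆ ≤ Q ⊓ cj g Y :=
    commutator_le_inf_of_normalizes hOY' (normalizer_eq_top Q ▸ le_top)
  have eA : A = (Q ⊓ Y) ⊔ (Q ⊓ cj g Y) := by
    refine le_antisymm ?_ (sup_le hBA hB'A)
    have hle : (Q ⊓ Y) ⊔ (Q ⊓ cj g Y) ≤ Q := sup_le inf_le_left inf_le_left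
    haveI : ((Q ⊓ Y) ⊔ (Q ⊓ cj g Y)).Normal := normal_of_top_le_normalizer (hgen.ge.trans (sup_le
      (le_normalizer_of_commutator_le' (((commutator_mono hle le_rfl).trans hc1).trans le_sup_left))
      (le_normalizer_of_commutator_le' (((commutator_mono hle le_rfl).trans hc2).trans le_sup_right))))
    exact hA ▸ normalClosure_le_normal (le_sup_left (a := Q ⊓ Y))
  have hZ : center L = centralizer (Y : Set L) ⊓ centralizer ((cj g Y : Subgroup L) : Set L) := by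
    rw [← centralizer_sup', hgen, coe_top, centralizer_univ]
  have hZQ : center L ≤ Q := (center_le_centralizer _).trans hchar
  have hfix : ∀ x ∈ center L, x ∈ cj g Y ↔ x ∈ Y := fun x hx => by
    rw [mem_cj, mul_assoc, ← mem_center_iff.1 hx g, inv_mul_cancel_left]
  have e5 : Y ⊓ cj g Y = Y ⊓ center L :=
    le_antisymm (le_inf inf_le_left (hZ ▸ inf_le_inf hY hY'))
      fun x hx => ⟨hx.1, (hfix x hx.2).2 hx.1⟩
  have hBB : ⁅A, A⁆ = ⁅Q ⊓ Y, Q ⊓ cj g Y⁆ := by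
    rw [eA]
    exact commutator_sup_self_of_abelian (le_centralizer_self_of_le hY inf_le_right)
      (le_centralizer_self_of_le hY' inf_le_right)
  have e3 : ⁅A ⊓ Y, A⁆ = ⁅A ⊓ Y, A ⊓ cj g Y⁆ :=
    le_antisymm ((commutator_mono inf_le_left le_rfl).trans (by rw [hBB, eB, eB']))
      (commutator_mono le_rfl inf_le_left)
  have e2 : ⁅A, A⁆ = ⁅A ⊓ Y, A⁆ := by rw [e3, hBB, eB, eB']
  have hn : Q ⊓ cj g Y ≤ normalizer ((Q ⊓ Y : Subgroup L) : Set L) :=
    inf_le_left.trans (le_normalizer_inf le_normalizer hOY)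
  refine ⟨le_antisymm ?_ (Solv.commutator_le_map_frattini ((isPGroup_pCore p L).to_le hAQ)),
    e2, e3, ?_, e5, ?_, ?_⟩
  · refine (Solv.map_frattini_le_iff ((isPGroup_pCore p L).to_le hAQ)).2 ⟨le_rfl, fun x hx => ?_⟩
    obtain ⟨a, ha, b, hb, rfl⟩ := (mem_sup_of_le_normalizer_left hn).1 (eA.le hx)
    have := aux (hBA ha) (hB'A hb) p
    rw [hYel.2 a ha.2, (isElementaryAbelian_map _ hYel).2 b hb.2] at this
    simpa using this
  · rw [e3, ← e5]
    exact le_inf ((commutator_mono inf_le_right (inf_le_left.trans hAQ)).trans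
      (commutator_le_left_of_le_normalizer hOY))
      ((commutator_mono (inf_le_left.trans hAQ) inf_le_right).trans
        (commutator_le_right_of_le_normalizer hOY'))
  · rw [eB, eB', ← inf_inf_distrib_left, e5]
    exact inf_eq_right.2 (inf_le_right.trans hZQ)
  · refine le_antisymm (fun x hx => ⟨?_, hx.2⟩) fun x hx => ⟨hBA ⟨hZQ hx.2, hx.1⟩, hx.2⟩
    obtain ⟨a, ha, b, hb, rfl⟩ := (mem_sup_of_le_normalizer_left hn).1 (eA.le hx.1)
    have h1 : b ∈ center L := by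
      rw [hZ]
      refine ⟨?_, hY' hb.2⟩
      have : b = a⁻¹ * (a * b) := by group
      rw [this]
      exact (centralizer (Y : Set L)).mul_mem (inv_mem (hY ha.2)) (center_le_centralizer _ hx.2)
    exact Y.mul_mem ha.2 ((hfix b h1).1 hb.2)

end Cfsg.Agent.S2837
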