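import Cfsg.Statements.S2841
import Cfsg.Agent.Loc.WC

set_option autoImplicit false
open Cfsg

namespace Cfsg.Agent.S2841

/-- Let Q be a nontrivial p-subgroup of the finite group H that is a weakly closed subgroup and N a normal subgroup of H. Then N = N_N(Q)·[N, Q] and [N, Q] = (Q ∩ [N, Q])·[N, Q, Q]. -/
theorem result {H : Type*} [Group H] [Finite H] {p : ℕ} [Fact p.Prime] (Q : Subgroup H) (hQp : IsPGroup p ↥Q) (hQ1 : Q ≠ ⊥) (hwc : Cfsg.IsWeaklyClosedSubgroup p Q) (N' : Subgroup H) [N'.Normal] : (∀ n : H, n ∈ N' → ∃ a ∈ N' ⊓ Subgroup.normalizer ((Q : Subgroup H) : Set H), ∃ b ∈ ⁅N', Q⁆, n = a * b) ∧ (∀ c : H, c ∈ ⁅N', Q⁆ → ∃ a ∈ Q ⊓ ⁅N', Q⁆, ∃ b ∈ ⁅⁅N', Q⁆, Q⁆, c = a * b) := by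
  open Cfsg.Agent.Loc Subgroup in
  open scoped commutatorElement in
  rw [isWeaklyClosedSubgroup_iff_top] at hwc
  have hCN : ⁅N', Q⁆ ≤ N' := commutator_le_left _ _
  have key : ∀ n : H, n ∈ N' → ∃ b ∈ ⁅N', Q⁆, ∃ a ∈ N' ⊓ normalizer (Q : Set H), n = b * a := by
    intro n hn
    obtain ⟨l, hl, e⟩ := hwc.exists_cj_eq (le_sup_left : Q ≤ Q ⊔ ⁅N', Q⁆) le_top (mem_top n)
      ((le_iSup (fun g : N' => cj (g : H) Q) ⟨n, hn⟩).trans (iSup_cj_eq_sup_commutator Q N').le)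
    rw [sup_comm] at hl
    obtain ⟨b, hb, q, hq, rfl⟩ := (mem_sup_of_le_normalizer_left
      (normalizer_commutator_ge_right _ _)).1 hl
    rw [← cj_cj, cj_eq_of_mem hq, eq_comm, cj_eq_iff, cj_cj] at e
    exact ⟨b, hb, b⁻¹ * n, ⟨N'.mul_mem (inv_mem (hCN hb)) hn, mem_normalizer_iff_cj.2 e.symm⟩,
      by group⟩
  constructor
  · intro n hn
    obtain ⟨b, hb, a, ha, e⟩ := key n⁻¹ (inv_mem hn)
    exact ⟨a⁻¹, inv_mem ha, b⁻¹, inv_mem hb, by rw [← mul_inv_rev, ← e, inv_inv]⟩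
  · have hn : Q ⊓ ⁅N', Q⁆ ≤ normalizer ((⁅⁅N', Q⁆, Q⁆ : Subgroup H) : Set H) :=
      inf_le_left.trans (normalizer_commutator_ge_right _ _)
    suffices h : ⁅N', Q⁆ ≤ (Q ⊓ ⁅N', Q⁆) ⊔ ⁅⁅N', Q⁆, Q⁆ by
      intro c hc
      obtain ⟨a, ha, b, hb, e⟩ := (mem_sup_of_le_normalizer_right hn).1 (h hc)
      exact ⟨a, ha, b, hb, e.symm⟩
    rw [Subgroup.commutator_le]
    intro n hn q hq
    obtain ⟨b, hb, a, ha, rfl⟩ := key n hn
    have h1 : ⁅a, q⁆ ∈ Q ⊓ ⁅N', Q⁆ := ⟨commutator_le_right_of_le_normalizer le_rfl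
      (commutator_mem_commutator ha.2 hq), commutator_mem_commutator ha.1 hq⟩
    have e : ⁅b * a, q⁆ = ⁅b, ⁅a, q⁆⁆ * ⁅a, q⁆ * ⁅b, q⁆ := by
      simp only [commutatorElement_def]; group
    rw [e]
    exact mul_mem (mul_mem (mem_sup_right (commutator_mem_commutator hb h1.1)) (mem_sup_left h1))
      (mem_sup_right (commutator_mem_commutator hb hq))

end Cfsg.Agent.S2841
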