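import Cfsg.Statements.S2844
import Cfsg.Agent.Loc.WC

set_option autoImplicit false
open Cfsg

namespace Cfsg.Agent.S2844

/-- Let Q be a nontrivial large p-subgroup of the finite group H and Q• = O_p(N_H(Q)). Then for every g ∈ H outside N_H(Q): C_H(Q) ∩ C_H(gQg⁻¹) = 1, C_H(Q•) ∩ C_H(gQ•g⁻¹) = 1, Z(Q) ∩ Z(gQg⁻¹) = 1 and Z(Q•) ∩ Z(gQ•g⁻¹) = 1; moreover N_H(Q) = N_H(Q•) and Q• is large in H. -/
theorem result {H : Type*} [Group H] [Finite H] {p : ℕ} [Fact p.Prime] (Q : Subgroup H) (hQp : IsPGroup p ↥Q) (hQ1 : Q ≠ ⊥) (hL : Cfsg.IsLarge Q) (Qb : Subgroup H) (hQb : Qb = Cfsg.largeBullet p Q) : (∀ g : H, g ∉ Subgroup.normalizer ((Q : Subgroup H) : Set H) → Subgroup.centralizer ((Q : Subgroup H) : Set H) ⊓ Subgroup.centralizer ((((Q : Subgroup H).map (MulAut.conj (g : H)).toMonoidHom) : Subgroup H) : Set H) = ⊥ ∧ Subgroup.centralizer ((Qb : Subgroup H) : Set H) ⊓ Subgroup.centralizer ((((Qb : Subgroup H).map (MulAut.conj (g : H)).toMonoidHom)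 : Subgroup H) : Set H) = ⊥ ∧ (Q ⊓ Subgroup.centralizer ((Q : Subgroup H) : Set H)) ⊓ (((Q : Subgroup H).map (MulAut.conj (g : H)).toMonoidHom) ⊓ Subgroup.centralizer ((((Q : Subgroup H).map (MulAut.conj (g : H)).toMonoidHom) : Subgroup H) : Set H)) = ⊥ ∧ (Qb ⊓ Subgroup.centralizer ((Qb : Subgroup H) : Set H)) ⊓ (((Qb : Subgroup H).map (MulAut.conj (g : H)).toMonoidHom) ⊓ Subgroup.centralizer ((((Qb : Subgroup H).map (MulAut.conj (g : H)).toMonoidHom) : Subgroup H) : Set H)) = ⊥) ∧ Subgroup.normalizer ((Q : Subgroup H) : Set H) = Subgroup.normalizer ((Qb : Subgroup H) : Set H) ∧ Cfsg.IsLarge Qb := by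
  open Cfsg.Agent.Loc Subgroup in
  open scoped commutatorElement in
  have hw := wCl_of_isLarge hQp hQ1 hL
  change Qb = pCoreOf p (normalizer (Q : Set H)) at hQb
  have h1 : Q ≤ Qb := hQb ▸ le_pCoreOf_normalizer hQp
  have hp : IsPGroup p Qb := hQb ▸ isPGroup_pCoreOf p _
  have e : normalizer (Q : Set H) = normalizer (Qb : Set H) :=
    le_antisymm (hQb ▸ le_normalizer_pCoreOf p _) (by simpa using hw.inf_normalizer_le hp h1)
  refine ⟨fun g hg => ?_, e, (centralizer_anti h1).trans (hL.1.trans h1), fun U a b =>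
    e ▸ hL.2 U (a.trans (centralizer_anti h1)) b⟩
  have h2 : centralizer (Q : Set H) ⊓ centralizer ((cj g Q : Subgroup H) : Set H) = ⊥ := by
    by_contra hne
    have := (isLarge_cj hL g).2 _ inf_le_right hne
    exact hg (mem_normalizer_iff_cj.2 (hw.eq g (mem_top g) (isPGroup_sup hQp (isPGroup_cj g hQp)
      (((le_centralizer_iff.1 inf_le_left).trans (centralizer_le_normalizer _)).trans this))))
  have h3 : centralizer (Qb : Set H) ⊓ centralizer ((cj g Qb : Subgroup H) : Set H) = ⊥ :=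
    eq_bot_iff.2 ((inf_le_inf (centralizer_anti h1) (centralizer_anti (cj_mono g h1))).trans h2.le)
  exact ⟨h2, h3, eq_bot_iff.2 ((inf_le_inf inf_le_right inf_le_right).trans h2.le),
    eq_bot_iff.2 ((inf_le_inf inf_le_right inf_le_right).trans h3.le)⟩

end Cfsg.Agent.S2844
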