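import Cfsg.Statements.S2849
import Cfsg.Agent.Loc.FrakM

set_option autoImplicit false
open Cfsg

namespace Cfsg.Agent.S2849

/-- Standing hypotheses: G a finite group, S a Sylow p-subgroup, Q a nontrivial large p-subgroup of G contained in S (C_G(Q) ≤ Q and N_G(U) ≤ N_G(Q) for all nontrivial U ≤ C_G(Q)), and M a subgroup containing S with the basic property (M ∈ 𝔐_G(S)); Y_M denotes the largest p-reduced normal subgroup of M and M† = M·C_G(Y_M). Suppose Y_M is asymmetric in G. Then for every subgroup R with Y_M ≤ R ≤ M†, the normal closure of Y_M in N_G(R) is elementary abelian. -/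
theorem result {G : Type*} [Group G] [Finite G] {p : ℕ} [Fact p.Prime] (S : Sylow p G) (Q : Subgroup G) (hQp : IsPGroup p ↥Q) (hQ1 : Q ≠ ⊥) (hQS : Q ≤ (S : Subgroup G)) (hQ : Cfsg.IsLarge Q) (M : Subgroup G) (hSM : (S : Subgroup G) ≤ M) (hM : Cfsg.IsInFrakM p M) (hasym : ¬ Cfsg.IsSymmetricIn (Cfsg.largestPReducedOf p M)) (R : Subgroup G) (hYR : (Cfsg.largestPReducedOf p M) ≤ R) (hRM : R ≤ (M ⊔ Subgroup.centralizer (((Cfsg.largestPReducedOf p M) : Subgroup G) : Set G))) : Cfsg.IsElementaryAbelian p ((Subgroup.normalClosure ((((Cfsg.largestPReducedOf p M)).subgroupOf (Subgroup.normalizer ((R : Subgroup G) : Set G)) : Subgroup ↥(Subgroup.normalizer ((R : Subgroup G) : Set G))) : Set ↥(Subgroup.normalizer ((R : Subgroup G) : Set G)))).map (Subgroup.normalizer ((R : Subgroup G) : Set G)).subtype) := by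
  open Cfsg.Agent.Loc Subgroup in
  open scoped commutatorElement in
  have h := fm_of_isLarge S hQp hQ1 hQ hSM hM
  rw [map_normalClosure_subgroupOf (hYR.trans le_normalizer)]
  have hY := pRed_Y (p := p) M
  have key : ∀ a b : normalizer (R : Set G), cj (a : G) (largestPReducedOf p M) ≤
      normalizer ((cj (b : G) (largestPReducedOf p M) : Subgroup G) : Set G) := fun a b => by
    refine (cj_le_of_mem_normalizer a.2 hYR).trans ?_
    rw [← cj_normalizer]
    exact (cj_eq_of_mem_normalizer b.2).ge.trans (cj_mono _ (hRM.trans h.D_le))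
  have hab : (⨆ g : normalizer (R : Set G), cj (g : G) (largestPReducedOf p M)) ≤
      centralizer ((⨆ g : normalizer (R : Set G), cj (g : G) (largestPReducedOf p M) :
        Subgroup G) : Set G) := by
    rw [centralizer_iSup']
    exact iSup_le fun a => le_iInf fun b => cj_le_centralizer_of_asymmetric hasym (key a b) (key b a)
  refine isElementaryAbelian_of_le (isElementaryAbelian_omegaOne hab) (iSup_le fun a => ?_)
  exact le_omegaOne (le_iSup (fun g : normalizer (R : Set G) =>
    cj (g : G) (largestPReducedOf p M)) a) (isElementaryAbelian_map _ hY.ea).2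

end Cfsg.Agent.S2849
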