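import Cfsg.Statements.S2850
import Cfsg.Agent.Loc.FrakM

set_option autoImplicit false
open Cfsg

namespace Cfsg.Agent.S2850

/-- Standing hypotheses: G a finite group, S a Sylow p-subgroup, Q a nontrivial large p-subgroup of G contained in S (C_G(Q) ≤ Q and N_G(U) ≤ N_G(Q) for all nontrivial U ≤ C_G(Q)), and M a subgroup containing S with the basic property (M ∈ 𝔐_G(S)); Y_M denotes the largest p-reduced normal subgroup of M and M† = M·C_G(Y_M). Suppose Y_M is asymmetric in G. Then N_G(L) ≤ N_G(O_p(M)) ≤ M† for every p-subgroup L containing O_p(M); O_p(M) is a weakly closed subgroup of G; for every subgroup L containing O_p(M), L ∩ M† contains a Sylow p-subgroup of L; and two elements of Y_M conjugate in G are conjugate in M. -/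
theorem result {G : Type*} [Group G] [Finite G] {p : ℕ} [Fact p.Prime] (S : Sylow p G) (Q : Subgroup G) (hQp : IsPGroup p ↥Q) (hQ1 : Q ≠ ⊥) (hQS : Q ≤ (S : Subgroup G)) (hQ : Cfsg.IsLarge Q) (M : Subgroup G) (hSM : (S : Subgroup G) ≤ M) (hM : Cfsg.IsInFrakM p M) (hasym : ¬ Cfsg.IsSymmetricIn (Cfsg.largestPReducedOf p M)) : (∀ L : Subgroup G, IsPGroup p ↥L → (Cfsg.pCoreOf p M) ≤ L → Subgroup.normalizer ((L : Subgroup G) : Set G) ≤ Subgroup.normalizer (((Cfsg.pCoreOf p M) : Subgroup G) : Set G) ∧ Subgroup.normalizer (((Cfsg.pCoreOf p M) : Subgroup G) : Set G) ≤ (M ⊔ Subgroup.centralizer (((Cfsg.largestPReducedOf p M) : Subgroup G) : Set G))) ∧ Cfsg.IsWeaklyClosedSubgroup p (Cfsg.pCoreOf p M) ∧ (∀ L : Subgroup G, (Cfsg.pCoreOf p M) ≤ L → Cfsg.IsParabolic p ((L ⊓ (M ⊔ Subgroup.centralizer (((Cfsg.largestPReducedOf p M) : Subgroup G) : Set G))).subgroupOf L)) ∧ (∀ x ∈ (Cfsg.largestPReducedOf p M), ∀ g : G, g * x * g⁻¹ ∈ (Cfsg.largestPReducedOf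 p M) → ∃ m ∈ M, m * x * m⁻¹ = g * x * g⁻¹) := by
  open Cfsg.Agent.Loc Subgroup in
  open scoped commutatorElement in
  have h := fm_of_isLarge S hQp hQ1 hQ hSM hM
  have hw := h.wCl hasym
  have h1 := h.normalizer_O_le.trans h.normalizer_Y_eq.le
  refine ⟨fun L a b => ⟨by simpa using hw.inf_normalizer_le a b, h1⟩,
    isWeaklyClosedSubgroup_iff_top.2 hw, fun L hL => ?_, fun x hx g hg => ?_⟩
  · obtain ⟨T, hT, hOT⟩ := exists_sylIn_ge hL hw.pg
    exact ⟨hT.toSylow, fun y hy => ⟨hT.le hy, h1 (hw.le_normalizer hT.pg hOT le_top hy)⟩⟩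
  · have hC : ∀ y ∈ largestPReducedOf p M, pCoreOf p M ≤ centralizer ({y} : Set G) := fun y hy => by
      rw [← centralizer_zpowers]
      exact h.sylIn_O.le.trans (centralizer_anti (zpowers_le.2 hy))
    obtain ⟨k, hk, e⟩ := hw.exists_cj_eq (hC x hx) le_top (mem_top g⁻¹)
      (by rw [← le_cj_iff, cj_centralizer_singleton]; exact hC _ hg)
    rw [eq_comm, cj_eq_iff, cj_cj, eq_comm] at e
    obtain ⟨m, hm, c, hc, e2⟩ := (mem_sup_of_le_normalizer_right
      (le_normalizer_centralizer (pRed_Y (p := p) M).norm)).1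
        (inv_mem (h1 (mem_normalizer_iff_cj.2 e)))
    refine ⟨m, hm, ?_⟩
    have h2 : x * k = k * x := hk x rfl
    have h3 : x * c = c * x := hc x hx
    have h4 : m = g * k * c⁻¹ := by rw [eq_mul_inv_iff_mul_eq, e2]; group
    rw [h4]
    calc _ = g * k * (c⁻¹ * (x * c)) * k⁻¹ * g⁻¹ := by group
      _ = g * (k * x) * k⁻¹ * g⁻¹ := by rw [h3]; group
      _ = _ := by rw [← h2]; group

end Cfsg.Agent.S2850
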