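import Cfsg.Statements.S2851
import Cfsg.Agent.Loc.FrakM

set_option autoImplicit false
open Cfsg

namespace Cfsg.Agent.S2851

/-- Standing hypotheses: G a finite group, S a Sylow p-subgroup, Q a nontrivial large p-subgroup of G contained in S, M a subgroup containing S with the basic property (M ∈ 𝔐_G(S)); Y_M the largest p-reduced normal subgroup of M and M† = M·C_G(Y_M). Let F be the preimage in M† of the generalized Fitting subgroup of M†/C_{M†}(Y_M). If Y_M is asymmetric in G and H is a subgroup of characteristic p containing F, then Y_M ≤ Y_H. -/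
theorem result {G : Type*} [Group G] [Finite G] {p : ℕ} [Fact p.Prime] (S : Sylow p G) (Q : Subgroup G) (hQp : IsPGroup p ↥Q) (hQ1 : Q ≠ ⊥) (hQS : Q ≤ (S : Subgroup G)) (hQ : Cfsg.IsLarge Q) (M : Subgroup G) (hSM : (S : Subgroup G) ≤ M) (hM : Cfsg.IsInFrakM p M) (hasym : ¬ Cfsg.IsSymmetricIn (Cfsg.largestPReducedOf p M)) [hn : ((Subgroup.centralizer (((Cfsg.largestPReducedOf p M) : Subgroup G) : Set G)).subgroupOf (M ⊔ Subgroup.centralizer (((Cfsg.largestPReducedOf p M) : Subgroup G) : Set G))).Normal] (F : Subgroup G) (hF : F = ((Cfsg.generalizedFittingSubgroup (↥(M ⊔ Subgroup.centralizer (((Cfsg.largestPReducedOf p M) : Subgroup G) : Set G)) ⧸ (Subgroup.centralizer (((Cfsg.largestPReducedOf p M) : Subgroup G) : Set G)).subgroupOf (M ⊔ Subgroup.centralizer (((Cfsg.largestPReducedOf p M) : Subgroup G) : Set G)))).comap (QuotientGroup.mk' ((Subgroup.centralizer (((Cfsg.largestPReducedOf p M) : Subgroup G) : Set G)).subgroupOf (M ⊔ Subgroup.centralizer (((Cfsg.largestPReducedOf p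 M) : Subgroup G) : Set G))))).map ((M ⊔ Subgroup.centralizer (((Cfsg.largestPReducedOf p M) : Subgroup G) : Set G))).subtype) (H : Subgroup G) (hFH : F ≤ H) (hH : Subgroup.centralizer (Cfsg.pCore p ↥H : Set ↥H) ≤ Cfsg.pCore p ↥H) : (Cfsg.largestPReducedOf p M) ≤ Cfsg.largestPReducedOf p H := by
  open Cfsg.Agent.Loc Subgroup in
  open scoped commutatorElement in
  have h := fm_of_isLarge S hQp hQ1 hQ hSM hM
  have hw := h.wCl hasym
  have hYD := pRed_Y (p := p) (M ⊔ centralizer ((largestPReducedOf p M : Subgroup G) : Set G))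
  rw [← hM.2.2.2.1] at hYD
  have h1 := h.normalizer_O_le.trans h.normalizer_Y_eq.le
  have hOC := h.sylIn_O.le
  have hYO := h.Y_le_O
  generalize largestPReducedOf p M = Y at *
  set C := centralizer (Y : Set G) with hC
  have hCD : C ≤ M ⊔ C := le_sup_right
  generalize M ⊔ C = D at *
  set f := QuotientGroup.mk' (C.subgroupOf D) with hf
  have hfs : Function.Surjective f := QuotientGroup.mk'_surjective _
  have hker : ∀ x : D, f x = 1 ↔ (x : G) ∈ C := fun x => QuotientGroup.eq_one_iff x
  have hO : pCore p (D ⧸ C.subgroupOf D) = ⊥ := red_iff_quotient.1 hYD.red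
  have hCF : C ≤ F := fun c hc => hF ▸ ⟨⟨c, hCD hc⟩, by
    rw [SetLike.mem_coe, mem_comap, (hker _).2 hc]; exact one_mem _, rfl⟩
  have hFD : F ≤ D := hF ▸ map_subtype_le _
  have hFs : (F.subgroupOf D).map f = generalizedFittingSubgroup _ := by
    rw [hF, subgroupOf_map_subtype', map_comap_eq_self_of_surjective hfs]
  obtain ⟨T, hT, hOT⟩ := exists_sylIn_ge ((hOC.trans hCF).trans hFH) hw.pg
  have hTD : T ≤ H ⊓ D := le_inf hT.le ((hw.le_normalizer hT.pg hOT le_top).trans h1)
  refine (chP_iff.2 hH).le_Y hT hTD inf_le_left ⟨(hYO.trans hOT).trans hTD,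
    inf_le_right.trans hYD.norm, hYD.ea, fun E a b c => ?_⟩
  have hED := a.trans inf_le_right
  have hp : IsPGroup p ((E.subgroupOf D).map f) := by
    refine isPGroup_of_forall_pow ?_
    rintro _ ⟨x, hx, rfl⟩
    obtain ⟨k, hk⟩ := pResidualOf_le_iff_pow.1 c x hx
    exact ⟨k, by rw [← map_pow]; exact (hker _).2 hk⟩
  have hn : generalizedFittingSubgroup _ ≤ normalizer (((E.subgroupOf D).map f : Subgroup _) :
      Set (D ⧸ C.subgroupOf D)) := by
    rw [← hFs]
    refine map_le_normalizer_map (fun x hx => ?_) f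
    rw [← subgroupOf_normalizer_eq hED]
    exact b ⟨hFH hx, x.2⟩
  have hbot : ∀ X, X ≤ generalizedFittingSubgroup (D ⧸ C.subgroupOf D) →
      generalizedFittingSubgroup _ ≤ normalizer (X : Set (D ⧸ C.subgroupOf D)) → IsPGroup p X →
        X = ⊥ := fun X a b c => eq_bot_iff.2 (((le_pCoreOf a b c).trans
          (PLocal.pCoreOf_le_pCore_of_normal _)).trans hO.le)
  have h2 := hbot _ inf_le_left (le_normalizer_inf le_normalizer hn) (hp.to_le inf_le_right)
  have h3 := Sig.centralizer_fstar_le.trans' (commutator_eq_bot_iff'.1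
    (Sig.commutator_eq_bot_of_inf_eq_bot hn (le_top.trans (normalizer_eq_top _).ge) h2))
  rw [inf_eq_right.2 h3] at h2
  intro x hx
  refine (hker ⟨x, hED hx⟩).1 ?_
  rw [← mem_bot, ← h2]
  exact mem_map_of_mem f hx

end Cfsg.Agent.S2851
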