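import Cfsg.Statements.S2855
import Cfsg.Agent.Loc.PMin

set_option autoImplicit false
open Cfsg

namespace Cfsg.Agent.S2855

section helpers
open Cfsg.Agent.Loc Subgroup
open scoped commutatorElement

variable {G : Type*} [Group G] [Finite G] {p : ℕ} [Fact p.Prime]

theorem minOv_sup {T E O : Subgroup G} (h : MinOv T E) (hT : SylIn p T E) (hO : IsPGroup p O)
    (hn : E ≤ normalizer (O : Set G)) : MinOv (T ⊔ O) (E ⊔ O) := by
  obtain ⟨h1, M, hM⟩ := h
  have hle : (⨆ g : (E ⊔ O : Subgroup G), cj (g : G) (T ⊔ O)) ≤ E ⊔ O :=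
    iSup_cj_le (sup_le_sup_right hT.le _) le_normalizer
  refine ⟨le_antisymm hle (sup_le (h1.ge.trans (iSup_cj_le (le_sup_left.trans (le_iSup_cj _ _))
    (le_sup_left.trans (le_normalizer_iSup_cj _ _)))) (le_sup_right.trans (le_iSup_cj _ _))),
    M ⊔ O, sup_le_sup_right hM.le _, lt_of_le_of_ne (sup_le_sup_right hM.lt.le _) fun e => ?_,
    fun X h2 h3 => ?_⟩
  · have h2 : E ≤ (O ⊓ E) ⊔ M := by
      rw [← sup_inf_of_le_right (hM.lt.le.trans hn) hM.lt.le, sup_comm, e]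
      exact le_inf le_sup_left le_rfl
    exact hM.lt.not_ge (h2.trans (sup_le ((hT.le_of_le_normalizer inf_le_right hO.to_inf_left
      (le_normalizer_inf (hT.le.trans hn) (hT.le.trans le_normalizer))).trans hM.le) le_rfl))
  · have h4 : X = O ⊔ (E ⊓ X) := by
      rw [← sup_inf_of_le_left hn (le_sup_right.trans h2), sup_comm, inf_eq_right.2 h3.le]
    rw [h4, sup_comm]
    exact sup_le_sup_right (hM.max _ (le_inf hT.le (le_sup_left.trans h2)) (lt_of_le_of_ne
      inf_le_left fun e => h3.not_ge (sup_le (e.ge.trans inf_le_right) (le_sup_right.trans h2)))) _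

theorem minOv_cj {T T' E : Subgroup G} (h : MinOv T E) (hT : SylIn p T E) (hT' : SylIn p T' E) :
    MinOv T' E := by
  obtain ⟨g, hg, rfl⟩ := hT.exists_conj hT'
  simpa only [cj_eq_of_mem hg] using h.conj g

theorem comm_bot {E X : Subgroup G} (h : PIrr p E) (hO : pCoreOf p E = ⊥)
    (h1 : E ≤ normalizer (X : Set G)) (h2 : X ≤ normalizer (E : Set G))
    (h3 : ⁅⁅X, E⁆, E⁆ = ⊥) : ⁅X, E⁆ = ⊥ := by
  obtain ⟨T, hT⟩ := exists_sylIn p E
  have h4 : pResidualOf p E ≤ centralizer (X : Set G) := h.pResidualOf_le_commutator.trans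
    (commutator_eq_bot_iff_le_centralizer.1 (eq_bot_iff.2 (three_subgroups (le_normalizer_bot _)
      (le_normalizer_bot _) (le_normalizer_bot _) (by rw [commutator_comm E X, h3]) h3.le)))
  have h5 : ⁅X, E⁆ ≤ ⁅X, T⁆ := by
    rw [commutator_comm X E, commutator_comm X T]
    refine commutator_le_of_forall_mul_centralizer fun e he => ?_
    obtain ⟨n, hn, t, ht, e1⟩ := hT.exists_pResidualOf_mul (inv_mem he)
    exact ⟨t⁻¹, inv_mem ht, n⁻¹, inv_mem (h4 hn), by rw [← mul_inv_rev, e1, inv_inv]⟩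
  exact eq_bot_iff.2 (hO ▸ le_pCoreOf (commutator_le_right_of_le_normalizer h2)
    (normalizer_commutator_ge_right _ _) ((isPGroup_commutator_of_quadratic hT.pg (hT.le.trans h1)
      (Sig.commutator_eq_bot_mono h3 (commutator_mono le_rfl hT.le) hT.le)).to_le h5))

theorem res_le {𝒦 : Set (Subgroup G)} {N : Subgroup G} [N.Normal]
    (hn : ∀ E ∈ 𝒦, sSup 𝒦 ≤ normalizer (E : Set G)) (h : ∀ E ∈ 𝒦, pResidualOf p E ≤ N) :
    pResidualOf p (sSup 𝒦) ≤ N := by
  let f := QuotientGroup.mk' N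
  have hk : ∀ A : Subgroup G, A.map f = ⊥ ↔ A ≤ N := fun A => by
    rw [Subgroup.map_eq_bot_iff, QuotientGroup.ker_mk']
  rw [← hk, map_pResidualOf]
  refine pResidualOf_eq_bot_of_isPGroup ((isPGroup_pCoreOf p ((sSup 𝒦).map f)).to_le
    (map_le_iff_le_comap.2 (sSup_le fun E hE => map_le_iff_le_comap.1 (le_pCoreOf
      (map_mono (le_sSup hE)) (map_le_normalizer_map (hn E hE) f)
      (isPGroup_of_pResidualOf_eq_bot (by rw [← map_pResidualOf, hk]; exact h E hE))))))

theorem part2 {𝒦 : Set (Subgroup G)} (hO : pCoreOf p (⊤ : Subgroup G) = ⊥) (hne : 𝒦.Nonempty)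
    (hinv : ∀ g : G, ∀ E ∈ 𝒦, cj g E ∈ 𝒦) (htr : ∀ E ∈ 𝒦, ∀ K ∈ 𝒦, ∃ h : G, K = cj h E)
    (hres : pResidualOf p ⊤ ≤ sSup 𝒦) (hn : ∀ E ∈ 𝒦, sSup 𝒦 ≤ normalizer (E : Set G))
    (hs : ∀ E ∈ 𝒦, SIrr p E) : PIrr p (⊤ : Subgroup G) ∧
      ∀ E ∈ 𝒦, ∀ K ∈ 𝒦, pResidualOf p E = pResidualOf p K ∨ ⁅E, K⁆ = ⊥ := by
  have hK : (sSup 𝒦).Normal := normal_of_top_le_normalizer
    (Sig.le_normalizer_sSup fun g _ X hX => le_sSup (hinv g X hX))
  have hKn : ∀ A : Subgroup G, A ≤ normalizer ((sSup 𝒦 : Subgroup G) : Set G) := fun A => by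
    rw [normalizer_eq_top]; exact le_top
  have hOE : ∀ E ∈ 𝒦, pCoreOf p E = ⊥ := fun E hE => pCoreOf_eq_bot_of_subnIn hO
    ((Sig.SubnIn.of_normal (le_sSup hE) (hn E hE)).trans (Sig.SubnIn.of_normal le_top (hKn _)))
  have key : ∀ E ∈ 𝒦, ∀ X ≤ sSup 𝒦, sSup 𝒦 ≤ normalizer (X : Set G) →
      pResidualOf p E ≤ X ∨ ⁅X, E⁆ = ⊥ := fun E hE X h1 h2 => by
    by_cases h : ⁅⁅X, E⁆, E⁆ = ⊥
    · exact Or.inr (comm_bot (hs E hE).pIrr (hOE E hE) ((le_sSup hE).trans h2)
        (h1.trans (hn E hE)) h)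
    · exact Or.inl (((hs E hE).2 _ (commutator_le_right_of_le_normalizer (h1.trans (hn E hE)))
        (normalizer_commutator_ge_right _ _) (by rwa [hOE E hE, le_bot_iff])).trans
        (commutator_le_left_of_le_normalizer ((le_sSup hE).trans h2)))
  have hrr : pResidualOf p ⊤ ≤ pResidualOf p (sSup 𝒦) := (pResidualOf_eq_of_le hres le_top).ge
  refine ⟨⟨fun h => ?_, fun N _ h2 h3 => ?_⟩, fun E hE K hK => ?_⟩
  · obtain ⟨E, hE⟩ := hne
    exact (hs E hE).1 (h.of_le le_top)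
  · haveI := normal_of_top_le_normalizer h2
    by_cases h : ∃ E ∈ 𝒦, pResidualOf p E ≤ N
    · obtain ⟨E, hE, h⟩ := h
      refine hrr.trans (res_le hn fun F hF => ?_)
      obtain ⟨g, rfl⟩ := htr E hE F hF
      rw [← cj_pResidualOf, ← cj_eq_of_normal g N]
      exact cj_mono g h
    · exfalso
      have h4 : ⁅N ⊓ sSup 𝒦, sSup 𝒦⁆ = ⊥ := by
        rw [commutator_comm]
        refine Sig.commutator_sSup_eq_bot fun E hE => ?_
        rw [commutator_comm]
        exact (key E hE _ inf_le_right (le_normalizer_inf (le_top.trans h2) le_normalizer)).resolve_left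
          fun h5 => h ⟨E, hE, h5.trans inf_le_left⟩
      have h5 := Sig.commutator_eq_bot_mono h4 (commutator_le_inf_of_normalizes (hKn N)
        (le_top.trans h2)) le_rfl
      have h6 : pResidualOf p ⊤ ≤ centralizer (N : Set G) := (hrr.trans (res_le hn fun E hE =>
        (hs E hE).pIrr.pResidualOf_le_commutator.trans (commutator_mono (le_sSup hE)
          (le_sSup hE)))).trans (commutator_eq_bot_iff_le_centralizer.1 (eq_bot_iff.2
            (three_subgroups (le_normalizer_bot _) (le_normalizer_bot _) (le_normalizer_bot _)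
              (by rw [commutator_comm _ N, h5]) h5.le)))
      obtain ⟨T, hT⟩ := exists_sylIn p (⊤ : Subgroup G)
      have h7 := hT.inf_normal' le_top h2
      refine h3 (pCl_of_sylIn_le h7 (le_trans (hO ▸ le_pCoreOf le_top ?_ h7.pg) bot_le))
      rw [← hT.pResidualOf_sup]
      exact sup_le (le_normalizer_of_le_centralizer (h6.trans (centralizer_anti inf_le_right)))
        (le_normalizer_inf le_normalizer (le_top.trans h2))
  · refine (key K hK E (le_sSup hE) (hn E hE)).imp_left fun h => ?_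
    obtain ⟨g, rfl⟩ := htr E hE K hK
    exact (eq_of_le_of_card_ge ((pResidualOf_pResidualOf p _).ge.trans (pResidualOf_mono h))
      (by rw [← cj_pResidualOf, card_cj])).symm

end helpers

/-- Let H be a finite group, p a prime, and 𝒦 a nonempty set of subgroups of H permuted transitively by conjugation, with R the subgroup generated by the members of 𝒦. Suppose O^p(H) ≤ R, each E ∈ 𝒦 has E·O_p(H) normal in R·O_p(H), and each E ∈ 𝒦 is p-minimal (generated by the conjugates of a Sylow p-subgroup T_E of E, with T_E in exactly one maximal subgroup of E). Then H is p-minimal in the same sense. If instead each E ∈ 𝒦 is strongly p-irreducible, then H is p-irreducible and, for E, K ∈ 𝒦, either O^p(E·O_p(H)) = O^p(K·O_p(H)) or [E, K] ≤ O_p(H). -/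
theorem result {H : Type*} [Group H] [Finite H] {p : ℕ} [Fact p.Prime] (𝒦 : Set (Subgroup H)) (hne : 𝒦.Nonempty) (hinv : ∀ h : H, ∀ E ∈ 𝒦, E.map (MulAut.conj h).toMonoidHom ∈ 𝒦) (htr : ∀ E ∈ 𝒦, ∀ K ∈ 𝒦, ∃ h : H, K = E.map (MulAut.conj h).toMonoidHom) (hres : Cfsg.pResidual p H ≤ sSup 𝒦) (hnorm : ∀ E ∈ 𝒦, sSup 𝒦 ⊔ Cfsg.pCore p H ≤ Subgroup.normalizer ((E ⊔ Cfsg.pCore p H : Subgroup H) : Set H)) : ((∀ E ∈ 𝒦, ∀ T : Sylow p ↥E, Cfsg.IsMinimalOver (T : Subgroup ↥E)) → ∀ T : Sylow p H, Cfsg.IsMinimalOver (T : Subgroup H)) ∧ ((∀ E ∈ 𝒦, Cfsg.IsStronglyPIrreducible p ↥E) → Cfsg.IsPIrreducible p H ∧ ∀ E ∈ 𝒦, ∀ K ∈ 𝒦, (Cfsg.pResidual p ↥(E ⊔ Cfsg.pCore p H)).map (E ⊔ Cfsg.pCore p H).subtype = (Cfsg.pResidual p ↥(K ⊔ Cfsg.pCore p H)).map (K ⊔ Cfsg.pCore p H).subtype ∨ ⁅E, K⁆ ≤ Cfsg.pCore p H) := by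
  open Cfsg.Agent.Loc Subgroup in
  open scoped commutatorElement in
  have hO : (pCore p H).Normal := normal_of_top_le_normalizer
    (by rw [← pCoreOf_top]; exact le_normalizer_pCoreOf p ⊤)
  have hOp := isPGroup_pCore p H
  have hOn : ∀ A : Subgroup H, A ≤ normalizer (pCore p H : Set H) := fun A => by
    rw [normalizer_eq_top]; exact le_top
  rw [← pResidualOf_top] at hres
  refine ⟨fun h T => ?_, fun h => ?_⟩
  · have hT := sylIn_top T
    have hK : (sSup 𝒦).Normal := normal_of_top_le_normalizer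
      (Sig.le_normalizer_sSup fun g _ X hX => le_sSup (hinv g X hX))
    set K := sSup 𝒦 ⊔ pCore p H with hKd
    have hKn : ∀ A : Subgroup H, A ≤ normalizer (K : Set H) := fun A => by
      rw [normalizer_eq_top]; exact le_top
    have hKT : K ⊔ T = ⊤ := eq_top_iff.2 (hT.pResidualOf_sup.ge.trans
      (sup_le_sup_right (hres.trans le_sup_left) _))
    have hOT : pCore p H ≤ T := pCoreOf_top p H ▸ hT.pCoreOf_le
    have hsyl : ∀ E ∈ 𝒦, SylIn p (T ⊓ (E ⊔ pCore p H)) (E ⊔ pCore p H) := fun E hE =>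
      hT.inf_subnIn ((Sig.SubnIn.of_normal (sup_le_sup_right (le_sSup hE) _) (hnorm E hE)).trans
        (Sig.SubnIn.of_normal le_top (hKn _)))
    have hm : ∀ E ∈ 𝒦, MinOv (T ⊓ (E ⊔ pCore p H)) (E ⊔ pCore p H) := fun E hE => by
      obtain ⟨U, hU⟩ := exists_sylIn p E
      have h1 := isMinimalOver_iff.1 (h E hE hU.toSylow)
      rw [hU.map_toSylow] at h1
      refine minOv_cj (minOv_sup h1 hU hOp (hOn E)) ⟨sup_le_sup_right hU.le _,
        IsPGroup.to_sup_of_normal_right' hU.pg hOp (hOn U), fun Q h2 h3 h4 => ?_⟩ (hsyl E hE)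
      rw [← hU.max (E ⊓ Q) inf_le_left h3.to_inf_right (le_inf hU.le (le_sup_left.trans h4)),
        sup_comm, ← sup_inf_of_le_left (hOn E) (le_sup_right.trans h4), sup_comm, inf_eq_right.2 h2]
    let μ : Subgroup H → Subgroup H := fun E => sSup {X | (T : Subgroup H) ⊓ E ≤ X ∧ X < E}
    have hμ : ∀ E ∈ 𝒦, UMax (T ⊓ (E ⊔ pCore p H)) (E ⊔ pCore p H) (μ (E ⊔ pCore p H)) :=
      fun E hE => by
        obtain ⟨M, hM⟩ := (hm E hE).2
        have : μ (E ⊔ pCore p H) = M :=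
          le_antisymm (sSup_le fun X hX => hM.max X hX.1 hX.2) (le_sSup ⟨hM.le, hM.lt⟩)
        rwa [this]
    have hcj : ∀ g : H, ∀ E ∈ 𝒦, cj g (T ⊓ (E ⊔ pCore p H)) =
        (T : Subgroup H) ⊓ (cj g E ⊔ pCore p H) →
        cj g (μ (E ⊔ pCore p H)) = μ (cj g E ⊔ pCore p H) := fun g E hE e => by
      have := (hμ E hE).conj g
      rw [e, cj_sup, cj_eq_of_normal g (pCore p H)] at this
      exact this.unique (hμ _ (hinv g E hE))
    have hnm : ∀ E ∈ 𝒦, K ⊓ normalizer ((T ⊓ (E ⊔ pCore p H) : Subgroup H) : Set H) ≤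
        normalizer (μ (E ⊔ pCore p H) : Set H) := fun E hE g hg => by
      have e : cj g E ⊔ pCore p H = E ⊔ pCore p H := by
        rw [← cj_eq_of_mem_normalizer (hnorm E hE hg.1), cj_sup, cj_eq_of_normal g (pCore p H)]
      rw [mem_normalizer_iff_cj, hcj g E hE (by rw [e, cj_eq_of_mem_normalizer hg.2]), e]
    let N := K ⊓ ⨅ E : 𝒦, normalizer (μ (E ⊔ pCore p H) : Set H)
    have hTN : (T : Subgroup H) ≤ normalizer (N : Set H) := le_normalizer_inf (hKn _)
      (le_normalizer_of_cj_le fun t ht => le_iInf fun E => by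
        rw [cj_le_iff, cj_normalizer, hcj _ _ E.2 (by
          rw [cj_inf, cj_sup, cj_eq_of_normal _ (pCore p H), cj_eq_of_mem (inv_mem ht)])]
        exact iInf_le (fun E : 𝒦 => normalizer (μ (E ⊔ pCore p H) : Set H)) ⟨_, hinv _ _ E.2⟩)
    refine isMinimalOver_iff_top.2 ⟨eq_top_iff.2 (hKT.ge.trans (sup_le (sup_le (sSup_le fun E hE =>
      le_sup_left.trans ((hm E hE).1.ge.trans (iSup_cj_le (inf_le_left.trans (le_iSup_cj _ _))
        (le_top.trans (le_normalizer_iSup_cj _ _))))) (hOT.trans (le_iSup_cj _ _)))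
      (le_iSup_cj _ _))), N ⊔ T, le_sup_right, lt_top_iff_ne_top.2 fun e => ?_, fun X h1 h2 => ?_⟩
    · obtain ⟨E, hE⟩ := hne
      refine (hμ E hE).not_le_normalizer (hm E hE).1 (hμ E hE).le le_rfl
        ((sup_le_sup_right (le_sSup hE) _).trans ?_)
      have h1 : K = N ⊔ (T ⊓ K) := by
        rw [← sup_inf_of_le_left hTN inf_le_left, e, top_inf_eq]
      rw [← hKd, h1]
      exact sup_le (inf_le_right.trans (iInf_le (fun E : 𝒦 =>
        normalizer (μ (E ⊔ pCore p H) : Set H)) ⟨E, hE⟩)) ((le_inf inf_le_right (le_normalizer_inf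
          (inf_le_left.trans le_normalizer) (inf_le_right.trans (hnorm E hE)))).trans (hnm E hE))
    · have h3 : X = (K ⊓ X) ⊔ T := by rw [← sup_inf_of_le_right (hKn _) h1, hKT, top_inf_eq]
      rw [h3]
      refine sup_le_sup_right (le_inf inf_le_left (le_iInf fun ⟨E, hE⟩ g hg => ?_)) _
      have h4 : X ⊓ (E ⊔ pCore p H) < E ⊔ pCore p H := lt_of_le_of_ne inf_le_right fun e => by
        refine h2.not_ge (hKT.ge.trans (sup_le (sup_le (sSup_le fun F hF => ?_) (hOT.trans h1)) h1))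
        obtain ⟨x, rfl⟩ := htr E hE F hF
        obtain ⟨k, hk, t, ht, rfl⟩ := (mem_sup_of_le_normalizer_right (hKn _)).1
          (show x ∈ (T : Subgroup H) ⊔ K by rw [sup_comm, hKT]; exact mem_top x)
        rw [← cj_cj]
        refine cj_le_of_mem (h1 hk) (le_trans ?_ (e.ge.trans inf_le_left))
        exact cj_le_of_mem_normalizer (hnorm E hE ht) le_sup_left
      have h5 := (hμ E hE).max _ (inf_le_inf_right _ h1) h4
      obtain ⟨n, hn, k, hk, rfl⟩ := ((hsyl E hE).mono (inf_le_inf_right _ h1) inf_le_right).frattini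
        (le_normalizer_inf (inf_le_right.trans le_normalizer) (inf_le_left.trans (hnorm E hE)) hg)
      refine mul_mem (le_normalizer (h5 hn)) (hnm E hE ⟨?_, hk⟩)
      have := mul_mem (inv_mem (sup_le_sup_right (le_sSup hE) _ hn.2)) hg.1
      rwa [inv_mul_cancel_left] at this
  · let f := QuotientGroup.mk' (pCore p H)
    have hs : Function.Surjective f := QuotientGroup.mk'_surjective _
    have hk : f.ker = pCore p H := QuotientGroup.ker_mk' _
    have hkp : IsPGroup p f.ker := by rwa [hk]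
    have hb : (pCore p H).map f = ⊥ := (Subgroup.map_eq_bot_iff _).2 hk.ge
    have hsup : sSup ((Subgroup.map f) '' 𝒦) = (sSup 𝒦).map f := by
      rw [sSup_image, sSup_eq_iSup, Subgroup.map_iSup]
      simp only [Subgroup.map_iSup]
    obtain ⟨h1, h2⟩ := part2 (p := p) (𝒦 := (Subgroup.map f) '' 𝒦) (by
      rw [← map_top_of_surjective f hs, ← map_pCoreOf_of_ker hkp.to_inf_left, pCoreOf_top, hb])
      (hne.image _) (by
        rintro g _ ⟨E, hE, rfl⟩
        obtain ⟨g, rfl⟩ := hs g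
        exact ⟨_, hinv g E hE, map_cj f g E⟩) (by
        rintro _ ⟨E, hE, rfl⟩ _ ⟨K, hK, rfl⟩
        obtain ⟨g, rfl⟩ := htr E hE K hK
        exact ⟨f g, map_cj f g E⟩) (by
        rw [hsup, ← map_top_of_surjective f hs, ← map_pResidualOf]; exact map_mono hres) (by
        rintro _ ⟨E, hE, rfl⟩
        have := map_le_normalizer_map (hnorm E hE) f
        rwa [Subgroup.map_sup, Subgroup.map_sup, hb, sup_bot_eq, sup_bot_eq, ← hsup] at this) (by
        rintro _ ⟨E, hE, rfl⟩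
        exact (sIrr_map_iff hkp.to_inf_left).2 (isStronglyPIrreducible_iff.1 (h E hE)))
    rw [← map_top_of_surjective f hs, pIrr_map_iff hkp.to_inf_left] at h1
    refine ⟨isPIrreducible_iff_top.2 h1, fun E hE K hK => ?_⟩
    have h3 : ∀ E K : Subgroup H, pResidualOf p (E.map f) = pResidualOf p (K.map f) →
        pResidualOf p (E ⊔ pCore p H) ≤ pResidualOf p (K ⊔ pCore p H) := fun E K e => by
      refine (pResidualOf_pResidualOf p _).ge.trans (pResidualOf_mono ?_)
      rw [← hk, ← comap_map_eq f K, ← map_le_iff_le_comap, map_pResidualOf, Subgroup.map_sup, hk, hb,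
        sup_bot_eq, e]
      exact pResidualOf_le p _
    exact (h2 _ ⟨E, hE, rfl⟩ _ ⟨K, hK, rfl⟩).imp (fun e => le_antisymm (h3 _ _ e) (h3 _ _ e.symm))
      commutator_le_iff_map_mk.2

end Cfsg.Agent.S2855
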