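import Cfsg.Statements.S2859
import Cfsg.Agent.Loc.WC

set_option autoImplicit false
open Cfsg

namespace Cfsg.Agent.S2859

section helpers
open Cfsg.Agent.Loc Subgroup
open scoped commutatorElement

theorem aux {G : Type*} [Group G] [Finite G] {p : ℕ} [Fact p.Prime] {Q Hc H₁ H₂ K : Subgroup G}
    (hw : WCl p Q ⊤) (hQ : Q ≤ Hc) (hn₁ : H₁ ≤ Hc ∧ Hc ≤ normalizer (H₁ : Set G))
    (hn₂ : H₂ ≤ Hc ∧ Hc ≤ normalizer (H₂ : Set G)) (hprod : H₁ ⊔ H₂ = Hc)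
    (hR : ⁅⁅H₁, H₂⁆, Hc⁆ ≤ pCoreOf p Hc) (hK : K = pResidualOf p (weakClosure Q (H₁ ⊔ Q))) :
    (⁅K, Q⁆ = K ∧ ⁅K, H₁⁆ = K ∧ K ≤ ⁅H₁, H₁⁆ ∧ Hc ≤ normalizer (K : Set G)) ∧
      ⁅K, H₂⁆ ≤ pCoreOf p Hc ∧ K ≤ H₁ ∧ H₁ ≤ normalizer ((K ⊔ Q : Subgroup G) : Set G) := by
  obtain ⟨e1, e2⟩ := hw.pResidualOf_weakClosure (le_sup_right : Q ≤ H₁ ⊔ Q)
  rw [← hK] at e1 e2
  have hO := le_normalizer_pCoreOf p Hc
  have hOc := pCoreOf_le p Hc
  have hKH : K ≤ H₁ := hK ▸ pResidualOf_le_of_le_sup hw.pg (hQ.trans hn₁.2) (weakClosure_le _ _)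
  have hnK : ∀ A : Subgroup G, A ≤ normalizer ((H₁ ⊔ Q : Subgroup G) : Set G) →
      A ≤ normalizer (K : Set G) := fun A h => hK ▸
    (h.trans (normalizer_le_normalizer_weakClosure _ _)).trans
      (normalizer_le_normalizer_pResidualOf p _)
  have hOK := hnK _ (le_normalizer_sup (hOc.trans hn₁.2) (hw.pCoreOf_le_normalizer hQ le_top))
  have hKK : pResidualOf p K = K := by rw [hK, pResidualOf_pResidualOf]
  have hRn := le_normalizer_commutator hn₁.2 hn₂.2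
  have h11 := le_normalizer_commutator hn₁.2 hn₁.2
  have c1 : ⁅H₁, H₁⁆ ≤ Hc := (commutator_le_left_of_le_normalizer le_normalizer).trans hn₁.1
  have c2 : ⁅H₁, H₂⁆ ≤ Hc := (commutator_le_left_of_le_normalizer (hn₂.1.trans hn₁.2)).trans hn₁.1
  have h1 : K ≤ ⁅H₁, H₁⁆ ⊔ ⁅H₁, H₂⁆ := e2.ge.trans ((commutator_mono hKH (hQ.trans hprod.ge)).trans
    (commutator_sup_right_le (hn₁.1.trans (le_normalizer_sup h11 hRn))
      (hn₂.1.trans (le_normalizer_sup h11 hRn)) le_sup_left le_sup_right))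
  have h2 : ⁅K, H₂⁆ ≤ pCoreOf p Hc := (commutator_mono h1 le_rfl).trans (commutator_sup_left_le
    (c1.trans hO) (c2.trans hO) (three_subgroups (hn₁.1.trans hO) (hn₁.1.trans hO) (hn₂.1.trans hO)
      ((commutator_mono le_rfl hn₁.1).trans hR)
      (by rw [commutator_comm H₂]; exact (commutator_mono le_rfl hn₁.1).trans hR))
    ((commutator_mono le_rfl hn₂.1).trans hR))
  have h3 : pResidualOf p (K ⊔ pCoreOf p Hc) = K := le_antisymm
    (pResidualOf_le_of_le_sup (isPGroup_pCoreOf p Hc) hOK le_rfl)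
    (hKK.ge.trans (pResidualOf_mono le_sup_left))
  have h4 : Hc ≤ normalizer (K : Set G) := by
    refine hprod.ge.trans (sup_le (hnK _ (le_normalizer_of_le le_sup_left)) ?_)
    rw [← h3]
    refine le_trans (le_normalizer_of_commutator_le' (commutator_sup_left_le
      (le_normalizer_of_le le_sup_left) (le_normalizer_of_le le_sup_right)
      (h2.trans le_sup_right) ((commutator_le_left_of_le_normalizer (hn₂.1.trans hO)).trans
        le_sup_right))) (normalizer_le_normalizer_pResidualOf p _)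
  have hn := le_normalizer_commutator h4 hn₁.2
  have h5 : K ≤ ⁅K, H₁⁆ := hKK.ge.trans (pResidualOf_le_of_le_sup (isPGroup_pCoreOf p Hc)
    (hOc.trans hn) (e2.ge.trans ((commutator_mono le_rfl (hQ.trans hprod.ge)).trans
      (commutator_sup_right_le (hn₁.1.trans (le_normalizer_sup hn hO))
        (hn₂.1.trans (le_normalizer_sup hn hO)) le_sup_left (h2.trans le_sup_right)))))
  refine ⟨⟨e2, le_antisymm (commutator_le_left_of_le_normalizer (hn₁.1.trans h4)) h5,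
    h5.trans (commutator_mono hKH le_rfl), h4⟩, h2, hKH, ?_⟩
  rw [sup_comm, e1]
  exact le_sup_left.trans (le_normalizer_weakClosure _ _)

end helpers

/-- Let Q be a nontrivial p-subgroup of the finite group H that is a weakly closed subgroup, H° the weak closure of Q in H (generated by the conjugates of Q) and H_∘ = O^p(H°). Suppose H₁, H₂ are normal subgroups of H° with H° = H₁H₂ and [H₁, H₂] ≤ N_H(Q), and put Kᵢ = O^p of the weak closure of Q in HᵢQ. Then for i = 1, 2: Kᵢ = [Kᵢ, Q] = [Kᵢ, Hᵢ] ≤ Hᵢ′ and Kᵢ is normal in H°; H_∘ = K₁K₂; and [K₁, K₂] ≤ O_p(H°). -/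
theorem result {G : Type*} [Group G] [Finite G] {p : ℕ} [Fact p.Prime] (Q : Subgroup G) (hQp : IsPGroup p ↥Q) (hQ1 : Q ≠ ⊥) (hwc : Cfsg.IsWeaklyClosedSubgroup p Q) (Hc : Subgroup G) (hHc : Hc = Cfsg.weakClosure Q ⊤) (H₁ H₂ : Subgroup G) (hn₁ : H₁ ≤ Hc ∧ Hc ≤ Subgroup.normalizer ((H₁ : Subgroup G) : Set G)) (hn₂ : H₂ ≤ Hc ∧ Hc ≤ Subgroup.normalizer ((H₂ : Subgroup G) : Set G)) (hprod : H₁ ⊔ H₂ = Hc) (hcomm : ⁅H₁, H₂⁆ ≤ Subgroup.normalizer ((Q : Subgroup G) : Set G)) (K₁ K₂ : Subgroup G) (hK₁ : K₁ = ((Cfsg.pResidual p ↥(Cfsg.weakClosure Q (H₁ ⊔ Q))).map ((Cfsg.weakClosure Q (H₁ ⊔ Q))).subtype)) (hK₂ : K₂ = ((Cfsg.pResidual p ↥(Cfsg.weakClosure Q (H₂ ⊔ Q))).map ((Cfsg.weakClosure Q (H₂ ⊔ Q))).subtype)) : (⁅K₁, Q⁆ = K₁ ∧ ⁅K₁, H₁⁆ = K₁ ∧ K₁ ≤ ⁅H₁, H₁⁆ ∧ Hc ≤ Subgroup.normalizer ((K₁ : Subgroup G) : Set G)) ∧ (⁅K₂, Q⁆ = K₂ ∧ ⁅K₂, H₂⁆ = K₂ ∧ K₂ ≤ ⁅H₂, H₂⁆ ∧ Hc ≤ Subgroup.normalizer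 ((K₂ : Subgroup G) : Set G)) ∧ K₁ ⊔ K₂ = ((Cfsg.pResidual p ↥Hc).map (Hc).subtype) ∧ ⁅K₁, K₂⁆ ≤ (Cfsg.pCoreOf p Hc) := by
  open Cfsg.Agent.Loc Subgroup in
  open scoped commutatorElement in
  have hw := isWeaklyClosedSubgroup_iff_top.1 hwc
  have hQ : Q ≤ Hc := hHc ▸ self_le_weakClosure le_top
  have hcc : weakClosure Q Hc = Hc := by
    conv_rhs => rw [hHc]
    exact weakClosure_eq_of_le hHc.ge le_top
  have hRn := le_normalizer_commutator hn₁.2 hn₂.2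
  have c2 : ⁅H₁, H₂⁆ ≤ Hc := (commutator_le_left_of_le_normalizer (hn₂.1.trans hn₁.2)).trans hn₁.1
  have hR : ⁅⁅H₁, H₂⁆, Hc⁆ ≤ pCoreOf p Hc := by
    rw [commutator_comm]
    conv_lhs => arg 1; rw [← hcc, hw.weakClosure_eq hQ]
    refine commutator_iSup_left_le (fun g => (cj_le_of_mem g.2 hQ).trans
      (le_normalizer_pCoreOf p Hc)) fun g => ?_
    have h1 : ⁅H₁, H₂⁆ ≤ normalizer ((cj (g : G) Q : Subgroup G) : Set G) := by
      rw [← cj_normalizer, ← cj_eq_of_mem_normalizer (hRn g.2)]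
      exact cj_mono _ hcomm
    exact ((commutator_le_inf_of_normalizes ((cj_le_of_mem g.2 hQ).trans hRn) h1).trans
      (le_pCoreOf inf_le_right (le_normalizer_inf h1 le_normalizer)
        (isPGroup_cj _ hQp).to_inf_left)).trans (pCoreOf_le_of_normal c2 hRn)
  obtain ⟨a1, a2, a3, a4⟩ := aux hw hQ hn₁ hn₂ hprod hR hK₁
  obtain ⟨b1, b2, b3, b4⟩ := aux hw hQ hn₂ hn₁ (sup_comm H₁ H₂ ▸ hprod)
    (by rwa [commutator_comm H₂]) hK₂
  refine ⟨a1, b1, le_antisymm (sup_le ?_ ?_) ?_, (commutator_mono le_rfl b3).trans a2⟩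
  · exact hK₁ ▸ pResidualOf_mono ((weakClosure_le _ _).trans (sup_le hn₁.1 hQ))
  · exact hK₂ ▸ pResidualOf_mono ((weakClosure_le _ _).trans (sup_le hn₂.1 hQ))
  · refine pResidualOf_le_of_le_sup hQp (hQ.trans (le_normalizer_sup a1.2.2.2 b1.2.2.2))
      (hcc.ge.trans (hw.weakClosure_le_of_subnIn le_sup_right (Sig.SubnIn.of_normal
        (sup_le (sup_le (a3.trans hn₁.1) (b3.trans hn₂.1)) hQ) (hprod.ge.trans (sup_le ?_ ?_)))))
    · rw [sup_right_comm]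
      exact le_normalizer_sup a4 (hn₁.1.trans b1.2.2.2)
    · rw [sup_assoc]
      exact le_normalizer_sup (hn₂.1.trans a1.2.2.2) b4

end Cfsg.Agent.S2859
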