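import Cfsg.Statements.S2860
import Cfsg.Agent.Loc.WC
import Cfsg.Agent.Loc.Fst

set_option autoImplicit false
open Cfsg

namespace Cfsg.Agent.S2860

/-- Let Q be a nontrivial large p-subgroup of the finite group H, U a nontrivial elementary abelian p-subgroup of H, and Q ≤ E ≤ N_H(U) with Q not normal in E. Suppose O_p(E/C_E(U)) = 1 and O^p(E)·C_E(U)/C_E(U) is quasisimple. Let E° be the weak closure of Q in E (generated by the conjugates of Q inside E) and E_∘ = O^p(E°). Then O^p(E)·C_E(U) = E_∘·C_E(U); E_∘ is perfect and equals O^p(E_∘); E_∘/C_{E_∘}(U) and E_∘/O_p(E_∘) are quasisimple; and E_∘ = [E_∘, Y] for every p-subgroup Y of E not centralizing U. -/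
theorem result {G : Type*} [Group G] [Finite G] {p : ℕ} [Fact p.Prime] (Q : Subgroup G) (hQp : IsPGroup p ↥Q) (hQ1 : Q ≠ ⊥) (hQ : Cfsg.IsLarge Q) (U : Subgroup G) (hU : Cfsg.IsElementaryAbelian p U) (hU1 : U ≠ ⊥) (E : Subgroup G) (hQE : Q ≤ E) (hEU : E ≤ Subgroup.normalizer ((U : Subgroup G) : Set G)) (hQn : ¬ E ≤ Subgroup.normalizer ((Q : Subgroup G) : Set G)) [hn : ((Subgroup.centralizer ((U : Subgroup G) : Set G)).subgroupOf E).Normal] (hred : Cfsg.pCore p (↥E ⧸ (Subgroup.centralizer ((U : Subgroup G) : Set G)).subgroupOf E) = ⊥) (hqs : Cfsg.IsQuasisimple ↥(((Cfsg.pResidual p ↥E) ⊔ (Subgroup.centralizer ((U : Subgroup G) : Set G)).subgroupOf E).map (QuotientGroup.mk' ((Subgroup.centralizer ((U : Subgroup G) : Set G)).subgroupOf E)))) (Er : Subgroup G) (hEr : Er = ((Cfsg.pResidual p ↥(Cfsg.weakClosure Q E)).map ((Cfsg.weakClosure Q E)).subtype)) [hn2 : ((Subgroup.centralizer ((U : Subgroup G) : Set G)).subgroupOf Er).Normal] : ((Cfsg.pResidual p ↥E).map (E).subtype)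 ⊔ (E ⊓ Subgroup.centralizer ((U : Subgroup G) : Set G)) = Er ⊔ (E ⊓ Subgroup.centralizer ((U : Subgroup G) : Set G)) ∧ ⁅Er, Er⁆ = Er ∧ ((Cfsg.pResidual p ↥Er).map (Er).subtype) = Er ∧ Cfsg.IsQuasisimple (↥Er ⧸ (Subgroup.centralizer ((U : Subgroup G) : Set G)).subgroupOf Er) ∧ Cfsg.IsQuasisimple (↥Er ⧸ Cfsg.pCore p ↥Er) ∧ ∀ Y : Subgroup G, Y ≤ E → IsPGroup p ↥Y → ¬ Y ≤ Subgroup.centralizer ((U : Subgroup G) : Set G) → ⁅Er, Y⁆ = Er := by
  open Cfsg.Agent.Loc Subgroup in
  open scoped commutatorElement in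
  have hw := wCl_of_isLarge hQp hQ1 hQ
  have hUp := isPGroup_of_isElementaryAbelian hU
  obtain ⟨-, hWC, -⟩ := weakClosure_sup_of_isLarge hQp hQ1 hQ hQE hUp hU1 hEU
  obtain ⟨-, e2⟩ := hw.pResidualOf_weakClosure hQE
  have hEr' : Er = pResidualOf p (weakClosure Q E) := hEr
  rw [← hEr'] at e2
  set C := centralizer (U : Set G) with hC
  set W := weakClosure Q E with hW
  let f := QuotientGroup.mk' (C.subgroupOf E)
  have hk : f.ker = C.subgroupOf E := QuotientGroup.ker_mk' _
  let ι : Subgroup G → Subgroup (E ⧸ C.subgroupOf E) := fun A => (A.subgroupOf E).map f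
  have i1 : ∀ {A B}, A ≤ E → B ≤ E → ι ⁅A, B⁆ = ⁅ι A, ι B⁆ := fun hA hB => by
    simp only [ι]; rw [← map_commutator, commutator_subgroupOf hA hB]
  have i2 : ∀ {A}, A ≤ E → ι (pResidualOf p A) = pResidualOf p (ι A) := fun {A} hA => by
    simp only [ι]
    rw [← map_pResidualOf, ← subgroupOf_map_subtype' (pResidualOf p (A.subgroupOf E)),
      map_pResidualOf, map_subgroupOf_eq_of_le hA]
  have i3 : ∀ {A B}, A ≤ E → B ≤ E → ι A ≤ ι B → A ≤ B ⊔ (E ⊓ C) := fun {A B} hA hB h => by
    have := map_mono (f := E.subtype) (le_sup_ker_of_map_le (H := ⊤) le_top le_top h)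
    rwa [Subgroup.map_sup, map_subgroupOf_eq_of_le hA, map_subgroupOf_eq_of_le hB, inf_top_eq, hk,
      subgroupOf_map_subtype, inf_comm] at this
  have i4 : ∀ {A B}, A ≤ B → ι A ≤ ι B := fun h => map_mono (comap_mono h)
  have i5 : ∀ {A}, A ≤ E → ¬ A ≤ C → ι A ≠ ⊥ := fun {A} hA h e => h (by
    have := i3 hA bot_le (e.le.trans bot_le)
    rw [bot_sup_eq] at this
    exact this.trans inf_le_right)
  have iE : ι E = ⊤ := by
    simp only [ι]; rw [subgroupOf_self, map_top_of_surjective _ (QuotientGroup.mk'_surjective _)]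
  have hO : pCoreOf p (⊤ : Subgroup (E ⧸ C.subgroupOf E)) = ⊥ := by rwa [pCoreOf_top]
  have hq : IsQuasisimple (pResidualOf p (⊤ : Subgroup (E ⧸ C.subgroupOf E))) := by
    rwa [Subgroup.map_sup, (Subgroup.map_eq_bot_iff _).2 hk.ge, sup_bot_eq, ← pResidualOf_top,
      map_pResidualOf, map_top_of_surjective _ (QuotientGroup.mk'_surjective _)] at hqs
  have hY : ∀ Y ≤ E, IsPGroup p Y → ¬ Y ≤ C →
      ⁅pResidualOf p ⊤, ι Y⁆ = pResidualOf p (⊤ : Subgroup (E ⧸ C.subgroupOf E)) := fun Y h1 h2 h3 =>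
    commutator_pResidualOf_eq_of_qs hO hq ((isPGroup_subgroupOf h2 E).map f) le_top (i5 h1 h3)
  have hWE : W ≤ E := weakClosure_le Q E
  have hErW : Er ≤ W := hEr' ▸ pResidualOf_le p W
  have hErE := hErW.trans hWE
  have hEn : E ≤ normalizer (Er : Set G) := hEr' ▸ (le_normalizer_weakClosure Q E).trans
    (normalizer_le_normalizer_pResidualOf p W)
  have hQC : ¬ Q ≤ C := fun h => hQn (hEU.trans (hQ.2 U (le_centralizer_iff.1 h) hU1))
  have hι : ι Er = pResidualOf p ⊤ := by
    rw [hEr', i2 hWE]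
    refine le_antisymm (pResidualOf_mono le_top) ((pResidualOf_pResidualOf p ⊤).ge.trans
      (pResidualOf_mono ?_))
    rw [← hY Q hQE hQp hQC, ← iE, ← i2 le_rfl, ← i1 (pResidualOf_le p E) hQE]
    exact i4 ((commutator_mono (pResidualOf_le p E) (self_le_weakClosure hQE)).trans
      (commutator_le_right_of_le_normalizer (le_normalizer_weakClosure Q E)))
  have hres : pResidualOf p Er = Er := by rw [hEr', pResidualOf_pResidualOf]
  have hZ : ∀ A ≤ W, ⁅C ⊓ Er, A⁆ ≤ pCoreOf p Er := fun A h => (le_inf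
    (by rw [commutator_comm]; exact (commutator_mono h inf_le_left).trans hWC)
    ((commutator_mono inf_le_right le_rfl).trans (commutator_le_left_of_le_normalizer
      (h.trans (hWE.trans hEn))))).trans (pCoreOf_inf_le hErW)
  have hOn : E ≤ normalizer (pCoreOf p Er : Set G) := Sig.le_normalizer_pcIn hEn
  have hCn : E ≤ normalizer ((E ⊓ C : Subgroup G) : Set G) :=
    le_normalizer_inf le_normalizer (le_normalizer_centralizer hEU)
  have key : ∀ N ≤ Er, Er ≤ normalizer (N : Set G) → ι Er ≤ ι N → ∀ A ≤ W,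
      A ≤ normalizer (N : Set G) → ⁅Er, A⁆ = Er → Er ≤ N := fun N h1 h2 h3 A h4 h5 h6 => by
    have h8 : Er ≤ (C ⊓ Er) ⊔ N := by
      refine le_trans (le_inf ((i3 hErE (h1.trans hErE) h3).trans (sup_comm _ _).le) le_rfl) ?_
      rw [sup_inf_of_le_right ((h1.trans hErE).trans hCn) h1]
      exact sup_le_sup_right (inf_le_inf_right _ inf_le_right) _
    have h9 := le_normalizer_sup h2 (hErE.trans hOn)
    exact hres.ge.trans (pResidualOf_le_of_le_sup (isPGroup_pCoreOf p Er)
      ((pCoreOf_le p Er).trans h2) (h6.ge.trans ((commutator_mono h8 le_rfl).trans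
        (commutator_sup_left_le (inf_le_right.trans h9) (h1.trans h9) ((hZ A h4).trans le_sup_right)
          ((commutator_le_left_of_le_normalizer h5).trans le_sup_left)))))
  have hc := commutator_le_left_of_le_normalizer (le_normalizer (H := Er))
  have hperf : ⁅Er, Er⁆ = Er := le_antisymm hc (key _ hc
    (le_normalizer_commutator le_normalizer le_normalizer)
    (by rw [i1 hErE hErE, hι, Sig.qs_perfect hq]) Q (self_le_weakClosure hQE)
    (le_normalizer_commutator (hQE.trans hEn) (hQE.trans hEn)) e2)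
  let g := f.comp (inclusion hErE)
  have hg : g.range = pResidualOf p ⊤ := by
    rw [MonoidHom.range_comp, inclusion_range]; exact hι
  have hgk : g.ker = C.subgroupOf Er := by
    rw [← MonoidHom.comap_ker, hk]; rfl
  have hOC : pCoreOf p Er ≤ C := (red_iff_quotient.2 hred).le_centralizer_of_isPGroup
    ((pCoreOf_le p Er).trans hErE) hOn (isPGroup_pCoreOf p Er)
  refine ⟨le_antisymm (sup_le (i3 (pResidualOf_le p E) hErE ?_) le_sup_right)
    (sup_le_sup_right (hres.ge.trans (pResidualOf_mono hErE)) _), hperf, hres, ?_, ?_,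
    fun Y h1 h2 h3 => ?_⟩
  · rw [← pResidualOf_def, i2 le_rfl, iE, hι]
  · exact Sig.qs_of_mulEquiv hq (((QuotientGroup.quotientMulEquivOfEq hgk.symm).trans
      (QuotientGroup.quotientKerEquivRange g)).trans (MulEquiv.subgroupCongr hg)).symm
  · have hle : pCore p Er ≤ g.ker := by
      rw [hgk, ← subgroupOf_map_subtype' (pCore p Er)]; exact comap_mono hOC
    let φ := QuotientGroup.lift (pCore p Er) g hle
    have hs := QuotientGroup.mk'_surjective (pCore p Er)
    have hc : φ.comp (QuotientGroup.mk' (pCore p Er)) = g := by ext; rfl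
    have ht : ⁅(⊤ : Subgroup Er), (⊤ : Subgroup Er)⁆ = ⊤ := map_injective Er.subtype_injective
      (by rw [map_commutator, Sig.top_map_subtype, hperf])
    refine Sig.qs_top_iff.1 (Sig.qs_of_map φ ?_ ?_ ?_)
    · rw [← map_top_of_surjective _ hs, ← map_commutator, ht]
    · rw [← map_top_of_surjective _ hs, map_map, hc, ← MonoidHom.range_eq_map, hg]
      exact hq
    · rw [inf_top_eq, ← commutator_eq_bot_iff_le_centralizer, ← map_top_of_surjective _ hs,
        ← map_comap_eq_self_of_surjective hs φ.ker, MonoidHom.comap_ker, hc, hgk,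
        ← commutator_le_iff_map_mk, ← map_le_map_iff_of_injective Er.subtype_injective,
        map_commutator, subgroupOf_map_subtype, Sig.top_map_subtype]
      exact hZ Er hErW
  · have h4 := commutator_le_left_of_le_normalizer (h1.trans hEn)
    exact le_antisymm h4 (key _ h4 (normalizer_commutator_ge_left _ _)
      (by rw [i1 hErE h1, hι, hY Y h1 h2 h3]) Er hErW (normalizer_commutator_ge_left _ _) hperf)

end Cfsg.Agent.S2860
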