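import Cfsg.Statements.S2861
import Cfsg.Agent.Loc.FrakM
import Cfsg.Agent.Loc.PMin
import Cfsg.Agent.Classical.SL2Unip
import Cfsg.Agent.Sz.Structure
import Cfsg.Agent.Invol.More

set_option autoImplicit false
open Cfsg

namespace Cfsg.Agent.S2861

section helpers
open Cfsg.Agent.Loc Subgroup
open scoped commutatorElement

open scoped MatrixGroups

def Uq (p : ℕ) {X : Type*} [Group X] (Y : Subgroup X) : Prop :=
  ∀ V : Subgroup X, V ≤ normalizer (Y : Set X) → normalizer (Y : Set X) ≤ normalizer (V : Set X) →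
    IsElementaryAbelian p V → V ≠ ⊥ → V = Y

theorem Uq.of_map {p : ℕ} {X X' : Type*} [Group X] [Group X'] (e : X ≃* X') {Y : Subgroup X}
    (h : Uq p (Y.map e.toMonoidHom)) : Uq p Y := fun V h1 h2 h3 h4 =>
  map_injective (f := e.toMonoidHom) e.injective (h _ (map_le_normalizer_map h1 _) (by
    rw [← map_equiv_normalizer_eq]; exact map_le_normalizer_map h2 _)
    (isElementaryAbelian_map _ h3) fun h5 => h4 ((map_eq_bot_iff_of_injective _ e.injective).1 h5))

theorem uq_sl {p : ℕ} [Fact p.Prime] {F : Type} [Field F] [Fintype F] {Y : Subgroup SL(2, F)}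
    (hp : IsPGroup p Y) (hc : Nat.card Y = Nat.card F) : Uq p Y := by
  obtain ⟨n, hn⟩ := IsPGroup.iff_card.1 hp
  haveI : CharP F p := charP_of_card_eq_prime_pow (by rw [← Nat.card_eq_fintype_card, ← hc, hn])
  let H := Classical.unipAct_SL (F := F) p
  obtain ⟨x, hx⟩ := H.exists_le_U (Classical.not_char_dvd_card_P1 F p) hp
  obtain ⟨g, hg⟩ := Classical.sl_exists_smul_eq_inf x
  refine Uq.of_map (MulAut.conj g) ?_
  have h1 : cj g Y = H.U Classical.inf := by
    refine eq_of_le_of_card_ge (hg ▸ H.smul_U g x ▸ cj_mono g hx) ?_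
    rw [card_cj, hc]
    refine Nat.card_le_card_of_surjective (fun b : F => (⟨Classical.uSL b,
      (Classical.mem_unipSL_inf p).2 ⟨b, rfl⟩⟩ : H.U Classical.inf)) fun u => ?_
    obtain ⟨b, hb⟩ := (Classical.mem_unipSL_inf p).1 u.2
    exact ⟨b, Subtype.ext hb.symm⟩
  rw [h1]
  intro V h2 h3 h4 h5
  obtain ⟨P, hP⟩ := H.exists_sylow (Classical.not_char_dvd_card_P1 F p) Classical.inf
  have h6 : V ≤ H.U Classical.inf := hP ▸ (sylIn_top P).le_of_normalizes le_top
    (isPGroup_of_isElementaryAbelian h4) (hP ▸ h2)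
  obtain ⟨⟨v, hv⟩, h7⟩ := ne_bot_iff_exists_ne_one.1 h5
  obtain ⟨b, rfl⟩ := (Classical.mem_unipSL_inf p).1 (h6 hv)
  have hb : b ≠ 0 := fun e => h7 (Subtype.ext (Classical.uSL_eq_one_iff.2 e))
  have hsq : ∀ a : F, Classical.uSL (a ^ 2 * b) ∈ V := fun a => by
    by_cases ha : a = 0
    · simp [ha]
    · have := conj_mem_of_mem_normalizer (h3 (H.stabilizer_le_normalizer _
        ((Classical.sl_smul_inf_eq_inf (Classical.dSL (Units.mk0 a ha))).2 (by simp)))) hv
      rwa [Classical.dSL_conj_uSL] at this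
  refine le_antisymm h6 fun u hu => ?_
  obtain ⟨c, rfl⟩ := (Classical.mem_unipSL_inf p).1 hu
  by_cases h2 : (2 : F) = 0
  · obtain ⟨a, ha⟩ := FiniteField.isSquare_of_char_two
      (by rw [ringChar.eq_iff]; exact CharTwo.of_one_ne_zero_of_two_eq_zero one_ne_zero h2) (c / b)
    have := hsq a
    rwa [sq, ← ha, div_mul_cancel₀ _ hb] at this
  · have := mul_mem (hsq ((c / b + 1) / 2)) (inv_mem (hsq ((c / b - 1) / 2)))
    rw [Classical.uSL_inv, ← Classical.uSL_add] at this
    convert this using 2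
    field_simp
    ring

theorem uq_sz {F : Type} [Field F] [Sz.Tits F] [Finite F] {X : Type*} [Group X] [Sz.SzRep F X]
    {Y : Subgroup X} (hY : IsElementaryAbelian 2 Y) (hc : Nat.card Y = Nat.card F) : Uq 2 Y := by
  haveI := Sz.finite_G F X
  obtain ⟨g, -, hg⟩ := (sylIn_top (Sz.sylowU F X)).exists_conj_le le_top
    (isPGroup_of_isElementaryAbelian hY)
  refine Uq.of_map (MulAut.conj g) ?_
  have h1 : cj g Y = Sz.Z F X := eq_of_le_of_card_ge (fun y hy => (Sz.mem_Z_iff_sq (hg hy)).2 (by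
    rw [← sq]; exact (isElementaryAbelian_iff.1 (isElementaryAbelian_map _ hY)).2 y hy))
    (by rw [card_cj, hc, Sz.card_Z])
  rw [h1]
  intro V h2 h3 h4 h5
  have h6 : V ≤ Sz.Z F X := fun v hv => by
    have h7 := (isElementaryAbelian_iff.1 h4).2 v hv
    refine (Sz.mem_Z_iff_sq (Sz.mem_U_of_pow_eq_one (n := 1) (Sz.mem_B_of_conj_mem_U (Sz.Z_le_U
      (conj_mem_of_mem_normalizer (h2 hv) (Sz.S_mem_Z (1 : F)))) (by simp [Sz.S_eq_one])
      (Sz.S_mem_B _ _)) h7)).2 (by rw [← sq, h7])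
  obtain ⟨⟨v, hv⟩, h7⟩ := ne_bot_iff_exists_ne_one.1 h5
  obtain ⟨b, rfl⟩ := Sz.mem_Z.1 (h6 hv)
  refine le_antisymm h6 fun u hu => ?_
  obtain ⟨c, rfl⟩ := Sz.mem_Z.1 hu
  by_cases h0 : c = 0
  · simp [h0]
  obtain ⟨l, hl⟩ := Sz.exists_M_conj_S (G := X) (b := b)
    (fun e => h7 (Subtype.ext (Sz.S_eq_one.2 ⟨rfl, e⟩))) h0
  rw [← hl]
  exact conj_mem_of_mem_normalizer (h3 (mem_normalizer_of_cj_le (cj_le_iff_forall.2
    fun z hz => Sz.conj_mem_Z (Sz.M_mem_B l) hz))) hv

theorem uq_two {X : Type*} [Group X] [Finite X] {Y : Subgroup X} (hc : Nat.card Y = 2)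
    (hO : pCore 2 X = ⊥) (h : ∀ W : Subgroup X, Y ≤ W → W ≠ ⊤ → W ≤ normalizer (Y : Set X)) :
    Uq 2 Y := fun V h1 _ h3 h4 => by
  have hp : IsPGroup 2 Y := IsPGroup.of_card (n := 1) hc
  obtain ⟨y, hy, ho⟩ := exists_orderOf_eq_of_dvd_card (p := 2) (N := Y) hc.symm.dvd
  have hz : zpowers y = Y := eq_of_le_of_card_ge (zpowers_le.2 hy) (by rw [Nat.card_zpowers, ho, hc])
  have hy1 : y ≠ 1 := fun e => by simp [e] at ho
  obtain ⟨r, h5, h6, h7⟩ := Invol.exists_odd_inverted ho (by rw [hO]; exact hy1)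
  have hn : Y ≤ normalizer (zpowers r : Set X) := hz ▸ zpowers_le.2 (mem_normalizer_iff_cj.2
    (by rw [cj_zpowers, h7, zpowers_inv]))
  have hT : zpowers r ⊔ Y = ⊤ := by_contra fun e => by
    have h8 := conj_mem_of_mem_normalizer (h _ le_sup_right e (mem_sup_left (mem_zpowers r))) hy
    have h9 : r * y * r⁻¹ = y := by
      by_contra h9
      have := (Nat.card_eq_two_iff' (⟨y, hy⟩ : Y)).1 hc
      have := this.unique (y₁ := ⟨_, h8⟩) (y₂ := 1) (fun e => h9 (congrArg Subtype.val e))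
        fun e => hy1 (congrArg Subtype.val e).symm
      exact hy1 (conj_eq_one_iff.1 (congrArg Subtype.val this))
    exact h5 (Invol.eq_one_of_odd_of_inverts_of_commute h6 h7 (mul_inv_eq_iff_eq_mul.1 h9))
  have hS : SylIn 2 Y ⊤ := hT ▸ sylIn_sup_of_sylIn_inf hp hn <|
      sylIn_of_not_dvd_relIndex inf_le_right hp.to_inf_left fun hd => by
    have := hd.trans (relIndex_dvd_card _ _)
    rw [Nat.card_zpowers] at this
    exact h6.not_two_dvd_nat this
  have h8 := hS.le_of_normalizes le_top (isPGroup_of_isElementaryAbelian h3) h1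
  refine eq_of_le_of_card_ge h8 (hc ▸ ?_)
  exact (one_lt_card_iff_ne_bot V).2 h4

end helpers

/-- Standing hypotheses: G a finite group, S a Sylow p-subgroup, Q a nontrivial large p-subgroup of G contained in S, M a subgroup containing S with the basic property (M ∈ 𝔐_G(S)); Y_M the largest p-reduced normal subgroup of M and M† = M·C_G(Y_M). Let L ∈ 𝔏_G(Y_M) (L ∈ 𝔏_G(Y_M): Y_M ≤ L; O_p(L) is the normal closure in L of Y_M ∩ O_p(L) and normalizes Y_M; L is Y_M-minimal of characteristic p with N_L(Y_M) its unique maximal subgroup over Y_M; and L/O_p(L) ≅ SL₂(q) with q = |Y_M : Y_M ∩ O_p(L)|, or p = 2 and L/O_p(L) is a Suzuki group Sz(q) or dihedral of order 2r, r an odd prime) and A = O_p(L). Then Y_M·A/A is the unique nontrivial elementary abelian normal p-subgroup of N_L(Y_M)/A. -/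
theorem result {G : Type*} [Group G] [Finite G] {p : ℕ} [Fact p.Prime] (S : Sylow p G) (Q : Subgroup G) (hQp : IsPGroup p ↥Q) (hQ1 : Q ≠ ⊥) (hQS : Q ≤ (S : Subgroup G)) (hQ : Cfsg.IsLarge Q) (M : Subgroup G) (hSM : (S : Subgroup G) ≤ M) (hM : Cfsg.IsInFrakM p M) (L : Subgroup G) (hL : Cfsg.IsInFrakL p M L) (NL : Subgroup G) (hNL : NL = L ⊓ Subgroup.normalizer (((Cfsg.largestPReducedOf p M) : Subgroup G) : Set G)) [hn : (((Cfsg.pCoreOf p L)).subgroupOf NL).Normal] : let Ybar : Subgroup (↥NL ⧸ ((Cfsg.pCoreOf p L)).subgroupOf NL) := (((Cfsg.largestPReducedOf p M)).subgroupOf NL).map (QuotientGroup.mk' (((Cfsg.pCoreOf p L)).subgroupOf NL)); Ybar ≠ ⊥ ∧ Ybar.Normal ∧ Cfsg.IsElementaryAbelian p Ybar ∧ ∀ (V : Subgroup (↥NL ⧸ ((Cfsg.pCoreOf p L)).subgroupOf NL)), V.Normal → Cfsg.IsElementaryAbelian p V → V ≠ ⊥ → V = Ybar := by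
  open Cfsg.Agent.Loc Subgroup in
  open scoped commutatorElement in
  intro Ybar
  obtain ⟨hYL, -, hAN, hmin, -, ⟨-, hmax⟩, hiso⟩ := hL
  set Y := largestPReducedOf p M with hY
  have hea : IsElementaryAbelian p Y := (pRed_Y M).ea
  have hYp := isPGroup_of_isElementaryAbelian hea
  have hYA : ¬ Y ≤ pCoreOf p L := fun h => by
    obtain ⟨h1, M', h2⟩ := (isMinimalOver_subgroupOf hYL).1 hmin
    have h3 : IsPGroup p L := (isPGroup_pCoreOf p L).to_le
      (h1.ge.trans (iSup_cj_le h (le_normalizer_pCoreOf p L)))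
    exact h2.not_le_normalizer h1 h2.le le_rfl ((h2.eq_of_not_le (h2.le.trans
      (lt_inf_normalizer h3 h2.lt).le) inf_le_left (lt_inf_normalizer h3 h2.lt).not_ge).ge.trans
        inf_le_right)
  have hNLL : NL ≤ L := hNL ▸ inf_le_left
  have hYN : Y ≤ NL := hNL ▸ le_inf hYL le_normalizer
  let π := QuotientGroup.mk' (pCore p L)
  have hs : Function.Surjective π := QuotientGroup.mk'_surjective _
  have hk : π.ker = pCore p L := QuotientGroup.ker_mk' _
  have hO : pCore p (L ⧸ pCore p L) = ⊥ := by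
    rw [← pCoreOf_top p (L ⧸ pCore p L), ← map_top_of_surjective π hs, ← map_pCoreOf_of_ker
      (by rw [hk]; exact (isPGroup_pCore p L).to_inf_left), pCoreOf_top, Subgroup.map_eq_bot_iff, hk]
  set Z := (Y.subgroupOf L).map π with hZ
  have hZe : IsElementaryAbelian p Z := isElementaryAbelian_map _
    (isElementaryAbelian_comap L.subtype_injective hea)
  have hZb : Z ≠ ⊥ := fun e => hYA (by
    rw [hZ, Subgroup.map_eq_bot_iff, hk] at e
    rw [← map_subgroupOf_eq_of_le hYL]; exact map_mono e)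
  have hN1 : (NL.subgroupOf L).map π ≤ normalizer (Z : Set _) := map_le_normalizer_map
    ((comap_mono (hNL ▸ inf_le_right)).trans (le_normalizer_comap _)) π
  have hW : ∀ W, Z ≤ W → W ≠ ⊤ → W ≤ (NL.subgroupOf L).map π := fun W h1 h2 => by
    rw [← map_comap_eq_self_of_surjective hs W, ← subgroupOf_map_subtype' (W.comap π)]
    refine map_mono (comap_mono (hNL ▸ hmax _ ?_ (lt_of_le_of_ne (map_subtype_le _) fun e => h2 ?_)))
    · rw [← map_subgroupOf_eq_of_le hYL]; exact map_mono (map_le_iff_le_comap.1 h1)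
    · rw [← map_comap_eq_self_of_surjective hs W, ← subgroupOf_map_subtype' (W.comap π), e,
        subgroupOf_self, map_top_of_surjective π hs]
  have hN2 : normalizer (Z : Set _) ≤ (NL.subgroupOf L).map π := hW _ le_normalizer fun e =>
    hZb (eq_bot_iff.2 (hO ▸ le_pCore (normalizer_eq_top_iff.1 e)
      (isPGroup_of_isElementaryAbelian hZe)))
  have hcard : Nat.card Z = (Y ⊓ pCoreOf p L).relIndex Y := by
    rw [hZ, ← relIndex_ker, hk, ← subgroupOf_map_subtype' (pCore p L), relIndex_subgroupOf hYL,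
      inf_relIndex_left]
    rfl
  have hU : Uq p Z := by
    have h2 : p = 2 → Nat.card Z = 2 → Uq p Z := fun e h => by
      subst e; exact uq_two h hO fun W a b => (hW W a b).trans hN1
    rcases hiso with ⟨F, _, _, h1, ⟨e⟩⟩ | ⟨rfl, F, _, _, m, h1, h3, ⟨e⟩⟩ | ⟨rfl, r, h1, h3, ⟨e⟩⟩
    · exact Uq.of_map e (uq_sl ((isPGroup_of_isElementaryAbelian hZe).map _) (by
        rw [card_map_of_injective e.injective, hcard, Nat.card_eq_fintype_card, h1]))
    · rcases Nat.eq_zero_or_pos m with rfl | hm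
      · exact h2 rfl (by rw [hcard, ← h3, h1]; rfl)
      · letI := Sz.titsOfCard hm h1
        letI := Sz.lieRep (Sz.titsOfCard_θ hm h1)
        letI := Sz.repOfEquiv (F := F) e
        exact uq_sz (F := F) hZe (by rw [hcard, Nat.card_eq_fintype_card, h3])
    · refine h2 rfl ?_
      obtain ⟨k, hk'⟩ := IsPGroup.iff_card.1 (isPGroup_of_isElementaryAbelian hZe)
      have h4 := card_subgroup_dvd_card Z
      rw [Nat.card_congr e.toEquiv, DihedralGroup.nat_card, hk'] at h4
      have h5 := (Nat.Coprime.pow_left k ((Nat.coprime_primes Nat.prime_two h1).2 h3.symm)).dvd_of_dvd_mul_right h4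
      rcases (Nat.dvd_prime Nat.prime_two).1 h5 with h6 | h6
      · exact absurd (card_eq_one.1 (hk'.trans h6)) hZb
      · exact hk'.trans h6
  have hker : (pCoreOf p L).subgroupOf NL = (π.comp (inclusion hNLL)).ker := by
    rw [← MonoidHom.comap_ker, hk, ← subgroupOf_map_subtype' (pCore p L)]; rfl
  let φ := QuotientGroup.lift _ (π.comp (inclusion hNLL)) hker.le
  have hφ : Function.Injective φ := (QuotientGroup.injective_lift_iff _ _ _).2 hker
  have hc : φ.comp (QuotientGroup.mk' _) = π.comp (inclusion hNLL) := by ext; rfl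
  have hm : ∀ A ≤ NL, ((A.subgroupOf NL).map (QuotientGroup.mk' _)).map φ =
      (A.subgroupOf L).map π := fun A hA => by
    rw [map_map, hc, ← map_map, ← subgroupOf_map_subtype' (map (inclusion hNLL) _), map_map,
      subtype_comp_inclusion, map_subgroupOf_eq_of_le hA]
  have ht : (⊤ : Subgroup _).map φ = (NL.subgroupOf L).map π := by
    rw [← hm NL le_rfl, subgroupOf_self, map_top_of_surjective _ (QuotientGroup.mk'_surjective _)]
  refine ⟨fun e => hZb (by rw [hZ, ← hm Y hYN]; exact (congrArg (map φ) e).trans (Subgroup.map_bot φ)),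
    ((normal_subgroupOf_iff_le_normalizer hYN).2 (hNL ▸ inf_le_right)).map _
      (QuotientGroup.mk'_surjective _), isElementaryAbelian_map _
      (isElementaryAbelian_comap NL.subtype_injective hea), fun V h1 h2 h3 => map_injective hφ ?_⟩
  rw [hm Y hYN]
  exact hU _ ((map_mono le_top).trans (ht ▸ hN1)) (hN2.trans (ht ▸ map_le_normalizer_map
    (normalizer_eq_top_iff.2 h1).ge φ)) (isElementaryAbelian_map _ h2)
    fun e => h3 ((map_eq_bot_iff_of_injective _ hφ).1 e)

end Cfsg.Agent.S2861
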