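import Cfsg.Statements.S2862
import Cfsg.Agent.Loc.FrakM
import Cfsg.Agent.Loc.VIter
import Cfsg.Agent.Loc.SFF2
import Cfsg.Agent.S0199

set_option autoImplicit false
open Cfsg

namespace Cfsg.Agent.S2862

section helpers
open Cfsg.Agent.Loc Subgroup
open scoped commutatorElement

open scoped commutatorElement
variable {G : Type*} [Group G] [Finite G] {p : ℕ} [Fact p.Prime]

theorem comm_le_of_ker {N C A B : Subgroup G} (h : A ≤ commKer N C)
    (hB : B ≤ normalizer (N : Set G)) (hB' : B ≤ normalizer (C : Set G)) : ⁅C, ⁅A, B⁆⁆ ≤ N := by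
  rw [commutator_comm]
  exact (le_commKer_iff.1 ((commutator_mono h le_rfl).trans
    (commutator_le_left_of_le_normalizer (le_normalizer_commKer hB hB')))).2

theorem pg_of_chain {H K A B : Subgroup G} (hH : ChP p H) (hK : K ≤ H)
    (h1 : ⁅pCoreOf p H, K⁆ ≤ A) (h2 : ⁅A, K⁆ ≤ B) (h3 : ⁅B, K⁆ = ⊥) : IsPGroup p K :=
  hH.isPGroup hK (pResidualOf_le_centralizer_of_iter (n := 3) (isPGroup_pCoreOf p H)
    (hK.trans (le_normalizer_pCoreOf p H)) (eq_bot_iff.2 (((commutator_mono
      ((commutator_mono h1 le_rfl).trans h2) le_rfl)).trans h3.le)))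

structure Sit (p : ℕ) (Y O H L : Subgroup G) (h : G) : Prop where
  ab : Y ≤ centralizer (Y : Set G)
  oc : O ≤ centralizer (Y : Set G)
  wc : WCl p O ⊤
  no : normalizer (O : Set G) ≤ normalizer (Y : Set G)
  ch : ChP p H
  oh : O ≤ H
  lh : L ≤ H
  gen : Y ⊔ cj h Y = L
  mem : h ∈ L

namespace Sit
variable {Y O H L : Subgroup G} {h : G} (s : Sit p Y O H L h)
include s

theorem yl : Y ≤ L := le_sup_left.trans s.gen.le
theorem rn : H ≤ normalizer (pCoreOf p H : Set G) := le_normalizer_pCoreOf p H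
theorem ry : pCoreOf p H ≤ normalizer (Y : Set G) :=
  (s.wc.pCoreOf_le_normalizer s.oh le_top).trans s.no
theorem cjr {g : G} (hg : g ∈ L) : cj g (pCoreOf p H) = pCoreOf p H :=
  cj_eq_of_mem_normalizer (s.rn (s.lh hg))
theorem ry' : pCoreOf p H ≤ normalizer ((cj h Y : Subgroup G) : Set G) := by
  rw [← cj_normalizer, ← s.cjr s.mem]; exact cj_mono h s.ry
theorem ab' : cj h Y ≤ centralizer ((cj h Y : Subgroup G) : Set G) := by
  rw [← cj_centralizer]; exact cj_mono h s.ab
theorem c1 : ⁅pCoreOf p H, Y⁆ ≤ pCoreOf p H ⊓ Y :=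
  commutator_le_inf_of_normalizes s.ry ((s.yl.trans s.lh).trans s.rn)
theorem c2 : ⁅pCoreOf p H, cj h Y⁆ ≤ pCoreOf p H ⊓ cj h Y :=
  commutator_le_inf_of_normalizes s.ry' ((cj_le_of_mem (s.lh s.mem) (s.yl.trans s.lh)).trans s.rn)
theorem c3 : ⁅⁅pCoreOf p H, O⁆, Y⁆ = ⊥ := eq_bot_iff.2 (three_subgroups (le_normalizer_bot _)
  (le_normalizer_bot _) (le_normalizer_bot _)
  (by rw [commutator_eq_bot_iff_le_centralizer.2 s.oc, commutator_bot_left])
  (by rw [commutator_comm Y]; exact commutator_le_of_le_centralizer' (s.oc.trans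
    (centralizer_anti (s.c1.trans inf_le_right))) _))

theorem vn : pCoreOf p H ≤ normalizer
    ((pCoreOf p H ⊓ Y ⊔ pCoreOf p H ⊓ cj h Y : Subgroup G) : Set G) :=
  le_normalizer_sup (le_normalizer_inf le_normalizer s.ry) (le_normalizer_inf le_normalizer s.ry')

theorem c4 : ⁅pCoreOf p H, L⁆ ≤ pCoreOf p H ⊓ Y ⊔ pCoreOf p H ⊓ cj h Y := by
  have h1 : pCoreOf p H ⊓ Y ⊔ pCoreOf p H ⊓ cj h Y ≤ pCoreOf p H := sup_le inf_le_left inf_le_left
  rw [← s.gen]
  exact commutator_sup_right_le (le_normalizer_of_commutator_le' (((commutator_mono h1 le_rfl).trans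
    s.c1).trans le_sup_left)) (le_normalizer_of_commutator_le' (((commutator_mono h1 le_rfl).trans
    s.c2).trans le_sup_right)) (s.c1.trans le_sup_left) (s.c2.trans le_sup_right)

theorem norm {W : Subgroup G} (h1 : pCoreOf p H ⊓ Y ⊔ pCoreOf p H ⊓ cj h Y ≤ W)
    (h2 : W ≤ pCoreOf p H) : L ≤ normalizer (W : Set G) :=
  le_normalizer_of_commutator_le' (((commutator_mono h2 le_rfl).trans s.c4).trans h1)

theorem cl : centralizer (Y : Set G) ⊓ centralizer ((cj h Y : Subgroup G) : Set G) =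
    centralizer (L : Set G) := by rw [← centralizer_sup', s.gen]

theorem eq_of_comm {x : G} (hx : x ∈ L) (hc : cj x Y ≤ centralizer (Y : Set G)) : cj x Y = Y := by
  set R := pCoreOf p H with hR
  have hE : R ⊓ Y ≤ centralizer (Y : Set G) := inf_le_right.trans s.ab
  have hEn : R ≤ normalizer ((R ⊓ Y : Subgroup G) : Set G) := le_normalizer_inf le_normalizer s.ry
  have h1 : cj x (R ⊓ Y) = R ⊓ Y := by
    refine cj_eq_of_cj_le (le_trans (le_inf (cj_le_of_mem_normalizer (s.norm le_rfl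
      (sup_le inf_le_left inf_le_left) hx) le_sup_left) ((cj_mono x inf_le_right).trans hc)) ?_)
    rw [sup_inf_of_le_left (inf_le_left.trans hEn) hE]
    refine sup_le le_rfl (le_inf (inf_le_left.trans inf_le_left) ?_)
    have h2 : R ⊓ cj h Y ⊓ centralizer (Y : Set G) ≤ centralizer (L : Set G) :=
      s.cl ▸ le_inf inf_le_right ((inf_le_left.trans inf_le_right).trans s.ab')
    rw [← cj_eq_of_mem_centralizer (le_centralizer_iff.1 h2 (inv_mem s.mem)), cj_le_iff, inv_inv]
    exact inf_le_left.trans inf_le_right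
  have hCn : R ≤ normalizer ((R ⊓ centralizer (Y : Set G) : Subgroup G) : Set G) :=
    le_normalizer_inf le_normalizer (le_normalizer_centralizer s.ry)
  have h2 : R ⊓ centralizer (Y : Set G) = R ⊓ Y ⊔ R ⊓ centralizer (L : Set G) := by
    refine le_antisymm ?_ (sup_le (le_inf inf_le_left hE)
      (inf_le_inf_left _ (centralizer_anti s.yl)))
    have h3 : R ⊓ centralizer (Y : Set G) ≤
        R ⊓ Y ⊔ R ⊓ centralizer ((cj h Y : Subgroup G) : Set G) := by
      have h4 := cj_eq_of_mem_normalizer (s.norm (W := R ⊓ centralizer (Y : Set G) ⊔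
        (R ⊓ Y ⊔ R ⊓ cj h Y)) le_sup_right (sup_le inf_le_left (sup_le inf_le_left inf_le_left))
        s.mem)
      rw [cj_sup, cj_eq_of_mem_normalizer (s.norm le_rfl (sup_le inf_le_left inf_le_left) s.mem),
        cj_inf, s.cjr s.mem, cj_centralizer] at h4
      exact (le_sup_left.trans h4.ge).trans (sup_le le_sup_right (sup_le_sup_left
        (inf_le_inf_left _ s.ab') _))
    refine (le_inf h3 inf_le_right).trans ?_
    rw [sup_inf_of_le_left (inf_le_left.trans hEn) hE, inf_assoc, inf_comm _ (centralizer (Y : Set G)),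
      s.cl]
  have hxL : zpowers x ≤ L := zpowers_le.2 hx
  have hxE : zpowers x ≤ normalizer ((R ⊓ Y : Subgroup G) : Set G) :=
    zpowers_le.2 (mem_normalizer_iff_cj.2 h1)
  have hxc : R ⊓ centralizer (L : Set G) ≤ centralizer (zpowers x : Set G) :=
    inf_le_right.trans (centralizer_anti hxL)
  have hxC : zpowers x ≤ normalizer ((R ⊓ centralizer (Y : Set G) : Subgroup G) : Set G) :=
    h2 ▸ le_normalizer_sup hxE (le_normalizer_of_le_centralizer (le_centralizer_iff.1 hxc))
  have hOR : O ≤ normalizer (R : Set G) := s.oh.trans s.rn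
  have hOY : O ≤ normalizer (Y : Set G) := le_normalizer.trans s.no
  have hOC := le_normalizer_inf hOR (le_normalizer_centralizer hOY)
  have hp : IsPGroup p (⁅O, zpowers x⁆ : Subgroup G) := by
    refine pg_of_chain (A := R ⊓ centralizer (Y : Set G)) (B := R ⊓ Y) s.ch
      ((commutator_mono s.oh (hxL.trans s.lh)).trans
        (commutator_le_left_of_le_normalizer le_normalizer))
      (comm_le_of_ker (le_commKer_iff.2 ⟨hOC, ?_⟩) hxC ((hxL.trans s.lh).trans s.rn)) ?_ ?_
    · rw [commutator_comm]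
      exact le_inf (commutator_le_left_of_le_normalizer hOR)
        (commutator_eq_bot_iff_le_centralizer.1 s.c3)
    · rw [commutator_comm O]
      refine comm_le_of_ker (le_commKer_iff.2 ⟨hxE, ?_⟩) (le_normalizer_inf hOR hOY) hOC
      rw [h2]
      exact commutator_sup_right_le le_normalizer (inf_le_left.trans hEn)
        (commutator_le_right_of_le_normalizer hxE) (commutator_le_of_le_centralizer' hxc _)
    · exact commutator_eq_bot_iff'.2 ((commutator_mono (s.oc.trans (centralizer_anti inf_le_right))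
        le_rfl).trans (commutator_le_left_of_le_normalizer (le_normalizer_centralizer hxE)))
  refine cj_eq_of_mem_normalizer (s.no (mem_normalizer_iff_cj.2 (s.wc.eq_of_le
    (isPGroup_sup s.wc.pg hp (normalizer_commutator_ge_left _ _)) le_sup_left (mem_top x) ?_)))
  rw [commutator_comm]
  exact cj_le_of_mem_normalizer (le_normalizer_sup_commutator O (zpowers x) (mem_zpowers x))
    le_sup_left

end Sit

end helpers

/-- Standing hypotheses: G a finite group, S a Sylow p-subgroup, Q a nontrivial large p-subgroup of G contained in S, M a subgroup containing S with the basic property (M ∈ 𝔐_G(S)); Y_M the largest p-reduced normal subgroup of M and M† = M·C_G(Y_M). Suppose Y_M is char-p-tall and asymmetric in G, H ∈ ℌ_G(O_p(M)), and L is minimal among the subgroups of H containing Y_M with Y_M ≰ O_p(L). Then H = ⟨L, O_p(M)⟩ = ⟨hY_Mh⁻¹, O_p(M)⟩ for every h ∈ L outside N_L(Y_M); L is Y_M-minimal and of characteristic p, with N_L(Y_M) the unique maximal subgroup of L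 containing Y_M; [V, O^p(L)] ≠ 1 for every noncentral chief factor V/W of H inside O_p(H) (that is, O^p(L) does not act trivially on V/W); and the normal closure of O_p(L) ∩ Y_M in L lies in O_p(H). -/
theorem result {G : Type*} [Group G] [Finite G] {p : ℕ} [Fact p.Prime] (S : Sylow p G) (Q : Subgroup G) (hQp : IsPGroup p ↥Q) (hQ1 : Q ≠ ⊥) (hQS : Q ≤ (S : Subgroup G)) (hQ : Cfsg.IsLarge Q) (M : Subgroup G) (hSM : (S : Subgroup G) ≤ M) (hM : Cfsg.IsInFrakM p M) (htall : Cfsg.IsCharPTall p (Cfsg.largestPReducedOf p M)) (hasym : ¬ Cfsg.IsSymmetricIn (Cfsg.largestPReducedOf p M)) (H : Subgroup G) (hH : Cfsg.IsInFrakH p M H) (L : Subgroup G) (hLH : L ≤ H) (hYL : (Cfsg.largestPReducedOf p M) ≤ L) (hYO : ¬ (Cfsg.largestPReducedOf p M) ≤ (Cfsg.pCoreOf p L)) (hmin : ∀ L' : Subgroup G, L' ≤ L → (Cfsg.largestPReducedOf p M) ≤ L' → ¬ (Cfsg.largestPReducedOf p M) ≤ (Cfsg.pCoreOf p L') → L' = L) : (L ⊔ (Cfsg.pCoreOf p M) = H ∧ ∀ h ∈ L, h ∉ Subgroup.normalizer (((Cfsg.largestPReducedOf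 p M) : Subgroup G) : Set G) → (((Cfsg.largestPReducedOf p M) : Subgroup G).map (MulAut.conj (h : G)).toMonoidHom) ⊔ (Cfsg.pCoreOf p M) = H) ∧ (Cfsg.IsMinimalOver (((Cfsg.largestPReducedOf p M)).subgroupOf L) ∧ Subgroup.centralizer (Cfsg.pCore p ↥L : Set ↥L) ≤ Cfsg.pCore p ↥L ∧ L ⊓ Subgroup.normalizer (((Cfsg.largestPReducedOf p M) : Subgroup G) : Set G) < L ∧ ∀ X : Subgroup G, (Cfsg.largestPReducedOf p M) ≤ X → X < L → X ≤ L ⊓ Subgroup.normalizer (((Cfsg.largestPReducedOf p M) : Subgroup G) : Set G)) ∧ (∀ V W' : Subgroup G, V ≤ (Cfsg.pCoreOf p H) → H ≤ Subgroup.normalizer ((V : Subgroup G) : Set G) → H ≤ Subgroup.normalizer ((W' : Subgroup G) : Set G) → W' < V → (∀ Z' : Subgroup G, H ≤ Subgroup.normalizer ((Z' : Subgroup G) : Set G) → W' ≤ Z' → Z' ≤ V → Z' = W' ∨ Z' = V) → ¬ ⁅V, H⁆ ≤ W' → ¬ ⁅V, ((Cfsg.pResidual p ↥L).map (L).subtype)⁆ ≤ W') ∧ (Subgroup.normalClosure (((((Cfsg.pCoreOf p L) ⊓ (Cfsg.largestPReducedOf p M)).subgroupOf L : Subgroup ↥L)) : Set ↥L)).map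 L.subtype ≤ (Cfsg.pCoreOf p H) := by
  open Cfsg.Agent.Loc Subgroup in
  open scoped commutatorElement in
  open scoped commutatorElement in
  have fm := fm_of_isLarge S hQp hQ1 hQ hSM hM
  have hea := (pRed_Y (p := p) M).ea
  have hYO' := fm.Y_le_O
  have hsup := frakH_sup hH
  have hasy := fun a b => cj_le_centralizer_of_asymmetric hasym (a := a) (b := b)
  have s0 := fun h => Sit.mk (p := p) (H := H) (L := L) (h := h) (isElementaryAbelian_iff.1 hea).1
    fm.sylIn_O.le (fm.wCl hasym) fm.normalizer_O_le (chP_iff.2 hH.1) hH.2.1 hLH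
  obtain ⟨-, hOH, -, hP⟩ := hH
  generalize largestPReducedOf p M = Y at *
  generalize pCoreOf p M = O at *
  have hYp := isPGroup_of_isElementaryAbelian hea
  obtain ⟨h, hh, hg⟩ : ∃ h ∈ L, Y ⊔ cj h Y = L := by
    by_contra hcon
    obtain ⟨N, h1, h2, h3⟩ := S0199.result (Y.subgroupOf L) (isPGroup_subgroupOf hYp L) fun g => by
      have h4 : Y ⊔ cj (g : G) Y ≤ L := sup_le hYL (cj_le_of_mem g.2 hYL)
      have h5 : Y ≤ pCoreOf p (Y ⊔ cj (g : G) Y) := by_contra fun h5 =>
        hcon ⟨g, g.2, hmin _ h4 le_sup_left h5⟩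
      refine isPGroup_of_map_subtype ?_
      rw [Subgroup.map_sup, ← cj_map_subtype, map_subgroupOf_eq_of_le hYL]
      exact (isPGroup_sup (isPGroup_cj _ hYp) (isPGroup_pCoreOf p _) (le_sup_right.trans
        (le_normalizer_pCoreOf p _))).to_le (sup_le (h5.trans le_sup_right) le_sup_left)
    refine hYO ?_
    rw [← map_subgroupOf_eq_of_le hYL]
    exact map_mono (h3.trans (le_pCore h1 h2))
  have s := s0 h hg hh
  have hw : WCl p Y L := wCl_of_normalizes hYp hYL fun g hg h1 h2 => s.eq_of_comm hg (by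
    simpa only [cj_one] using hasy g 1 (by rwa [cj_one]) (by rwa [cj_one]))
  have hlt : L ⊓ normalizer (Y : Set G) < L := lt_of_le_of_ne inf_le_left fun e =>
    hYO (le_pCoreOf hYL (e.ge.trans inf_le_right) hYp)
  have um : UMax Y L (L ⊓ normalizer (Y : Set G)) := ⟨le_inf hYL le_normalizer, hlt,
    fun X h1 h2 => le_inf h2.le ((le_inf h2.le (le_normalizer_pCoreOf p X)).trans
      (hw.inf_normalizer_le (isPGroup_pCoreOf p X) (by_contra fun h3 => h2.ne (hmin X h2.le h1 h3))))⟩
  have hgen : (⨆ g : L, cj (g : G) Y) = L := le_antisymm (iSup_cj_le hYL le_normalizer)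
    (hg.ge.trans (sup_le (le_iSup_cj _ _) (le_iSup (fun g : L => cj (g : G) Y) ⟨h, hh⟩)))
  have hLO : L ⊔ O = H := by_contra fun e => hYO ((le_inf (hP _ le_sup_right
    (lt_of_le_of_ne (sup_le hLH hOH) e)) hYL).trans (pCoreOf_inf_le le_sup_left))
  have hgen2 : ∀ x ∈ L, x ∉ normalizer (Y : Set G) → cj x Y ⊔ O = H := fun x hx hn =>
    le_antisymm (sup_le (cj_le_of_mem (hLH hx) (hYL.trans hLH)) hOH) (hLO.ge.trans (sup_le
      ((um.sup_cj_eq hgen hx fun h => hn h.2).ge.trans (sup_le (hYO'.trans le_sup_right)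
        le_sup_left)) le_sup_right))
  have hV : pCoreOf p H ⊓ Y ⊔ pCoreOf p H ⊓ cj h Y ≤ pCoreOf p L := le_pCoreOf
    (sup_le (inf_le_right.trans hYL) (inf_le_right.trans (cj_le_of_mem hh hYL)))
    (s.norm le_rfl (sup_le inf_le_left inf_le_left))
    ((isPGroup_pCoreOf p H).to_le (sup_le inf_le_left inf_le_left))
  refine ⟨⟨hLO, hgen2⟩, ⟨(isMinimalOver_subgroupOf hYL).2 ⟨hgen, _, um⟩, chP_iff.1
    (chP_of_isPGroup_centralizer (pg_of_chain (B := ⊥) s.ch (inf_le_left.trans hLH)
      ((commutator_mono le_rfl inf_le_left).trans s.c4) (commutator_le_of_le_centralizer'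
        (inf_le_right.trans (centralizer_anti hV)) _) (commutator_bot_left _))), hlt, um.max⟩,
    fun V W h1 h2 h3 h4 h5 h6 h7 => ?_, ?_⟩
  · have h8 : pResidualOf p L ⊔ Y = L := hmin _ (sup_le (pResidualOf_le p L) hYL) le_sup_right
      fun h8 => hYO (h8.trans (pCoreOf_le_of_subnIn (subnIn_of_pResidualOf_le le_sup_left
        (sup_le (pResidualOf_le p L) hYL))))
    have h9 : pResidualOf p H ≤ commKer W V := pResidualOf_le_of_le_sup s.wc.pg
      (hOH.trans (le_normalizer_commKer h3 h2)) (hLO.ge.trans (sup_le (h8.ge.trans (sup_le_sup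
        (le_commKer_iff.2 ⟨((pResidualOf_le p L).trans hLH).trans h3, by rw [commutator_comm]; exact h7⟩)
        hYO')) le_sup_right))
    have h10 : ⁅V, pResidualOf p H⁆ ≤ W := by rw [commutator_comm]; exact (le_commKer_iff.1 h9).2
    have hc := commutator_le_left_of_le_normalizer h2
    have h11 := (h5 (W ⊔ ⁅V, H⁆) (le_normalizer_sup h3 (normalizer_commutator_ge_right _ _))
      le_sup_left (sup_le h4.le hc)).resolve_left fun e => h6 (le_sup_right.trans e.le)
    have hQ' : O ⊔ pCoreOf p H ≤ H := sup_le hOH (pCoreOf_le p H)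
    refine h4.not_ge (le_of_le_sup_commutator (Q := O ⊔ pCoreOf p H) (isPGroup_sup s.wc.pg
      (isPGroup_pCoreOf p H) (hOH.trans s.rn)).isNilpotent (h1.trans le_sup_right)
      ((h4.le.trans h1).trans le_sup_right) (hQ'.trans h3) (h11.ge.trans (sup_le le_sup_left ?_)))
    conv_lhs => rw [← hsup]
    exact commutator_sup_right_le (le_normalizer_of_commutator_le' (((commutator_mono (sup_le h4.le
      ((commutator_mono le_rfl hQ').trans hc)) le_rfl).trans h10).trans le_sup_left))
      (le_normalizer_sup (hOH.trans h3) (le_sup_left.trans (normalizer_commutator_ge_right _ _)))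
      (h10.trans le_sup_left) ((commutator_mono le_rfl le_sup_left).trans le_sup_right)
  · rw [map_normalClosure_subgroupOf (inf_le_right.trans hYL)]
    have hhn : h ∉ normalizer (Y : Set G) := fun e => hYO (by
      rw [← hg, cj_eq_of_mem_normalizer e, sup_idem, pCoreOf_eq_self hYp])
    have hZ : H ≤ centralizer ((Y ⊓ cj h Y : Subgroup G) : Set G) := hgen2 h hh hhn ▸ sup_le
      (s.ab'.trans (centralizer_anti inf_le_right)) (s.oc.trans (centralizer_anti inf_le_left))
    have hZn := le_normalizer_of_le_centralizer hZ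
    have h1 : pCoreOf p L ≤ normalizer ((cj h Y : Subgroup G) : Set G) := by
      rw [← cj_normalizer, ← cj_eq_of_mem_normalizer (le_normalizer_pCoreOf p L hh)]
      exact cj_mono h (hw.pCoreOf_le_normalizer hYL le_rfl)
    set C := pCoreOf p H ⊓ commKer (Y ⊓ cj h Y) (pCoreOf p L ⊓ Y) with hC
    have h2 : ⁅pCoreOf p H, O⁆ ≤ C := by
      have := commutator_le_left_of_le_normalizer (hOH.trans s.rn)
      exact le_inf this (le_commKer_iff.2 ⟨(this.trans (pCoreOf_le p H)).trans hZn,
        ((commutator_mono le_rfl inf_le_right).trans s.c3.le).trans bot_le⟩)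
    have h3 : ⁅pCoreOf p H, cj h Y⁆ ≤ C := s.c2.trans (le_inf inf_le_left (le_commKer_iff.2
      ⟨(inf_le_left.trans (pCoreOf_le p H)).trans hZn, le_inf ((commutator_mono inf_le_left
        inf_le_right).trans (s.c1.trans inf_le_right)) ((commutator_mono inf_le_right
          inf_le_left).trans (commutator_le_left_of_le_normalizer h1))⟩))
    have h4 : ⁅pCoreOf p H, H⁆ ≤ C := by
      conv_lhs => arg 2; rw [← hgen2 h hh hhn]
      exact commutator_sup_right_le (le_normalizer_of_commutator_le' ((commutator_mono inf_le_left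
        le_rfl).trans h3)) (le_normalizer_of_commutator_le' ((commutator_mono inf_le_left
        le_rfl).trans h2)) h3 h2
    have hY0 : pCoreOf p L ⊓ Y ≤ H := inf_le_right.trans (hYL.trans hLH)
    have h5 : (⨆ g : H, cj (g : G) (pCoreOf p L ⊓ Y)) ≤ commKer (Y ⊓ cj h Y) ⁅pCoreOf p H, H⁆ :=
      iSup_cj_le (le_commKer_iff.2 ⟨hY0.trans hZn, by
        rw [commutator_comm]; exact (le_commKer_iff.1 (h4.trans inf_le_right)).2⟩)
        (le_normalizer_commKer hZn (normalizer_commutator_ge_right _ _))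
    have h6 := iSup_cj_le hY0 (le_normalizer (H := H))
    refine (iSup_cj_le (le_iSup_cj _ H) (hLH.trans (le_normalizer_iSup_cj _ H))).trans
      (le_pCoreOf h6 (le_normalizer_iSup_cj _ H) (pg_of_chain s.ch h6 (commutator_mono le_rfl h6)
        (by rw [commutator_comm]; exact (le_commKer_iff.1 h5).2)
        (commutator_eq_bot_iff'.2 (h6.trans hZ))))

end Cfsg.Agent.S2862
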