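import Cfsg.Statements.S2863
import Cfsg.Agent.Loc.YMin

set_option autoImplicit false
open Cfsg

namespace Cfsg.Agent.S2863

/-- Standing hypotheses: G a finite group, S a Sylow p-subgroup, Q a nontrivial large p-subgroup of G contained in S, M a subgroup containing S with the basic property (M ∈ 𝔐_G(S)); Y_M the largest p-reduced normal subgroup of M and M† = M·C_G(Y_M). Let L ∈ 𝔏_G(Y_M) (L ∈ 𝔏_G(Y_M): Y_M ≤ L; O_p(L) is the normal closure in L of Y_M ∩ O_p(L) and normalizes Y_M; L is Y_M-minimal of characteristic p with N_L(Y_M) its unique maximal subgroup over Y_M; and L/O_p(L) ≅ SL₂(q) with q = |Y_M : Y_M ∩ O_p(L)|, or p = 2 and L/O_p(L) is a Suzuki group Sz(q) or dihedral of order 2r, r an odd prime), A = O_p(L), and C = C_{Y_M}(L). Then every element h of L whose order is not a power of p acts without nontrivial fixed points on A/C: for a ∈ A, hah⁻¹a⁻¹ ∈ C implies a ∈ C. -/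
theorem result {G : Type*} [Group G] [Finite G] {p : ℕ} [Fact p.Prime] (S : Sylow p G) (Q : Subgroup G) (hQp : IsPGroup p ↥Q) (hQ1 : Q ≠ ⊥) (hQS : Q ≤ (S : Subgroup G)) (hQ : Cfsg.IsLarge Q) (M : Subgroup G) (hSM : (S : Subgroup G) ≤ M) (hM : Cfsg.IsInFrakM p M) (L : Subgroup G) (hL : Cfsg.IsInFrakL p M L) (h : G) (hh : h ∈ L) (hnp : ¬ ∃ k : ℕ, orderOf h = p ^ k) : ∀ a ∈ (Cfsg.pCoreOf p L), h * a * h⁻¹ * a⁻¹ ∈ (Cfsg.largestPReducedOf p M) ⊓ Subgroup.centralizer ((L : Subgroup G) : Set G) → a ∈ (Cfsg.largestPReducedOf p M) ⊓ Subgroup.centralizer ((L : Subgroup G) : Set G) := by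
  open Cfsg.Agent.Loc Subgroup in
  open scoped commutatorElement in
  obtain ⟨hYL, hgen, hAN, hmin, -, ⟨hlt, hmax⟩, hiso⟩ := hL
  set Y := largestPReducedOf p M with hY
  have hea : IsElementaryAbelian p Y := (pRed_Y M).ea
  let π := QuotientGroup.mk' (pCore p L)
  have hs : Function.Surjective π := QuotientGroup.mk'_surjective _
  have hk : π.ker = pCore p L := QuotientGroup.ker_mk' _
  have hk' : ∀ x : L, π x = 1 ↔ (x : G) ∈ pCoreOf p L := fun x => by
    rw [← MonoidHom.mem_ker, hk]; exact (mem_map_iff_mem L.subtype_injective).symm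
  have nA := le_normalizer_pCoreOf p L
  have hYA : ¬ Y ≤ pCoreOf p L := fun h => by
    obtain ⟨h1, M', h2⟩ := (isMinimalOver_subgroupOf hYL).1 hmin
    have h3 : IsPGroup p L := (isPGroup_pCoreOf p L).to_le (h1.ge.trans (iSup_cj_le h nA))
    exact h2.not_le_normalizer h1 h2.le le_rfl ((h2.eq_of_not_le (h2.le.trans
      (lt_inf_normalizer h3 h2.lt).le) inf_le_left (lt_inf_normalizer h3 h2.lt).not_ge).ge.trans
        inf_le_right)
  have hO : pCore p (L ⧸ pCore p L) = ⊥ := by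
    rw [← pCoreOf_top p (L ⧸ pCore p L), ← map_top_of_surjective π hs, ← map_pCoreOf_of_ker
      (by rw [hk]; exact (isPGroup_pCore p L).to_inf_left), pCoreOf_top, Subgroup.map_eq_bot_iff, hk]
  set Z := (Y.subgroupOf L).map π with hZ
  have hZe : IsElementaryAbelian p Z := isElementaryAbelian_map _
    (isElementaryAbelian_comap L.subtype_injective hea)
  have hZb : Z ≠ ⊥ := fun e => hYA (by
    rw [hZ, Subgroup.map_eq_bot_iff, hk] at e
    rw [← map_subgroupOf_eq_of_le hYL]; exact map_mono e)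
  have hN1 : ((L ⊓ normalizer (Y : Set G)).subgroupOf L).map π ≤ normalizer (Z : Set _) := map_le_normalizer_map
    ((comap_mono inf_le_right).trans (le_normalizer_comap _)) π
  have hW : ∀ W, Z ≤ W → W ≠ ⊤ → W ≤ ((L ⊓ normalizer (Y : Set G)).subgroupOf L).map π := fun W h1 h2 => by
    rw [← map_comap_eq_self_of_surjective hs W, ← subgroupOf_map_subtype' (W.comap π)]
    refine map_mono (comap_mono (hmax _ ?_ (lt_of_le_of_ne (map_subtype_le _) fun e => h2 ?_)))
    · rw [← map_subgroupOf_eq_of_le hYL]; exact map_mono (map_le_iff_le_comap.1 h1)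
    · rw [← map_comap_eq_self_of_surjective hs W, ← subgroupOf_map_subtype' (W.comap π), e,
        subgroupOf_self, map_top_of_surjective π hs]
  have hN2 := hW _ le_normalizer fun e =>
    hZb (eq_bot_iff.2 (hO ▸ le_pCore (normalizer_eq_top_iff.1 e) (isPGroup_of_isElementaryAbelian hZe)))
  have hW' := fun W a b => (hW W a b).trans hN1
  have hcard : Nat.card Z = (Y ⊓ pCoreOf p L).relIndex Y := by
    rw [hZ, ← relIndex_ker, hk, ← subgroupOf_map_subtype' (pCore p L), relIndex_subgroupOf hYL,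
      inf_relIndex_left]
    rfl
  have hU : PT p Z := by
    have h2 : p = 2 → Nat.card Z = 2 → PT p Z := fun e h => by
      subst e; exact pt_two h hO hW'
    rcases hiso with ⟨F, _, _, h1, ⟨e⟩⟩ | ⟨rfl, F, _, _, m, h1, h3, ⟨e⟩⟩ | ⟨rfl, r, h1, h3, ⟨e⟩⟩
    · exact PT.of_map e (pt_sl ((isPGroup_of_isElementaryAbelian hZe).map _) (by
        rw [card_map_of_injective e.injective, hcard, Nat.card_eq_fintype_card, h1]))
    · rcases Nat.eq_zero_or_pos m with rfl | hm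
      · exact h2 rfl (by rw [hcard, ← h3, h1]; rfl)
      · letI := Sz.titsOfCard hm h1
        letI := Sz.lieRep (Sz.titsOfCard_θ hm h1)
        letI := Sz.repOfEquiv (F := F) e
        exact pt_sz (F := F) hZe (by rw [hcard, Nat.card_eq_fintype_card, h3])
    · refine h2 rfl ?_
      obtain ⟨k, hk'⟩ := IsPGroup.iff_card.1 (isPGroup_of_isElementaryAbelian hZe)
      have h4 := card_subgroup_dvd_card Z
      rw [Nat.card_congr e.toEquiv, DihedralGroup.nat_card, hk'] at h4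
      have h5 := (Nat.Coprime.pow_left k ((Nat.coprime_primes Nat.prime_two h1).2 h3.symm)).dvd_of_dvd_mul_right h4
      rcases (Nat.dvd_prime Nat.prime_two).1 h5 with h6 | h6
      · exact absurd (card_eq_one.1 (hk'.trans h6)) hZb
      · exact hk'.trans h6
  have lift : ∀ (g : L) x, x ∈ cj (π g) Z → ∃ a : L, (a : G) ∈ cj (g : G) Y ∧ π a = x := by
    rintro g _ ⟨_, ⟨y, hy, rfl⟩, rfl⟩
    exact ⟨g * y * g⁻¹, conj_mem_cj hy, by simp⟩
  have down : ∀ g : L, ((cj (g : G) Y).subgroupOf L).map π = cj (π g) Z := fun g => le_antisymm (by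
    rintro _ ⟨a, ha, rfl⟩
    exact mem_cj.2 ⟨g⁻¹ * a * g, (mem_cj (g := (g : G))).1 ha, by simp⟩) fun x hx => lift g x hx
  have H : YM Y L (pCoreOf p L) (Y ⊓ centralizer (L : Set G)) :=
    ⟨(isElementaryAbelian_iff.1 hea).1, hYL, map_subtype_le _, nA, hAN, inf_le_left, inf_le_right, le_rfl,
      fun N h1 h2 => hgen.le.trans ((map_normalClosure_subgroupOf (inf_le_left.trans hYL)).le.trans
        (iSup_cj_le h2 h1)), fun W h1 h2 => (hmax W h1 h2).trans inf_le_right, fun y h1 h2 g hg h3 => by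
      have := hU.ti hZe hO hW' (z := π ⟨y, hYL h1⟩) (g := π ⟨g, hg⟩) ⟨_, h1, rfl⟩ (fun e => h2 ((hk' _).1 e)) (by
        rw [← down]
        exact map_le_normalizer_map (le_normalizer_comap _) π ⟨⟨y, hYL h1⟩, h3, rfl⟩)
      obtain ⟨n, hn, e⟩ := hN2 (mem_normalizer_iff_cj.2 this)
      have h4 := mul_mem hn.2 (hAN ((hk' (n⁻¹ * ⟨g, hg⟩)).1 (by rw [map_mul, map_inv, e, inv_mul_cancel])))
      exact mem_normalizer_iff_cj.1 (by simpa using h4), hYA⟩
  obtain ⟨g₀, g1, g2⟩ := SetLike.exists_of_lt hlt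
  have AA := H.AA g1 fun e => g2 ⟨g1, mem_normalizer_iff_cj.2 e⟩
  have nC := H.nC
  generalize Y ⊓ centralizer (L : Set G) = C at *
  have ASt : ∀ x ∈ pCoreOf p L, ∀ a b : L, π a = π b → (a : G) ∈ St C x → (b : G) ∈ St C x := fun x hx a b e h1 => by
    have h2 := (hk' (a⁻¹ * b)).1 (by rw [map_mul, map_inv, e, inv_mul_cancel])
    simpa using mul_mem h1 (show ((a⁻¹ * b : L) : G) ∈ St C x from
      ⟨nC (a⁻¹ * b).2, AA (commutator_mem_commutator h2 hx)⟩)
  have sw : ∀ x y : G, ⁅x, y⁆ ∈ C → ⁅y, x⁆ ∈ C := fun x y h => by rw [← commutatorElement_inv]; exact inv_mem h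
  intro a ha h1
  by_contra h2
  have np : ∀ k, π ⟨h, hh⟩ ^ p ^ k ≠ 1 := fun k e => by
    obtain ⟨j, hj⟩ := isPGroup_pCoreOf p L ⟨_, (hk' _).1 ((map_pow π _ _).trans e)⟩
    have : h ^ p ^ (k + j) = 1 := by rw [pow_add, pow_mul]; exact congrArg Subtype.val hj
    obtain ⟨i, -, hi⟩ := (Nat.dvd_prime_pow Fact.out).1 (orderOf_dvd_of_pow_eq_one this)
    exact hnp ⟨i, hi⟩
  obtain ⟨u, u1, u2, b₁, b₂, p1, p2, e⟩ := hU.2 _ np
  obtain ⟨u, rfl⟩ := hs u
  obtain ⟨x, hx, x1, x2⟩ := exists_commutator_mem_of_lt (K := pCoreOf p L ⊓ St C h) (P := zpowers (u : G)) (M := C)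
    (isPGroup_pCoreOf p L).to_inf_left (by
      obtain ⟨j, hj⟩ := isPGroup_pCoreOf p L ⟨_, (hk' _).1 ((map_pow π _ _).trans u1)⟩
      exact isPGroup_zpowers_of_pow (k := 1 + j) (by rw [pow_add, pow_mul, pow_one]; exact congrArg Subtype.val hj))
    (zpowers_le.2 (mem_normalizer_of_cj_le (cj_le_iff_forall.2 fun d hd => by
      have h3 := conj_mem_of_mem_normalizer (nA u.2) hd.1
      refine ⟨h3, nC (H.AL h3), ?_⟩
      have h4 := conj_mem_of_mem_normalizer (nC u.2) (sw _ _ (ASt d hd.1 ⟨h, hh⟩ (u⁻¹ * ⟨h, hh⟩ * u)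
        (by rw [map_mul, map_mul, map_inv, u2.symm.inv_mul_cancel]) ⟨nC hh, sw _ _ hd.2.2⟩).2)
      convert h4 using 1
      simp only [commutatorElement_def, coe_mul, coe_inv]; group)))
    (zpowers_le.2 (nC u.2)) (inf_le_left.trans (H.AL.trans nC)) fun e => h2 (e ⟨ha, nC (H.AL ha), sw h a h1⟩)
  obtain ⟨g, hg⟩ := hU.exists_cj hZe hZb hO hW' p1
  obtain ⟨g', hg'⟩ := hU.exists_cj hZe hZb hO hW' p2
  obtain ⟨g, rfl⟩ := hs g
  obtain ⟨g', rfl⟩ := hs g'
  obtain ⟨c, c1, rfl⟩ := lift g _ hg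
  obtain ⟨d, d1, rfl⟩ := lift g' _ hg'
  have n1 : (π c * π d) ^ p ≠ 1 := fun e' => np 1 (by rw [← e, u2.mul_pow, u1, mul_one] at e'; rwa [pow_one])
  have e1 : cj ((g' : G) * (g : G)⁻¹) (cj (g : G) Y) = cj (g' : G) Y := by rw [cj_cj, inv_mul_cancel_right]
  refine x1 (YM.fpf (G := G) (H.conj g.2) (g := g' * (g : G)⁻¹) (a := c) (b := d) (mul_mem g'.2 (inv_mem g.2)) (fun e' => n1 ?_) c1
    (fun e' => n1 (by rwa [(hk' c).2 e', one_mul])) (e1.ge d1) (fun e' => n1 (by rwa [(hk' d).2 e', mul_one])) hx.1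
    (ASt x hx.1 (⟨h, hh⟩ * u) (c * d) (by rw [map_mul, map_mul, e])
      (mul_mem ⟨nC hh, sw _ _ hx.2.2⟩ ⟨nC u.2, sw _ _ (x2 _ (mem_zpowers _))⟩)).2)
  rw [← map_mul, ← map_pow, show (c * d) ^ p = 1 from Subtype.ext ((isElementaryAbelian_iff.1
    (isElementaryAbelian_map _ hea)).2 _ (mul_mem c1 (e'.le (e1.ge d1)))), map_one]

end Cfsg.Agent.S2863
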