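import Cfsg.Statements.S2864
import Cfsg.Agent.Loc.FrakM

set_option autoImplicit false
open Cfsg

namespace Cfsg.Agent.S2864

/-- Standing hypotheses: G a finite group, S a Sylow p-subgroup, Q a nontrivial large p-subgroup of G contained in S, M a subgroup containing S with the basic property (M ∈ 𝔐_G(S)); Y_M the largest p-reduced normal subgroup of M and M† = M·C_G(Y_M). Let I be a nontrivial normal p-subgroup of M and Y ≤ O_p(M†); let L be a subgroup of G containing Y and A a normal p-subgroup of L with I ≤ A ≤ M. If [Y, A] ≤ [I, A], then Y ≤ O_p(L). -/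
theorem result {G : Type*} [Group G] [Finite G] {p : ℕ} [Fact p.Prime] (S : Sylow p G) (Q : Subgroup G) (hQp : IsPGroup p ↥Q) (hQ1 : Q ≠ ⊥) (hQS : Q ≤ (S : Subgroup G)) (hQ : Cfsg.IsLarge Q) (M : Subgroup G) (hSM : (S : Subgroup G) ≤ M) (hM : Cfsg.IsInFrakM p M) (I : Subgroup G) (hI1 : I ≠ ⊥) (hIp : IsPGroup p ↥I) (hIM : I ≤ M ∧ M ≤ Subgroup.normalizer ((I : Subgroup G) : Set G)) (Y : Subgroup G) (hY : Y ≤ (Cfsg.pCoreOf p (M ⊔ Subgroup.centralizer (((Cfsg.largestPReducedOf p M) : Subgroup G) : Set G)))) (L : Subgroup G) (hYL : Y ≤ L) (A : Subgroup G) (hAp : IsPGroup p ↥A) (hAL : A ≤ L ∧ L ≤ Subgroup.normalizer ((A : Subgroup G) : Set G)) (hIA : I ≤ A) (hAM : A ≤ M) (hc : ⁅Y, A⁆ ≤ ⁅I, A⁆) : Y ≤ (Cfsg.pCoreOf p L) := by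
  open Cfsg.Agent.Loc Subgroup in
  open scoped commutatorElement in
  have h := fm_of_isLarge S hQp hQ1 hQ hSM hM
  set K := ⨆ g : L, cj (g : G) Y with hK
  have hKL : K ≤ L := iSup_cj_le hYL le_normalizer
  have hF : L ≤ normalizer (((frattini A).map A.subtype : Subgroup G) : Set G) :=
    hAL.2.trans (normalizer_le_normalizer_map_subtype _)
  have h1 : ⁅K, A⁆ ≤ (frattini A).map A.subtype := by
    refine commutator_iSup_left_le (fun g => (cj_le_of_mem g.2 hYL).trans hF) fun g => ?_
    have := cj_le_of_mem_normalizer (hF g.2) ((hc.trans (commutator_mono hIA le_rfl)).trans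
      (Solv.commutator_le_map_frattini hAp))
    rwa [cj_commutator, cj_eq_of_mem_normalizer (hAL.2 g.2)] at this
  have h2 : pResidualOf p K ≤ centralizer (A : Set G) := pResidualOf_le_centralizer_of_frattini hAp
    ((pResidualOf_le p K).trans (hKL.trans hAL.2)) (by
      rw [Subgroup.commutator_comm]
      exact (commutator_mono (pResidualOf_le p K) le_rfl).trans h1)
  have h3 := ((h2.trans (centralizer_anti hIA)).trans (centralizer_le_normalizer _)).trans
    (h.normalizer_le_D hIM.2 hIp hI1)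
  have h4 : Sig.SubnIn (Y ⊔ pResidualOf p K) L := (subnIn_of_pResidualOf_le le_sup_right
    (sup_le (le_iSup_cj Y L) (pResidualOf_le p K))).trans
      (Sig.SubnIn.of_normal hKL (le_normalizer_iSup_cj Y L))
  exact ((le_inf hY le_sup_left).trans (pCoreOf_inf_le (sup_le (hY.trans (pCoreOf_le p _)) h3))).trans
    (pCoreOf_le_of_subnIn h4)

end Cfsg.Agent.S2864
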