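import Cfsg.Statements.S2872
import Cfsg.Agent.Loc.JC8

set_option autoImplicit false
open Cfsg

namespace Cfsg.Agent.S2872

/-- Let S be a Sylow 2-subgroup of the finite group G. Then G has a proper normal subgroup of 2-power index (O²(G) ≠ G), or Ω₁(Z(S)) is contained in the Frattini subgroup of S, or N_G(S) acts nontrivially on Ω₁(Z(S)) by conjugation. -/
theorem result {G : Type*} [Group G] [Finite G] (S : Sylow 2 G) : Cfsg.pResidual 2 G ≠ ⊤ ∨ Cfsg.omegaOne 2 ((S : Subgroup G) ⊓ Subgroup.centralizer ((S : Subgroup G) : Set G)) ≤ (frattini ↥(S : Subgroup G)).map (S : Subgroup G).subtype ∨ ∃ g ∈ Subgroup.normalizer ((S : Subgroup G) : Set G), ∃ z ∈ Cfsg.omegaOne 2 ((S : Subgroup G) ⊓ Subgroup.centralizer ((S : Subgroup G) : Set G)), g * z * g⁻¹ ≠ z := by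
  open Cfsg.Agent.Loc Subgroup in
  open scoped commutatorElement in
  refine or_iff_not_imp_left.2 fun h1 => or_iff_not_imp_left.2 fun h2 => ?_
  rw [not_ne_iff] at h1
  obtain ⟨z, hz, hn⟩ := SetLike.not_le_iff_exists.1 h2
  have hz' := omegaOne_le _ _ hz
  have z2 : z * z = 1 := by rw [← pow_two]; exact (isElementaryAbelian_omegaOne_center 2 _).2 z hz
  obtain ⟨M, hM, hzM⟩ : ∃ M : Subgroup (S : Subgroup G), IsCoatom M ∧ ⟨z, hz'.1⟩ ∉ M := by
    by_contra! hh
    exact hn ⟨_, Solv.mem_frattini_iff.2 hh, rfl⟩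
  have : Group.IsNilpotent (S : Subgroup G) := S.isPGroup'.isNilpotent
  have hMn : M.Normal := NormalizerCondition.normal_of_coatom M Group.normalizerCondition_of_isNilpotent hM
  have hzM' : z ∉ M.map (S : Subgroup G).subtype := fun ⟨y, hy, e⟩ => hzM (by rwa [← show y = ⟨z, hz'.1⟩ from Subtype.ext e])
  obtain ⟨g, h3, h4⟩ := transfer_gen (sylIn_top S) (map_subtype_le M) (normal_map_subtype hMn) hz'.1 (by
      have := hM.2 (M ⊔ zpowers ⟨z, hz'.1⟩) (left_lt_sup.2 fun e => hzM (e (mem_zpowers _)))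
      intro s hs
      have := mem_map_of_mem (S : Subgroup G).subtype (this.ge (mem_top ⟨s, hs⟩))
      rwa [Subgroup.map_sup, MonoidHom.map_zpowers] at this) z2 hz'.1 hzM'
    (mem_commutator_of_mem_pResidual (h1.ge (mem_top z)) z2) S.isPGroup' (le_cent1_iff.2 hz'.2)
  exact ⟨g, mem_normalizer_of_cj_le h4, z, hz, fun e => hzM' (e ▸ h3)⟩

end Cfsg.Agent.S2872
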