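import Cfsg.Statements.S2873
import Cfsg.Agent.Invol.Basic
import Cfsg.Agent.PLocal.Basic

set_option autoImplicit false
open Cfsg

namespace Cfsg.Agent.S2873

open Subgroup Cfsg.Agent.PLocal Cfsg.Agent.Solv

theorem aux {G : Type*} [Group G] [Finite G] {r : ℕ} [hp : Fact r.Prime] (hr : r ≠ 2) {Q : Subgroup G} (hQ : IsPGroup 2 Q)
    (π : G →* DihedralGroup r) (hs : Function.Surjective π) (hk : π.ker = Q) (R : Sylow r G)
    (hC : Q ⊓ centralizer ((R : Subgroup G) : Set G) = ⊥) :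
    Nonempty (↥(normalizer ((R : Subgroup G) : Set G)) ≃* DihedralGroup r) ∧
    ∀ a : G, a ∈ normalizer ((R : Subgroup G) : Set G) → orderOf a = 2 →
      (∀ b : G, orderOf b = 2 → b ∉ Q → ∃ g : G, g * a * g⁻¹ = b) ∧
      Nat.card ↥(Q ⊓ centralizer ({a} : Set G)) ^ 2 = Nat.card Q := by
  have hQn : Q.Normal := hk ▸ inferInstance
  have mQ : ∀ x, x ∈ Q ↔ π x = 1 := fun x => by rw [← hk, MonoidHom.mem_ker]
  have hodd : Odd r := hp.out.odd_of_ne_two hr
  have h2 : (2 : ZMod r) ≠ 0 := fun h => hr ((Nat.prime_dvd_prime_iff_eq hp.out Nat.prime_two).1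
    ((ZMod.natCast_eq_zero_iff 2 r).1 (by exact_mod_cast h)))
  have hRQ : (R : Subgroup G) ⊓ Q = ⊥ :=
    (IsPGroup.disjoint_of_ne r 2 hr _ _ R.2 hQ).eq_bot
  have hcG : Nat.card G = 2 * r * Nat.card Q := by
    rw [← hk, ← DihedralGroup.nat_card, ← index_mul_card π.ker, index_ker, MonoidHom.range_eq_top.2 hs, card_top]
  obtain ⟨q, hq⟩ := IsPGroup.iff_card.1 hQ
  have hcop : r.Coprime (2 * Nat.card Q) := by
    rw [hq, ← pow_succ']; exact ((Nat.coprime_primes hp.out Nat.prime_two).2 hr).pow_right _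
  have hcR : Nat.card R = r := by
    rw [R.card_eq_multiplicity, hcG, show 2 * r * Nat.card Q = r * (2 * Nat.card Q) by ring,
      Nat.factorization_mul hp.out.ne_zero (mul_ne_zero two_ne_zero Nat.card_pos.ne'), Finsupp.add_apply,
      hp.out.factorization_self, Nat.factorization_eq_zero_of_not_dvd (hp.out.coprime_iff_not_dvd.1 hcop), pow_one]
  have hgen : ∀ w ∈ (R : Subgroup G), w ≠ 1 → zpowers w = R := fun w hw h1 => by
    refine eq_of_le_of_card_ge (zpowers_le.2 hw) ?_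
    have := card_dvd_of_le (zpowers_le.2 hw)
    rw [hcR] at this ⊢
    rcases (Nat.dvd_prime hp.out).1 this with h | h
    · exact absurd (zpowers_eq_bot.1 (card_eq_one.1 h)) h1
    · exact h.ge
  -- key lemma
  have K : ∀ (z : G) (i : ZMod r), i ≠ 0 → π z = .r i → (∀ x ∈ Q, x * z = z * x → x = 1) ∧ z ^ r = 1 := by
    intro z i hi hz
    have hzr : z ^ r ∈ Q := (mQ _).2 (by rw [map_pow, hz, DihedralGroup.r_pow]; simp)
    have h1 : ∀ x ∈ Q, x * z = z * x → x = 1 := fun x hx hc => by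
      have hw : (z ^ Nat.card Q) ^ r = 1 := by
        rw [← pow_mul, mul_comm, pow_mul]
        exact congrArg Subtype.val (pow_card_eq_one' (x := (⟨_, hzr⟩ : Q)))
      have hw1 : z ^ Nat.card Q ≠ 1 := fun h => by
        have := congrArg π h
        rw [map_pow, hz, DihedralGroup.r_pow, map_one, DihedralGroup.one_def, DihedralGroup.r.injEq, hq] at this
        push_cast at this
        exact mul_ne_zero hi (pow_ne_zero _ h2) this
      have hP : IsPGroup r (zpowers (z ^ Nat.card Q)) :=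
        IsPGroup.of_card (n := 1) (by rw [Nat.card_zpowers, orderOf_eq_prime hw hw1, pow_one])
      obtain ⟨R', hR'⟩ := hP.exists_le_sylow
      obtain ⟨g, rfl⟩ := MulAction.exists_smul_eq G R R'
      have hm : g⁻¹ * z ^ Nat.card Q * g ∈ (R : Subgroup G) := by
        obtain ⟨y, hy, e⟩ := hR' (mem_zpowers _)
        have e' : g * y * g⁻¹ = z ^ Nat.card Q := e
        rw [← e', show g⁻¹ * (g * y * g⁻¹) * g = y by group]; exact hy
      have hx' : g⁻¹ * x * g ∈ Q ⊓ centralizer ((R : Subgroup G) : Set G) := by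
        refine ⟨hQn.conj_mem' x hx g, ?_⟩
        rw [← hgen _ hm (fun h => hw1 (by simpa [mul_assoc, inv_mul_eq_one, mul_eq_right] using congrArg (g * · * g⁻¹) h)),
          zpowers_eq_closure, centralizer_closure]
        refine mem_centralizer_iff.2 fun y hy => ?_
        rw [Set.mem_singleton_iff.1 hy]
        have := ((show Commute x z from hc).pow_right (Nat.card Q)).eq
        calc g⁻¹ * z ^ Nat.card Q * g * (g⁻¹ * x * g) = g⁻¹ * (z ^ Nat.card Q * x) * g := by group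
          _ = _ := by rw [← this]; group
      rw [hC, mem_bot] at hx'
      simpa [mul_assoc] using congrArg (g * · * g⁻¹) hx'
    exact ⟨h1, h1 _ hzr (by group)⟩
  have hNQ : ∀ x ∈ normalizer ((R : Subgroup G) : Set G), π x = 1 → x = 1 := fun x hx h1 => by
    have : x ∈ Q ⊓ centralizer ((R : Subgroup G) : Set G) := by
      refine ⟨(mQ x).2 h1, mem_centralizer_iff.2 fun y hy => ?_⟩
      have : y * (x * y⁻¹ * x⁻¹) ∈ (R : Subgroup G) ⊓ Q :=
        ⟨mul_mem hy ((mem_normalizer_iff.1 hx _).1 (inv_mem hy)), (mQ _).2 (by simp [h1])⟩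
      rw [hRQ, mem_bot] at this
      calc y * x = y * (x * y⁻¹ * x⁻¹) * (x * y) := by group
        _ = x * y := by rw [this, one_mul]
    rwa [hC, mem_bot] at this
  obtain ⟨⟨ρ, hρ⟩, hρ1⟩ := ne_bot_iff_exists_ne_one.1 (show (R : Subgroup G) ≠ ⊥ from fun h => by
    rw [show Nat.card R = Nat.card (⊥ : Subgroup G) by rw [← h], card_bot] at hcR
    exact hp.out.one_lt.ne hcR)
  have hρ1 : ρ ≠ 1 := fun h => hρ1 (Subtype.ext h)
  have hρr : ρ ^ r = 1 := by
    have := congrArg Subtype.val (pow_card_eq_one' (x := (⟨ρ, hρ⟩ : (R : Subgroup G))))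
    rwa [hcR] at this
  obtain ⟨k, hk0, hkρ⟩ : ∃ k, k ≠ 0 ∧ π ρ = .r k := by
    rcases h : π ρ with k | k
    · refine ⟨k, fun h0 => hρ1 (hNQ ρ (le_normalizer hρ) (by rw [h, h0]; rfl)), rfl⟩
    · have := orderOf_dvd_of_pow_eq_one (show π ρ ^ r = 1 by rw [← map_pow, hρr, map_one])
      rw [h, DihedralGroup.orderOf_sr] at this
      exact absurd ((Nat.prime_dvd_prime_iff_eq Nat.prime_two hp.out).1 this).symm hr
  have hrot : ∀ j, ∃ x ∈ (R : Subgroup G), π x = .r j := fun j =>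
    ⟨ρ ^ (k⁻¹ * j).val, pow_mem hρ _, by rw [map_pow, hkρ, DihedralGroup.r_pow]; simp [hk0]⟩
  have hrefl : ∀ b : G, b * b = 1 → b ∉ Q → ∃ i, π b = .sr i := fun b hb hbQ => by
    rcases h : π b with j | j
    · have := congrArg π hb
      rw [map_mul, map_one, h, DihedralGroup.r_mul_r, DihedralGroup.one_def, DihedralGroup.r.injEq, ← two_mul] at this
      exact absurd ((mQ b).2 (by rw [h, (mul_eq_zero.1 this).resolve_left h2]; rfl)) hbQ
    · exact ⟨j, rfl⟩
  refine ⟨⟨MulEquiv.ofBijective (π.comp (Subgroup.subtype _)) ⟨?_, ?_⟩⟩, fun a ha oa => ?_⟩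
  · rw [injective_iff_map_eq_one]
    exact fun x hx => Subtype.ext (hNQ x x.2 hx)
  · have hKn : ((zpowers (DihedralGroup.r 1 : DihedralGroup r)).comap π).Normal := by
      refine Normal.comap ⟨fun x hx g => ?_⟩ π
      obtain ⟨m, rfl⟩ := mem_zpowers_iff.1 hx
      rw [← conj_zpow]
      refine zpow_mem ?_ _
      rcases g with g | g
      · simp
      · have : (DihedralGroup.sr g * .r 1 * (DihedralGroup.sr g)⁻¹ : DihedralGroup r) = (DihedralGroup.r 1)⁻¹ := by simp
        rw [this]; exact inv_mem (mem_zpowers _)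
    have hle : (R : Subgroup G) ≤ (zpowers (DihedralGroup.r 1 : DihedralGroup r)).comap π := by
      rw [← hgen ρ hρ hρ1, zpowers_le, mem_comap, hkρ]
      exact ⟨(k.val : ℕ), by simp [DihedralGroup.r_one_pow]⟩
    have hF : normalizer ((R : Subgroup G) : Set G) ⊔ _ = ⊤ := R.normalizer_sup_eq_top' hle
    intro d
    obtain ⟨g, rfl⟩ := hs d
    have : g ∈ ((normalizer ((R : Subgroup G) : Set G) ⊔ (zpowers (DihedralGroup.r 1 : DihedralGroup r)).comap π :
      Subgroup G) : Set G) := by rw [hF]; trivial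
    rw [mul_normal] at this
    obtain ⟨n, hn, x, hx, rfl⟩ := this
    obtain ⟨m, hm⟩ := mem_zpowers_iff.1 hx
    obtain ⟨y, hy, e⟩ := hrot m
    refine ⟨⟨n * y, mul_mem hn (le_normalizer hy)⟩, ?_⟩
    show π (n * y) = π (n * x)
    rw [map_mul, map_mul, e, ← hm, DihedralGroup.r_one_zpow]
  have a2 : a * a = 1 := by rw [← pow_two, ← oa, pow_orderOf_eq_one]
  obtain ⟨i, hi⟩ := hrefl a a2 fun h => by rw [hNQ a ha ((mQ a).1 h), orderOf_one] at oa; omega
  have hb2 : ρ * a * ρ⁻¹ * (ρ * a * ρ⁻¹) = 1 := by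
    rw [show ρ * a * ρ⁻¹ * (ρ * a * ρ⁻¹) = ρ * (a * a) * ρ⁻¹ by group, a2]; group
  have hb : π (ρ * a * ρ⁻¹) = .sr (i - 2 * k) := by
    rw [map_mul, map_mul, map_inv, hkρ, hi]; simp; ring
  have h2k : i - 2 * k - i ≠ 0 := by
    rw [show i - 2 * k - i = -(2 * k) by ring]; exact neg_ne_zero.2 (mul_ne_zero h2 hk0)
  have conj : ∀ (s t : G) (j l : ZMod r), s * s = 1 → t * t = 1 → π s = .sr j → π t = .sr l → l - j ≠ 0 → IsConj s t :=
    fun s t j l hs ht e1 e2 h => Invol.isConj_of_odd hs ht (Odd.of_dvd_nat hodd (orderOf_dvd_of_pow_eq_one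
      (K (s * t) _ h (by rw [map_mul, e1, e2, DihedralGroup.sr_mul_sr])).2))
  refine ⟨fun b ob hbQ => ?_, ?_⟩
  · have b2 : b * b = 1 := by rw [← pow_two, ← ob, pow_orderOf_eq_one]
    obtain ⟨j, hj⟩ := hrefl b b2 hbQ
    rw [← isConj_iff]
    by_cases hij : j - i = 0
    · refine (isConj_iff.2 ⟨ρ, rfl⟩ : IsConj a (ρ * a * ρ⁻¹)).trans (conj _ _ _ _ hb2 b2 hb hj ?_)
      rw [sub_eq_zero.1 hij, ← neg_sub]; exact neg_ne_zero.2 h2k
    · exact conj _ _ _ _ a2 b2 hi hj hij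
  set b := ρ * a * ρ⁻¹ with hbd
  have hab : π (a * b) = .r (i - 2 * k - i) := by rw [map_mul, hi, hb, DihedralGroup.sr_mul_sr]
  have hcc : Nat.card ↥(Q ⊓ centralizer ({b} : Set G)) = Nat.card ↥(Q ⊓ centralizer ({a} : Set G)) := by
    symm
    refine Nat.card_congr ⟨fun x => ⟨ρ * x * ρ⁻¹, hQn.conj_mem _ x.2.1 _, ?_⟩,
      fun x => ⟨ρ⁻¹ * x * ρ, hQn.conj_mem' _ x.2.1 _, ?_⟩, fun x => Subtype.ext (by simp [mul_assoc]),
      fun x => Subtype.ext (by simp [mul_assoc])⟩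
    · have := mem_centralizer_singleton_iff.1 x.2.2
      refine mem_centralizer_singleton_iff.2 ?_
      calc ρ * x * ρ⁻¹ * (ρ * a * ρ⁻¹) = ρ * (x * a) * ρ⁻¹ := by group
        _ = _ := by rw [this, hbd]; group
    · have := mem_centralizer_singleton_iff.1 x.2.2
      refine mem_centralizer_singleton_iff.2 ?_
      calc ρ⁻¹ * x * ρ * a = ρ⁻¹ * (x * (ρ * a * ρ⁻¹)) * ρ := by group
        _ = ρ⁻¹ * (ρ * a * ρ⁻¹ * x) * ρ := by rw [this]
        _ = _ := by group
  -- orbits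
  have orb : ∀ s : G, Nat.card (Set.range fun x : Q => (x : G) * s * (x : G)⁻¹) *
      Nat.card ↥(Q ⊓ centralizer ({s} : Set G)) = Nat.card Q := fun s => by
    let f : Q →* MulAut G := MulAut.conj.comp Q.subtype
    letI : MulAction Q G := MulAction.compHom G f
    have e1 := MulAction.index_stabilizer Q s
    have e2 : Nat.card ↥(Q ⊓ centralizer ({s} : Set G)) = Nat.card (MulAction.stabilizer Q s) := by
      refine Nat.card_congr ⟨fun x => ⟨⟨x, x.2.1⟩, ?_⟩, fun x => ⟨x.1, x.1.2, ?_⟩, fun x => rfl, fun x => rfl⟩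
      · exact mul_inv_eq_iff_eq_mul.2 (mem_centralizer_singleton_iff.1 x.2.2)
      · exact mem_centralizer_singleton_iff.2 (mul_inv_eq_iff_eq_mul.1 x.2)
    rw [e2, ← (MulAction.stabilizer Q s).index_mul_card, e1, Nat.card_coe_set_eq]
    rfl
  refine le_antisymm ?_ ?_
  · rw [pow_two]
    nth_rewrite 2 [← hcc]
    rw [← Nat.card_prod]
    refine Nat.card_le_card_of_injective (fun x => (⟨x.1 * x.2, mul_mem x.1.2.1 x.2.2.1⟩ : Q)) ?_
    rintro ⟨x, y⟩ ⟨x', y'⟩ h
    have h : (x : G) * y = x' * y' := congrArg Subtype.val h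
    have e : (x' : G)⁻¹ * x = y' * (y : G)⁻¹ := by
      calc (x' : G)⁻¹ * x = (x' : G)⁻¹ * (x * y) * (y : G)⁻¹ := by group
        _ = _ := by rw [h]; group
    have c1 := mem_centralizer_singleton_iff.1 (mul_mem (inv_mem x'.2) x.2).2
    have c2 := mem_centralizer_singleton_iff.1 (mul_mem y'.2 (inv_mem y.2)).2
    rw [← e] at c2
    have := (K _ _ h2k hab).1 _ (mul_mem (inv_mem x'.2) x.2).1 (by
      rw [← mul_assoc, c1, mul_assoc a, c2, ← mul_assoc])
    have ex : x = x' := Subtype.ext (inv_mul_eq_one.1 this).symm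
    subst ex
    exact Prod.ext rfl (Subtype.ext (mul_left_cancel h))
  · have o1 := orb a
    have o2 := orb b
    rw [hcc] at o2
    have h3 : Nat.card (Set.range fun x : Q => (x : G) * a * (x : G)⁻¹) *
        Nat.card (Set.range fun x : Q => (x : G) * b * (x : G)⁻¹) ≤ Nat.card Q := by
      have hπ : ∀ (s : G) (t : Set.range fun x : Q => (x : G) * s * (x : G)⁻¹), π t = π s ∧ (s * s = 1 → (t : G) * t = 1) := by
        rintro s ⟨_, x, rfl⟩
        refine ⟨by simp [(mQ _).1 x.2], fun h => ?_⟩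
        show (x : G) * s * (x : G)⁻¹ * (x * s * (x : G)⁻¹) = 1
        rw [show (x : G) * s * (x : G)⁻¹ * (x * s * (x : G)⁻¹) = x * (s * s) * (x : G)⁻¹ by group, h]; group
      rw [← Nat.card_prod]
      refine Nat.card_le_card_of_injective (fun x => (⟨x.1 * x.2 * (a * b)⁻¹, (mQ _).2 (by
        rw [map_mul, map_mul, (hπ _ _).1, (hπ _ _).1, ← map_mul, map_inv, mul_inv_cancel])⟩ : Q)) ?_
      rintro ⟨s, t⟩ ⟨s', t'⟩ h
      have h : (s : G) * t = s' * t' := mul_right_cancel (congrArg Subtype.val h)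
      have inv : ∀ u v : G, u * u = 1 → v * v = 1 → u * (u * v) = (u * v)⁻¹ * u := fun u v hu hv => by
        rw [mul_inv_rev, inv_eq_of_mul_eq_one_left hu, inv_eq_of_mul_eq_one_left hv, ← mul_assoc, hu, mul_assoc, hu]
        simp
      have i1 := inv _ _ ((hπ _ s).2 a2) ((hπ _ t).2 hb2)
      have i2 := inv _ _ ((hπ _ s').2 a2) ((hπ _ t').2 hb2)
      rw [← h] at i2
      have := (K ((s : G) * t) _ h2k (by rw [map_mul, (hπ _ _).1, (hπ _ _).1, ← map_mul, hab])).1
        ((s' : G)⁻¹ * s) ((mQ _).2 (by rw [map_mul, map_inv, (hπ _ _).1, (hπ _ _).1, inv_mul_cancel])) (by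
          rw [mul_assoc, i1]
          have i3 : (s' : G)⁻¹ * ((s : G) * t)⁻¹ = (s * t) * (s' : G)⁻¹ := by
            calc (s' : G)⁻¹ * ((s : G) * t)⁻¹ = (s' : G)⁻¹ * (((s : G) * t)⁻¹ * s') * (s' : G)⁻¹ := by group
              _ = _ := by rw [← i2]; group
          rw [← mul_assoc, i3, mul_assoc])
      have ex : s = s' := Subtype.ext (inv_mul_eq_one.1 this).symm
      subst ex
      exact Prod.ext rfl (Subtype.ext (mul_left_cancel h))
    have hpos : 0 < Nat.card Q := Nat.card_pos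
    nlinarith [Nat.mul_le_mul_right (Nat.card ↥(Q ⊓ centralizer ({a} : Set G)) ^ 2) h3]

/-- Let G be a finite group and r an odd prime such that G ⧸ O₂(G) is dihedral of order 2r, and let R be a Sylow r-subgroup of G with C_{O₂(G)}(R) = 1. Then N_G(R) is dihedral of order 2r; for any involution a of N_G(R), every involution of G outside O₂(G) is conjugate to a; and |C_{O₂(G)}(a)|² = |O₂(G)|. -/
theorem result {G : Type*} [Group G] [Finite G] {r : ℕ} [Fact r.Prime] (hr : r ≠ 2) [hN : (Cfsg.pCore 2 G).Normal] (hquot : Nonempty (G ⧸ Cfsg.pCore 2 G ≃* DihedralGroup r)) (R : Sylow r G) (hC : Cfsg.pCore 2 G ⊓ Subgroup.centralizer ((R : Subgroup G) : Set G) = ⊥) : Nonempty (↥(Subgroup.normalizer ((R : Subgroup G) : Set G)) ≃* DihedralGroup r) ∧ ∀ a : G, a ∈ Subgroup.normalizer ((R : Subgroup G) : Set G) → orderOf a = 2 → (∀ b : G, orderOf b = 2 → b ∉ Cfsg.pCore 2 G → ∃ g : G, g * a * g⁻¹ = b) ∧ Nat.card ↥(Cfsg.pCore 2 G ⊓ Subgroup.centralizer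 ({a} : Set G)) ^ 2 = Nat.card ↥(Cfsg.pCore 2 G) := by
  obtain ⟨e⟩ := hquot
  exact aux hr (Loc.isPGroup_pCore 2 G) (e.toMonoidHom.comp (QuotientGroup.mk' _))
    (e.surjective.comp (QuotientGroup.mk'_surjective _)) (by ext x; simp) R hC

end Cfsg.Agent.S2873
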