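import Cfsg.Statements.S2874
import Mathlib.GroupTheory.SpecificGroups.Alternating
import Mathlib.LinearAlgebra.Matrix.GeneralLinearGroup.Defs
import Mathlib.Data.ZMod.Units
import Mathlib.Tactic

set_option autoImplicit false
open Cfsg

namespace Cfsg.Agent.S2874

open Matrix Subgroup

theorem a4 {G : Type*} [Group G] (H : Subgroup G) (e : H ≃* alternatingGroup (Fin 4)) :
    ∃ r v : G, r ≠ 1 ∧ r ^ 3 = 1 ∧ v ≠ 1 ∧ v * v = 1 ∧ v * (r * v * r⁻¹) = r⁻¹ * v * r ∧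
      r * v * r⁻¹ * v = r⁻¹ * v * r ∧ H = closure {r, v} := by
  let r0 : alternatingGroup (Fin 4) := ⟨Equiv.swap 0 1 * Equiv.swap 1 2, Equiv.Perm.mem_alternatingGroup.2 (by decide)⟩
  let v0 : alternatingGroup (Fin 4) := ⟨Equiv.swap 0 1 * Equiv.swap 2 3, Equiv.Perm.mem_alternatingGroup.2 (by decide)⟩
  let f : alternatingGroup (Fin 4) →* G := H.subtype.comp e.symm.toMonoidHom
  have hf : Function.Injective f := H.subtype_injective.comp e.symm.injective
  have gen : ∀ g : alternatingGroup (Fin 4), ∃ i j : Fin 3, g = r0 ^ (i : ℕ) ∨ g = r0 ^ (i : ℕ) * v0 * r0 ^ (j : ℕ) := by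
    decide
  refine ⟨f r0, f v0, fun h => absurd (hf (h.trans (map_one f).symm)) (by decide),
    by rw [← map_pow, show r0 ^ 3 = 1 by decide, map_one], fun h => absurd (hf (h.trans (map_one f).symm)) (by decide),
    by rw [← map_mul, show v0 * v0 = 1 by decide, map_one], ?_, ?_, le_antisymm (fun x hx => ?_) ?_⟩
  · simp only [← map_inv, ← map_mul]; exact congrArg f (by decide)
  · simp only [← map_inv, ← map_mul]; exact congrArg f (by decide)
  · have h1 : f r0 ∈ closure {f r0, f v0} := subset_closure (by simp)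
    have h2 : f v0 ∈ closure {f r0, f v0} := subset_closure (by simp)
    have : x = f (e ⟨x, hx⟩) := by simp [f]
    obtain ⟨i, j, h | h⟩ := gen (e ⟨x, hx⟩) <;> rw [this, h]
    · rw [map_pow]; exact pow_mem h1 _
    · rw [map_mul, map_mul, map_pow, map_pow]; exact mul_mem (mul_mem (pow_mem h1 _) h2) (pow_mem h1 _)
  · rw [closure_le]
    rintro x (rfl | rfl)
    exacts [(e.symm r0).2, (e.symm v0).2]

variable {R : Type*} [CommRing R]

def r0 : GL (Fin 2) R := ⟨!![0, -1; 1, -1], !![-1, 1; -1, 0], by ext i j; fin_cases i <;> fin_cases j <;> simp,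
  by ext i j; fin_cases i <;> fin_cases j <;> simp⟩

theorem shape {u : R} (hu : u * 3 = 1) (v : GL (Fin 2) R) (h1 : v * v = 1) (h2 : v * (r0 * v * r0⁻¹) = r0⁻¹ * v * r0)
    (h3 : r0 * v * r0⁻¹ * v = r0⁻¹ * v * r0) :
    ∃ b c : R, 2 * b = 0 ∧ 2 * c = 0 ∧ v.1 = !![1 + b, c - b; c, 1 - b] := by
  obtain ⟨a0, a1, b0, b1, hv⟩ : ∃ a0 a1 b0 b1 : R, v.1 = !![a0 + b0, -a1 - b0 + b1; a1 + b1, a0 - a1 - b0] := by
    refine ⟨v.1 0 0 - u * (2 * (v.1 0 0 - v.1 1 1) - (v.1 1 0 - v.1 0 1)),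
      u * (2 * (v.1 1 0 - v.1 0 1) - (v.1 0 0 - v.1 1 1)), u * (2 * (v.1 0 0 - v.1 1 1) - (v.1 1 0 - v.1 0 1)),
      v.1 1 0 - u * (2 * (v.1 1 0 - v.1 0 1) - (v.1 0 0 - v.1 1 1)), ?_⟩
    ext i j; fin_cases i <;> fin_cases j <;> simp
    · linear_combination (v.1 1 0 - v.1 0 1) * hu
    · linear_combination (v.1 0 0 - v.1 1 1) * hu
  have e1 := congrArg Units.val h1
  have e2 := congrArg Units.val h2
  have e3 := congrArg Units.val h3
  simp only [Units.val_mul, hv, r0, Units.inv_mk, Units.val_one, mul_fin_two, one_fin_two] at e1 e2 e3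
  have p (A B : Matrix (Fin 2) (Fin 2) R) (h : A = B) : A 0 0 = B 0 0 ∧ A 0 1 = B 0 1 ∧ A 1 0 = B 1 0 ∧ A 1 1 = B 1 1 := by
    rw [h]; simp
  obtain ⟨x1, y1, z1, w1⟩ := p _ _ e1
  obtain ⟨x2, y2, z2, w2⟩ := p _ _ e2
  obtain ⟨x3, y3, z3, w3⟩ := p _ _ e3
  simp only [of_apply, cons_val', cons_val_zero, cons_val_one, cons_val_fin_one] at x1 y1 z1 w1 x2 y2 z2 w2 x3 y3 z3 w3
  have hN : b0 ^ 2 - b0 * b1 + b1 ^ 2 = 0 := by
    linear_combination u * ((x2 - x3) + 2 * (w2 - w3) + (z2 - z3) - (y2 - y3)) - (b0 ^ 2 - b0 * b1 + b1 ^ 2) * hu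
  have ha1 : a1 = 0 := by
    linear_combination u * (2 * ((z1 - z2) - (y1 - y2)) - ((x1 - x2) - (w1 - w2))) + hN -
      (a1 - (b0 ^ 2 - b0 * b1 + b1 ^ 2)) * hu
  have ha0 : a0 = 1 := by
    linear_combination u * ((x1 - x2) + 2 * (w1 - w2) + (z1 - z2) - (y1 - y2)) - hN -
      (a0 - 1 + (b0 ^ 2 - b0 * b1 + b1 ^ 2)) * hu
  subst ha1 ha0
  refine ⟨b0, b1, by linear_combination x1 - hN, by linear_combination z1, ?_⟩
  rw [hv]; ext i j; fin_cases i <;> fin_cases j <;> simp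
  ring

theorem clo {u h : R} (hu : u * 3 = 1) (hh : ∀ x : R, 2 * x = 0 → x = 0 ∨ x = h) (v w : GL (Fin 2) R)
    (hv : ∃ b c : R, 2 * b = 0 ∧ 2 * c = 0 ∧ v.1 = !![1 + b, c - b; c, 1 - b]) (v1 : v ≠ 1)
    (hw : ∃ b c : R, 2 * b = 0 ∧ 2 * c = 0 ∧ w.1 = !![1 + b, c - b; c, 1 - b]) (w1 : w ≠ 1) :
    w ∈ closure ({r0, v} : Set (GL (Fin 2) R)) := by
  have h1 : r0 ∈ closure ({r0, v} : Set (GL (Fin 2) R)) := subset_closure (by simp)
  have h2 : v ∈ closure ({r0, v} : Set (GL (Fin 2) R)) := subset_closure (by simp)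
  have : w = v ∨ w = r0 * v * r0⁻¹ ∨ w = r0⁻¹ * v * r0 := by
    obtain ⟨b, c, a1, a2, a3⟩ := hv
    obtain ⟨d, e, a4, a5, a6⟩ := hw
    have n1 : ¬ (b = 0 ∧ c = 0) := fun ⟨x, y⟩ => v1 (Units.ext (by rw [a3, x, y]; simp [one_fin_two]))
    have n2 : ¬ (d = 0 ∧ e = 0) := fun ⟨x, y⟩ => w1 (Units.ext (by rw [a6, x, y]; simp [one_fin_two]))
    have h0 : 2 * h = 0 := by
      rcases hh b a1 with x | x
      · rcases hh c a2 with y | y
        · exact absurd ⟨x, y⟩ n1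
        · exact y ▸ a2
      · exact x ▸ a1
    have k1 : d = c - b → e = -b → w = r0 * v * r0⁻¹ := fun x y => Units.ext (by
      simp only [Units.val_mul, a3, a6, x, y, r0, Units.inv_mk, mul_fin_two]
      ext i j; fin_cases i <;> fin_cases j <;> simp <;> ring)
    have k2 : d = -c → e = b - c → w = r0⁻¹ * v * r0 := fun x y => Units.ext (by
      simp only [Units.val_mul, a3, a6, x, y, r0, Units.inv_mk, mul_fin_two]
      ext i j; fin_cases i <;> fin_cases j <;> simp <;> ring)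
    have k0 : d = b → e = c → w = v := fun x y => Units.ext (by rw [a3, a6, x, y])
    have hn : -h = h := by linear_combination -h0
    rcases hh b a1 with x | x <;> rcases hh c a2 with y | y <;> rcases hh d a4 with z | z <;>
      rcases hh e a5 with t | t <;> first
      | exact absurd (And.intro x y) n1
      | exact absurd (And.intro z t) n2
      | (refine Or.inl (k0 ?_ ?_) <;> simp only [x, y, z, t] <;> done)
      | (refine Or.inr (Or.inl (k1 ?_ ?_)) <;> simp only [x, y, z, t, hn, sub_zero, zero_sub, sub_self, neg_zero] <;> done)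
      | (refine Or.inr (Or.inr (k2 ?_ ?_)) <;> simp only [x, y, z, t, hn, sub_zero, zero_sub, sub_self, neg_zero] <;> done)
  rcases this with rfl | rfl | rfl
  · exact h2
  · exact mul_mem (mul_mem h1 h2) (inv_mem h1)
  · exact mul_mem (mul_mem (inv_mem h1) h2) h1

theorem conj3 (f : R →+* ZMod 2) (hf : ∀ x, f x = 1 → IsUnit x) (r : GL (Fin 2) R) (h1 : r ≠ 1) (h3 : r ^ 3 = 1) :
    ∃ g : GL (Fin 2) R, g * r * g⁻¹ = r0 := by
  have key : ∀ M : Matrix (Fin 2) (Fin 2) (ZMod 2), M ^ 3 = 1 →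
      (M * M + M + 1).det = 1 ∨ (M 1 0 = 1 ∧ (M - 1).det = 1) := by
    intro M
    rw [eta_fin_two M]
    generalize M 0 0 = a, M 0 1 = b, M 1 0 = c, M 1 1 = d
    revert a b c d
    decide
  have e3 : (r.1 - 1) * (r.1 * r.1 + r.1 + 1) = 0 := by
    have := congrArg Units.val h3
    rw [Units.val_pow_eq_pow_val, Units.val_one] at this
    rw [← sub_eq_zero.2 this]; noncomm_ring
  have hd : ∀ M : Matrix (Fin 2) (Fin 2) R, (f.mapMatrix M).det = 1 → IsUnit M := fun M h =>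
    (isUnit_iff_isUnit_det M).2 (hf _ (by rw [RingHom.map_det]; exact h))
  rcases key (f.mapMatrix r.1) (by rw [← map_pow, ← Units.val_pow_eq_pow_val, h3, Units.val_one, map_one]) with
    h | ⟨h, h'⟩
  · have := (hd (r.1 * r.1 + r.1 + 1) (by simpa only [map_add, map_mul, map_one] using h)).mul_left_eq_zero.1 e3
    exact absurd (Units.ext (sub_eq_zero.1 this)) h1
  · have e := (hd (r.1 - 1) (by simpa only [map_sub, map_one] using h')).mul_right_eq_zero.1 e3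
    obtain ⟨g, hg⟩ := hd !![1, r.1 0 0; 0, r.1 1 0] (by simpa [det_fin_two] using h)
    refine ⟨g⁻¹, ?_⟩
    rw [inv_inv, mul_assoc, inv_mul_eq_iff_eq_mul]
    have a := congrFun (congrFun e 0) 0
    have b := congrFun (congrFun e 1) 0
    simp [mul_apply, Fin.sum_univ_two] at a b
    ext i j
    simp only [Units.val_mul, hg, r0]
    fin_cases i <;> fin_cases j <;> simp [mul_apply, Fin.sum_univ_two]
    · linear_combination a
    · linear_combination b

/-- For k ≥ 2, any two subgroups of GL₂(ℤ/2ᵏℤ) (the automorphism group of the homocyclic group ℤ/2ᵏ × ℤ/2ᵏ) that are isomorphic to the alternating group of degree 4 are conjugate. -/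
theorem result (k : ℕ) (hk : 2 ≤ k) (H₁ H₂ : Subgroup (GL (Fin 2) (ZMod (2 ^ k)))) (h₁ : Nonempty (↥H₁ ≃* ↥(alternatingGroup (Fin 4)))) (h₂ : Nonempty (↥H₂ ≃* ↥(alternatingGroup (Fin 4)))) : ∃ g : GL (Fin 2) (ZMod (2 ^ k)), H₂ = H₁.map (MulAut.conj g).toMonoidHom := by
  obtain ⟨e₁⟩ := h₁
  obtain ⟨e₂⟩ := h₂
  obtain ⟨m, rfl⟩ : ∃ m, k = m + 1 := ⟨k - 1, by omega⟩
  let f : ZMod (2 ^ (m + 1)) →+* ZMod 2 := ZMod.castHom (dvd_pow_self 2 (by omega)) (ZMod 2)
  have hf : ∀ x, f x = 1 → IsUnit x := fun x hx => by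
    rw [← ZMod.natCast_zmod_val x, map_natCast, ZMod.natCast_eq_one_iff_odd] at hx
    rw [← ZMod.natCast_zmod_val x, ZMod.isUnit_iff_coprime]
    exact (Nat.coprime_two_right.2 hx).pow_right _
  obtain ⟨u, hu⟩ : ∃ u : ZMod (2 ^ (m + 1)), u * 3 = 1 := (hf 3 (by rw [map_ofNat]; rfl)).exists_left_inv
  have hh : ∀ x : ZMod (2 ^ (m + 1)), 2 * x = 0 → x = 0 ∨ x = 2 ^ m := fun x hx => by
    have h1 : 2 ^ (m + 1) ∣ 2 * x.val := by
      rw [← ZMod.natCast_eq_zero_iff]; push_cast; rwa [ZMod.natCast_zmod_val]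
    obtain ⟨c, hc⟩ := Nat.dvd_of_mul_dvd_mul_left two_pos ((pow_succ' 2 m).symm.dvd.trans h1)
    have h2 := (ZMod.val_lt x).trans_eq (pow_succ 2 m)
    rw [hc] at h2
    have h3 : c < 2 := Nat.lt_of_mul_lt_mul_left h2
    rw [← ZMod.natCast_zmod_val x, hc]
    interval_cases c <;> simp
  have key : ∀ H : Subgroup (GL (Fin 2) (ZMod (2 ^ (m + 1)))), H ≃* alternatingGroup (Fin 4) →
      ∃ g v, H.map (MulAut.conj g).toMonoidHom = closure {r0, v} ∧ v ≠ 1 ∧
        ∃ b c : ZMod (2 ^ (m + 1)), 2 * b = 0 ∧ 2 * c = 0 ∧ v.1 = !![1 + b, c - b; c, 1 - b] := fun H e => by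
    obtain ⟨r, v, a1, a2, a3, a4, a5, a6, rfl⟩ := a4 H e
    obtain ⟨g, hg⟩ := conj3 f hf r a1 a2
    refine ⟨g, g * v * g⁻¹, by rw [MonoidHom.map_closure, Set.image_pair, ← hg]; rfl, by simpa using a3,
      shape hu _ ?_ ?_ ?_⟩
    · rw [conj_mul, a4]; simp
    · rw [← hg]; have := congrArg (MulAut.conj g) a5; simpa [mul_assoc] using this
    · rw [← hg]; have := congrArg (MulAut.conj g) a6; simpa [mul_assoc] using this
  obtain ⟨g, v, a1, a2, a3⟩ := key H₁ e₁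
  obtain ⟨g', w, b1, b2, b3⟩ := key H₂ e₂
  have e : closure ({r0, v} : Set (GL (Fin 2) (ZMod (2 ^ (m + 1))))) = closure {r0, w} := by
    apply le_antisymm <;> rw [closure_le] <;> rintro x (rfl | rfl)
    · exact subset_closure (by simp)
    · exact clo hu hh _ _ b3 b2 a3 a2
    · exact subset_closure (by simp)
    · exact clo hu hh _ _ a3 a2 b3 b2
  refine ⟨g'⁻¹ * g, map_injective (f := (MulAut.conj g').toMonoidHom) (MulAut.conj g').injective ?_⟩
  rw [b1, ← e, ← a1, Subgroup.map_map]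
  congr 1
  ext x : 1
  simp [mul_assoc]

end Cfsg.Agent.S2874
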