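import Cfsg.Statements.S2879
import Cfsg.Agent.ABG.SL23
import Cfsg.Agent.PGrp.MaxClass

set_option autoImplicit false
open Cfsg

namespace Cfsg.Agent.S2879


open Cfsg.Agent.ABG Cfsg.Agent.BG Cfsg.Agent.PGrp Subgroup

/-- Let G be a finite solvable group with O(G) = 1 whose Sylow 2-subgroup T is dihedral of order at least 8 or semidihedral, with G ≠ T and Z(T) normal in G. Then G has a normal subgroup isomorphic to SL₂(3). -/
theorem result {G : Type*} [Group G] [Finite G] (hsol : IsSolvable G) (hO : Cfsg.oddCore G = ⊥) (T : Sylow 2 G) (hT : (∃ n : ℕ, 4 ≤ n ∧ Nonempty (↥(T : Subgroup G) ≃* DihedralGroup n)) ∨ Cfsg.IsQuasiDihedral ↥(T : Subgroup G)) (hne : (T : Subgroup G) ≠ ⊤) (hZ : ((T : Subgroup G) ⊓ Subgroup.centralizer ((T : Subgroup G) : Set G)).Normal) : ∃ U : Subgroup G, U.Normal ∧ Nonempty (↥U ≃* Matrix.SpecialLinearGroup (Fin 2) (ZMod 3)) := by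
  obtain ⟨a, x, n, h⟩ : IsMC T := hT.elim (fun ⟨n, hn, ⟨e⟩⟩ => isMC_of_dihedral T.2 e hn) isMC_of_qd
  have z2 : orderOf ((a ^ 2 ^ (n - 1) : T) : G) = 2 := (orderOf_coe _).trans h.orderOf_z
  rw [← map_subtype_center, h.center_eq, MonoidHom.map_zpowers] at hZ
  obtain ⟨U, h1, -, h2⟩ := sol_SL23 hsol hO (fun hG => hne (T.3 (hG.to_subgroup ⊤) le_top).symm) T (x := a)
    (by have := (relIndex_map_subtype _).trans h.idx; rw [MonoidHom.map_zpowers] at this; exact this.dvd)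
    (ne_bot_iff_exists_ne_one.2 ⟨⟨_, mem_center_iff.2 fun g => mul_inv_eq_iff_eq_mul.1
      (((Invol.mem_zpowers_invol (Invol.mul_self_of z2)).1 (hZ.conj_mem _ (mem_zpowers _) g)).resolve_left
      fun e => Invol.ne_one_of z2 (conj_eq_one_iff.1 e))⟩, fun e => Invol.ne_one_of z2 (congrArg Subtype.val e)⟩)
  exact ⟨U, h1, h2⟩

end Cfsg.Agent.S2879
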