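import Cfsg.Statements.S2880
import Cfsg.Agent.PGrp.ES
import Mathlib.Tactic.Group

set_option autoImplicit false
open Cfsg

namespace Cfsg.Agent.S2880
open scoped commutatorElement
open PGrp

/-- Let E be an extraspecial 2-group of order 2^(2m+1) of plus type, that is, containing an elementary abelian subgroup of order 2^(m+1) (equivalently, a central product of m dihedral groups of order 8). Then E has exactly 2^(2m) − 2^m elements of order 4. -/
theorem result {E : Type*} [Group E] [Finite E] (m : ℕ) (hm : 1 ≤ m) (hE : Cfsg.IsExtraspecial 2 E) (hcard : Nat.card E = 2 ^ (2 * m + 1)) (hplus : ∃ A : Subgroup E, Cfsg.IsElementaryAbelian 2 A ∧ Nat.card A = 2 ^ (m + 1)) : Nat.card {x : E // orderOf x = 4} = 2 ^ (2 * m) - 2 ^ m := by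
  obtain ⟨z, hz, hZ⟩ := exists_isES hE
  obtain ⟨A, hA, hc⟩ := hplus
  obtain ⟨m, rfl⟩ := Nat.exists_eq_add_of_le' hm
  have hk : hz.quad.WittIndex (m + 1) := (hz.wittIndex_cases hZ hcard).resolve_right fun u => by
    have := (hz.pRankLE_iff u).2 le_rfl A hA.1 hA.2
    rw [hc, Nat.pow_le_pow_iff_right one_lt_two] at this
    omega
  have h1 := hz.card_sq_plus hZ hcard hk
  have h2 : ∀ x : E, orderOf x = 4 ↔ ¬ x ^ 2 = 1 := fun x =>
    ⟨fun h e => by have := Nat.le_of_dvd two_pos (h ▸ orderOf_dvd_of_pow_eq_one e); omega, fun h =>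
      orderOf_eq_prime_pow (p := 2) (n := 1) h (by rw [pow_succ, pow_mul, pow_one]; exact hz.pow_eq_one (hz.pow x))⟩
  classical
  have := Fintype.ofFinite E
  simp only [h2]
  rw [Nat.card_eq_fintype_card] at hcard h1 ⊢
  rw [Fintype.card_subtype_compl, hcard, h1, pow_succ]
  omega

end Cfsg.Agent.S2880
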