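import Cfsg.Statements.S2881
import Cfsg.Agent.PGrp.ES
import Cfsg.Agent.Gen2.FixCount
import Mathlib.Tactic.Group

set_option autoImplicit false
open Cfsg

namespace Cfsg.Agent.S2881
open scoped commutatorElement

open Cfsg.Agent.PGrp Cfsg.Agent.Gen2 Subgroup MulAction

theorem arith (m : ℕ) (h1 : 2 ^ (2 * m + 1) % 5 = 2) (h2 : (2 ^ (2 * m) + 2 ^ m) % 5 = 2) : 4 ∣ m := by
  obtain ⟨k, r, hr, rfl⟩ : ∃ k r, r < 4 ∧ m = 4 * k + r := ⟨m / 4, m % 4, Nat.mod_lt _ (by norm_num), by omega⟩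
  have e : ∀ j, 2 ^ (4 * j) % 5 = 1 := fun j => by
    rw [pow_mul, Nat.pow_mod]; simp
  have a1 : 2 ^ (2 * (4 * k + r) + 1) = 2 ^ (4 * (2 * k)) * 2 ^ (2 * r + 1) := by rw [← pow_add]; congr 1; ring
  have a2 : 2 ^ (2 * (4 * k + r)) = 2 ^ (4 * (2 * k)) * 2 ^ (2 * r) := by rw [← pow_add]; congr 1; ring
  have a3 : 2 ^ (4 * k + r) = 2 ^ (4 * k) * 2 ^ r := by rw [← pow_add]
  rw [a1, Nat.mul_mod, e] at h1
  rw [a2, a3, Nat.add_mod, Nat.mul_mod, e, Nat.mul_mod (2 ^ (4 * k)), e] at h2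
  interval_cases r <;> simp at h1 h2 ⊢

/-- Let E be an extraspecial 2-group of order 2^(2m+1) of plus type (containing an elementary abelian subgroup of order 2^(m+1)), and let ω be an automorphism of E of order 5 whose fixed points are exactly the centre of E. Then m is divisible by 4. -/
theorem result {E : Type*} [Group E] [Finite E] (m : ℕ) (hm : 1 ≤ m) (hE : Cfsg.IsExtraspecial 2 E) (hcard : Nat.card E = 2 ^ (2 * m + 1)) (hplus : ∃ A : Subgroup E, Cfsg.IsElementaryAbelian 2 A ∧ Nat.card A = 2 ^ (m + 1)) (ω : E ≃* E) (hω : orderOf ω = 5) (hfix : ∀ x : E, ω x = x ↔ x ∈ Subgroup.center E) : 4 ∣ m := by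
  haveI : Fact (Nat.Prime 2) := ⟨Nat.prime_two⟩
  haveI : Fact (Nat.Prime 5) := ⟨Nat.prime_five⟩
  obtain ⟨z, h, hZ⟩ := exists_isES hE
  obtain ⟨m, rfl⟩ : ∃ k, m = k + 1 := ⟨m - 1, by omega⟩
  have hW : h.quad.WittIndex (m + 1) := by
    rcases h.wittIndex_cases hZ hcard with hk | hk
    · exact hk
    · exfalso
      obtain ⟨A, hA, hc⟩ := hplus
      have := (h.pRankLE_iff hk (n := m + 1)).2 le_rfl A hA.1 hA.2
      rw [hc] at this
      have := (Nat.pow_le_pow_iff_right (by norm_num)).1 this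
      omega
  have hsq := h.card_sq_plus hZ hcard hW
  let w : MulAut E := ω
  have hw : w ^ 5 ^ 1 = 1 := by
    have := pow_orderOf_eq_one ω
    rw [hω] at this
    exact this
  have hfx : fixedBy E w = (center E : Set E) := by
    ext x
    exact hfix x
  have hcz : (center E : Set E).ncard = 2 := by
    rw [hZ, ← Nat.card_coe_set_eq]
    exact h.card_zpowers
  have c1 := card_modEq_ncard_fixedBy (Ω := E) hw
  rw [hfx, hcz, hcard] at c1
  have c2 := ncard_modEq_inter_fixedBy (Ω := E) hw {x : E | x ^ 2 = 1} (fun b hb => by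
    show (ω b) ^ 2 = 1
    rw [← map_pow, show b ^ 2 = 1 from hb, map_one])
  have hi : {x : E | x ^ 2 = 1} ∩ fixedBy E w = (center E : Set E) := by
    rw [hfx]
    refine Set.inter_eq_right.2 fun x hx => ?_
    rw [hZ] at hx
    exact h.pow_eq_one hx
  rw [hi, hcz, ← Nat.card_coe_set_eq] at c2
  have c3 : Nat.card {x : E | x ^ 2 = 1} = 2 ^ (2 * (m + 1)) + 2 ^ (m + 1) := hsq
  rw [c3] at c2
  exact arith _ c1 c2

end Cfsg.Agent.S2881
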