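import Cfsg.Statements.S2882
import Cfsg.Agent.Golay.Classes

set_option autoImplicit false
open Cfsg

namespace Cfsg.Agent.S2882

open Cfsg.Agent.Comp Cfsg.Agent.Golay MulAction
open scoped Pointwise
set_option maxRecDepth 100000

theorem N_le : Subgroup.normalizer (P2 : Set MG) ≤ P2 := fun g hg => by
  refine ⟨⟨Subgroup.mem_centralizer_singleton_iff.2 (mul_inv_eq_iff_eq_mul.1 ?_), ?_⟩, ?_⟩
  · refine (center_P2 ((hg zA).1 zA_mem_P2) fun s hs => ?_).resolve_left (by simpa using zA_ne_one)
    have := Subgroup.mem_centralizer_singleton_iff.1 (inv_conj_mem_of_normalizer hg s hs).1.1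
    rw [show s * (g * zA * g⁻¹) = g * (g⁻¹ * s * g * zA) * g⁻¹ by group, this]; group
  · exact fix_of_unique ((ncard_trios_filter fun _ _ => Keyed.fix_iff_codes codes_P2 closure_P2).trans
      (by decide +kernel)) trio0_mem (fun s hs => hs.1.2) (inv_conj_mem_of_normalizer hg) (inv_trios g _ trio0_mem)
  · exact fix_of_unique ((ncard_sextets_filter fun _ _ => Keyed.fix_iff_codes codes_P2 closure_P2).trans
      (by decide +kernel)) (kSx_mem sext7_P) (fun s hs => hs.2) (inv_conj_mem_of_normalizer hg)
      (inv_sextets g _ (kSx_mem sext7_P))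

/-- In the Mathieu group of degree 24 (realised as the automorphism group of the extended binary Golay code) every Sylow 2-subgroup is self-normalizing. -/
theorem result (S : Sylow 2 ↥Cfsg.M24) : Subgroup.normalizer ((S : Subgroup ↥Cfsg.M24) : Set ↥Cfsg.M24) = (S : Subgroup ↥Cfsg.M24) := by
  obtain ⟨g, e⟩ := exists_conj_sylow card_P2 card_M24 (by norm_num) S
  rw [← e, ← map_conj_normalizer, N_le.antisymm Subgroup.le_normalizer]

end Cfsg.Agent.S2882
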