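import Cfsg.Statements.S3023
import Cfsg.Agent.Loc.SE

set_option autoImplicit false
open Cfsg

namespace Cfsg.Agent.S3023

section helpers
open Cfsg.Agent.Loc Subgroup
open scoped commutatorElement

theorem aux {G : Type*} [Group G] [Finite G] {p : ℕ} [Fact p.Prime] (hG : IsOfParabolicCharacteristic p G)
    (S : Sylow p G) (G₁ : Subgroup G) (hsn : G₁.IsSubnormal)
    (hle : ∀ z ∈ ((S : Subgroup G) ⊓ G₁) ⊓ centralizer (((S : Subgroup G) ⊓ G₁ : Subgroup G) : Set G), z ^ p = 1 →
      z ∈ centralizer ((S : Subgroup G) : Set G)) : IsOfParabolicCharacteristic p ↥G₁ := by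
  rw [parabolicCharP_iff] at hG
  rw [parabolicCharP_sub_iff]
  have hs := Sig.SubnIn.top_iff.2 hsn
  have hS := (sylIn_top S).inf_subnIn hs
  intro R T h0 h1 h2 h3 h4
  obtain ⟨g, hg, e⟩ := h3.exists_conj hS
  have h5 : (S : Subgroup G) ⊓ G₁ ≤ normalizer ((cj g R : Subgroup G) : Set G) := by
    rw [← e, ← cj_normalizer]; exact cj_mono g h4
  have h6 := isPGroup_cj g h1
  have h7 : cj g R ≤ (S : Subgroup G) ⊓ G₁ := hS.le_of_le_normalizer (cj_le_of_mem hg h0) h6 h5
  obtain ⟨z, hz, h8, h9⟩ := exists_pow_eq_one_of_isPGroup (h6.to_le inf_le_left)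
    (inf_centralizer_ne_bot hS.pg h6 h5 (by rwa [Ne, cj_eq_bot_iff]))
  have hp : IsPGroup p (zpowers z) := h6.to_le (zpowers_le.2 hz.1)
  have k1 := hG (zpowers z) S hp (by rwa [Ne, zpowers_eq_bot]) (sylIn_top S)
    (le_normalizer_of_le_centralizer (le_centralizer_iff.1 (zpowers_le.2 (hle z ⟨h7 hz.1, hz.2⟩ h9))))
  rw [chP_normalizer_iff hp] at k1
  have k2 := (k1.subnIn (hs.inf_of_le _ le_top)).inf_centralizer h6 (le_trans (le_inf (h7.trans inf_le_right)
    (le_centralizer_iff.1 (zpowers_le.2 (centralizer_anti h7 hz.2)))) le_normalizer)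
  rw [inf_assoc, inf_eq_right.2 (centralizer_anti (zpowers_le.2 hz.1)),
    ← chP_inf_normalizer_iff h6 (h7.trans inf_le_right)] at k2
  have := k2.conj g⁻¹
  rwa [cj_inf, cj_normalizer, cj_inv_cj, cj_eq_of_mem (G₁.inv_mem hg)] at this

end helpers

/-- Let p be a prime, G a finite group of parabolic characteristic p (every p-local subgroup containing a Sylow p-subgroup of G has characteristic p), S a Sylow p-subgroup of G and G₁ a subnormal subgroup of G. If the centre of S ∩ G₁ is nontrivial and contained in the centre of S, then G₁ has parabolic characteristic p. -/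
theorem result {G : Type*} [Group G] [Finite G] {p : ℕ} [Fact p.Prime] (hG : Cfsg.IsOfParabolicCharacteristic p G) (S : Sylow p G) (G₁ : Subgroup G) (hsn : G₁.IsSubnormal) (hne : ((S : Subgroup G) ⊓ G₁) ⊓ Subgroup.centralizer (((S : Subgroup G) ⊓ G₁ : Subgroup G) : Set G) ≠ ⊥) (hle : ((S : Subgroup G) ⊓ G₁) ⊓ Subgroup.centralizer (((S : Subgroup G) ⊓ G₁ : Subgroup G) : Set G) ≤ (S : Subgroup G) ⊓ Subgroup.centralizer ((S : Subgroup G) : Set G)) : Cfsg.IsOfParabolicCharacteristic p ↥G₁ := by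
  open Cfsg.Agent.Loc Subgroup in
  open scoped commutatorElement in
  exact aux hG S G₁ hsn fun z hz _ => (hle hz).2

end Cfsg.Agent.S3023
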