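import Cfsg.Statements.S2933
import Cfsg.Agent.Elu.Sg4

set_option autoImplicit false
open Cfsg

namespace Cfsg.Agent.S2933

/-- Let T be a 2-subgroup of a finite group G, V ≤ Z(T) a four-group, and t, ρ ∈ N_G(V) ∩ N_G(T) elements of order 2 and 3 with t commuting with ρ and with V. If [V, ρ] = V and C_T(t) = V, then T is elementary abelian of order 16, or homocyclic of rank 2 (ℤ/2ⁿ × ℤ/2ⁿ for some n ≥ 1), or isomorphic to a Sylow 2-subgroup of PSL₃(4) or of PSU₃(4). -/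
theorem result {G : Type*} [Group G] [Finite G] (T V : Subgroup G) (hT : IsPGroup 2 ↥T) (hVT : V ≤ T ⊓ Subgroup.centralizer (T : Set G)) (hV : Nat.card ↥V = 4 ∧ ∀ v ∈ V, v ^ 2 = 1) (t ρ : G) (ht : orderOf t = 2) (hρ : orderOf ρ = 3) (htn : t ∈ Subgroup.normalizer (V : Set G) ⊓ Subgroup.normalizer (T : Set G)) (hρn : ρ ∈ Subgroup.normalizer (V : Set G) ⊓ Subgroup.normalizer (T : Set G)) (htρ : t * ρ = ρ * t) (htV : t ∈ Subgroup.centralizer (V : Set G)) (hVρ : ⁅V, Subgroup.zpowers ρ⁆ = V) (hCt : T ⊓ Subgroup.centralizer ({t} : Set G) = V) : (Nat.card ↥T = 16 ∧ ∀ x ∈ T, x ^ 2 = 1) ∨ (∃ n : ℕ, 1 ≤ n ∧ Nonempty (↥T ≃* Multiplicative (ZMod (2 ^ n)) × Multiplicative (ZMod (2 ^ n)))) ∨ (∃ (F : Type) (_ : Field F) (_ : Fintype F), Fintype.card F = 4 ∧ ∀ P : Sylow 2 (Matrix.ProjectiveSpecialLinearGroup (Fin 3) F), Nonempty (↥T ≃* ↥(P : Subgroup (Matrix.ProjectiveSpecialLinearGroup (Fin 3) F)))) ∨ (∃ (F : Type) (_ : Field F) (_ : Fintype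 F), Fintype.card F = 16 ∧ ∀ P : Sylow 2 (Cfsg.PSU 3 F 4), Nonempty (↥T ≃* ↥(P : Subgroup (Cfsg.PSU 3 F 4)))) := by
  classical
  let α : MulAut T := T.normalizerMonoidHom ⟨t, htn.2⟩
  let σ : MulAut T := T.normalizerMonoidHom ⟨ρ, hρn.2⟩
  have hα : ∀ x : T, (α x : G) = t * x * t⁻¹ := fun x => rfl
  have hσ : ∀ x : T, (σ x : G) = ρ * x * ρ⁻¹ := fun x => rfl
  have r3 : σ ^ 3 = 1 := by
    rw [← map_pow, show (⟨ρ, hρn.2⟩ : Subgroup.normalizer (T : Set G)) ^ 3 = 1 from Subtype.ext (hρ ▸ pow_orderOf_eq_one ρ), map_one]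
  let C := V.subgroupOf T
  have cC : Nat.card C = 4 := (Nat.card_congr (Subgroup.subgroupOfEquivOfLe (hVT.trans inf_le_left)).toEquiv).trans hV.1
  have : IsMulCommutative C := ⟨⟨fun a b => Subtype.ext (Subtype.ext ((hVT b.2).2 _ a.1.2))⟩⟩
  have sC : ∀ x ∈ C, σ x ∈ C := fun x hx => (Subgroup.mem_normalizer_iff.1 hρn.1 _).1 hx
  have fpf : ∀ x ∈ C, σ x = x → x = 1 := by
    have := Fintype.ofFinite C
    let f : Function.End C := fun x => ⟨σ x, sC _ x.2⟩
    have := Equiv.Perm.card_fixedPoints_modEq (f := f) (p := 3) (n := 1) (funext fun x => Subtype.ext (DFunLike.congr_fun r3 x.1))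
    rw [← Nat.card_eq_fintype_card, cC] at this
    have le : Fintype.card f.fixedPoints ≤ 4 := cC ▸ Nat.card_eq_fintype_card (α := C) ▸ Fintype.card_subtype_le _
    have ne : Fintype.card f.fixedPoints ≠ 4 := fun e => by
      have e1 : ∀ x : C, f x = x := fun x => (Set.eq_univ_iff_forall.1 ((set_fintype_card_eq_univ_iff _).1
        (e.trans (cC.symm.trans Nat.card_eq_fintype_card))) x)
      have : V = ⊥ := hVρ.symm.trans (Subgroup.commutator_eq_bot_iff_le_centralizer.2 fun v hv => by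
        rintro _ ⟨k, rfl⟩
        exact Commute.zpow_left (mul_inv_eq_iff_eq_mul.1 (congrArg (fun y : C => (y : G)) (e1 ⟨⟨v, (hVT hv).1⟩, hv⟩))) k)
      rw [this, Subgroup.card_bot] at hV; omega
    have e1 : Fintype.card f.fixedPoints ≤ 1 := by unfold Nat.ModEq at this; omega
    exact fun x hx e => congrArg (fun y : f.fixedPoints => (y : T)) (Fintype.card_le_one_iff.1 e1 ⟨⟨x, hx⟩, Subtype.ext e⟩
      ⟨1, Subtype.ext (map_one σ)⟩)
  obtain ⟨K, _, _, D, hK, h, hD⟩ := Elu.Sg.exists_good hT (n := 2) one_le_two α σ (by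
      rw [← map_mul, show (⟨t, htn.2⟩ : Subgroup.normalizer (T : Set G)) * ⟨t, htn.2⟩ = 1 from
        Subtype.ext ((pow_two t).symm.trans (ht ▸ pow_orderOf_eq_one t)), map_one]) r3
    (Commute.map (show Commute (⟨t, htn.2⟩ : Subgroup.normalizer (T : Set G)) ⟨ρ, hρn.2⟩ from Subtype.ext htρ) _) C (fun x => by
      rw [Subgroup.mem_subgroupOf, ← hCt, Subtype.ext_iff, hα, mul_inv_eq_iff_eq_mul, Subgroup.mem_inf,
        Subgroup.mem_centralizer_singleton_iff, eq_comm]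
      exact and_iff_right x.2) (fun x hx => Subtype.ext (hV.2 x hx)) cC (fun x y hx hy x1 y1 => by
      have := Fintype.ofFinite C
      have n1 : σ x ≠ x := fun e => x1 (fpf x hx e)
      have n2 : σ (σ x) ≠ x := fun e => n1 (by
        have := DFunLike.congr_fun r3 x
        rw [pow_three] at this
        exact (congrArg σ e).symm.trans this)
      have : ({1, ⟨x, hx⟩, ⟨σ x, sC _ hx⟩, ⟨σ (σ x), sC _ (sC _ hx)⟩} : Finset C) = Finset.univ := Finset.eq_univ_of_card _ (by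
        rw [← Nat.card_eq_fintype_card, cC, Finset.card_insert_of_notMem (by simp [Subtype.ext_iff (p := (· ∈ C)), eq_comm (a := (1 : T)), x1]),
          Finset.card_insert_of_notMem (by simp [n1.symm, n2.symm]), Finset.card_pair (by simp [n1.symm])])
      have := this.ge (Finset.mem_univ ⟨y, hy⟩)
      simp only [Finset.mem_insert, Finset.mem_singleton, Subtype.ext_iff (p := (· ∈ C))] at this
      rcases this with e | e | e | e
      exacts [absurd e y1, ⟨0, e.symm⟩, ⟨1, e.symm⟩, ⟨2, e.symm⟩])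
  have : CharP K 2 := charP_of_card_eq_prime_pow hK
  by_cases hab : ∀ x y : T, x * y = y * x
  · let _ : CommGroup T := { (inferInstance : Group T) with mul_comm := hab }
    rcases h.abelian_four hK (hD ▸ cC) with e | e
    · exact Or.inl ⟨e.1, fun x hx => congrArg Subtype.val (e.2 ⟨x, hx⟩)⟩
    · exact Or.inr (Or.inl e)
  obtain ⟨k, k0, k1, -⟩ := Elu.Sg.exists_omega hK
  obtain ⟨A, B, ψ, hψ⟩ := h.exists_model (k := k) (by rw [← mul_add_one]; exact mul_ne_zero k0 k1) hab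
  rcases Elu.Sg.model_iso le_rfl hK ψ hψ with ⟨F, _, _, hF, S, ⟨e⟩⟩ | ⟨S, ⟨e⟩⟩
  · exact Or.inr (Or.inr (Or.inr ⟨F, inferInstance, inferInstance, hF, fun P => ⟨e.trans (S.equiv P)⟩⟩))
  · exact Or.inr (Or.inr (Or.inl ⟨K, inferInstance, inferInstance, hK, fun P => ⟨e.trans (S.equiv P)⟩⟩))

end Cfsg.Agent.S2933
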