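import Cfsg.Statements.S2934
import Cfsg.Agent.Transfer.Hol
import Cfsg.Agent.BG.S3Gen
import Cfsg.Agent.BG.S4
import Cfsg.Agent.Invol.OddAut
import Cfsg.Agent.PGrp.ES
import Cfsg.Agent.PGrp.Cyclic
import Cfsg.Agent.S3742
import Cfsg.Agent.Small.AssaA

set_option autoImplicit false
open Cfsg

namespace Cfsg.Agent.S2934

open Subgroup Cfsg.Agent.Transfer Cfsg.Agent.Invol Cfsg.Agent.Small.Assa SemidirectProduct
open scoped commutatorElement

variable {W : Type*} [Group W]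

def Fx (e : MulAut W) : Subgroup W := e.toMonoidHom.eqLocus (MonoidHom.id W)

theorem mem_Fx {e : MulAut W} {x : W} : x ∈ Fx e ↔ e x = x := Iff.rfl

def res {E : Subgroup (MulAut W)} {U : Subgroup W} (hU : ∀ e ∈ E, ∀ u ∈ U, e u ∈ U) : E →* MulAut U where
  toFun e := {
    toFun := fun u => ⟨e.1 u, hU _ e.2 _ u.2⟩
    invFun := fun u => ⟨e.1⁻¹ u, hU _ (inv_mem e.2) _ u.2⟩
    left_inv := fun u => Subtype.ext (e.1.symm_apply_apply _)
    right_inv := fun u => Subtype.ext (e.1.apply_symm_apply _)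
    map_mul' := fun a b => Subtype.ext (map_mul e.1 _ _) }
  map_one' := rfl
  map_mul' _ _ := rfl

theorem mem_ker {E : Subgroup (MulAut W)} {U : Subgroup W} (hU : ∀ e ∈ E, ∀ u ∈ U, e u ∈ U) {e : E} :
    e ∈ (res hU).ker ↔ U ≤ Fx e :=
  ⟨fun h u hu => congrArg (fun f : MulAut U => (f ⟨u, hu⟩).1) (MonoidHom.mem_ker.1 h),
    fun h => MulEquiv.ext fun u => Subtype.ext (h u.2)⟩

variable [Finite W]

theorem gen {E : Subgroup (MulAut W)} (hab : IsMulCommutative E) (hnc : ¬ IsCyclic E) {U L : Subgroup W}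
    (hc : (Nat.card U).Coprime (Nat.card E)) (hU : ∀ e ∈ E, ∀ u ∈ U, e u ∈ U)
    (h : ∀ e ∈ E, e ≠ 1 → U ⊓ Fx e ≤ L) : U ≤ L := by
  refine (sdL_le_sdL (MonoidHom.id (MulAut W))).1 (BG.coprime_abelian_gen_cent1 (A := sdR _ E) inferInstance
    (fun hc => hnc ((E.equivMapOfInjective _ inr_injective).isCyclic.2 hc)) ((sdR_le_normalizer _).2 hU)
    (by rwa [card_sdL, card_sdR]) ?_)
  rintro _ ⟨e, he, rfl⟩ h1 _ ⟨⟨u, hu, rfl⟩, h2⟩
  exact mem_map_of_mem _ (h e he (by rintro rfl; exact h1 (map_one _))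
    ⟨hu, (inr_mul_inl_eq_iff _).1 (mem_centralizer_singleton_iff.1 h2).symm⟩)

theorem card_sup_le {Z H K : Subgroup W} [K.Normal] (h1 : Z ≤ H) (h2 : Z ≤ K) :
    Nat.card (H ⊔ K : Subgroup W) * Nat.card Z ≤ Nat.card H * Nat.card K := by
  have e1 := relIndex_mul_relIndex ⊥ K (H ⊔ K) bot_le le_sup_right
  have e2 := relIndex_mul_relIndex ⊥ Z H bot_le h1
  simp only [relIndex_bot_left, relIndex_sup_right] at e1 e2
  have : K.relIndex H ≤ Z.relIndex H := relIndex_le_of_le_left h2 index_ne_zero_of_finite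
  rw [← e1, ← e2]
  calc _ = Nat.card Z * K.relIndex H * Nat.card K := by ring
    _ ≤ _ := by gcongr

set_option maxHeartbeats 400000 in

/-- Let p be an odd prime, W a finite 2-group and E a non-cyclic abelian p-subgroup of Aut(W) such that, for every nontrivial e ∈ E, the fixed points of e in W contain at most one involution. Then E has order 9, W is extraspecial of order 2⁵, 2⁷ or 2⁹, and the common fixed points of E in W form exactly the centre Z(W). -/
theorem result {W : Type*} [Group W] [Finite W] (hW : IsPGroup 2 W) {p : ℕ} [Fact p.Prime] (hp : p ≠ 2) (E : Subgroup (MulAut W)) (hE : IsPGroup p ↥E) (hab : IsMulCommutative ↥E) (hnc : ¬ IsCyclic ↥E) (hfix : ∀ e ∈ E, e ≠ 1 → ∀ x y : W, orderOf x = 2 → orderOf y = 2 → e x = x → e y = y → x = y) : Nat.card ↥E = 9 ∧ Cfsg.IsExtraspecial 2 W ∧ (Nat.card W = 2 ^ 5 ∨ Nat.card W = 2 ^ 7 ∨ Nat.card W = 2 ^ 9) ∧ {x : W | ∀ e ∈ E, e x = x} = (Subgroup.center W : Set W) := by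
  classical
  obtain ⟨F, mF⟩ : ∃ F : Subgroup W, ∀ x, x ∈ F ↔ ∀ e ∈ E, e x = x :=
    ⟨⨅ e : E, Fx e, fun x => mem_iInf.trans Subtype.forall⟩
  have od : ∀ e : E, Odd (orderOf e) := fun e => by
    obtain ⟨k, hk⟩ := hE.exists_orderOf_eq_pow e
    rw [hk]; exact (Nat.Prime.odd_of_ne_two Fact.out hp).pow
  have cop : ∀ U : Subgroup W, (Nat.card U).Coprime (Nat.card E) := fun U =>
    IsPGroup.coprime_card_of_ne 2 p hp.symm _ _ (hW.to_subgroup U) hE
  have inv : ∀ e ∈ E, ∀ f ∈ E, ∀ u ∈ Fx e, f u ∈ Fx e := fun e he f hf u hu => by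
    have : e * f = f * e := congrArg Subtype.val (hab.is_comm.comm ⟨e, he⟩ ⟨f, hf⟩)
    rw [mem_Fx, ← MulAut.mul_apply, this, MulAut.mul_apply, mem_Fx.1 hu]
  have dich : ∀ e ∈ E, e ≠ 1 → ∀ U ≤ Fx e, (∀ f ∈ E, ∀ u ∈ U, f u ∈ U) → ¬ U ≤ F →
      Nonempty (U ≃* QuaternionGroup 2) := fun e he h1 U hU hi hn => by
    have u2 : ∀ x y : U, orderOf x = 2 → orderOf y = 2 → x = y := fun x y hx hy =>
      Subtype.ext (hfix e he h1 _ _ (by rwa [orderOf_coe]) (by rwa [orderOf_coe]) (hU x.2) (hU y.2))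
    obtain ⟨c, hc⟩ : ∃ c : U, (zpowers c).index ∣ 2 := by
      rcases PGrp.isCyclic_or_quaternion (hW.to_subgroup U) (fun H K hH hK => by
        obtain ⟨x, rfl⟩ := (H.isCyclic_iff_exists_zpowers_eq_top).1 (isCyclic_of_prime_card hH)
        obtain ⟨y, rfl⟩ := (K.isCyclic_iff_exists_zpowers_eq_top).1 (isCyclic_of_prime_card hK)
        rw [Nat.card_zpowers] at hH hK
        rw [u2 x y hH hK]) with h | ⟨-, n, hn, ⟨f⟩⟩
      · obtain ⟨c, hc⟩ := _root_.isCyclic_iff_exists_zpowers_eq_top.1 h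
        exact ⟨c, by simp [hc]⟩
      · refine ⟨f.symm (.a 1), ?_⟩
        have := (zpowers (f.symm (.a 1))).card_mul_index
        rw [Nat.card_zpowers, MulEquiv.orderOf_eq, QuaternionGroup.orderOf_a_one, Nat.card_congr f.toEquiv,
          Nat.card_eq_fintype_card, QuaternionGroup.card] at this
        rw [Nat.eq_of_mul_eq_mul_left (show 0 < 2 * 2 ^ n by positivity) (this.trans (by ring : _ = 2 * 2 ^ n * 2))]
    obtain ⟨x, hx, hx'⟩ := SetLike.not_le_iff_exists.1 hn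
    obtain ⟨f, hf, hf'⟩ : ∃ f ∈ E, f x ≠ x := by simpa [mF] using hx'
    refine (four_or_quat_of_cyclic_index (hW.to_subgroup U) hc (oddEnd_of_mulAut (α := res hi ⟨f, hf⟩)
      ((od _).of_dvd_nat (orderOf_map_dvd _ _))) ⟨⟨x, hx⟩, fun e => hf' (congrArg Subtype.val e)⟩).resolve_left
      fun h4 => ?_
    have := Nat.card_le_card_of_injective (fun x : U => decide (x = 1)) fun x y e => by
      by_cases hx : x = 1
      · simpa [hx, eq_comm] using e
      · have hy : y ≠ 1 := by simpa [hx] using e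
        exact u2 x y (orderOf_eq_prime (by rw [← h4.exponent_two]; exact Monoid.pow_exponent_eq_one x) hx)
          (orderOf_eq_prime (by rw [← h4.exponent_two]; exact Monoid.pow_exponent_eq_one y) hy)
    rw [h4.card_four] at this; simp at this
  have c8 : ∀ e ∈ E, e ≠ 1 → ¬ Fx e ≤ F → Nat.card (Fx e) = 8 := fun e he h1 hn => by
    obtain ⟨f⟩ := dich e he h1 _ le_rfl (inv e he) hn
    rw [Nat.card_congr f.toEquiv, Nat.card_eq_fintype_card, QuaternionGroup.card]
  have ab : ∀ U : Subgroup W, (∀ f ∈ E, ∀ u ∈ U, f u ∈ U) → IsMulCommutative U → U ≤ F := fun U hi hc =>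
    gen hab hnc (cop U) hi fun e he h1 => by_contra fun hn => by
      obtain ⟨f⟩ := dich e he h1 _ inf_le_right (fun f hf u hu => ⟨hi f hf u hu.1, inv e he f hf u hu.2⟩) hn
      obtain ⟨i, j, h⟩ := exists_quat f
      exact h.not_commute (congrArg Subtype.val (hc.is_comm.comm ⟨i, h.i_mem.1⟩ ⟨j, h.j_mem.1⟩))
  have ch : ∀ (U : Subgroup W) [U.Characteristic], IsMulCommutative U → U ≤ F := fun U _ =>
    ab U fun f _ u hu => characteristic_iff_le_comap.1 inferInstance f hu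
  have nF : ¬ ⊤ ≤ F := fun h => hnc (by
    haveI : Subsingleton E := ⟨fun a b => Subtype.ext (MulEquiv.ext fun x => by
      rw [(mF x).1 (h trivial) a a.2, (mF x).1 (h trivial) b b.2])⟩
    infer_instance)
  have top := fun L => gen hab hnc (cop ⊤) (L := L) fun _ _ _ _ => trivial
  have i3 : ∀ e (he : e ∈ E), e ≠ 1 → ¬ Fx e ≤ F → p = 3 ∧ (res (inv e he)).ker.index = 3 := fun e he h1 hn => by
    obtain ⟨f⟩ := dich e he h1 _ le_rfl (inv e he) hn
    obtain ⟨g⟩ := S3742.result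
    obtain ⟨k, hk⟩ := hE.index (res (inv e he)).ker
    have h24 := card_subgroup_dvd_card (res (inv e he)).range
    rw [← index_ker, hk, Nat.card_congr ((MulAut.congr f).trans g).toEquiv, Nat.card_perm, Nat.card_fin] at h24
    have k0 : k ≠ 0 := by
      rintro rfl
      rw [pow_zero, index_eq_one] at hk
      exact hn fun x hx => (mF x).2 fun f hf => (mem_ker (inv e he) (e := ⟨f, hf⟩)).1 (hk.ge trivial) hx
    rw [show Nat.factorial 4 = 2 ^ 3 * 3 from rfl] at h24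
    have h3 : p ^ k ∣ 3 := Nat.Coprime.dvd_of_dvd_mul_left
      (Nat.Coprime.pow _ _ ((Nat.coprime_primes Fact.out Nat.prime_two).2 hp)) h24
    have := ((Nat.dvd_prime Nat.prime_three).1 h3).resolve_left (Nat.one_lt_pow k0 (Fact.out : p.Prime).one_lt).ne'
    exact ⟨(Nat.prime_dvd_prime_iff_eq Fact.out Nat.prime_three).1 ((dvd_pow_self p k0).trans h3), hk.trans this⟩
  obtain ⟨a, ha, a1, ha'⟩ : ∃ a ∈ E, a ≠ 1 ∧ ¬ Fx a ≤ F := by
    by_contra! H; exact nF (top F fun e he h1 => inf_le_right.trans (H e he h1))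
  obtain ⟨rfl, ia⟩ := i3 a ha a1 ha'
  have FF : ∀ e ∈ E, F ≤ Fx e := fun e he x hx => (mF x).1 hx e he
  obtain ⟨b, hb, b1, hb'⟩ : ∃ b ∈ E, b ≠ 1 ∧ ¬ Fx b ≤ Fx a := by
    by_contra! H
    have h1 := top _ fun e he h1 => inf_le_right.trans (H e he h1)
    rw [show (res (inv a ha)).ker = ⊥ from eq_bot_iff.2 fun e he => Subtype.ext (MulEquiv.ext fun x =>
      (mem_ker _).1 he (h1 trivial)), index_bot] at ia
    exact hnc (isCyclic_of_prime_card ia)
  have hb2 : ¬ Fx b ≤ F := fun h => hb' (h.trans (FF a ha))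
  have ib := (i3 b hb b1 hb2).2
  have dj : (res (inv a ha)).ker ⊓ (res (inv b hb)).ker = ⊥ := eq_bot_iff.2 fun e he => by_contra fun h1 => by
    have h2 := (mem_ker _).1 he.1
    have h3 := c8 e e.2 (fun h => h1 (Subtype.ext h)) fun h => ha' (h2.trans h)
    exact hb' (((mem_ker _).1 he.2).trans (eq_of_le_of_card_ge h2 (by rw [h3, c8 a ha a1 ha'])).ge)
  have c9 : Nat.card E = 9 := by
    have h1 := index_inf_le (H := (res (inv a ha)).ker) (K := (res (inv b hb)).ker)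
    rw [dj, index_bot, ia, ib] at h1
    obtain ⟨k, hk⟩ := hE.exists_card_eq
    have : k ≤ 2 := (Nat.pow_le_pow_iff_right (by omega)).1 (hk ▸ h1)
    interval_cases k
    · haveI := (Nat.card_eq_one_iff_unique.1 hk).1; exact (hnc inferInstance).elim
    · exact absurd (isCyclic_of_prime_card hk) hnc
    · exact hk
  -- `F` is the centre
  haveI : Nontrivial W := by
    by_contra h; rw [not_nontrivial_iff_subsingleton] at h; exact nF fun x _ => Subsingleton.elim 1 x ▸ one_mem _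
  have zF : center W ≤ F := ch _ inferInstance
  have c2 : Nat.card F ≤ 2 := by
    have h1 := relIndex_mul_relIndex ⊥ F (Fx a) bot_le (FF a ha)
    rw [relIndex_bot_left, relIndex_bot_left, c8 a ha a1 ha'] at h1
    by_contra h2
    have h3 : F.relIndex (Fx a) = 2 := by
      have : F.relIndex (Fx a) ≠ 1 := fun h => ha' (relIndex_eq_one.1 h)
      have : F.relIndex (Fx a) ≤ 2 := by nlinarith
      have : F.relIndex (Fx a) ≠ 0 := index_ne_zero_of_finite
      omega
    refine ha' fun x hx => (mF x).2 fun f hf => ?_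
    have h4 : x⁻¹ * f x ∈ F := (mul_mem_iff_of_index_two (H := F.subgroupOf (Fx a)) h3 (a := ⟨x⁻¹, inv_mem hx⟩)
      (b := ⟨f x, inv a ha f hf x hx⟩)).2 (by
        simp only [mem_subgroupOf, inv_mem_iff]
        exact ⟨fun h => by rwa [(mF x).1 h f hf], fun h => by
          have := (mF _).1 h f⁻¹ (inv_mem hf); rw [MulAut.inv_apply_self] at this; rwa [this]⟩)
    obtain ⟨k, hk⟩ := hW (x⁻¹ * f x)
    exact (oddEnd_of_mulAut (α := f) (orderOf_coe (⟨f, hf⟩ : E) ▸ od _)).fix_of_mul hk ((mF _).1 h4 f hf)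
      (mul_inv_cancel_left _ _).symm
  have cz : Nat.card (center W) = 2 := by
    have := card_le_of_le zF
    haveI := hW.center_nontrivial
    have := Finite.one_lt_card (α := center W)
    omega
  have eF : F = center W := (eq_of_le_of_card_ge zF (by omega)).symm
  obtain ⟨z, hz⟩ : ∃ z, center W = zpowers z := by
    obtain ⟨z, hz⟩ := (center W).isCyclic_iff_exists_zpowers_eq_top.1 (isCyclic_of_prime_card cz)
    exact ⟨z, hz.symm⟩
  have oz : orderOf z = 2 := by rw [← Nat.card_zpowers, ← hz, cz]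
  have z2 : ∀ x ∈ center W, x ^ 2 = 1 := fun x hx => by
    rw [← cz]; exact congrArg Subtype.val (pow_card_eq_one' (x := (⟨x, hx⟩ : center W)))
  haveI := hW.isNilpotent
  have m2 : ∀ x, x ∈ Subgroup.upperCentralSeries W 2 ↔ ∀ y, ⁅x, y⁆ ∈ center W := fun x => by
    rw [Subgroup.mem_upperCentralSeries_succ_iff, Subgroup.upperCentralSeries_one]
  have s2 : ∀ x ∈ Subgroup.upperCentralSeries W 2, x ^ 2 ∈ center W := fun x hx => mem_center_iff.2 fun y => by
    have h1 := (m2 x).1 hx y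
    have := z2 _ h1
    rw [eq_comm, ← commutatorElement_eq_one_iff_mul_comm, ← this]
    calc _ = x * ⁅x, y⁆ * x⁻¹ * ⁅x, y⁆ := by simp only [commutatorElement_def, pow_two]; group
      _ = _ := by rw [mem_center_iff.1 h1 x, mul_inv_cancel_right, pow_two]
  set Z2 := Subgroup.upperCentralSeries W 2
  have zz : z ∈ center W := hz ▸ mem_zpowers z
  have zZ : center W ≤ Z2 := fun x hx => (m2 x).2 fun y => by
    rw [commutatorElement_eq_one_iff_mul_comm.2 (mem_center_iff.1 hx y).symm]; exact one_mem _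
  have hC : Z2 ⊓ centralizer Z2 ≤ center W := eF ▸ ch _ ⟨⟨fun x y => Subtype.ext (y.2.2 x x.2.1)⟩⟩
  have st : ∀ (N : Subgroup W) [N.Normal], Z2 ⊓ N ≤ center W → N ≤ center W := fun N _ h => by_contra fun hn => by
    obtain ⟨x, h1, h2, h3⟩ := exists_step hn
    exact h2 (h ⟨(m2 x).2 h3, h1⟩)
  have mz : ∀ x : Z2, x.1 ∈ center W → x ∈ zpowers (⟨z, zZ zz⟩ : Z2) := fun x hx => by
    obtain ⟨k, hk⟩ := hz.le hx; exact ⟨k, Subtype.ext hk⟩
  have es : IsExtraspecial 2 Z2 := PGrp.IsES.isExtraspecial (z := ⟨z, zZ zz⟩)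
    ⟨by rw [← orderOf_coe, oz], mem_center_iff.2 fun g => Subtype.ext (mem_center_iff.1 zz g),
      fun x y => mz _ ((m2 _).1 x.2 y), fun x => mz _ (s2 _ x.2)⟩
    (le_antisymm (fun x hx => mz x (hC ⟨x.2, fun y hy => congrArg Subtype.val (mem_center_iff.1 hx ⟨y, hy⟩)⟩))
      (zpowers_le.2 (mem_center_iff.2 fun g => Subtype.ext (mem_center_iff.1 zz g))))
    fun h => nF (eF ▸ st ⊤ (inf_le_left.trans (eF ▸ ch _ h)))
  have t2 : Z2 = ⊤ := by
    have h1 := BG4.extraspecial_iff.1 es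
    have := (BG.critical_extraspecial (R := ⊤) (hW.to_subgroup _) le_top es (by
      rw [h1.2.2.1, commutator_le]
      exact fun x hx y _ => ⟨zZ ((m2 x).1 hx y), center_le_centralizer _ ((m2 x).1 hx y)⟩)).sup
    rw [← this, top_inf_eq, sup_eq_left.2 ((st _ hC).trans zZ)]
  have es' : IsExtraspecial 2 W := PGrp.ES_of_mulEquiv es ((MulEquiv.subgroupCongr t2).trans topEquiv)
  refine ⟨c9, es', ?_, by rw [← eF]; exact Set.ext fun x => (mF x).symm⟩
  have zf : ∀ e ∈ E, center W ≤ Fx e := fun e he => eF ▸ FF e he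
  have nm : ∀ N : Subgroup W, center W ≤ N → N.Normal := fun N h => ⟨fun x hx g => by
    simpa [commutatorElement_def] using mul_mem (h ((m2 g).1 (t2 ▸ mem_top g) x)) hx⟩
  have l8 : ∀ e ∈ E, e ≠ 1 → Nat.card (Fx e) ≤ 8 := fun e he h1 => by
    by_cases h : Fx e ≤ F
    · have := card_le_of_le h; omega
    · exact (c8 e he h1 h).le
  have ka : Nat.card (res (inv a ha)).ker = 3 := by
    have := (res (inv a ha)).ker.card_mul_index; rw [ia, c9] at this; omega
  have kb : Nat.card (res (inv b hb)).ker = 3 := by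
    have := (res (inv b hb)).ker.card_mul_index; rw [ib, c9] at this; omega
  have m3 : ∀ {K : Subgroup E} {a : E}, Nat.card K = 3 → a ∈ K → a ≠ 1 → a ^ 3 = 1 ∧ ∀ x ∈ K, x = 1 ∨ x = a ∨ x = a ^ 2 :=
    fun {K a} hK ha h1 => by
      have o3 : orderOf (⟨a, ha⟩ : K) = 3 := orderOf_eq_card_of_forall_mem_zpowers (fun x =>
        mem_zpowers_of_prime_card hK fun h => h1 (congrArg Subtype.val h)) |>.trans hK
      refine ⟨by rw [← o3, ← orderOf_coe]; exact pow_orderOf_eq_one a, fun x hx => ?_⟩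
      obtain ⟨k, hk, e⟩ := (mem_zpowers_iff_mem_range_orderOf.trans Finset.mem_image).1
        (mem_zpowers_of_prime_card (g' := ⟨x, hx⟩) (g := ⟨a, ha⟩) hK fun h => h1 (congrArg Subtype.val h))
      rw [o3, Finset.mem_range] at hk
      have e := congrArg Subtype.val e
      interval_cases k <;> simp at e <;> simp [← e]
  obtain ⟨a3, ma⟩ := m3 (a := ⟨a, ha⟩) ka ((mem_ker _).2 le_rfl) fun h => a1 (congrArg Subtype.val h)
  obtain ⟨b3, mb⟩ := m3 (a := ⟨b, hb⟩) kb ((mem_ker _).2 le_rfl) fun h => b1 (congrArg Subtype.val h)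
  have a3 : a ^ 3 = 1 := congrArg Subtype.val a3
  have b3 : b ^ 3 = 1 := congrArg Subtype.val b3
  have cab : Commute a b := congrArg Subtype.val (hab.is_comm.comm ⟨a, ha⟩ ⟨b, hb⟩)
  have sq : ∀ e : MulAut W, Fx e ≤ Fx (e ^ 2) := fun e x hx => by
    rw [mem_Fx, pow_two, MulAut.mul_apply, mem_Fx.1 hx, mem_Fx.1 hx]
  have a4 : (a ^ 2) ^ 2 = a := by rw [← pow_mul, show 2 * 2 = 3 + 1 from rfl, pow_succ, a3, one_mul]
  have b4 : (b ^ 2) ^ 2 = b := by rw [← pow_mul, show 2 * 2 = 3 + 1 from rfl, pow_succ, b3, one_mul]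
  have hL := top (Fx a ⊔ Fx b ⊔ Fx (a * b) ⊔ Fx (a * b ^ 2)) fun e he h1 => inf_le_right.trans (by
    obtain ⟨⟨⟨x, hx⟩, ⟨y, hy⟩⟩, e1⟩ := (isComplement'_of_card_mul_and_disjoint (by rw [ka, kb, c9])
      (disjoint_iff.2 dj)).existsUnique ⟨e, he⟩ |>.exists
    obtain rfl : x.1 * y.1 = e := congrArg Subtype.val e1
    have s1 := sq (a ^ 2); have s2 := sq (b ^ 2); have s3 := sq (a ^ 2 * b); have s4 := sq (a ^ 2 * b ^ 2)
    rw [(cab.pow_left 2).mul_pow] at s3
    rw [(cab.pow_pow 2 2).mul_pow] at s4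
    simp only [a4, b4] at s1 s2 s3 s4
    rcases ma x hx with rfl | rfl | rfl <;> rcases mb y hy with rfl | rfl | rfl <;>
      simp only [coe_one, coe_pow, one_mul, mul_one] at h1 ⊢
    exacts [absurd rfl h1, le_sup_of_le_left (le_sup_of_le_left le_sup_right),
      s2.trans (le_sup_of_le_left (le_sup_of_le_left le_sup_right)),
      le_sup_of_le_left (le_sup_of_le_left le_sup_left), le_sup_of_le_left le_sup_right, le_sup_right,
      s1.trans (le_sup_of_le_left (le_sup_of_le_left le_sup_left)), s3.trans le_sup_right,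
      s4.trans (le_sup_of_le_left le_sup_right)])
  have hab1 := mul_mem ha hb
  have hab2 := mul_mem ha (pow_mem hb 2)
  have n1 : ∀ y ∈ E, Fx b ≤ Fx y → a * y ≠ 1 := fun y hy h e => hb' fun x hx => by
    rw [mem_Fx, eq_inv_of_mul_eq_one_left e, MulAut.inv_def, MulEquiv.symm_apply_eq, mem_Fx.1 (h hx)]
  haveI := nm _ (zf b hb); haveI := nm _ (zf _ hab1); haveI := nm _ (zf _ hab2)
  have u1 := card_sup_le (zf a ha) (zf b hb)
  have u2 := card_sup_le (H := Fx a ⊔ Fx b) (le_sup_of_le_left (zf a ha)) (zf _ hab1)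
  have u3 := card_sup_le (H := Fx a ⊔ Fx b ⊔ Fx (a * b)) (le_sup_of_le_right (zf _ hab1)) (zf _ hab2)
  have u4 := l8 _ hab1 (n1 b hb le_rfl)
  have u5 := l8 _ hab2 (n1 _ (pow_mem hb 2) (sq b))
  rw [top_le_iff.1 hL, card_top] at u3
  rw [cz, c8 a ha a1 ha', c8 b hb b1 hb2] at u1
  rw [cz] at u2 u3
  have u6 : Nat.card W ≤ 2 ^ 9 := by nlinarith
  obtain ⟨n, hn⟩ := PGrp.ES_card es'
  have : 2 * (n + 1) + 1 ≤ 9 := (Nat.pow_le_pow_iff_right (by omega)).1 (hn ▸ u6)
  have n0 : n ≠ 0 := by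
    rintro rfl
    exact hb' (le_top.trans (card_eq_iff_eq_top _ |>.1 ((c8 a ha a1 ha').trans hn.symm)).ge)
  have : n ≤ 3 := by omega
  rw [hn]
  interval_cases n <;> first | exact absurd rfl n0 | decide

end Cfsg.Agent.S2934
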