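import Cfsg.Statements.S2971
import Cfsg.Agent.Loc.Isol

set_option autoImplicit false
open Cfsg

namespace Cfsg.Agent.S2971

/-- Let G be a finite group and p an odd prime such that G has p-rank at most 1 (no elementary abelian subgroup of order p²). If x ∈ G is an isolated element of order p, then x is central modulo the largest normal subgroup of G of order prime to p. -/
theorem result {G : Type*} [Group G] [Finite G] {p : ℕ} [Fact p.Prime] (hp : p ≠ 2) (hrk : Cfsg.PRankLE p 1 G) (x : G) (hx : orderOf x = p) (hiso : Cfsg.IsIsolated x) : Cfsg.InZStar p x := by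
  open Cfsg.Agent.Loc Subgroup in
  open scoped commutatorElement in
  have hpx : IsPGroup p (zpowers x) := isPGroup_zpowers_of_orderOf (k := 1) (by rw [hx, pow_one])
  obtain ⟨P, hP⟩ := hpx.exists_le_sylow
  have h1 : x ≠ 1 := by
    rintro rfl
    rw [orderOf_one] at hx
    exact (Fact.out : p.Prime).one_lt.ne hx
  have hr : PRankLE p 1 (P : Subgroup G) := fun A hA ha => by
    rw [← card_map_subtype]
    refine hrk _ inferInstance ?_
    rintro _ ⟨a, h, rfl⟩
    exact congrArg Subtype.val (ha a h)
  refine inZStar_of_complement hiso hpx (isolated_complement_of_isCyclic hiso h1 P (hP (mem_zpowers x)) ?_)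
  exact ((rk1_of_pRankLE P.isPGroup' hr).isCyclic_or_quaternion P.isPGroup').resolve_right fun h => hp h.1

end Cfsg.Agent.S2971
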