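import Cfsg.Statements.S2975
import Cfsg.Agent.Loc.Cpl

set_option autoImplicit false
open Cfsg

namespace Cfsg.Agent.S2975

/-- Let G be a finite group, p a prime and x ∈ G an isolated element of order p (the only conjugate of x commuting with x is x) which is not central modulo the largest normal subgroup of order prime to p, while x is central modulo the largest normal subgroup of order prime to p in every proper subgroup containing x, and the image of x is so in every quotient of G by a nontrivial normal subgroup (a minimal counterexample to the Z*_p statement). Then for every prime q, every q-subgroup of G that is normalized by x and maximal among the q-subgroups normalized by x is either trivial or a Sylow q-subgroup of G; and C_G(x) permutes the x-invariant Sylow q-subgroups of G transitively by conjugation. -/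
theorem result {G : Type*} [Group G] [Finite G] {p : ℕ} [Fact p.Prime] (x : G) (hx : orderOf x = p) (hiso : Cfsg.IsIsolated x) (hnz : ¬ Cfsg.InZStar p x) (hmin : ∀ (H : Subgroup G) (hxH : x ∈ H), H ≠ ⊤ → Cfsg.InZStar p (⟨x, hxH⟩ : ↥H)) (hquot : ∀ (N : Subgroup G) [N.Normal], N ≠ ⊥ → Cfsg.InZStar p (QuotientGroup.mk x : G ⧸ N)) (q : ℕ) [Fact q.Prime] : (∀ Q : Subgroup G, IsPGroup q ↥Q → x ∈ Subgroup.normalizer (Q : Set G) → (∀ R : Subgroup G, IsPGroup q ↥R → x ∈ Subgroup.normalizer (R : Set G) → Q ≤ R → R = Q) → Q = ⊥ ∨ ∃ S : Sylow q G, (S : Subgroup G) = Q) ∧ (∀ S₁ S₂ : Sylow q G, x ∈ Subgroup.normalizer ((S₁ : Subgroup G) : Set G) → x ∈ Subgroup.normalizer ((S₂ : Subgroup G) : Set G) → ∃ c ∈ Subgroup.centralizer ({x} : Set G), (S₁ : Subgroup G).map (MulAut.conj c).toMonoidHom = (S₂ : Subgroup G)) := by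
  open Cfsg.Agent.Loc Subgroup in
  open scoped commutatorElement in
  have h : MinZ p x := ⟨hx, hiso, hnz, hmin, hquot⟩
  refine ⟨fun Q hQ hxQ hmax => ?_, fun S₁ S₂ h1 h2 => ?_⟩
  · by_cases hb : Q = ⊥
    · exact Or.inl hb
    refine Or.inr (SylIn.exists_sylow_top ?_)
    by_cases hqp : q = p
    · subst hqp
      obtain ⟨T, hT, hle⟩ := exists_sylIn_ge (H := ⊤) le_top
        (hQ.to_sup_of_normal_left' h.pg (zpowers_le.2 hxQ))
      rw [← hmax T hT.pg (le_normalizer (hle (mem_sup_right (mem_zpowers x)))) (le_sup_left.trans hle)]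
      exact hT
    have hH : normalizer (Q : Set G) ≠ ⊤ := fun he => hb (eq_bot_iff.2 (h.fit ▸
      (Sig.le_pcIn le_top he.ge hQ).trans Sig.pcIn_le_fitIn))
    have key : ∀ R : Subgroup G, IsPGroup q R → x ∈ normalizer (R : Set G) → R ≤ normalizer (Q : Set G) → R ≤ Q :=
      fun R hR h1 h2 => le_sup_right.trans (hmax _ (hQ.to_sup_of_normal_left' hR h2)
        (le_normalizer_sup (zpowers_le.2 hxQ) (zpowers_le.2 h1) (mem_zpowers x)) le_sup_left).le
    obtain ⟨T, hT, hxT⟩ := Solv.exists_invariant_sylIn (Sig.le_normalizer_ppIn (p := p) (zpowers_le.2 (le_normalizer hxQ)))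
      (Sig.coprime_of_isPGroup_of_coprime h.pg Sig.coprime_ppIn) (Or.inl (Sig.isSolvable_of_isPGroup h.pg)) q
    obtain ⟨C, hC⟩ := exists_sylIn q (normalizer (Q : Set G) ⊓ centralizer ({x} : Set G))
    have h1 : C ≤ Q := key C hC.pg (centralizer_le_normalizer _ (le_cent1_iff.1 (hC.le.trans inf_le_right)))
      (hC.le.trans inf_le_left)
    have h2 : T ≤ Q := key T hT.pg (hxT (mem_zpowers x)) (hT.le.trans Sig.ppIn_le)
    have h3 := hT.sup_normal hC (h1.trans (Sig.le_ppIn le_normalizer le_rfl (Sig.coprime_of_isPGroup_of_ne hqp hQ)))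
      (inf_le_left.trans (Sig.le_normalizer_ppIn le_normalizer))
    rw [h.sup_cent hxQ hH] at h3
    have e := h3.max Q le_normalizer hQ h2
    refine sylIn_of_sylIn_normalizer ?_
    rw [top_inf_eq]
    exact ⟨le_normalizer, hQ, fun R h4 h5 h6 => (h3.max R h4 h5 (h2.trans h6)).trans e.symm⟩
  · obtain ⟨g, -, hg⟩ := (sylIn_top S₁).exists_conj (sylIn_top S₂)
    have h3 : g * x * g⁻¹ ∈ normalizer ((S₂ : Subgroup G) : Set G) := by
      rw [← hg, ← cj_normalizer]; exact conj_mem_cj h1
    obtain ⟨c, hc, he⟩ := isolated_exists_conj hiso h.pg h2 h3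
    refine ⟨c * g, mem_cent1.2 (by simpa only [mul_inv_rev, mul_assoc] using he), ?_⟩
    change cj (c * g) _ = _
    rw [← cj_cj, hg, cj_eq_of_mem_normalizer hc]

end Cfsg.Agent.S2975
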