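import Cfsg.Statements.S2976
import Cfsg.Agent.S2754
import Cfsg.Agent.LieM.SzAut
import Mathlib.Tactic.Group

set_option autoImplicit false
open Cfsg

namespace Cfsg.Agent.S2976
open scoped commutatorElement

open Subgroup Cfsg.Agent.BG Cfsg.Agent.LieM Cfsg.Agent.Sig

theorem norm {G : Type*} [Group G] [Finite G] {K : Subgroup G} (hK : CompIn K ⊤) {y : G} (hy : y ^ 3 = 1)
    (hsol : Group.IsSolvable C1[y]) : y ∈ N[K] := by
  by_contra h
  have h1 : cj y K ≤ C[K] := commutator_eq_bot_iff_le_centralizer.1 (by_contra fun r =>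
    h (hK.mem_normalizer_of_commutator_ne_bot (by simp) r))
  have e : y⁻¹ = y * y := by rw [inv_eq_iff_mul_eq_one, ← hy, pow_three]
  have h2 : cj y⁻¹ K ≤ C[K] := by
    rw [cj_le_iff, inv_inv, ← C_cj]; exact le_centralizer_iff.1 h1
  have c1 : ∀ a b : K, Commute (a : G) (y * b * y⁻¹) := fun a b => mem_cent.1 (h1 (conj_mem_cj y b.2)) a a.2
  have c2 : ∀ a b : K, Commute (a : G) (y⁻¹ * b * y⁻¹⁻¹) := fun a b => mem_cent.1 (h2 (conj_mem_cj y⁻¹ b.2)) a a.2
  have c3 : ∀ a b : K, Commute (y * a * y⁻¹) (y⁻¹ * b * y⁻¹⁻¹) := fun a b => by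
    have := (c1 a b).conj y
    rwa [show y * (y * b * y⁻¹) * y⁻¹ = (y * y) * b * (y * y)⁻¹ by group, ← e] at this
  let f : K →* G := MonoidHom.mk' (fun a => a * (y * a * y⁻¹) * (y⁻¹ * a * y⁻¹⁻¹)) fun a b => by
    rw [coe_mul, ← conj_mul, ← conj_mul, (c1 b a).mul_mul_mul_comm, ((c2 b a).mul_left (c3 b a)).mul_mul_mul_comm]
  have hf : f.range ≤ C1[y] := by
    rintro _ ⟨a, rfl⟩
    refine mem_cent1.2 (mul_inv_eq_iff_eq_mul.1 ?_).symm
    change y * (a * (y * a * y⁻¹) * (y⁻¹ * a * y⁻¹⁻¹)) * y⁻¹ = a * (y * a * y⁻¹) * (y⁻¹ * a * y⁻¹⁻¹)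
    rw [mul_assoc (a : G)]
    nth_rewrite 2 [((c1 a a).mul_right (c2 a a)).eq]
    rw [show y * (a * (y * a * y⁻¹ * (y⁻¹ * a * y⁻¹⁻¹))) * y⁻¹ = y * a * y⁻¹ * ((y * y) * a * (y * y)⁻¹) * a by group, ← e]
  haveI := solvableS hf hsol
  haveI : Group.IsSolvable f.ker := abelian_sol (abelian_of_cent fun a ha => mem_cent.2 fun b _ => Subtype.ext (by
    have : (a : G) * ((y * a * y⁻¹) * (y⁻¹ * a * y⁻¹⁻¹)) = 1 := (mul_assoc _ _ _).symm.trans ha
    rw [coe_mul, coe_mul, eq_inv_of_mul_eq_one_left this]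
    exact ((c1 b a).mul_right (c2 b a)).inv_right))
  exact qs_not_isSolvable hK.qs (Group.isSolvable_of_ker_le_range f.ker.subtype f.rangeRestrict (by simp))

/-- Let G be a finite group, K a component of G whose order is not divisible by 3, and y ∈ G an element of order 3 whose centralizer C_G(y) is solvable. Then K ⧸ Z(K) is isomorphic to the Suzuki group over the field with 8 elements and y normalizes K. If moreover O₂(G) = 1, then K is simple. -/
theorem result {G : Type*} [Group G] [Finite G] (K : Subgroup G) (hK : Cfsg.IsComponent K) (h3 : ¬ 3 ∣ Nat.card ↥K) (y : G) (hy : orderOf y = 3) (hsol : Group.IsSolvable ↥(Subgroup.centralizer ({y} : Set G))) : (∃ (F : Type) (_ : Field F) (_ : Fintype F), Fintype.card F = 8 ∧ Nonempty (↥K ⧸ Subgroup.center ↥K ≃* ↥(Cfsg.Lie.Sz F 4))) ∧ y ∈ Subgroup.normalizer (K : Set G) ∧ (Cfsg.pCore 2 G = ⊥ → IsSimpleGroup ↥K) := by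
  have hK' := compIn_top_iff.2 hK
  have y3 : y ^ 3 = 1 := hy ▸ pow_orderOf_eq_one y
  have hn := norm hK' y3 hsol
  haveI := hK.2.2
  have h4 : ¬ 3 ∣ Nat.card (K ⧸ center K) := fun h => h3 (h.trans (card_quotient_dvd_card _))
  obtain ⟨F, _, _, m, hm, hF, ⟨e⟩⟩ := sz_of_three @Cfsg.Agent.S2754.result (qs_quotient_center_not_comm hK.2) h4
  let _ := Sz.titsOfCard hm hF
  let _ := Sz.lieRep (Sz.titsOfCard_θ hm hF)
  refine ⟨?_, hn, fun h0 => qs_simple_of_center_eq_bot hK.2 (eq_bot_iff.2 (Solv.le_of_forall_isPGroup_le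
    fun p _ Q l hQ => ?_))⟩
  · obtain ⟨f⟩ := quotient_isog_mathlib (center K)
    rw [map_subtype_center] at f
    let _ := Sz.repOfEquiv (F := F) (f.symm.trans e)
    have nZ : y ∈ N[Z[K]] := norms_center (zpowers_le.2 hn) (mem_zpowers y)
    have h5 : coset Z[K] y ∈ N[K /ᵍ Z[K]] :=
      quotient_norms _ (zpowers_le.2 hn) (mem_quotient nZ (mem_zpowers y))
    have h6 := sz_aut_fix F (α := (K /ᵍ Z[K]).normalizerMonoidHom ⟨_, h5⟩) Nat.prime_three (by
      rw [← map_pow, show (⟨_, h5⟩ : N[K /ᵍ Z[K]]) ^ 3 = 1 from Subtype.ext (by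
        rw [coe_pow, ← coset_pow nZ, y3, coset_one]; rfl), map_one]) (Nat.card_congr f.toEquiv ▸ h4) fun H hH => by
      refine isog_sol ⟨(equivMapOfInjective H _ (subtype_injective _)).symm⟩ (solvableS ?_ (quotient_sol Z[K]
        (solvableS (inf_le_right : K ⊓ C[zpowers y] ≤ _) (C_zpowers y ▸ hsol))))
      rw [coprime_quotient_cent inf_le_left (zpowers_le.2 nZ) (by
        rw [Nat.card_zpowers, hy]
        exact (Nat.prime_three.coprime_iff_not_dvd.2 fun r => h3 (r.trans (card_dvd_of_le inf_le_left))).symm)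
        (Or.inl (abelian_sol (abelian_zpowers y))), quotient_zpowers nZ, C_zpowers]
      rintro _ ⟨x, hx, rfl⟩
      exact ⟨x.2, mem_cent1.2 (mul_inv_eq_iff_eq_mul.1 (congrArg Subtype.val (hH x hx))).symm⟩
    rw [Nat.card_eq_fintype_card] at h6
    obtain rfl : m = 1 := by have := Nat.pow_right_injective le_rfl (hF.symm.trans h6); omega
    exact ⟨F, _, _, h6, ⟨e⟩⟩
  rcases eq_or_ne p 2 with rfl | p2
  · rw [← Subgroup.map_le_map_iff_of_injective K.subtype_injective, Subgroup.map_bot, ← h0]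
    exact Solv.le_pCore_of_isSubnormal (IsSubnormal.trans' (Normal.isSubnormal ⟨fun x hx g => by
      rwa [mem_center_iff.1 (l hx) g, mul_inv_cancel_right]⟩) hK.1) (hQ.map _)
  obtain ⟨P, hP⟩ := hQ.exists_le_sylow
  let _ := Sz.repOfEquiv (F := F) e
  have hc := Sz.isCyclic_of_isPGroup F Fact.out p2 (P.isPGroup'.map (QuotientGroup.mk' (center K)))
  have ab : IsMulCommutative (P : Subgroup K) := MonoidHom.isMulCommutative_of_isCyclic_of_ker_le_center
    ((QuotientGroup.mk' (center K)).subgroupMap P) fun x hx => mem_center_iff.2 fun g => Subtype.ext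
      (mem_center_iff.1 ((QuotientGroup.eq_one_iff (N := center K) x.1).1 (congrArg Subtype.val hx)) g)
  rw [← Transfer.abelian_hall_inf ab le_top (Transfer.sylow_coprime_relIndex P le_top)]
  exact fun x hx => ⟨⟨hP hx, (hK.2.1.commutator_eq_top.ge (mem_top x) :)⟩, fun g _ => mem_center_iff.1 (l hx) g⟩

end Cfsg.Agent.S2976
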