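import Cfsg.Statements.S3017
import Cfsg.Agent.S2775
import Cfsg.Agent.LieM.Gold8
import Cfsg.Agent.Invol.ZS
import Mathlib.Tactic.Group

set_option autoImplicit false
open Cfsg

namespace Cfsg.Agent.S3017
open scoped commutatorElement

open Subgroup Cfsg.Agent.BG Cfsg.Agent.LieM Cfsg.Agent.Invol

universe u

def EC {G : Type*} [Group G] (H : Subgroup G) : Prop :=
  ∀ g, ∃ W : Subgroup G, Odd #W ∧ H ≤ N[W] ∧ cj g H ≤ W ⊔ H

section
variable {G : Type*} [Group G] [Finite G] {H Q : Subgroup G}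

theorem EC.mem (h : EC H) (hQ : IsPGroup 2 Q) (l : H ≤ Q) {g x : G} (hx : x ∈ cj g H) (xQ : x ∈ Q) : x ∈ H := by
  obtain ⟨W, ho, hn, hg⟩ := h g
  have := (group_modr (Or.inr hn) l).le ⟨xQ, hg hx⟩
  rwa [pgroup_p'_TI hQ (pnat_odd.2 ho), bot_sup_eq] at this

theorem EC.normal (h : EC H) (l : H ≤ pCore 2 G) : H.Normal :=
  ⟨fun x hx g => h.mem (Solv.isPGroup_pCore 2 G) l (conj_mem_cj g hx) (Normal.conj_mem inferInstance x (l hx) g)⟩

theorem EC.map (h : EC H) {G' : Type*} [Group G'] {f : G →* G'} (hf : Function.Surjective f) : EC (H.map f) := fun g => by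
  obtain ⟨g, rfl⟩ := hf g
  obtain ⟨W, ho, hn, hg⟩ := h g
  exact ⟨W.map f, ho.of_dvd_nat (card_map_dvd _ _), norms_map f hn, by
    rw [← Subgroup.map_sup, ← map_cj]; exact map_mono hg⟩

theorem EC.sub (h : EC H) {N : Subgroup G} (l : H ≤ N) : EC (H.subgroupOf N) := fun g => by
  obtain ⟨W, ho, hn, hg⟩ := h g
  refine ⟨W.subgroupOf N, ho.of_dvd_nat (card_comap_dvd_of_injective _ _ N.subtype_injective),
    fun b hb => mem_normalizer_iff.2 fun y => mem_normalizer_iff.1 (hn hb) y, ?_⟩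
  rintro _ ⟨x, hx, rfl⟩
  obtain ⟨w, hw, y, hy, e⟩ := (mem_sup_norml hn).1 (hg (conj_mem_cj (g : G) hx))
  have wN : w ∈ N := (mul_mem_cancel_right (l hy)).1 (e ▸ (g * x * g⁻¹).2)
  have e' : g * x * g⁻¹ = (⟨w, wN⟩ : N) * ⟨y, l hy⟩ := Subtype.ext e
  change g * x * g⁻¹ ∈ _
  rw [e']
  exact mul_mem_sup hw hy

theorem EC.not_free (h : EC H) (h2 : IsPGroup 2 H) : ¬ Free H := by
  rintro ⟨a, ha, -, x, h1, e, h3⟩
  obtain ⟨W, ho, hn, hg⟩ := h x
  have h4 : x * x ∈ W ⊔ H := by
    have := mul_mem (hg (conj_mem_cj x ha)) (mem_sup_right (inv_mem ha))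
    rwa [show x * a * x⁻¹ * a⁻¹ = x * (a * x * a⁻¹)⁻¹ by group, e, inv_inv] at this
  refine h3 W ho hn (zpowers_le.1 (Solv.le_of_le_sup_of_coprime hn (zpowers_le.2 (SE.mem_of_sq h1 h4)) ?_))
  exact (Solv.coprime_card_of_isPGroup h2 (by rw [Nat.card_zpowers]; exact Nat.coprime_two_right.2 h1)).symm
end

theorem main (G : Type u) [Group G] [Finite G] (H : Subgroup G) (h2 : IsPGroup 2 H) (ab : IsMulCommutative H) (h : EC H) :
    (H ⊔ pPrimeCore 2 G).Normal := by
  induction hn : Nat.card G using Nat.strong_induction_on generalizing G with | _ n ih => ?_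
  subst hn
  have hq : ∀ (N : Subgroup G) [N.Normal], N ≠ ⊥ → (H.map (QuotientGroup.mk' N) ⊔ pPrimeCore 2 (G ⧸ N)).Normal :=
    fun N _ h0 => ih _ (by
      rw [← index_eq_card, ← N.index_mul_card]
      exact lt_mul_of_one_lt_right (Nat.pos_of_ne_zero index_ne_zero_of_finite) (N.one_lt_card_iff_ne_bot.2 h0)) _ _
      (h2.map _) inferInstance (h.map (QuotientGroup.mk'_surjective N)) rfl
  by_cases hO : pPrimeCore 2 G = ⊥
  swap
  · have := (hq _ hO).comap (QuotientGroup.mk' _)
    rwa [Solv.pPrimeCore_quotient_pPrimeCore, sup_bot_eq, comap_map_eq, QuotientGroup.ker_mk'] at this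
  rw [hO, sup_bot_eq]
  by_contra hH
  have hs : ∀ N : Subgroup G, N.Normal → H ≤ N → N = ⊤ := fun N _ l => by_contra fun hN => by
    have h1 := ih _ (by simpa using proper_card (lt_top_iff_ne_top.2 hN)) N (H.subgroupOf N) (h2.comap_subtype)
      inferInstance (h.sub l) rfl
    rw [(Subgroup.map_eq_bot_iff_of_injective _ N.subtype_injective).1
      (le_bot_iff.1 ((Solv.map_subtype_pPrimeCore_le N).trans hO.le)), sup_bot_eq] at h1
    refine hH (h.normal (le_trans ?_ (Solv.map_subtype_pCore_le N)))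
    exact (map_subgroupOf_eq_of_le l).ge.trans (map_mono (Solv.le_pCore h2.comap_subtype))
  have ht : ∀ (N : Subgroup G) [N.Normal], N ≠ ⊥ → H.map (QuotientGroup.mk' N) ⊔ pPrimeCore 2 (G ⧸ N) = ⊤ :=
    fun N _ h0 => comap_injective (QuotientGroup.mk'_surjective N)
      (hs _ ((hq N h0).comap _) ((le_comap_map _ _).trans (comap_mono le_sup_left)))
  obtain ⟨S, hS⟩ := h2.exists_le_sylow
  have hsc : IsStronglyClosed H S := ⟨hS, fun x hx g hg => h.mem S.isPGroup' hS (conj_mem_cj g hx) hg⟩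
  obtain ⟨h3, h4, -⟩ := Cfsg.Agent.S2775.result S H ab hsc ⊤ (hs _ inferInstance le_normalClosure).symm G (⊤ : Subgroup G).subtype
    (fun x => ⟨⟨x, mem_top x⟩, rfl⟩) ((ker_subtype _).trans ((Subgroup.map_eq_bot_iff_of_injective _ (subtype_injective _)).1
      (le_bot_iff.1 ((Solv.map_subtype_pPrimeCore_le ⊤).trans hO.le))).symm)
  by_cases h0 : pCore 2 G = ⊥
  swap
  · have h5 := ht _ h0
    rw [pPrimeCore_quotient_central hO _ h4 (Solv.isPGroup_pCore 2 G), sup_bot_eq] at h5
    replace h5 := congrArg (comap (QuotientGroup.mk' (pCore 2 G))) h5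
    rw [comap_map_eq, QuotientGroup.ker_mk', comap_top] at h5
    exact hH (h.normal (le_sup_left.trans (h5.le.trans (Solv.le_pCore (h5 ▸ h2.to_sup_of_normal_right
      (Solv.isPGroup_pCore 2 G))))))
  rw [h0, bot_sup_eq] at h3
  have H0 : H ≠ ⊥ := fun e => hH (e ▸ inferInstance)
  haveI : Nontrivial G := haveI := (nontrivial_iff_ne_bot H).2 H0; H.subtype_injective.nontrivial
  haveI : IsSimpleGroup G := ⟨fun N _ => or_iff_not_imp_left.2 fun N0 => hs N ‹_› fun x hx => by
    have h5 := Normal.commutator_le_of_self_sup_commutative_eq_top ((sup_comm _ _).trans (ht N N0)) inferInstance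
    have h6 : commutator (G ⧸ N) = ⊤ := by
      rw [_root_.commutator_def, ← map_top_of_surjective _ (QuotientGroup.mk'_surjective N), ← map_commutator,
        ← _root_.commutator_def, h3]
    have h7 := Solv.inf_pPrimeCore_eq_bot (h2.map (QuotientGroup.mk' N))
    rw [top_unique (h6.ge.trans h5), inf_top_eq] at h7
    exact (QuotientGroup.eq_one_iff x).1 (h7.le (mem_map_of_mem _ hx))⟩
  have hna : ¬ IsMulCommutative G := fun _ => hH (normal_of_isMulCommutative H)
  obtain ⟨h5, -, h6⟩ := struct_of @Cfsg.Agent.S2775.result hna S ab H0 hsc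
  exact h.not_free h2 (gold_free hna h6 S hS h5)

/-- Let G be a finite group and H an abelian 2-subgroup of G that is extremely closed (for every g, the subgroup generated by H and g H g⁻¹ meets N_G(H) exactly in H). Then G = N_G(H) O(G), where O(G) is the largest normal subgroup of odd order. For H of order 2 this is Glauberman's Z*-statement. -/
theorem result {G : Type*} [Group G] [Finite G] (H : Subgroup G) (hH2 : IsPGroup 2 H) (hHab : IsMulCommutative H) (hcl : Cfsg.IsExtremelyClosed H) : Subgroup.normalizer (H : Set G) ⊔ Cfsg.oddCore G = ⊤ := by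
  have h : EC H := fun g => by
    have hS : SylowIn 2 H (H ⊔ cj g H) := max_pgroup_Sylow le_sup_left hH2 fun Q hQ l l' =>
      (nilpotent_sub_norm (pgroup_nil hQ) l ((inf_le_inf_right _ l').trans (hcl g).le)).symm
    have d := Burnside_normal_complement hS ((hcl g).le.trans (abelian_iff.1 hHab))
    exact ⟨_, SE.odd_O _, d.norm, le_sup_right.trans d.sup.ge⟩
  have hn := main G H hH2 hHab h
  have hO := Block.odd_card_pPrimeCore (G := G)
  have hS : SylowIn 2 H (H ⊔ pPrimeCore 2 G) := max_pgroup_Sylow le_sup_left hH2 fun Q hQ l l' => by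
    rw [← inf_eq_left.2 l', group_modl (Or.inl (le_top.trans (normalizer_eq_top _).ge)) l, Solv.inf_pPrimeCore_eq_bot hQ,
      sup_bot_eq]
  have := Frattini_arg (normal_top _) hS
  rw [top_inf_eq] at this
  exact top_unique (this.ge.trans (sup_le (sup_le_sup_right (normG H) _) le_sup_left))

end Cfsg.Agent.S3017
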