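import Cfsg.Statements.S3040
import Cfsg.Agent.S2754
import Cfsg.Agent.LieM.SzAut
import Cfsg.Agent.LieM.Gold7
import Cfsg.Agent.Transfer.Hol
import Cfsg.Agent.Transfer.Abelian
import Cfsg.Agent.BG.S3Odd
import Mathlib.Tactic.Group

set_option autoImplicit false
open Cfsg

namespace Cfsg.Agent.S3040
open scoped commutatorElement

open Subgroup Cfsg.Agent.BG Cfsg.Agent.LieM Cfsg.Agent.Sig

theorem norm {G : Type*} [Group G] [Finite G] {K M : Subgroup G} (hK : CompIn K M) {y : G} (hy : y ^ 3 = 1) (hM : y ∈ N[M])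
    (hsol : Group.IsSolvable (M ⊓ C1[y] : Subgroup G)) : y ∈ N[K] := by
  by_contra h
  have h1 : cj y K ≤ C[K] := commutator_eq_bot_iff_le_centralizer.1 (by_contra fun r =>
    h (hK.mem_normalizer_of_commutator_ne_bot hM r))
  have e : y⁻¹ = y * y := by rw [inv_eq_iff_mul_eq_one, ← hy, pow_three]
  have h2 : cj y⁻¹ K ≤ C[K] := by
    rw [cj_le_iff, inv_inv, ← C_cj]; exact le_centralizer_iff.1 h1
  have c1 : ∀ a b : K, Commute (a : G) (y * b * y⁻¹) := fun a b => mem_cent.1 (h1 (conj_mem_cj y b.2)) a a.2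
  have c2 : ∀ a b : K, Commute (a : G) (y⁻¹ * b * y⁻¹⁻¹) := fun a b => mem_cent.1 (h2 (conj_mem_cj y⁻¹ b.2)) a a.2
  have c3 : ∀ a b : K, Commute (y * a * y⁻¹) (y⁻¹ * b * y⁻¹⁻¹) := fun a b => by
    have := (c1 a b).conj y
    rwa [show y * (y * b * y⁻¹) * y⁻¹ = (y * y) * b * (y * y)⁻¹ by group, ← e] at this
  let f : K →* G := MonoidHom.mk' (fun a => a * (y * a * y⁻¹) * (y⁻¹ * a * y⁻¹⁻¹)) fun a b => by
    rw [coe_mul, ← conj_mul, ← conj_mul, (c1 b a).mul_mul_mul_comm, ((c2 b a).mul_left (c3 b a)).mul_mul_mul_comm]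
  have hf : f.range ≤ M ⊓ C1[y] := by
    rintro _ ⟨a, rfl⟩
    refine ⟨mul_mem (mul_mem (hK.le a.2) (conj_mem_of_norm hM (hK.le a.2))) (conj_mem_of_norm (inv_mem hM) (hK.le a.2)),
      mem_cent1.2 (mul_inv_eq_iff_eq_mul.1 ?_).symm⟩
    change y * (a * (y * a * y⁻¹) * (y⁻¹ * a * y⁻¹⁻¹)) * y⁻¹ = a * (y * a * y⁻¹) * (y⁻¹ * a * y⁻¹⁻¹)
    rw [mul_assoc (a : G)]
    nth_rewrite 2 [((c1 a a).mul_right (c2 a a)).eq]
    rw [show y * (a * (y * a * y⁻¹ * (y⁻¹ * a * y⁻¹⁻¹))) * y⁻¹ = y * a * y⁻¹ * ((y * y) * a * (y * y)⁻¹) * a by group, ← e]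
  haveI := solvableS hf hsol
  haveI : Group.IsSolvable f.ker := abelian_sol (abelian_of_cent fun a ha => mem_cent.2 fun b _ => Subtype.ext (by
    have : (a : G) * ((y * a * y⁻¹) * (y⁻¹ * a * y⁻¹⁻¹)) = 1 := (mul_assoc _ _ _).symm.trans ha
    rw [coe_mul, coe_mul, eq_inv_of_mul_eq_one_left this]
    exact ((c1 b a).mul_right (c2 b a)).inv_right))
  exact qs_not_isSolvable hK.qs (Group.isSolvable_of_ker_le_range f.ker.subtype f.rangeRestrict (by simp))

theorem cop {G : Type*} [Group G] [Finite G] {K : Subgroup G} {y : G} (hy : y ^ 3 = 1) (h3 : ¬ 3 ∣ #K) :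
    (#K).Coprime #(zpowers y) :=
  (Nat.prime_three.coprime_iff_not_dvd.2 h3).symm.of_dvd_right (Nat.card_zpowers y ▸ orderOf_dvd_of_pow_eq_one hy)

theorem sol.{u} (n : ℕ) : ∀ {G : Type u} [Group G] [Finite G] {K : Subgroup G} {y : G}, #K = n → y ^ 3 = 1 → y ∈ N[K] →
    ¬ 3 ∣ #K → Odd #(K ⊓ C[zpowers y]) → Group.IsSolvable K := by
  induction n using Nat.strong_induction_on with
  | _ n ih =>
  intro G _ _ K y hn hy hK h3 ho
  haveI := Fact.mk Nat.prime_three
  have hc := cop hy h3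
  by_cases hF : fittingOf K = ⊥
  swap
  · have nF := norms_Fitting (zpowers_le.2 hK)
    refine series_sol (Fitting_normal K) (nilpotent_sol (Fitting_nil K)) (ih _ (hn ▸ ltn_quotient hF (Fitting_sub K))
      (y := coset _ y) rfl (by rw [← coset_pow (nF (mem_zpowers y)), hy, coset_one])
      (quotient_norms _ (zpowers_le.2 hK) (mem_quotient (nF (mem_zpowers y)) (mem_zpowers y)))
      (fun h => h3 (h.trans (dvdn_quotient _ _))) ?_)
    rw [← quotient_zpowers (nF (mem_zpowers y)), ← coprime_quotient_cent (Fitting_sub K) nF (coprimeSg (Fitting_sub K) hc)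
      (.inl (abelian_sol (abelian_zpowers y)))]
    exact quotient_odd _ ho
  by_contra hs
  obtain ⟨L, hL⟩ : ∃ L, CompIn L K := by
    by_contra! h
    refine hs ((fstarIn_eq_bot_iff (K := K)).1 ?_ ▸ solvable_bot)
    rw [fstarIn_eq, layerIn_eq_bot_iff.2 h, bot_sup_eq]; exact hF
  have nL := zpowers_le.2 (norm hL hy hK (C_zpowers y ▸ SE.sol_of_odd ho))
  haveI := qs_simple_of_center_eq_bot hL.qs (map_injective L.subtype_injective (by
    rw [map_subtype_center, Subgroup.map_bot]; exact le_bot_iff.1 ((center_le_fitIn hL.subnIn).trans hF.le)))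
  obtain ⟨F, _, _, m, hm, hq, ⟨e⟩⟩ := sz_of_three @Cfsg.Agent.S2754.result (qs_not_isMulCommutative hL.qs)
    fun h => h3 (h.trans (card_dvd_of_le hL.le))
  let _ := Sz.titsOfCard hm hq
  let _ := Sz.lieRep (Sz.titsOfCard_θ hm hq)
  obtain ⟨P, hP, nP⟩ := coprime_Sylow_exists 2 nL (coprimeSg hL.le hc) (.inl (abelian_sol (abelian_zpowers y)))
  have h4 := pHall_subgroupOf le_rfl hP
  rw [subgroupOf_self] at h4
  obtain ⟨S, eS⟩ := sylow_of_sylowIn_top h4
  obtain ⟨_, hU⟩ := @Sz.exists_rep_U_eq F _ _ L _ (Sz.repOfEquiv (F := F) e) _ S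
  rw [eS] at hU
  have mZ : ∀ x, x ∈ (Sz.Z F L).map L.subtype ↔ x ∈ P ∧ x * x = 1 := fun x => ⟨by
    rintro ⟨x, hx, rfl⟩
    exact ⟨mem_subgroupOf.1 (hU ▸ Sz.Z_le_U hx), congrArg Subtype.val ((Sz.mem_Z_iff_sq (Sz.Z_le_U hx)).1 hx)⟩,
    fun h => ⟨⟨x, hP.le h.1⟩, (Sz.mem_Z_iff_sq (hU ▸ h.1)).2 (Subtype.ext h.2), rfl⟩⟩
  have h5 := Transfer.card_modEq_card_inf_centralizer (p := 3) (A := zpowers y) (Q := (Sz.Z F L).map L.subtype)
    (pg_zpowers_iff.2 ((Nat.dvd_prime_pow Nat.prime_three (m := 1)).1 (orderOf_dvd_of_pow_eq_one hy) |>.imp fun _ h => h.2))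
    (le_norm_iff.2 fun g hg x hx => (mZ _).2 ⟨conj_mem_of_norm (nP hg) ((mZ x).1 hx).1, by
      rw [conj_mul, ((mZ x).1 hx).2]; simp⟩)
  rw [trivg_of_pi (π := {2}) (pgroupS (inf_le_left.trans fun x hx => ((mZ x).1 hx).1) hP.pi) (pgroupS (inf_le_inf_right _
    ((map_subtype_le _).trans hL.le)) (pnat_odd.2 ho)), card_map_of_injective L.subtype_injective, Sz.card_Z,
    Nat.card_eq_fintype_card, hq, card_bot, pow_succ, pow_mul, Nat.ModEq, Nat.mul_mod, Nat.pow_mod] at h5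
  simp at h5

theorem gen {G : Type*} [Group G] [Finite G] {K : Subgroup G} {y : G} (hy : orderOf y = 3) (hK : y ∈ N[K])
    (h3 : ¬ 3 ∣ #K) (ho : Odd #(K ⊓ C[zpowers y])) : Opp 2 K ⊔ K ⊓ C[zpowers y] = K := by
  have y3 : y ^ 3 = 1 := hy ▸ pow_orderOf_eq_one y
  have hs := sol _ rfl y3 hK h3 ho
  have hc := cop y3 h3
  have nK := zpowers_le.2 hK
  have nO := pcore_normal {2}ᶜ K
  have nR := norms_pcore {2}ᶜ nK
  have h1 := quotient_norms (Op' 2 K) nK
  have s1 := quotient_sol (Op' 2 K) hs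
  have e := coprime_quotient_cent nO.le nR (coprimeSg nO.le hc) (.inl (abelian_sol (abelian_zpowers y)))
  have c1 := (hc.of_dvd_left (dvdn_quotient K (Op' 2 K))).of_dvd_right (dvdn_quotient _ (Op' 2 K))
  obtain ⟨H, hH, nH⟩ := coprime_Hall_exists {2}ᶜ h1 c1 s1
  have nV := pcore_normal {2} (K /ᵍ Op' 2 K)
  have h2 := odd_prime_cent1 (pnat_odd.1 hH.pi) nH (coprimeSg hH.le c1) (by
    rw [card_quotient_TI nR (le_bot_iff.1 ((inf_le_inf_right _ nO.le).trans (coprime_TI hc).le)), Nat.card_zpowers, hy]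
    exact Nat.prime_three) (solvableS nV.le s1) (hH.le.trans nV.norm) (norms_pcore _ h1)
    (pnat_coprime (pcore_pgroup _ _) hH.pi) (coprimeSg nV.le c1)
    (trivg_of_pi (pgroupS inf_le_left (pcore_pgroup _ _)) (pgroupS (inf_le_inf_right _ nV.le)
      (e ▸ pnat_odd.2 (quotient_odd _ ho))))
  have h4 := (le_inf ((commg_subl nH).trans hH.le) h2).trans (cent_sub_pcore s1 (trivg_pcore_quotient _ _))
  have h5 := coprime_comm_pcore h1 c1 s1 hH (commG1.1 (trivg_of_pi (pgroupS h4 (pcore_pgroup _ _))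
    (pgroupS (commg_subl nH) hH.pi)))
  have h6 := coprime_cent_prod' nK hc (.inr hs)
  refine le_antisymm (sup_le (pseries2_sub _ _ _) inf_le_left) (h6.ge.trans (sup_le_sup_right ?_ _))
  rw [sub_pseries2 (commg_subl nK), quotientR nO.norm nR]
  exact h5

/-- Let G be a finite group of even order coprime to 3, and let Σ be a group of automorphisms of G isomorphic to the symmetric group of degree 3 that is fixed-point-free (only the identity of G is fixed by every element of Σ). Then G is solvable, O_{2′,2}(G) (the preimage in G of O₂(G/O(G))) has odd index in G, and G = O_{2′,2}(G) C_G(σ) for every element σ of Σ of order 3; that is, O₂(G/O(G)) is a Sylow 2-subgroup of G/O(G) and G/O(G) = O₂(G/O(G)) C_{G/O(G)}(σ). -/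
theorem result {G : Type*} [Group G] [Finite G] (heven : 2 ∣ Nat.card G) (h3 : ¬ 3 ∣ Nat.card G)
    (Sig : Subgroup (MulAut G)) (hS3 : Nonempty (↥Sig ≃* Equiv.Perm (Fin 3))) (hfpf : ∀ g : G, (∀ σ ∈ Sig, σ g = g) → g = 1) :
    Group.IsSolvable G ∧ ¬ 2 ∣ (Cfsg.pPrimePCore 2 G).index ∧ ∀ σ ∈ Sig, orderOf σ = 3 →
      Cfsg.pPrimePCore 2 G ⊔ Subgroup.closure {g : G | σ g = g} = ⊤ := by
  obtain ⟨e⟩ := hS3
  have h6 : Nat.card Sig = 6 := by rw [Nat.card_congr e.toEquiv, Nat.card_perm]; simp; rfl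
  haveI := Fact.mk Nat.prime_three
  have key : ∀ σ : Sig, orderOf σ = 3 → Group.IsSolvable G ∧ Odd #(closure {g : G | σ.1 g = g}) ∧
      pPrimePCore 2 G ⊔ closure {g : G | σ.1 g = g} = ⊤ := fun σ hσ => by
    let φ := Sig.subtype
    have nK := Transfer.sdR_le_normalizer_top φ
    have e1 : Transfer.sdL φ ⊤ ⊓ C[Transfer.sdR φ (zpowers σ)] = Transfer.sdL φ (closure {g : G | σ.1 g = g}) := by
      refine le_antisymm ?_ (le_inf (map_mono le_top) (Transfer.sdL_le_centralizer_sdR φ |>.2 fun a ha g hg => ?_))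
      · rintro _ ⟨⟨g, -, rfl⟩, hg⟩
        exact mem_map_of_mem _ (subset_closure ((Transfer.inl_mem_centralizer_sdR φ).1 hg σ (mem_zpowers σ)))
      · exact (zpowers_le (H := (MulAction.stabilizer (MulAut G) g).comap φ)).2
          ((closure_le (MonoidHom.eqLocus σ.1.toMonoidHom (MonoidHom.id G))).2 (fun _ h => h) hg) ha
    have i2 : (zpowers σ).index = 2 := by
      have := (zpowers σ).card_mul_index
      rw [Nat.card_zpowers, hσ, h6] at this; omega
    haveI := normal_of_index_eq_two i2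
    obtain ⟨T⟩ : Nonempty (Sylow 2 Sig) := inferInstance
    have h1 := Transfer.card_modEq_card_inf_centralizer (Q := Transfer.sdL φ ⊤ ⊓ C[Transfer.sdR φ (zpowers σ)])
      (T.isPGroup'.map (SemidirectProduct.inr (φ := φ))) (normsI (nK _) (norms_cent
        ((map_mono le_top).trans (normal_map _ (normal_top (zpowers σ))).norm)))
    have h2 : zpowers σ ⊔ T = ⊤ := index_eq_one.1 (by
      have h4 := index_dvd_of_le (le_sup_left : zpowers σ ≤ zpowers σ ⊔ T)
      rw [i2] at h4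
      exact ((Nat.dvd_prime Nat.prime_two).1 h4).resolve_right fun h =>
        T.not_dvd_index (h.symm.dvd.trans (index_dvd_of_le le_sup_right)))
    rw [inf_assoc, ← cent_sup, ← Subgroup.map_sup, h2, show Transfer.sdL φ ⊤ ⊓ C[Transfer.sdR φ ⊤] = ⊥ from eq_bot_iff.2 (by
      rintro _ ⟨⟨g, -, rfl⟩, hg⟩
      rw [hfpf g fun a ha => (Transfer.inl_mem_centralizer_sdR φ).1 hg ⟨a, ha⟩ trivial, map_one]
      exact one_mem _), card_bot] at h1
    have ho : Odd #(Transfer.sdL φ ⊤ ⊓ C[Transfer.sdR φ (zpowers σ)]) := Nat.odd_iff.2 h1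
    have h4 : ¬ 3 ∣ #(Transfer.sdL φ ⊤) := by rwa [Transfer.card_sdL, card_top]
    have h5 := nK _ (mem_map_of_mem _ (mem_zpowers σ))
    have o3 : orderOf (SemidirectProduct.inr σ : G ⋊[φ] Sig) = 3 := by
      rw [orderOf_injective _ SemidirectProduct.inr_injective, hσ]
    have ho' := ho
    rw [Transfer.sdR, MonoidHom.map_zpowers] at ho'
    have h7 := gen o3 h5 h4 ho'
    rw [← MonoidHom.map_zpowers, e1, Opp, pseries2_map_inj SemidirectProduct.inl_injective, ← Subgroup.map_sup] at h7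
    refine ⟨isog_sol ⟨(equivMapOfInjective _ _ SemidirectProduct.inl_injective).symm.trans topEquiv⟩
      (sol _ rfl (o3 ▸ pow_orderOf_eq_one _) h5 h4 ho'), ?_,
      Opp_top (G := G) 2 ▸ Transfer.sdL_injective φ h7⟩
    rwa [e1, Transfer.card_sdL] at ho
  obtain ⟨σ, hσ⟩ := exists_prime_orderOf_dvd_card' (G := Sig) 3 (by rw [h6]; decide)
  obtain ⟨h1, h2, h4⟩ := key σ hσ
  refine ⟨h1, fun h => h2.not_two_dvd_nat (h.trans ?_), fun σ h hσ => (key ⟨σ, h⟩ (by rwa [← orderOf_coe])).2.2⟩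
  haveI : (pPrimePCore 2 G).Normal := Opp_top (G := G) 2 ▸ (pseries2_normal _ _ ⊤).normal
  rw [← relIndex_top_right, ← h4, relIndex_sup_left]
  exact relIndex_dvd_card _ _

end Cfsg.Agent.S3040
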