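import Cfsg.Statements.S3082
import Cfsg.Agent.PLocal.StabF
-- import your own Cfsg.Agent.* helpers here

set_option autoImplicit false
open Cfsg

namespace Cfsg.Agent.S3082


open Subgroup Cfsg Cfsg.Agent.Transfer Cfsg.Agent.BG Cfsg.Agent.PLocal Pointwise
open scoped commutatorElement

/-- The Glauberman–Thompson normal p-complement criterion for strongly closed subgroups, p odd. Let G be a finite group, P a Sylow p-subgroup and D a subgroup of P strongly closed in P with respect to G. If N_G(Z(J(D))) has a normal p-complement (J(D) generated by the abelian subgroups of D of largest order), or N_G(Ω₁(Z(J_e(D)))) has one (J_e(D) generated by the elementary abelian subgroups of largest order), then G has a normal p-complement. -/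
theorem result {G : Type*} [Group G] [Finite G] {p : ℕ} [Fact p.Prime] (hp : p ≠ 2) (P : Sylow p G) (D : Subgroup G) (hD : Cfsg.IsStronglyClosed D (P : Subgroup G)) (h : Cfsg.HasNormalPComplement p ↥(Subgroup.normalizer ((Cfsg.centerThompsonAOf D) : Set G)) ∨ Cfsg.HasNormalPComplement p ↥(Subgroup.normalizer ((Cfsg.omegaOne p (Cfsg.centerThompsonOf p D)) : Set G))) : Cfsg.HasNormalPComplement p G := by
  have hF := Fus.grpFS_group (P : Subgroup G)
  have hS := Loc.sylIn_top P
  have hD' := hF.sc_iff.2 ⟨hD.1, fun x hx g _ => hD.2 x hx g⟩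
  have hp' := P.2.to_le hD.1
  refine hasNormalPComplement_top_iff.1 ((hF.inner_iff hS).1 ?_)
  rcases h with h | h
  · exact inner_of_sc hp ZJAF_char (scNormal_ZJA hp) (hF.sat hS) hD' fun Q f => GrpFS.ci_of_npc hF hS
      ((sc_le_norm hD).trans (ind_ZJAF D ▸ norm_ind ZJAF_char hp')) (by rw [ind_ZJAF]) h
  · have h1 : N[inducedFunctor (ZJF p) D] ≤ N[omegaOne p (centerThompsonOf p D)] := by
      rw [ind_ZJF]; exact normalizer_le_normalizer_omegaOne p _
    exact inner_of_sc hp ZJF_char (scNormal_ZJ hp) (hF.sat hS) hD' fun Q f => GrpFS.ci_of_npc hF hS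
      ((sc_le_norm hD).trans ((norm_ind ZJF_char hp').trans h1)) h1 h


end Cfsg.Agent.S3082
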