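import Cfsg.Statements.S3104
import Cfsg.Agent.S3103
import Cfsg.Agent.S2553
import Cfsg.Agent.M12R.Big
import Cfsg.Agent.Gen2.SecRank
import Cfsg.Agent.Small.S6V
import Cfsg.Agent.Loc.Syl

set_option autoImplicit false
open Cfsg

namespace Cfsg.Agent.S3104

open Subgroup Cfsg.Agent.BG Cfsg.Agent.Sig Cfsg.Agent.SylCount Cfsg.Agent.Small.S6V Cfsg.Agent.S2553 Equiv MulAction
open scoped commutatorElement
local notation "Sol" => Group.IsSolvable
local notation "S8" => Perm (Fin 8)
local notation "A8" => alternatingGroup (Fin 8)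

theorem two {G : Type*} [Group G] [Finite G] {n p q : ℕ} (h : Nat.card G ∣ n)
    (h' : ∀ r ∈ n.primeFactorsList, r ∣ Nat.card G → r = p ∨ r = q) (n0 : n ≠ 0) : Sol G :=
  Char.isSolvable_of_two_primes fun r hr hd => h' r ((Nat.mem_primeFactorsList n0).2 ⟨hr, hd.trans h⟩) hd

theorem sixty {G : Type*} [Group G] [Finite G] (h : Nat.card G ∣ 120) (ns : ¬ Sol G) : 60 ≤ Nat.card G := by
  have h1 := mt (fun h' => two (p := 2) (q := 3) h h' (by norm_num)) ns
  have h2 := mt (fun h' => two (p := 2) (q := 5) h h' (by norm_num)) ns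
  have h3 : Nat.card G ≠ 30 := fun e => ns (by
    have := IsZGroup.of_squarefree (G := G) (by rw [e]; decide +kernel); infer_instance)
  have h4 := mt (fun h' => two (p := 3) (q := 5) h h' (by norm_num)) ns
  simp only [Nat.primeFactorsList_ofNat, List.mem_cons, List.not_mem_nil, or_false] at h1 h2 h4
  simp at h1 h2 h4
  have := Nat.pos_of_dvd_of_pos h (by norm_num)
  obtain ⟨k, hk⟩ : 30 ∣ Nat.card G := by omega
  by_contra; omega

theorem sol_of {G : Type*} [Group G] (N : Subgroup G) [N.Normal] (h1 : Sol N) (h2 : Sol (G ⧸ N)) : Sol G :=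
  solvable_of_ker_le_range N.subtype (QuotientGroup.mk' N) (by simp)

theorem cls {H : Type*} [Group H] [Finite H] {φ : H →* S8} (hφ : Function.Injective φ) (ev : φ.range ≤ A8)
    (ns : ¬ Sol H) (h2 : pCore 2 H = ⊥) :
    ((∃ n : ℕ, 5 ≤ n ∧ n ≤ 8 ∧ Nonempty (H ≃* alternatingGroup (Fin n))) ∨ Nonempty (H ≃* Perm (Fin 5)) ∨
      Nonempty (H ≃* Perm (Fin 6)) ∨ Nonempty (H ≃* GL (Fin 3) (ZMod 2))) ∨ (Nat.card (pCore 3 H) = 3 ∧
      (Nonempty (H ⧸ pCore 3 H ≃* alternatingGroup (Fin 5)) ∨ Nonempty (H ⧸ pCore 3 H ≃* Perm (Fin 5)))) := by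
  classical
  let e1 := MonoidHom.ofInjective hφ
  have hc := Nat.card_congr e1.toEquiv
  have hd : Nat.card H ∣ 20160 := hc ▸ card_A8 ▸ card_dvd_of_le ev
  have pw : ∀ {p : ℕ}, p.Prime → ∀ V : Subgroup H, IsPGroup p V → ∀ k, ¬ p ^ (k + 1) ∣ 20160 → Nat.card V ∣ p ^ k :=
    fun {p} hp V hV k h => by
      have := Fact.mk hp
      obtain ⟨j, hj⟩ := IsPGroup.iff_card.1 hV
      exact hj ▸ pow_dvd_pow p (by_contra fun l =>
        h ((pow_dvd_pow p (by omega)).trans (hj ▸ (card_subgroup_dvd_card V).trans hd)))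
  by_cases h3 : pCore 3 H = ⊥
  · have h := main (K := φ.range) ev (fun h => ns (by
        have : Subsingleton H := (Nat.card_eq_one_iff_unique.1 (by rw [hc, h, card_bot])).1
        infer_instance)) fun M hM hn hs => by_contra fun h => by
      obtain ⟨V, p, h1, h4, h0, hp, -, h5⟩ := solvable_norm_abelem hs h hn
      have h6 : (V.comap φ).Normal := ⟨fun a ha g => by simpa using le_norm_iff.1 h4 (φ g) ⟨g, rfl⟩ _ ha⟩
      have := Fact.mk hp
      have h7 : IsPGroup p (V.comap φ) := fun g => ⟨1, Subtype.ext (hφ (by simpa using h5 _ g.2))⟩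
      have h8 : V.comap φ ≠ ⊥ := fun e => h0 (by rw [← map_comap_eq_self (h1.trans hM), e, Subgroup.map_bot])
      have p2 : p ≠ 2 := fun e => h8 (eq_bot_iff.2 (h2 ▸ le_sSup ⟨h6, e ▸ h7⟩))
      have p3 : p ≠ 3 := fun e => h8 (eq_bot_iff.2 (h3 ▸ le_sSup ⟨h6, e ▸ h7⟩))
      have h9 := h7.card_eq_or_dvd.resolve_left (mt card_eq_one.1 h8)
      have hp' : p = 5 ∨ p = 7 := by
        have := (Nat.mem_primeFactorsList (n := 20160) (by norm_num)).2
          ⟨hp, (h9.trans (card_subgroup_dvd_card _)).trans hd⟩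
        simp only [Nat.primeFactorsList_ofNat, List.mem_cons, List.not_mem_nil, or_false] at this
        omega
      have c1 : Nat.card (V.comap φ) = p := Nat.dvd_antisymm
        (by simpa using pw hp _ h7 1 (by rcases hp' with rfl | rfl <;> norm_num)) h9
      have c2 : Nat.card V = p := by
        rw [← c1, ← card_map_of_injective hφ (K := V.comap φ), map_comap_eq_self (h1.trans hM)]
      obtain ⟨y, hy, oy⟩ := exists_elt hp c2.symm.dvd
      have e2 : zpowers y = V := eq_of_le_of_card_ge (zpowers_le.2 hy) (by rw [Nat.card_zpowers, oy, c2])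
      have c3 := (card_norm_dvd φ.range hp oy).trans (Nat.mul_dvd_mul_left _
        (card_cent hp' oy ▸ card_dvd_of_le (inf_le_right : _ ⊓ C1[y] ≤ _)))
      rw [e2, inf_eq_left.2 h4, ← hc, card_eq_card_quotient_mul_card_subgroup (V.comap φ), c1, ← mul_assoc] at c3
      refine ns (sol_of _ (have := h7.isNilpotent; inferInstance) (two (p := 2) (q := 3) (n := 24)
        ((Nat.dvd_of_mul_dvd_mul_right hp.pos c3).trans (by rcases hp' with rfl | rfl <;> decide)) ?_ (by norm_num)))
      simp only [Nat.primeFactorsList_ofNat, List.mem_cons, List.not_mem_nil, or_false]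
      omega
    rcases h with ⟨n, a, b, ⟨c⟩⟩ | ⟨⟨c⟩⟩ | ⟨⟨c⟩⟩ | ⟨⟨c⟩⟩
    exacts [.inl (.inl ⟨n, a, b, ⟨e1.trans c⟩⟩), .inl (.inr (.inl ⟨e1.trans c⟩)), .inl (.inr (.inr (.inl ⟨e1.trans c⟩))),
      .inl (.inr (.inr (.inr ⟨e1.trans c⟩)))]
  right
  have := Fact.mk Nat.prime_three
  have hT := Solv.isPGroup_pCore 3 H
  obtain ⟨q, hq, x, ox⟩ : ∃ q, (q = 5 ∨ q = 7) ∧ ∃ x : H, orderOf x = q := by
    have h1 := mt (fun h' => two (p := 2) (q := 3) hd h' (by norm_num)) ns
    simp only [Nat.primeFactorsList_ofNat, List.mem_cons, List.not_mem_nil, or_false] at h1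
    push Not at h1
    obtain ⟨q, h1, h4, h5⟩ := h1
    have hq : q = 5 ∨ q = 7 := by omega
    have : Fact q.Prime := ⟨by rcases hq with rfl | rfl <;> norm_num⟩
    exact ⟨q, hq, exists_prime_orderOf_dvd_card' q h4⟩
  have ox' := (orderOf_injective φ hφ x).trans ox
  have t9 := pw Nat.prime_three _ hT 2 (by norm_num)
  have t1 := mt card_eq_one.1 h3
  have cx : ∀ t ∈ pCore 3 H, φ x * φ t = φ t * φ x := fun t ht => by
    have h1 := cnt' (φ := MulAut.conjNormal (H := pCore 3 H) x) (p := q) (by rcases hq with rfl | rfl <;> norm_num)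
      (by rw [← map_pow, ← ox, pow_orderOf_eq_one, map_one])
    have h4 := card_subgroup_dvd_card (Fx (MulAut.conjNormal (H := pCore 3 H) x))
    have h5 := (Nat.dvd_prime_pow Nat.prime_three).1 (h4.trans t9)
    have h6 := (Nat.dvd_prime_pow Nat.prime_three).1 t9
    have := congrArg Subtype.val (DFunLike.congr_fun (eq_one (φ := MulAut.conjNormal (H := pCore 3 H) x) (by
      obtain ⟨i, hi, e⟩ := h5; obtain ⟨j, hj, e'⟩ := h6
      rw [e, e'] at h1 h4 ⊢
      revert h1 h4
      rcases hq with rfl | rfl <;> interval_cases i <;> interval_cases j <;> decide)) ⟨t, ht⟩)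
    rw [← map_mul, ← map_mul, mul_inv_eq_iff_eq_mul.1 (show x * t * x⁻¹ = t from this)]
  have t30 : Nat.card (pCore 3 H) ∣ (8 - q).factorial * q := by
    rw [← card_cent hq ox', ← card_map_of_injective hφ]
    refine card_dvd_of_le ?_
    rintro _ ⟨t, ht, rfl⟩
    exact mem_centralizer_singleton_iff.2 (cx t ht).symm
  obtain ⟨rfl, t3⟩ : q = 5 ∧ Nat.card (pCore 3 H) = 3 := by
    obtain ⟨j, hj, e'⟩ := (Nat.dvd_prime_pow Nat.prime_three).1 t9
    rw [e'] at t30 t1 ⊢
    revert t30 t1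
    rcases hq with rfl | rfl <;> interval_cases j <;> decide
  obtain ⟨⟨y, hy⟩, oy⟩ := exists_prime_orderOf_dvd_card' (G := pCore 3 H) 3 t3.symm.dvd
  rw [← orderOf_coe] at oy
  have e2 : zpowers y = pCore 3 H := eq_of_le_of_card_ge (zpowers_le.2 hy) (by rw [Nat.card_zpowers, t3]; exact oy.ge)
  have oy' := (orderOf_injective φ hφ y).trans oy
  have s3 : (φ y).support.card = 3 := by
    obtain ⟨n, hn⟩ := Perm.cycleType_prime_order (σ := φ y) (by rw [oy']; norm_num)
    have h1 := (φ y).sum_cycleType_le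
    have h4 := order_dvd_cent (K := C1[φ y]) (y := φ x) (mem_centralizer_singleton_iff.2 (cx y hy))
    have h5 := h4.trans (card_dvd_of_le inf_le_left)
    rw [Perm.nat_card_centralizer, ox'] at h5
    rw [← Perm.sum_cycleType]
    rw [hn, oy'] at h1 h5 ⊢
    rw [Multiset.sum_replicate, smul_eq_mul, Fintype.card_fin] at h1
    have : n ≤ 1 := by omega
    revert h5
    interval_cases n <;> decide +kernel
  letI := MulAction.compHom (Fin 8) φ
  have mD : ∀ a, (∀ t ∈ pCore 3 H, φ t a = a) ↔ a ∉ (φ y).support := fun a =>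
    ⟨fun h => by simpa using h y hy, fun h t ht => by
      obtain ⟨k, rfl⟩ := e2.ge ht
      exact map_zpow φ y k ▸ Perm.zpow_apply_eq_self_of_apply_eq_self (by simpa using h) k⟩
  let U : SubMulAction H (Fin 8) := ⟨{a | ∀ t ∈ pCore 3 H, φ t a = a}, fun g a ha t ht => by
    have := congrArg (φ g) (ha _ (Normal.conj_mem' inferInstance t ht g))
    show φ t (φ g a) = φ g a
    simpa using this⟩
  have c5 : Fintype.card U = 5 := by
    have := Finset.card_compl (φ y).support
    rw [s3, ← Fintype.card_coe, ← Nat.card_eq_fintype_card] at this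
    exact Nat.card_eq_fintype_card.symm.trans
      ((Nat.card_congr (Equiv.subtypeEquivRight fun a => (mD a).trans Finset.mem_compl.symm)).trans this)
  have hk : pCore 3 H = (toPermHom H U).ker := le_antisymm (fun t ht => Equiv.ext fun a => Subtype.ext (a.2 t ht))
    (Solv.le_pCore fun g => ⟨1, Subtype.ext (hφ (by
      have h1 : (φ g).support ⊆ (φ y).support := fun a ha => by_contra fun h =>
        Perm.mem_support.1 ha (congrArg Subtype.val (Equiv.congr_fun g.2 ⟨a, (mD a).2 h⟩))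
      have h4 := s3 ▸ Finset.card_le_card h1
      by_cases h0 : φ g = 1
      · simp [h0]
      have h5 := Perm.two_le_card_support_of_ne_one h0
      have h6 : (φ g).support.card ≠ 2 := fun e => by
        have := Perm.mem_alternatingGroup.1 (ev ⟨g, rfl⟩)
        rw [(Perm.card_support_eq_two.1 e).sign_eq] at this
        exact absurd this (by decide)
      have h7 := pow_orderOf_eq_one (φ g)
      rw [(card_support_eq_three_iff.1 (by omega : (φ g).support.card = 3)).orderOf] at h7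
      simpa using h7))⟩)
  have hi := (QuotientGroup.kerLift_injective (toPermHom H U)).comp (QuotientGroup.quotientMulEquivOfEq hk).injective
  refine ⟨t3, alt_or_perm (φ := (QuotientGroup.kerLift _).comp (QuotientGroup.quotientMulEquivOfEq hk).toMonoidHom)
    c5 hi ?_⟩
  have := sixty (G := H ⧸ pCore 3 H) (by
    have := card_dvd_of_injective ((QuotientGroup.kerLift _).comp (QuotientGroup.quotientMulEquivOfEq hk).toMonoidHom) hi
    rwa [Nat.card_perm, Nat.card_eq_fintype_card (α := U), c5] at this)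
    fun h => ns (sol_of _ (have := hT.isNilpotent; inferInstance) h)
  rw [show Nat.factorial 5 = 120 from rfl]; omega

universe u in
theorem setup {X : Type u} [Group X] [Finite X] (hc : IsPConstrained 2 X) (hO : oddCore X = ⊥)
    (h4 : SectionalPRankLE 2 4 (pCore 2 X)) : ∃ (A Y : Type u) (_ : CommGroup A) (_ : Finite A) (_ : Group Y)
      (π : X →* Y) (ι : A →* Y) (ρ : Y →* MulAut A), Function.Surjective π ∧ π.ker = Phi (pCore 2 X) ∧
      Function.Injective ι ∧ ι.range = (pCore 2 X).map π ∧ (∀ a : A, a * a = 1) ∧ Nat.card A ≤ 16 ∧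
      (∀ y a, ι (ρ y a) = y * ι a * y⁻¹) ∧ (ρ.comp π).ker = pCore 2 X ∧ C[pCore 2 X] ≤ pCore 2 X := by
  haveI : Fact (Nat.Prime 2) := ⟨Nat.prime_two⟩
  set Q := pCore 2 X with hQ
  have hQp : IsPGroup 2 Q := Solv.isPGroup_pCore 2 X
  have hC : C[Q] ≤ Q := by
    have h1 : xeIn 2 (⊤ : Subgroup X) = ⊥ := by
      rw [xeIn, pLayerIn_top, ppIn_top, isPConstrained_iff_pLayer.1 hc, bot_sup_eq]
      exact hO
    have h2 := fstarIn_eq_pcIn_iff.1 (fstarIn_eq_pcIn_iff_xeIn.2 h1)
    rwa [pcIn_top, top_inf_eq] at h2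
  haveI : (Phi Q).Normal := NormalIn.normal (normal_top Q).Phi
  set π := QuotientGroup.mk' (Phi Q) with hπ
  haveI : (Q.map π).Normal := Normal.map inferInstance _ (QuotientGroup.mk'_surjective _)
  have hV : ∀ v : Q.map π, v * v = 1 := by
    rintro ⟨_, x, hx, rfl⟩
    exact Subtype.ext ((QuotientGroup.eq_one_iff (x * x)).2 (Gen2.sq_Phi hQp x hx))
  have hcard : #(Q.map π) ≤ 16 := by
    have h1 := Gen2.sr_le h4 (H := ⊤) (N := (Phi Q).subgroupOf Q) le_top fun x _ => Gen2.sq_Phi hQp x x.2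
    have h2 := Solv.card_comap_mk' (Phi Q) (Q.map π)
    rw [QuotientGroup.comap_map_mk', sup_eq_right.2 (Phi_sub Q)] at h2
    rw [card_top, Loc.card_subgroupOf (Phi_sub Q), h2, mul_comm] at h1
    exact Nat.le_of_mul_le_mul_right h1 Nat.card_pos
  let ψ := (MulAut.conjNormal (H := Q.map π)).comp π
  have hk : ∀ g, g ∈ ψ.ker ↔ ∀ x ∈ Q, ⁅x, g⁆ ∈ Phi Q := by
    intro g
    rw [MonoidHom.mem_ker, MonoidHom.comp_apply]
    have key : ∀ x, ⁅x, g⁆ ∈ Phi Q ↔ π g * π x * (π g)⁻¹ = π x := fun x => by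
      rw [← QuotientGroup.eq_one_iff, ← QuotientGroup.mk'_apply, map_commutatorElement,
        commutatorElement_eq_one_iff_mul_comm, mul_inv_eq_iff_eq_mul, eq_comm]
    constructor
    · intro h x hx
      have := congrArg Subtype.val (DFunLike.congr_fun h ⟨π x, mem_map_of_mem _ hx⟩)
      rw [MulAut.conjNormal_apply] at this
      exact (key x).2 this
    · intro h
      ext ⟨_, x, hx, rfl⟩
      exact (key x).1 (h x hx)
  have hker : ψ.ker = Q := by
    refine le_antisymm (Solv.le_pCore ?_) fun g hg => (hk g).2 fun x hx =>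
      der1_sub_Phi (pgroup_nil hQp) (commutator_mem_commutator hx hg)
    refine PiNat.pg fun q hq hd => ?_
    by_contra h2
    obtain ⟨g, hg, hgq⟩ := Cauchy hq hd
    have hz : PiGrp {2}ᶜ (zpowers g) := p_elt_zpowers.2 (by rw [PiElt, hgq, pnat_prime hq]; exact h2)
    have h3 := coprime_cent_Phi (norm_of_normal Q (zpowers g)) (pnat_coprime (IsPGroup.pi hQp) hz)
      (commutator_le.2 fun x hx y hy => (hk y).1 (zpowers_le.2 hg hy) x hx)
    have h5 := (pgroup_p'_TI hQp hz).le ⟨hC (h3 (mem_zpowers g)), mem_zpowers g⟩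
    rw [mem_bot.1 h5, orderOf_one] at hgq
    exact hq.one_lt.ne hgq
  exact ⟨Q.map π, X ⧸ Phi Q, { (inferInstance : Group (Q.map π)) with
      mul_comm := fun a b => by
        rw [← inv_eq_of_mul_eq_one_right (hV (a * b)), mul_inv_rev, inv_eq_of_mul_eq_one_right (hV a),
          inv_eq_of_mul_eq_one_right (hV b)] }, inferInstance, inferInstance, π, (Q.map π).subtype,
    MulAut.conjNormal, QuotientGroup.mk'_surjective _, QuotientGroup.ker_mk' _, subtype_injective _, range_subtype _, hV,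
    hcard, fun _ _ => rfl, hker, hC⟩

def tw : Perm (Fin 6) →* Perm (Fin 2) where
  toFun s := if Perm.sign s = 1 then 1 else swap 0 1
  map_one' := by simp
  map_mul' a b := by
    rw [map_mul]
    rcases Int.units_eq_one_or (Perm.sign a) with e | e <;> rcases Int.units_eq_one_or (Perm.sign b) with e' | e' <;>
      rw [e, e'] <;> decide

theorem s6a8 : ∃ f : Perm (Fin 6) →* A8, Function.Injective f := by
  let f := (finSumFinEquiv (m := 6) (n := 2)).permCongrHom.toMonoidHom.comp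
    ((Perm.sumCongrHom _ _).comp ((MonoidHom.id _).prod tw))
  refine ⟨f.codRestrict A8 fun s => Perm.mem_alternatingGroup.2 ?_, (MonoidHom.injective_codRestrict _ _ _).2
    fun a b e => congrArg Prod.fst (Perm.sumCongrHom_injective ((finSumFinEquiv.permCongrHom).injective e))⟩
  change Perm.sign (finSumFinEquiv.permCongr (Perm.sumCongr s (if Perm.sign s = 1 then 1 else swap 0 1))) = 1
  rw [Perm.sign_permCongr, Perm.sign_sumCongr]
  rcases Int.units_eq_one_or (Perm.sign s) with e | e <;> rw [e] <;> decide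

/-- Let X be a finite nonsolvable 2-constrained group with no nontrivial normal subgroup of odd order such that O₂(X) has sectional 2-rank at most 4, and write Q for X/O₂(X). Then Q is isomorphic to the projective special linear group of dimension 3 over the field with 2 elements, to an alternating group of degree n with 5 ≤ n ≤ 8, to a symmetric group of degree n with 5 ≤ n ≤ 7, or else O₃(Q) has order 3 and Q/O₃(Q) is isomorphic to the alternating or the symmetric group of degree 5 (so Q is the direct product of a group of order 3 with the alternating group of degree 5, or an extension of that direct product by a group of order 2). If moreover X itself has sectional 2-rank at most 4, then Q is not isomorphic to the symmetric group of degree 6 or 7 nor to the alternating group of degree 8. -/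
theorem result {X : Type*} [Group X] [Finite X] (hns : ¬ Group.IsSolvable X) (hc : Cfsg.IsPConstrained 2 X) (hO : Cfsg.oddCore X = ⊥)
    (h4 : Cfsg.SectionalPRankLE 2 4 ↥(Cfsg.pCore 2 X)) :
    ((∃ (F : Type) (_ : Field F) (_ : Fintype F), Fintype.card F = 2 ∧
          Nonempty (X ⧸ Cfsg.pCore 2 X ≃* Matrix.ProjectiveSpecialLinearGroup (Fin 3) F)) ∨
        (∃ n : ℕ, 5 ≤ n ∧ n ≤ 8 ∧ Nonempty (X ⧸ Cfsg.pCore 2 X ≃* ↥(alternatingGroup (Fin n)))) ∨
        (∃ n : ℕ, 5 ≤ n ∧ n ≤ 7 ∧ Nonempty (X ⧸ Cfsg.pCore 2 X ≃* Equiv.Perm (Fin n))) ∨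
        (Nat.card ↥(Cfsg.pCore 3 (X ⧸ Cfsg.pCore 2 X)) = 3 ∧
          (Nonempty ((X ⧸ Cfsg.pCore 2 X) ⧸ Cfsg.pCore 3 (X ⧸ Cfsg.pCore 2 X) ≃* ↥(alternatingGroup (Fin 5))) ∨
            Nonempty ((X ⧸ Cfsg.pCore 2 X) ⧸ Cfsg.pCore 3 (X ⧸ Cfsg.pCore 2 X) ≃* Equiv.Perm (Fin 5))))) ∧
      (Cfsg.SectionalPRankLE 2 4 X →
        ¬ (Nonempty (X ⧸ Cfsg.pCore 2 X ≃* Equiv.Perm (Fin 6)) ∨ Nonempty (X ⧸ Cfsg.pCore 2 X ≃* Equiv.Perm (Fin 7)) ∨
            Nonempty (X ⧸ Cfsg.pCore 2 X ≃* ↥(alternatingGroup (Fin 8))))) := by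
  have := Fact.mk Nat.prime_two
  refine ⟨?_, fun hr h => ?_⟩
  · obtain ⟨f, hf⟩ := S3103.result hc hO h4
    rcases cls (φ := (A8).subtype.comp f) ((subtype_injective _).comp hf) (by rintro _ ⟨g, rfl⟩; exact (f g).2)
      (fun h => hns (sol_of _ (have := (Solv.isPGroup_pCore 2 X).isNilpotent; inferInstance) h))
      (Loc.pCore_quotient_pCore 2 X) with (h | h | h | ⟨⟨e⟩⟩) | h
    exacts [.inr (.inl h), .inr (.inr (.inl ⟨5, le_rfl, by norm_num, h⟩)),
      .inr (.inr (.inl ⟨6, by norm_num, by norm_num, h⟩)), .inl ⟨ZMod 2, inferInstance, inferInstance, ZMod.card 2,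
        ⟨(e.trans M12R.gl_sl.some).trans M12R.sl_psl.some⟩⟩, .inr (.inr (.inr h))]
  obtain ⟨j, hj⟩ : ∃ j : Perm (Fin 6) →* X ⧸ pCore 2 X, Function.Injective j := by
    rcases h with ⟨⟨e⟩⟩ | ⟨⟨e⟩⟩ | ⟨⟨e⟩⟩
    · exact ⟨e.symm, e.symm.injective⟩
    · exact ⟨e.symm.toMonoidHom.comp (Perm.viaEmbeddingHom Fin.castSuccEmb),
        e.symm.injective.comp (Perm.viaEmbeddingHom_injective _)⟩
    · obtain ⟨f, hf⟩ := s6a8
      exact ⟨e.symm.toMonoidHom.comp f, e.symm.injective.comp hf⟩
  obtain ⟨A, Y, _, _, _, π, ι, ρ, hπ, -, hι, h1, hA, h16, hρ, hk, -⟩ := setup hc hO h4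
  obtain ⟨P, W, h2, h3, h5⟩ := s6 hA h16 hι hρ (Subgroup.ext fun y => by
      obtain ⟨x, rfl⟩ := hπ y
      rw [h1]
      exact ⟨fun h => mem_map_of_mem _ (hk.le h), fun ⟨z, hz, e⟩ => e ▸ hk.ge hz⟩)
    (α := ((QuotientGroup.kerLift _).comp (QuotientGroup.quotientMulEquivOfEq hk.symm).toMonoidHom).comp j)
    (((QuotientGroup.kerLift_injective _).comp (MulEquiv.injective _)).comp hj) (by
      rintro _ ⟨s, rfl⟩
      obtain ⟨x, hx⟩ := QuotientGroup.mk_surjective (j s)
      exact ⟨π x, by rw [MonoidHom.comp_apply, ← hx]; rfl⟩)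
  have h6 := Gen2.sr_le hr (comap_mono (f := π) h2) fun x hx => (map_mul π x x ▸ h3 _ hx : π (x * x) ∈ W)
  have h7 := (MonoidHom.range_eq_top.2 hπ).ge
  rw [Solv.card_comap π (le_top.trans h7), Solv.card_comap π (le_top.trans h7), mul_left_comm] at h6
  exact h5.not_ge (Nat.le_of_mul_le_mul_left h6 Nat.card_pos)

end Cfsg.Agent.S3104
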