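import Cfsg.Statements.S3109
import Cfsg.Agent.S1221
import Cfsg.Agent.Sig.Sf5

set_option autoImplicit false
open Cfsg

namespace Cfsg.Agent.S3109

open Subgroup Cfsg.Agent.BG Cfsg.Agent.Sig

/-- Let G be a non-abelian finite simple group in which every 2-local subgroup is 2-constrained, and suppose some Sylow 2-subgroup S of G has a self-centralizing abelian normal subgroup A (C_S(A) = A) of 2-rank at least 3. Then the centralizer of every involution of G has no nontrivial normal subgroup of odd order. -/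
theorem result {G : Type*} [Group G] [Finite G] [IsSimpleGroup G] (hG : ¬ IsMulCommutative G)
    (h2c : ∀ T : Subgroup G, IsPGroup 2 T → T ≠ ⊥ → Cfsg.IsPConstrained 2 ↥(Subgroup.normalizer (T : Set G)))
    (S : Sylow 2 G) (A : Subgroup ↥(S : Subgroup G)) (hAn : A.Normal) (hAab : IsMulCommutative ↥A)
    (hAC : Subgroup.centralizer (A : Set ↥(S : Subgroup G)) = A) (hA3 : ¬ Cfsg.PRankLE 2 2 ↥A) :
    ∀ t : G, orderOf t = 2 → Cfsg.centralizerPPrimeCore 2 t = ⊥ := by
  have hc' : ∀ t : G, orderOf t = 2 → pLayerIn 2 C1[t] = ⊥ := fun t ht =>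
    pLayerIn_C1_eq_bot h2c (pgroup_zpowers ht) fun e => by simp [e] at ht
  obtain ⟨E, hn, hE, h3⟩ := exists_normal_abelem hAn hAab hA3
  have hU := uni_of_normal (fun A _ hA => sf_two hc' hA) S.2 hE hn h3
  have hO : oddCore G = ⊥ := (IsSimpleGroup.eq_bot_or_eq_top_of_normal _ inferInstance).resolve_right fun e => by
    have := pcore_pgroup {2}ᶜ (⊤ : Subgroup G)
    rw [← Op', Op'_top, show pPrimeCore 2 G = ⊤ from e] at this
    exact ne_bot_of_sq (sq_le_of_cube h3) (trivg_of_pi hE.pg.pi (pgroupS le_top this))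
  have := hU.le_core hc' (sylowIn_top S) hE hn.1 h3 fun H hH => Cfsg.Agent.S1221.result H hH
  rw [hO, le_bot_iff] at this
  intro t ht
  rw [cpc_eq]
  exact (this ▸ hU : Uni _ _ ⊥).core_eq_bot (sylowIn_top S) hE hn.1 (sq_le_of_cube h3) ht

end Cfsg.Agent.S3109
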