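import Cfsg.Statements.S3121
import Cfsg.Agent.ZC.Ext
import Cfsg.Agent.Sig.FStar

set_option autoImplicit false
open Cfsg

namespace Cfsg.Agent.S3121

open ZD SE BG Subgroup MulAction

/-- Let G be a finite group whose generalized Fitting subgroup F*(G) is a non-abelian simple group, let H be a tightly embedded subgroup of G and N its normalizer. If H^g ∩ N has odd order for every element g of G outside N, then either H is normal in G or F*(G) has a strongly embedded subgroup. -/
theorem result {G : Type*} [Group G] [Finite G]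
    (hF : IsSimpleGroup ↥(Cfsg.generalizedFittingSubgroup G)) (hF' : ¬ IsMulCommutative ↥(Cfsg.generalizedFittingSubgroup G))
    (H : Subgroup G) (hH : Cfsg.IsTightlyEmbedded H)
    (hodd : ∀ g : G, g ∉ Subgroup.normalizer (H : Set G) →
      Odd (Nat.card ↥(H.map (MulAut.conj g).toMonoidHom ⊓ Subgroup.normalizer (H : Set G)))) :
    H.Normal ∨ ∃ M : Subgroup ↥(Cfsg.generalizedFittingSubgroup G), Cfsg.IsStronglyEmbedded M := by
  refine or_iff_not_imp_left.2 fun hn => ?_
  have h := pc_of_tight (Q := H) hodd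
  obtain ⟨z, hz, hz2⟩ := Invol.exists_invol_mem_of_even hH.1
  have hzZ : z ∈ ZI H := ⟨hz2, 1, by simpa⟩
  have ha := smul_pt.2 (normG H hz)
  obtain ⟨g, hg⟩ : ∃ g, g ∉ N[H] := by
    by_contra! e
    exact hn (normalizer_eq_top_iff.1 (eq_top_iff.2 fun g _ => e g))
  have := h.normal
  have hL : generalizedFittingSubgroup G ≤ Subgroup.closure (ZI H) := by
    rcases IsSimpleGroup.eq_bot_or_eq_top_of_normal
      ((Subgroup.closure (ZI H)).subgroupOf (generalizedFittingSubgroup G)) inferInstance with e | e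
    · have h1 := Sig.fstarIn_eq_inf (Sig.SubnIn.of_normal (le_top (a := Subgroup.closure (ZI H)))
        (normalizer_eq_top _).ge)
      rw [Sig.fstarIn_top, inf_comm, ← subgroupOf_map_subtype, e, Subgroup.map_bot, Sig.fstarIn_eq_bot_iff] at h1
      exact absurd (h1.le (subset_closure hzZ)) (Invol.ne_one_of hz2)
    · exact subgroupOf_eq_top.1 e
  have k : ∀ t : generalizedFittingSubgroup G, orderOf t = 2 → (t : G) ∈ ZI H := fun t ht =>
    h.loc hzZ ha (h.conj z hzZ g) (fun e => hg (smul_pt.1 (h.eq_of_conj hzZ ha e))) (hL t.2) (by rwa [orderOf_coe])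
  obtain ⟨t, ht⟩ := Invol.exists_invol_of_even (even_simple hF')
  obtain ⟨c, hc⟩ := h.ex _ (k t ht)
  obtain ⟨x, hx⟩ : ∃ x : generalizedFittingSubgroup G, x • c ≠ c := by
    by_contra! e
    have e2 : ∀ x : G, x • c = c := fun x => h.eq_of_conj (k t ht) hc
      (e ⟨_, (inferInstance : (generalizedFittingSubgroup G).Normal).conj_mem _ t.2 x⟩)
    obtain ⟨x, rfl⟩ := quot_trans _ (pt N[H]) c
    exact hg (smul_pt.1 (smul_left_cancel x (by simpa [mul_smul] using e2 (x * g * x⁻¹))))
  exact ⟨_, One.se (Ω := G ⧸ N[H]) ⟨fun t ht => h.ex t (k t ht), fun t ht => h.uniq t (k t ht)⟩ ht hc hx⟩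

end Cfsg.Agent.S3121
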