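import Cfsg.Statements.S3738
import Cfsg.Agent.BG.Base5
import Cfsg.Agent.ABG.Rk2

set_option autoImplicit false
open Cfsg

namespace Cfsg.Agent.S3738

open Subgroup Cfsg.Agent.BG Cfsg.Agent.ABG

/-- Let d be a non-identity 3-element of a finite group and P a 2-subgroup normalized by d on which ⟨d⟩ acts faithfully (no non-identity power of d centralizes P) and without non-identity fixed points (C_P(d) = 1). If every abelian subgroup of P has 2-rank at most 2, then d has order 3. -/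
theorem result {X : Type*} [Group X] [Finite X] (d : X) (n : ℕ) (hn : 1 ≤ n) (hd : orderOf d = 3 ^ n) (P : Subgroup X) (hP : IsPGroup 2 P) (hdP : d ∈ Subgroup.normalizer (P : Set X)) (hfaith : Subgroup.zpowers d ⊓ Subgroup.centralizer (P : Set X) = ⊥) (hfpf : P ⊓ Subgroup.centralizer {d} = ⊥) (hrank : ∀ V : Subgroup X, V ≤ P → IsMulCommutative V → Cfsg.PRankLE 2 2 V) : orderOf d = 3 := by
  obtain _ | m := n
  · omega
  obtain _ | m := m
  · simpa using hd
  exfalso
  have key : d ^ 3 ^ (m + 1) ∉ C[P] := fun c => by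
    have := orderOf_dvd_of_pow_eq_one (mem_bot.1 (hfaith ▸ mem_inf.2 ⟨pow_mem (mem_zpowers d) _, c⟩))
    rw [hd, Nat.pow_dvd_pow_iff_le_right (by norm_num)] at this
    omega
  have P0 : P ≠ ⊥ := fun e => key (by simp [e])
  obtain ⟨a, ha⟩ := exists_prime_orderOf_dvd_card' (G := center P) 2 (by
    haveI := (nontrivial_iff_ne_bot P).2 P0
    haveI := hP.center_nontrivial
    obtain ⟨k, k0, hk⟩ := (hP.to_subgroup (center P)).nontrivial_iff_card.1 inferInstance
    exact hk ▸ dvd_pow_self 2 k0.ne')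
  rw [← orderOf_coe] at ha
  set φ := P.normalizerMonoidHom ⟨d, hdP⟩
  have hφ : ∀ (k : ℕ) (x : P), ((φ ^ k) x : X) = d ^ k * x * (d ^ k)⁻¹ := fun k x => by rw [← map_pow]; rfl
  have nf : ∀ k, Nat.Coprime k 3 → (φ ^ k) a ≠ a := fun k hk e => by
    have h1 : d ^ k ∈ C1[((a : P) : X)] := mem_cent1.2 (mul_inv_eq_iff_eq_mul.1 ((hφ k a).symm.trans (congrArg _ e)))
    have h2 : d ∈ C1[((a : P) : X)] := zpowers_le.2 h1 (mem_zpowers_pow_iff.2 (by rw [hd]; exact hk.pow_right _))
    have h3 : ((a : P) : X) = 1 := mem_bot.1 (hfpf ▸ mem_inf.2 ⟨a.1.2, mem_cent1.2 (mem_cent1.1 h2).symm⟩)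
    rw [show (a : P) = 1 from Subtype.ext h3, orderOf_one] at ha
    omega
  have hr : PRankLE 2 2 P := fun A hA h2 => by
    haveI := hA
    have := hrank (A.map P.subtype) (map_subtype_le A) inferInstance ⊤ inferInstance (by
      rintro ⟨_, x, hx, rfl⟩ -
      exact Subtype.ext (congrArg (Subtype.val : P → X) (h2 x hx)))
    rwa [card_top, card_map_of_injective P.subtype_injective] at this
  have T := tri_of hP hr ha a.2 (by simpa using nf 1 (by norm_num)) (by simpa [sq] using nf 2 (by norm_num))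
  have h3 := cube_eq_one hP T.central T.card_Om (ρ := φ ^ 3 ^ m) (by
    rw [← pow_mul, ← map_pow, show (⟨d, hdP⟩ : N[P]) ^ (3 ^ m * 9) = 1 from Subtype.ext (by
      rw [coe_pow, show 3 ^ m * 9 = 3 ^ (m + 1 + 1) by ring, ← hd, pow_orderOf_eq_one]; rfl), map_one])
    fun x hx => by rw [← pow_mul, T.pow_mod _ hx]; simp
  refine key fun x hx => ?_
  have := hφ (3 ^ (m + 1)) ⟨x, hx⟩
  rw [pow_succ 3 m, pow_mul φ, h3, ← pow_succ] at this
  exact eq_mul_inv_iff_mul_eq.1 this

end Cfsg.Agent.S3738
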