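import Cfsg.Statements.S3739
import Cfsg.Agent.BG.Base6
import Cfsg.Agent.BG.S3Gen
import Cfsg.Agent.S3738
import Cfsg.Agent.Transfer.Abelian

set_option autoImplicit false
open Cfsg

namespace Cfsg.Agent.S3739

open Subgroup Cfsg.Agent.BG

/-- Let G be a finite group with C_G(O₂(G)) ≤ O₂(G) containing an element of order 6, and let d be a non-identity 3-element of G normalizing a nontrivial elementary abelian 2-subgroup W with C_W(d) = 1. Then G has an elementary abelian subgroup of order 8. -/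
theorem result {G : Type*} [Group G] [Finite G] (hchar : Subgroup.centralizer (Cfsg.pCore 2 G : Set G) ≤ Cfsg.pCore 2 G) (hsix : ∃ g : G, orderOf g = 6) (d : G) (hd1 : d ≠ 1) (hd : IsPGroup 3 ↥(Subgroup.zpowers d)) (W : Subgroup G) (hW : Cfsg.IsElementaryAbelian 2 W) (hW1 : W ≠ ⊥) (hdW : d ∈ Subgroup.normalizer (W : Set G)) (hfpf : W ⊓ Subgroup.centralizer {d} = ⊥) : ∃ E : Subgroup G, Cfsg.IsElementaryAbelian 2 E ∧ Nat.card E = 8 := by
  haveI : Fact (Nat.Prime 3) := ⟨by norm_num⟩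
  by_contra hno
  have rk : ∀ E : Subgroup G, Abelem 2 E → #E ≤ 4 := fun E hE => by
    by_contra! c
    obtain ⟨k, hk⟩ := hE.pg.exists_card_eq
    have k3 : 2 < k := (Nat.pow_lt_pow_iff_right one_lt_two).1 (hk ▸ c : 2 ^ 2 < 2 ^ k)
    obtain ⟨H, h2⟩ := Sylow.exists_subgroup_card_pow_prime (G := E) 2 (n := 3) (hk ▸ pow_dvd_pow 2 k3)
    exact hno ⟨H.map E.subtype, abelemS (map_subtype_le H) hE, by rwa [card_map_of_injective E.subtype_injective]⟩
  have ord : ∀ {p : ℕ} [Fact p.Prime] {A : Subgroup G}, IsPGroup p A → A ≠ ⊥ → ∃ x ∈ A, orderOf x = p :=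
    fun {p} _ A hA h0 => by
      obtain ⟨k, k0, hk⟩ := hA.nontrivial_iff_card.1 ((nontrivial_iff_ne_bot A).2 h0)
      obtain ⟨x, hx⟩ := exists_prime_orderOf_dvd_card' (G := A) p (hk ▸ dvd_pow_self p k0.ne')
      exact ⟨x, x.2, by rw [orderOf_coe, hx]⟩
  have md : ∀ {a} {U : Subgroup G}, IsPGroup 3 (zpowers a) → a ∈ N[U] → #U ≡ #(U ⊓ C1[a]) [MOD 3] := fun h1 h2 => by
    rw [← C_zpowers]; exact Transfer.card_modEq_card_inf_centralizer h1 (zpowers_le.2 h2)
  have c4 : ∀ U ≤ W, #U % 3 = 1 → U = ⊥ ∨ #U = 4 := fun U hU h => by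
    obtain ⟨k, hk⟩ := (hW.pg.to_le hU).exists_card_eq
    have h1 := rk U (abelemS hU hW)
    rw [hk] at h h1
    have : k ≤ 2 := (Nat.pow_le_pow_iff_right one_lt_two).1 h1
    interval_cases k
    exacts [.inl (card_eq_one.1 hk), absurd h (by norm_num), .inr hk]
  have irr : ∀ {a}, IsPGroup 3 (zpowers a) → W ⊓ C1[a] = ⊥ → ∀ U ≤ W, U ≠ ⊥ → a ∈ N[U] → #U = 4 :=
    fun h1 h2 U hU h0 h3 => (c4 U hU (by
      have := md h1 h3
      rwa [eq_bot_iff.2 ((inf_le_inf_right _ hU).trans h2.le), card_bot] at this)).resolve_left h0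
  have W4 := irr hd hfpf W le_rfl hW1 hdW
  have inv : ∀ t, t ^ 2 = 1 → t ∈ C[W] → t ∈ W := fun t h1 h2 => (eq_of_le_of_card_ge le_sup_left
    (W4 ▸ rk _ (abelemY hW (cycle_abelem h1) (cents_symm (zpowers_le.2 h2))))).ge (mem_sup_right (mem_zpowers t))
  set Q := pCore 2 G
  have pQ : IsPGroup 2 Q := Solv.isPGroup_pCore 2 G
  have Q0 : Q ≠ ⊥ := fun e => hd1 (mem_bot.1 (e ▸ hchar (by simp [e])))
  have nZ : ∀ A : Subgroup G, A ≤ N[Z[Q]] := fun A => norms_center (norm_of_normal Q A)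
  have WZ : W ≤ Z[Q] := by
    obtain ⟨v, hv, o⟩ := ord ((pQ.to_le inf_le_left).to_le inf_le_left) (pgroup_cent_ne_bot hW.pg
      (pQ.to_le inf_le_left) (nZ W) (by simpa using meet_center_nil pQ.isNilpotent ⟨le_rfl, le_normalizer⟩ Q0))
    have v1 : v ≠ 1 := fun e => by simp [e] at o
    exact inf_eq_left.1 (eq_of_le_of_card_ge inf_le_left (W4.trans (irr hd hfpf _ inf_le_left
      (fun e => v1 (mem_bot.1 (e ▸ mem_inf.2 ⟨inv v (o ▸ pow_orderOf_eq_one v) hv.2, hv.1⟩)))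
      (zpowers_le.1 (normsI (zpowers_le.2 hdW) (nZ _)))).symm).le)
  have inv' : ∀ t ∈ Q, t ^ 2 = 1 → t ∈ W := fun t ht h => inv t h (cents_symm (WZ.trans inf_le_right) ht)
  have nW : ∀ g, g ∈ N[W] := fun g => mem_norm_of_cj_le (by
    rintro _ ⟨x, hx, rfl⟩
    exact inv' _ (Normal.conj_mem inferInstance _ (WZ hx).1 g) (by rw [← map_pow, hW.2 x hx, map_one]))
  have fQ : ∀ a, W ⊓ C1[a] = ⊥ → Q ⊓ C1[a] = ⊥ := fun a h => by_contra fun c => by
    obtain ⟨v, hv, o⟩ := ord (pQ.to_le inf_le_left) c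
    have := mem_bot.1 (h ▸ mem_inf.2 ⟨inv' v hv.1 (o ▸ pow_orderOf_eq_one v), hv.2⟩)
    simp [this] at o
  have fp : ∀ a, IsPGroup 3 (zpowers a) → a ∉ C[W] → W ⊓ C1[a] = ⊥ := fun a h1 h2 =>
    (c4 _ inf_le_left (by have := md h1 (nW a); rw [W4] at this; exact this.symm)).resolve_right fun e => h2
      (zpowers_le.1 (cents_symm (by
        rw [C_zpowers]; exact inf_eq_left.1 (eq_of_le_of_card_ge inf_le_left (W4.trans e.symm).le))))
  have q3 : ∀ a, IsPGroup 3 (zpowers a) → zpowers a ⊓ C[Q] = ⊥ := fun a h => eq_bot_iff.2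
    ((inf_le_inf_left _ hchar).trans (coprime_TI (IsPGroup.coprime_card_of_ne 3 2 (by norm_num) _ _ h pQ)).le)
  have d3 : orderOf d = 3 := by
    obtain ⟨n, hn⟩ := hd.exists_card_eq
    rw [Nat.card_zpowers] at hn
    refine S3738.result d n (Nat.pos_of_ne_zero fun e => hd1 (by simpa [e] using hn)) hn Q pQ
      (norm_of_normal Q ⊤ trivial) (q3 d hd) (fQ d hfpf) fun V _ _ A hA h2 => ?_
    haveI := hA
    have := rk (A.map V.subtype) ⟨inferInstance, by
      rintro _ ⟨x, hx, rfl⟩; exact congrArg Subtype.val (h2 x hx)⟩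
    rwa [card_map_of_injective V.subtype_injective] at this
  have dW : zpowers d ⊓ C[W] = ⊥ := by_contra fun c => hW1 (by
    rw [← hfpf, left_eq_inf, ← C_zpowers]
    exact cents_symm (prime_meet (by rw [Nat.card_zpowers, d3]; norm_num) c))
  have all : ∀ y, orderOf y = 3 → y ∉ C[W] := fun y₀ o₀ h₀ => by
    obtain ⟨D, sD, hD⟩ := Sylow_superset (M := ⊤) le_top hd
    obtain ⟨g, -, hg⟩ := Sylow_Jsub sD le_top
      (IsPGroup.of_card (n := 1) (by rw [Nat.card_zpowers, o₀, pow_one]) : IsPGroup 3 (zpowers y₀))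
    have nC : ∀ A : Subgroup G, A ≤ N[C[W]] := fun A => norms_cent fun g _ => nW g
    obtain ⟨y, hy, o⟩ := ord ((sD.pg.to_le inf_le_left).to_le inf_le_left) (meet_center_nil sD.pg.isNilpotent
      ⟨inf_le_left, normsI le_normalizer (nC D)⟩ fun e => (show g * y₀ * g⁻¹ ≠ 1 from fun e => by
        simp [conj_eq_one_iff.1 e] at o₀) (mem_bot.1 (e ▸ mem_inf.2 ⟨hg ⟨y₀, mem_zpowers _, rfl⟩,
          conj_mem_of_norm (nC ⊤ trivial) h₀⟩)))
    have cy : zpowers d ≤ C[zpowers y] := cents_symm (zpowers_le.2 (centralizer_le hD hy.2.2))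
    have p3 := sD.pg.to_le (sup_le hD (zpowers_le.2 hy.1.1))
    have yW : zpowers y ≤ C[W] := zpowers_le.2 hy.1.2
    have y1 : y ≠ 1 := fun e => by simp [e] at o
    have := coprime_abelian_gen_cent1 (K := Q) (L := C1[y]) (abelianY inferInstance inferInstance cy)
      (fun c => (cyclic_pgroup_dprod_trivg p3 c le_sup_left le_sup_right (eq_bot_iff.2
        ((inf_le_inf_left _ yW).trans dW.le))).elim (by simpa using hd1) (by simpa using y1))
      (norm_of_normal Q _) (IsPGroup.coprime_card_of_ne 2 3 (by norm_num) _ _ pQ p3) fun a ha a1 => by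
        by_cases h : a ∈ C[W]
        · obtain ⟨u, hu, v, hv, rfl⟩ := (mem_sup_normr (cents_norm cy)).1 ha
          obtain rfl : u = 1 := mem_bot.1 (dW ▸ mem_inf.2 ⟨hu, (mul_mem_cancel_right (yW hv)).1 h⟩)
          rw [one_mul] at a1 ⊢
          rw [← C_zpowers, ← C_zpowers]
          exact inf_le_right.trans (centralizer_le (prime_meet (by rw [Nat.card_zpowers, o]; norm_num)
            fun e => a1 (mem_bot.1 (e ▸ mem_inf.2 ⟨hv, mem_zpowers v⟩))))
        · rw [fQ a (fp a (p3.to_le (zpowers_le.2 ha)) h)]; exact bot_le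
    rw [← C_zpowers] at this
    exact y1 (mem_bot.1 (q3 y (p3.to_le le_sup_right) ▸ mem_inf.2 ⟨mem_zpowers y, cents_symm this (mem_zpowers y)⟩))
  obtain ⟨x, hx⟩ := hsix
  have o2 : orderOf (x ^ 2) = 3 := by rw [orderOf_pow' _ two_ne_zero, hx]; rfl
  have o3 : orderOf (x ^ 3) = 2 := by rw [orderOf_pow' _ three_ne_zero, hx]; rfl
  have p2 : IsPGroup 3 (zpowers (x ^ 2)) := IsPGroup.of_card (n := 1) (by rw [Nat.card_zpowers, o2, pow_one])
  have f2 := fp _ p2 (all _ o2)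
  have cx : x ^ 3 ∈ C1[x ^ 2] := mem_cent1.2 (pow_mul_comm x 3 2)
  have h4 := irr p2 f2 _ inf_le_left (pgroup_cent_ne_bot (P := zpowers (x ^ 3))
    (IsPGroup.of_card (n := 1) (by rw [Nat.card_zpowers, o3, pow_one])) hW.pg (fun g _ => nW g) hW1)
    (zpowers_le.1 (normsI (fun g _ => nW g) (norms_cent (cents_norm (cents_symm (by
      rw [C_zpowers]; exact zpowers_le.2 cx))))))
  have h5 := inv _ (o3 ▸ pow_orderOf_eq_one (x ^ 3)) (cents_symm (inf_eq_left.1
    (eq_of_le_of_card_ge inf_le_left (W4.trans h4.symm).le)) (mem_zpowers _))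
  have := mem_bot.1 (f2 ▸ mem_inf.2 ⟨h5, cx⟩)
  simp [this] at o3

end Cfsg.Agent.S3739
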