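import Cfsg.Statements.S3156
import Cfsg.Agent.S3739
import Cfsg.Agent.Transfer.Hol

set_option autoImplicit false
open Cfsg

namespace Cfsg.Agent.S3156

open Subgroup Cfsg.Agent.BG Cfsg.Agent.ABG Cfsg.Agent.Rank1 Cfsg.Agent.Transfer SemidirectProduct

theorem three {T : Type*} [Group T] [Finite T] {φ ρ : MulAut T} {a : T} (h : Tri φ a) (o : orderOf ρ = 3) :
    ρ a ≠ a := fun hρ => by
  haveI : Fact (Nat.Prime 3) := ⟨by norm_num⟩
  obtain ⟨m, h1, h3⟩ := h.exists_cube
  generalize φ ^ m = ψ at h1 h3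
  have p3 : ∀ {α : MulAut T}, α ^ 3 = 1 → IsPGroup 3 (zpowers α) := fun e => (cycle_abelem e).pg
  obtain ⟨D, sD, hD⟩ := Sylow_superset (M := ⊤) le_top (p3 h3)
  obtain ⟨g, -, hg⟩ := Sylow_Jsub sD le_top (p3 (o ▸ pow_orderOf_eq_one ρ))
  have pL : IsPGroup 2 (sdL D.subtype ⊤) := isPGroup_sdL _ (h.pg.to_subgroup ⊤)
  have two : ∀ x : T ⋊[D.subtype] D, (∃ k, x ^ 2 ^ k = 1) → x ∈ sdL D.subtype ⊤ := fun x ⟨k, hk⟩ => by
    obtain ⟨j, hj⟩ := sD.pg x.right
    have : x.right = 1 := orderOf_eq_one_iff.1 (Nat.eq_one_of_dvd_coprimes (Nat.Coprime.pow k j (by norm_num : Nat.Coprime 2 3))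
      (orderOf_dvd_of_pow_eq_one (by rw [← rightHom_eq_right, ← map_pow, hk, map_one])) (orderOf_dvd_of_pow_eq_one hj))
    exact ⟨x.left, trivial, by ext <;> simp [this]⟩
  have e : pCore 2 (T ⋊[D.subtype] D) = sdL D.subtype ⊤ := le_antisymm (fun x hx => two x (by
    obtain ⟨k, hk⟩ := Solv.isPGroup_pCore 2 _ ⟨x, hx⟩
    exact ⟨k, congrArg Subtype.val hk⟩)) (Solv.le_pCore pL)
  have mO : ∀ x ∈ Om T, x * x = 1 := fun x hx => by
    refine closure_induction (fun x hx => hx) (one_mul 1) (fun x y hx _ h1 h2 => ?_) (fun x _ h => by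
      rw [← mul_inv_rev, h, inv_one]) hx
    rw [mul_assoc, ← mul_assoc y, mem_center_iff.1 (h.central x h1) y, mul_assoc, h2, mul_one, h1]
  let d : D := ⟨ψ, hD (mem_zpowers _)⟩
  obtain ⟨E, hE, c8⟩ := S3739.result (G := T ⋊[D.subtype] D) (e ▸ fun x hx => two x (by
      obtain ⟨k, hk⟩ := h.pg x.left
      refine ⟨k, ?_⟩
      have a1 : (x.right : MulAut T) = MulAut.conj x.left⁻¹ := MulEquiv.ext fun t => by
        have := congrArg SemidirectProduct.left (hx (inl t) ⟨t, trivial, rfl⟩)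
        simp only [mul_left, left_inl, right_inl, map_one, MulAut.one_apply, coe_subtype] at this
        simp [mul_assoc, this]
      obtain ⟨j, hj⟩ := sD.pg x.right
      have : x.right = 1 := orderOf_eq_one_iff.1 (Nat.eq_one_of_dvd_coprimes (Nat.Coprime.pow k j (by norm_num : Nat.Coprime 2 3))
        (orderOf_dvd_of_pow_eq_one (Subtype.ext (by rw [coe_pow, a1, ← map_pow, inv_pow, hk]; simp)))
        (orderOf_dvd_of_pow_eq_one hj))
      rw [← inl_left_mul_inr_right x, this, map_one, mul_one, ← map_pow, hk, map_one]))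
    ⟨inl (g a) * inr ⟨g * ρ * g⁻¹, hg ⟨ρ, mem_zpowers _, rfl⟩⟩, by
      have a1 : orderOf (inl (g a) : T ⋊[D.subtype] D) = 2 := by
        rw [orderOf_injective _ inl_injective, g.orderOf_eq, orderOf_eq_prime (by rw [sq, h.sq]) h.ne_one]
      have a2 : orderOf (inr ⟨g * ρ * g⁻¹, hg ⟨ρ, mem_zpowers _, rfl⟩⟩ : T ⋊[D.subtype] D) = 3 := by
        rw [orderOf_injective _ inr_injective, ← orderOf_coe, ← o]; exact (MulAut.conj g).orderOf_eq ρ
      rw [Commute.orderOf_mul_eq_mul_orderOf_of_coprime ((inr_mul_inl_eq_iff _).2 (by simp [hρ])).symm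
        (by rw [a1, a2]; norm_num), a1, a2]⟩
    (inr d) (fun e => h1.ne (by rw [show ψ = 1 from congrArg Subtype.val (inr_injective (e.trans (map_one _).symm))]; rfl))
    (cycle_abelem (by rw [← map_pow, show d ^ 3 = 1 from Subtype.ext h3, map_one])).pg (sdL D.subtype (Om T))
    ⟨abelian_iff.2 (by
      rintro _ ⟨x, hx, rfl⟩ _ ⟨y, -, rfl⟩
      rw [← map_mul, ← map_mul, mem_center_iff.1 (h.central x (mO x hx)) y]), by
      rintro _ ⟨x, hx, rfl⟩; rw [← map_pow, sq, mO x hx, map_one]⟩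
    (fun e => by have := card_sdL (φ := D.subtype) (Om T); rw [e, h.card_Om, card_bot] at this; omega)
    ((sdR_le_normalizer _ (B := ⊤)).2 (fun α _ x hx => mem_Om_of (by rw [← map_mul, mO x hx, map_one])) ⟨d, trivial, rfl⟩)
    (eq_bot_iff.2 (by
      rintro _ ⟨⟨x, hx, rfl⟩, hc⟩
      by_contra x1
      exact (h1.of_ne (mO x hx) fun e => x1 (by simp [e])).ne ((inr_mul_inl_eq_iff _).1 (mem_cent1.1 hc).symm)))
  have : E ≤ sdL D.subtype (Om T) := fun x hx => by
    obtain ⟨y, -, rfl⟩ := two x ⟨1, hE.2 x hx⟩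
    exact (inl_mem_sdL _).2 (mem_Om_of (inl_injective (φ := D.subtype) (by rw [map_mul, ← sq, hE.2 _ hx, map_one])))
  have := card_le_card this
  rw [c8, card_sdL, h.card_Om] at this
  omega

theorem main {T : Type*} [Group T] [Finite T] {φ : MulAut T} {a : T} (h : Tri φ a) (hnc : ¬ Comm (⊤ : Subgroup T))
    (f : Equiv.Perm (Fin 3) →* MulAut T) (hf : Function.Injective f) : False := by
  have key : ∀ t : MulAut T, t * t = 1 → t a = a := fun t ht => by
    have tt : ∀ x, t (t x) = x := fun x => by rw [← MulAut.mul_apply, ht]; rfl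
    by_contra c
    have a1 : t (a * t a) = a * t a := by rw [map_mul, tt, mem_center_iff.1 (h.central a h.sq)]
    have a2 : a * t a * (a * t a) = 1 := by
      rw [mul_assoc, ← mul_assoc (t a), mem_center_iff.1 (h.central a h.sq), mul_assoc, ← map_mul, h.sq, map_one, mul_one,
        h.sq]
    exact c ((h.of_ne a2 fun e => c (mul_left_cancel (e.trans h.sq.symm))).fix_of_sq hnc a1
      (fun u => by rw [tt, inv_mul_cancel]; exact one_mem _) h.sq)
  refine three h (ρ := f (Equiv.swap 0 1 * Equiv.swap 1 2)) (by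
    rw [orderOf_injective f hf]
    exact orderOf_eq_of_pow_and_pow_div_prime (by norm_num) (by decide) fun p hp hd => by
      obtain rfl := (Nat.prime_dvd_prime_iff_eq hp Nat.prime_three).1 hd; decide) ?_
  rw [map_mul, MulAut.mul_apply, key _ (by rw [← map_mul, Equiv.swap_mul_self, map_one]),
    key _ (by rw [← map_mul, Equiv.swap_mul_self, map_one])]

/-- If a finite group T is isomorphic to a Sylow 2-subgroup of the projective special unitary group of dimension 3 with parameter 4 (realised over the field with 16 elements), then no subgroup of the automorphism group of T is isomorphic to the symmetric group of degree 3. -/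
theorem result {T : Type*} [Group T] [Finite T] (hT : (∃ (F : Type) (_ : Field F) (_ : Fintype F), Fintype.card F = 16 ∧ ∃ S : Sylow 2 (Cfsg.PSU 3 F 4), Nonempty (T ≃* ↥(S : Subgroup (Cfsg.PSU 3 F 4))))) (H : Subgroup (MulAut T)) : ¬ Nonempty (↥H ≃* Equiv.Perm (Fin 3)) := by
  rintro ⟨e⟩
  obtain ⟨F, _, _, hF, S, ⟨i⟩⟩ := hT
  obtain ⟨φ, a, h, hnc⟩ := tri_psu hF S
  exact main h hnc (((MulAut.congr i).toMonoidHom.comp H.subtype).comp e.symm.toMonoidHom)
    (((MulAut.congr i).injective.comp H.subtype_injective).comp e.symm.injective)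

end Cfsg.Agent.S3156
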