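import Cfsg.Statements.S3171
import Cfsg.Agent.HeR.Scan
import Cfsg.Agent.S2133
import Cfsg.Agent.PGrp.Basic

set_option autoImplicit false
set_option maxRecDepth 100000
open Cfsg

namespace Cfsg.Agent.S3171

section
open Subgroup hiding mul one
open Cfsg.Agent.Comp hiding lin
open Cfsg.Agent.HeR

theorem main {S : Type*} [Group S] [Finite S] (E : Subgroup S) [E.Normal] (hS : Nat.card S = 2 ^ 9) (hE : Nat.card E = 64)
    (b : ∀ x ∉ E, Nat.card ↥(E ⊓ centralizer {x}) ≤ 16)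
    (c : ∀ x ∉ E, ∀ y ∉ E, y * x ∉ E → Nat.card ↥(E ⊓ centralizer {x} ⊓ centralizer {y}) ≤ 8)
    (d : ∃ x y : S, (x * y)⁻¹ * (y * x) ∉ E) : (∀ M : Subgroup S, IsCoatom M → Nat.card (center M) ≤ 8) ∧
      ∀ A : Subgroup S, IsMulCommutative A → Nat.card A = 64 → A = E := by
  have r : ∀ R : Subgroup S, E.relIndex R * Nat.card ↥(E ⊓ R) = Nat.card R := fun R => by
    rw [← inf_relIndex_right, ← relIndex_bot_left, ← relIndex_bot_left R, mul_comm,
      relIndex_mul_relIndex _ _ _ bot_le inf_le_right]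
  have two : ∀ R : Subgroup S, 2 * Nat.card ↥(E ⊓ R) < Nat.card R → ∃ x ∈ R, ∃ y ∈ R,
      Nat.card ↥(E ⊓ centralizer {x} ⊓ centralizer {y}) ≤ 8 := fun R h => by
    have h1 : ¬ E.relIndex R ∣ 2 := fun t => h.not_ge (r R ▸ Nat.mul_le_mul_right _ (Nat.le_of_dvd two_pos t))
    obtain ⟨x, hx, h2⟩ := SetLike.not_le_iff_exists.1 fun t => h1 (by rw [relIndex_eq_one.2 t]; decide)
    rw [relIndex_dvd_two_iff] at h1
    push Not at h1
    obtain ⟨y, hy, h3, h4⟩ := h1 x hx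
    exact ⟨x, hx, y, hy, c x h2 y h4 h3⟩
  have := Fact.mk Nat.prime_two
  refine ⟨fun M hM => ?_, fun A hA h => ?_⟩
  · have i := PGrp.index_of_isCoatom (IsPGroup.of_card hS) hM
    have h1 := M.card_mul_index
    rw [i, hS] at h1
    have k : ∀ w : center M, ∀ x ∈ M, x * w = w * x := fun w x hx =>
      congrArg Subtype.val (mem_center_iff.1 w.2 ⟨x, hx⟩)
    by_cases t : ∀ w : center M, w.1.1 ∈ E
    · obtain ⟨x, hx, y, hy, h2⟩ := two M (by have := card_le_of_le (inf_le_left : E ⊓ M ≤ E); omega)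
      exact (Nat.card_le_card_of_injective (fun w : center M => (⟨w.1.1, ⟨t w, mem_centralizer_singleton_iff.2
        (k w x hx).symm⟩, mem_centralizer_singleton_iff.2 (k w y hy).symm⟩ : ↥(E ⊓ centralizer {x} ⊓ centralizer {y})))
        fun _ _ e => Subtype.ext (Subtype.ext (Subtype.mk.inj e))).trans h2
    · obtain ⟨w, hw⟩ := not_forall.1 t
      have h2 := (card_le_of_le (inf_le_inf_left E fun x hx => mem_centralizer_singleton_iff.2 (k w x hx))).trans (b _ hw)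
      have h3 := r M
      have h4 := Nat.le_of_dvd (Nat.pos_of_ne_zero E.index_ne_zero_of_finite) (E.relIndex_dvd_index_of_normal M)
      have h5 := E.card_mul_index
      nlinarith
  · have k : ∀ x ∈ A, A ≤ centralizer {x} := fun x hx y hy =>
      mem_centralizer_singleton_iff.2 (setLike_mul_comm hy hx)
    refine eq_of_le_of_card_ge (by_contra fun t => ?_) (hE.trans h.symm).le
    obtain ⟨x, hx, h1⟩ := SetLike.not_le_iff_exists.1 t
    have h2 := (card_le_of_le (inf_le_inf_left E (k x hx))).trans (b x h1)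
    obtain ⟨x, hx, y, hy, h3⟩ := two A (by omega)
    have h4 := (card_le_of_le (le_inf (inf_le_inf_left E (k x hx)) (inf_le_right.trans (k y hy)))).trans h3
    have h5 := r A
    have h6 := E.card_mul_index
    have h7 : A.map (QuotientGroup.mk' E) = ⊤ := eq_top_of_le_card _ (by
      rw [← relIndex_ker, QuotientGroup.ker_mk', ← index_eq_card]; nlinarith)
    obtain ⟨u, v, h8⟩ := d
    obtain ⟨a, ha, e1⟩ := h7.ge (mem_top (u : S ⧸ E))
    obtain ⟨a', ha', e2⟩ := h7.ge (mem_top (v : S ⧸ E))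
    exact h8 (QuotientGroup.eq.1 (by
      rw [QuotientGroup.mk_mul, QuotientGroup.mk_mul, ← e1, ← e2, ← map_mul, ← map_mul, setLike_mul_comm ha ha']))

def BE : List ℕ := [17043523, 17043525, 17043529, 17044033, 17059905, 17567809]
def LD : List ℕ := [17043521, 17043649, 17043777, 17043905, 17051713, 17051841, 17051969, 17052097]
def ez (a b : ℕ) : Bool := force b fun b => bor (Nat.beq b a) (Nat.beq b (mul a z))
def cz (d : ℕ) (L : List ℕ) : List ℕ := filterL (fun q => force (lin BE q) fun x => ez (mul x d) (mul d x)) L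

def gq (n : ℕ) : ℕ := force n fun n => Nat.land (Nat.lor (Nat.land (Nat.shiftRight n 1) 7) (Nat.lor (Nat.shiftLeft (bit n 9) 3)
  (Nat.lor (Nat.shiftLeft (bit n 14) 4) (Nat.shiftLeft (bit n 19) 5)))) 63

theorem gq_lt (n : ℕ) : gq n < 64 := by rw [gq, force_eq]; exact Nat.lt_succ_of_le Nat.and_le_right

theorem coded {S : Type*} [Group S] [Finite S] (U : ℕ → Prop) (s : ℕ → S) (hU : ∀ v, U (tc v))
    (h1 : ∀ x, ∃ v < 1024, x = s (tc v)) (h2 : ∀ a b, U a → U b → U (mul a b) ∧ s (mul a b) = s a * s b)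
    (h3 : ∀ a b, U a → U b → (s a = s b ↔ ez a b = true)) (hS : Nat.card S = 2 ^ 9) :
    (∀ M : Subgroup S, IsCoatom M → Nat.card (center M) ≤ 8) ∧ (∃ A : Subgroup S, IsElementaryAbelian 2 A ∧
      Nat.card A = 64) ∧ ∀ A B : Subgroup S, IsMulCommutative A → Nat.card A = 64 → IsMulCommutative B →
        Nat.card B = 64 → A = B := by
  classical
  have u : ∀ a, tc (gT a) = a → U a := fun a e => e ▸ hU _
  have uE : ∀ q, U (lin BE q) := lin_ind (u _ (by decide +kernel)) (fun a b ha hb => (h2 a b ha hb).1)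
    fun b hb => u b (by revert b; decide +kernel)
  have uD : ∀ d ∈ LD, U d := fun b hb => u b (by revert b; decide +kernel)
  have m : ∀ q < 64, ∀ r < 64, s (lin BE q) * s (lin BE r) = s (lin BE (q ^^^ r)) := fun q hq r hr => by
    rw [← (h2 _ _ (uE q) (uE r)).2, h3 _ _ (h2 _ _ (uE q) (uE r)).1 (uE _)]
    revert r; revert q; decide +kernel
  have o : s (lin BE 0) = 1 := by simpa using m 0 (by decide) 0 (by decide)
  have sq : ∀ q < 64, s (lin BE q) * s (lin BE q) = 1 := fun q hq => by rw [m q hq q hq, Nat.xor_self, o]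
  let E : Subgroup S :=
    { carrier := {x | ∃ q < 64, x = s (lin BE q)}
      one_mem' := ⟨0, by decide, o.symm⟩
      mul_mem' := by
        rintro _ _ ⟨q, hq, rfl⟩ ⟨r, hr, rfl⟩
        exact ⟨_, Nat.xor_lt_two_pow (n := 6) hq hr, m q hq r hr⟩
      inv_mem' := by
        rintro _ ⟨q, hq, rfl⟩
        exact ⟨q, hq, inv_eq_of_mul_eq_one_right (sq q hq)⟩ }
  have cE : ∀ x ∈ E, ∀ y ∈ E, x * y = y * x := by
    rintro _ ⟨q, hq, rfl⟩ _ ⟨r, hr, rfl⟩
    rw [m q hq r hr, m r hr q hq, Nat.xor_comm]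
  have hE : Nat.card E = 64 := by
    rw [← Nat.card_eq_of_bijective (fun q : Fin 64 => (⟨_, q, q.2, rfl⟩ : E)) ⟨fun q r e => ?_,
      fun ⟨_, q, hq, rfl⟩ => ⟨⟨q, hq⟩, rfl⟩⟩, Nat.card_fin]
    have := (h3 _ _ (uE _) (uE _)).1 (congrArg Subtype.val e)
    clear e; revert q r; decide +kernel
  have dc : ∀ x, ∃ e ∈ E, ∃ d ∈ LD, x = e * s d := fun x => by
    obtain ⟨v, hv, rfl⟩ := h1 x
    have := allLt_iff.1 (by decide +kernel : allLt 1024 (fun v => force (tc v) fun x =>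
      force (Nat.lor one (Nat.land x 8576)) fun d => band (memL d LD)
        (ez x (mul (lin BE (gq (mul x (mul d (mul d d))))) d))) = true) v hv
    simp only [force_eq, band_eq, Bool.and_eq_true, memL_iff] at this
    exact ⟨_, ⟨_, gq_lt _, rfl⟩, _, this.1, by
      rw [← (h2 _ _ (uE _) (uD _ this.1)).2, h3 _ _ (hU _) (h2 _ _ (uE _) (uD _ this.1)).1, this.2]⟩
  have nE : E.Normal := ⟨by
    rintro _ ⟨q, hq, rfl⟩ g
    obtain ⟨e, he, d, hd, rfl⟩ := dc g
    have : s d * s (lin BE q) * (s d)⁻¹ ∈ E := ⟨gq (mul (mul d (lin BE q)) (mul d (mul d d))), gq_lt _, by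
      rw [mul_inv_eq_iff_eq_mul, ← (h2 _ _ (uD d hd) (uE q)).2, ← (h2 _ _ (uE _) (uD d hd)).2,
        h3 _ _ (h2 _ _ (uD d hd) (uE q)).1 (h2 _ _ (uE _) (uD d hd)).1]
      revert d; revert q; decide +kernel⟩
    simpa [mul_assoc] using mul_mem (mul_mem he this) (inv_mem he)⟩
  have ct : ∀ (H : Subgroup S) (L : List ℕ), (∀ x ∈ H, ∃ q ∈ L, x = s (lin BE q)) → Nat.card H ≤ L.length := fun H L h =>
    (Set.ncard_le_ncard (t := ((L.map fun q => s (lin BE q)).toFinset : Set S)) (fun x hx => by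
      simpa [eq_comm] using h x hx)).trans (by
        rw [Set.ncard_coe_finset]; exact (List.toFinset_card_le _).trans_eq (List.length_map _))
  have fz : ∀ e ∈ E, ∀ d ∈ LD, ∀ L, ∀ q ∈ L, q < 64 → s (lin BE q) ∈ centralizer {e * s d} → q ∈ cz d L :=
    fun e he d hd L q hq h t => by
      rw [mem_centralizer_singleton_iff, ← mul_assoc, cE _ ⟨q, h, rfl⟩ e he, mul_assoc, mul_assoc, mul_right_inj,
        ← (h2 _ _ (uD d hd) (uE q)).2, ← (h2 _ _ (uE _) (uD d hd)).2,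
        h3 _ _ (h2 _ _ (uE _) (uD d hd)).1 (h2 _ _ (uD d hd) (uE q)).1] at t
      simpa [cz, force_eq, hq] using t
  have n1 : ∀ e ∈ E, ∀ d, e * s d ∉ E → d ≠ one := by
    rintro e he _ h rfl
    exact h (mul_mem he ⟨0, by decide, rfl⟩)
  obtain ⟨k1, k2⟩ := main E hS hE (fun x hx => by
      obtain ⟨e, he, d, hd, rfl⟩ := dc x
      refine (ct _ (cz d (List.range 64)) ?_).trans ?_
      · rintro _ ⟨⟨q, hq, rfl⟩, t⟩
        exact ⟨q, fz e he d hd _ q (List.mem_range.2 hq) hq t, rfl⟩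
      · have := n1 e he d hx
        clear hx; revert d; decide +kernel)
    (fun x hx y hy t => by
      obtain ⟨e, he, d, hd, rfl⟩ := dc x
      obtain ⟨e', he', d', hd', rfl⟩ := dc y
      refine (ct _ (cz d' (cz d (List.range 64))) ?_).trans ?_
      · rintro _ ⟨⟨⟨q, hq, rfl⟩, t⟩, t'⟩
        exact ⟨q, fz e' he' d' hd' _ q (fz e he d hd _ q (List.mem_range.2 hq) hq t) hq t', rfl⟩
      · have := n1 e he d hx
        have := n1 e' he' d' hy
        have := n1 _ (mul_mem he' (nE.conj_mem e he (s d'))) (mul d' d) (by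
          rw [(h2 _ _ (uD d' hd') (uD d hd)).2]; simpa [mul_assoc] using t)
        clear hx hy t; revert d; revert d'; decide +kernel)
    ⟨s (tc 16), s (tc 128), by
      rintro ⟨q, hq, e⟩
      rw [inv_mul_eq_iff_eq_mul, ← (h2 _ _ (hU _) (hU _)).2, ← (h2 _ _ (hU _) (hU _)).2,
        ← (h2 _ _ (h2 _ _ (hU _) (hU _)).1 (uE _)).2, h3 _ _ (h2 _ _ (hU _) (hU _)).1 (h2 _ _ (h2 _ _ (hU _) (hU _)).1 (uE _)).1] at e
      revert q; decide +kernel⟩
  refine ⟨k1, ⟨E, ⟨⟨⟨fun x y => Subtype.ext (cE _ x.2 _ y.2)⟩⟩, ?_⟩, hE⟩,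
    fun A B a1 a2 b1 b2 => (k2 A a1 a2).trans (k2 B b1 b2).symm⟩
  rintro _ ⟨q, hq, rfl⟩
  rw [pow_two, sq q hq]

end

/-- Let P be a Sylow 2-subgroup of the Mathieu group of degree 24 and S the quotient of P by its centre. Then the centre of every maximal subgroup of S has order at most 8; S has an elementary abelian subgroup of order 64; and S has only one abelian subgroup of order 64. -/
theorem result (P : Sylow 2 ↥Cfsg.M24) :
    (∀ M : Subgroup (↥(P : Subgroup ↥Cfsg.M24) ⧸ Subgroup.center ↥(P : Subgroup ↥Cfsg.M24)), IsCoatom M →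
        Nat.card ↥(Subgroup.center ↥M) ≤ 8) ∧
      (∃ A : Subgroup (↥(P : Subgroup ↥Cfsg.M24) ⧸ Subgroup.center ↥(P : Subgroup ↥Cfsg.M24)),
        Cfsg.IsElementaryAbelian 2 A ∧ Nat.card ↥A = 64) ∧
      ∀ A B : Subgroup (↥(P : Subgroup ↥Cfsg.M24) ⧸ Subgroup.center ↥(P : Subgroup ↥Cfsg.M24)),
        IsMulCommutative ↥A → Nat.card ↥A = 64 → IsMulCommutative ↥B → Nat.card ↥B = 64 → A = B := by
  obtain ⟨j, hj, ⟨e⟩⟩ := S2133.result ⟨Matrix.transvection 0 1 1, by decide +kernel⟩ rfl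
  obtain ⟨f, h, -⟩ := HeR.exists_st' _ rfl j hj e
  have := Fact.mk Nat.prime_two
  obtain ⟨g, hg⟩ := Comp.exists_conj_sylow (k := 10) h.card_T Golay.card_M24 (by norm_num) P
  let ε := Comp.conjEquiv g hg
  classical
  let p : ℕ → (P : Subgroup M24) := fun n => if t : f n ∈ HeR.TG f then ε ⟨f n, t⟩ else 1
  have hp : ∀ n (t : f n ∈ HeR.TG f), p n = ε ⟨f n, t⟩ := fun n t => dif_pos t
  let U := fun n => HeR.V n ∧ f n ∈ HeR.TG f
  have hU : ∀ v, U (HeR.tc v) := fun v => ⟨HeR.V_tc v, h.tc_mem v⟩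
  have h1 : ∀ x, ∃ v < 1024, x = p (HeR.tc v) := fun x => by
    obtain ⟨v, hv, t⟩ := h.mem_T (ε.symm x).2
    exact ⟨v, hv, by rw [hp _ (h.tc_mem v), ← MulEquiv.symm_apply_eq]; exact Subtype.ext t⟩
  have h2 : ∀ a b, U a → U b → U (HeR.mul a b) ∧ p (HeR.mul a b) = p a * p b := fun a b ha hb => by
    have t : f (HeR.mul a b) ∈ HeR.TG f := h.mul ha.1 hb.1 ▸ mul_mem ha.2 hb.2
    exact ⟨⟨ha.1.mul hb.1, t⟩, by rw [hp _ t, hp _ ha.2, hp _ hb.2, ← map_mul]; exact congrArg ε (Subtype.ext (h.mul ha.1 hb.1))⟩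
  have h3 : ∀ a b, U a → U b → p a = p b → a = b := fun a b ha hb t =>
    h.inj ha.1 hb.1 (congrArg Subtype.val (ε.injective ((hp _ ha.2).symm.trans (t.trans (hp _ hb.2)))))
  have uz : U HeR.z := hU 8
  have o : p HeR.one = 1 := by
    have : p HeR.one = p HeR.one * p HeR.one := (h2 _ _ (hU 0) (hU 0)).2
    simpa using this
  have hZ : ∀ x, x ∈ Subgroup.center (P : Subgroup M24) ↔ x = 1 ∨ x = p HeR.z := fun x => by
    refine ⟨fun t => ?_, ?_⟩
    · obtain ⟨v, hv, rfl⟩ := h1 x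
      have k : ∀ w, HeR.mul (HeR.tc w) (HeR.tc v) = HeR.mul (HeR.tc v) (HeR.tc w) := fun w =>
        h3 _ _ (h2 _ _ (hU w) (hU v)).1 (h2 _ _ (hU v) (hU w)).1 (by
          rw [(h2 _ _ (hU w) (hU v)).2, (h2 _ _ (hU v) (hU w)).2, Subgroup.mem_center_iff.1 t])
      rcases (by decide +kernel : ∀ v < 1024, (∀ w ∈ [1, 16, 128, 512], HeR.mul (HeR.tc w) (HeR.tc v) =
        HeR.mul (HeR.tc v) (HeR.tc w)) → v = 0 ∨ v = 8) v hv fun w _ => k w with rfl | rfl
      exacts [.inl o, .inr rfl]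
    · rintro (rfl | rfl)
      · exact one_mem _
      · refine Subgroup.mem_center_iff.2 fun y => ?_
        obtain ⟨v, -, rfl⟩ := h1 y
        rw [← (h2 _ _ (hU v) uz).2, ← (h2 _ _ uz (hU v)).2, (HeR.V_tc v).2.2]
  refine coded U (fun n => QuotientGroup.mk (p n)) hU (fun x => ?_) (fun a b ha hb => ⟨(h2 a b ha hb).1,
    congrArg _ (h2 a b ha hb).2⟩) (fun a b ha hb => ?_) ?_
  · obtain ⟨x, rfl⟩ := QuotientGroup.mk_surjective x
    exact (h1 x).imp fun v t => ⟨t.1, congrArg _ t.2⟩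
  · simp only [QuotientGroup.eq, hZ, inv_mul_eq_iff_eq_mul, mul_one, ← (h2 _ _ ha uz).2, ez, Comp.force_eq, Comp.bor_eq,
      Bool.or_eq_true, Comp.nbeq]
    exact or_congr ⟨h3 _ _ hb ha, congrArg p⟩ ⟨h3 _ _ hb (h2 _ _ ha uz).1, congrArg p⟩
  · have c := Subgroup.card_eq_card_quotient_mul_card_subgroup (Subgroup.center (P : Subgroup M24))
    rw [← Nat.card_congr ε.toEquiv, h.card_T, (Nat.card_eq_two_iff' (1 : Subgroup.center (P : Subgroup M24))).2
      ⟨⟨_, (hZ _).2 (.inr rfl)⟩, fun t => absurd (h3 _ _ uz (hU 0) ((congrArg Subtype.val t).trans o.symm)) (by decide),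
        fun y hy => Subtype.ext (((hZ _).1 y.2).resolve_left fun t => hy (Subtype.ext t))⟩] at c
    omega

end Cfsg.Agent.S3171
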