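import Cfsg.Statements.S3170
import Cfsg.Agent.SC64.D
import Cfsg.Agent.Invol.ZS

set_option autoImplicit false
open Cfsg

namespace Cfsg.Agent.S3170

/-- Let H be a finite group with no nontrivial normal subgroup of odd order whose Sylow 2-subgroup T is isomorphic to a Sylow 2-subgroup of the Mathieu group of degree 24, and suppose that the centre of T lies in the centre of H. If E is a subgroup of T that is normal in T and extraspecial of order 2^7, and E is the only such subgroup of T, then E is normal in H. -/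
theorem result {H : Type*} [Group H] [Finite H]
    (hO : Cfsg.oddCore H = ⊥) (T : Sylow 2 H) (P : Sylow 2 ↥Cfsg.M24)
    (hT : Nonempty (↥(T : Subgroup H) ≃* ↥(P : Subgroup ↥Cfsg.M24)))
    (hZ : ∀ z ∈ (T : Subgroup H), (∀ t ∈ (T : Subgroup H), z * t = t * z) → z ∈ Subgroup.center H)
    (E : Subgroup H) (hE : E ≤ (T : Subgroup H)) (hEn : (E.subgroupOf (T : Subgroup H)).Normal)
    (hEx : Cfsg.IsExtraspecial 2 ↥E) (hE7 : Nat.card ↥E = 2 ^ 7)
    (huniq : ∀ E' : Subgroup H, E' ≤ (T : Subgroup H) → (E'.subgroupOf (T : Subgroup H)).Normal →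
      Cfsg.IsExtraspecial 2 ↥E' → Nat.card ↥E' = 2 ^ 7 → E' = E) :
    E.Normal := by
  open Cfsg.Agent.BG Subgroup in
  have := Fact.mk Nat.prime_two
  obtain ⟨φ⟩ := hT
  obtain ⟨z, hz⟩ := SC64.center_two P
  have zc : Z[(T : Subgroup H)] ≤ center H := fun x hx => hZ x hx.1 fun t ht => (mem_cent.1 hx.2 t ht).symm
  have zn : (Z[(T : Subgroup H)]).Normal := ⟨fun x hx g => by rwa [mem_center_iff.1 (zc hx), mul_inv_cancel_right]⟩
  have k : ∀ y, ((φ.symm y : T) : H) ∈ Z[(T : Subgroup H)] ↔ y ∈ center _ := fun y => ⟨fun h => mem_center_iff.2 fun g =>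
    φ.symm.injective (Subtype.ext (by simpa using mem_cent.1 h.2 _ (φ.symm g).2)), fun h => ⟨Subtype.prop _,
      mem_cent.2 fun g hg => by simpa using congrArg (fun y => ((φ.symm y : T) : H)) (mem_center_iff.1 h (φ ⟨g, hg⟩))⟩⟩
  have c2 : #(Z[E]) = 2 := by rw [← map_subtype_center, card_map_subtype, hEx.2]
  obtain ⟨⟨w, hw⟩, w1, w2⟩ := (Nat.card_eq_two_iff' (1 : Z[E])).1 c2
  have w3 : ∀ x ∈ Z[E], x ≠ 1 → x = w := fun x hx h => congrArg Subtype.val (w2 ⟨x, hx⟩ fun c => h (congrArg Subtype.val c))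
  have w4 : w ≠ 1 := fun c => w1 (Subtype.ext c)
  have w5 : w ∈ Z[(T : Subgroup H)] := ⟨hE hw.1, mem_cent.2 fun t ht => mul_inv_eq_iff_eq_mul.1 (w3 _
    (conj_mem_of_norm (norms_center (normal_of_subgroupOf hE hEn).norm ht) hw) (by simpa using w4))⟩
  have k2 : ∀ x ∈ Z[(T : Subgroup H)], x ≠ 1 → x = φ.symm z := fun x hx h => by
    rcases hz (φ ⟨x, hx.1⟩) ((k _).1 (by simpa using hx)) with c | c
    · exact absurd (congrArg Subtype.val ((map_eq_one_iff _ φ.injective).1 c)) h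
    · simp [← c]
  have ze : Z[(T : Subgroup H)] = Z[E] := by
    refine le_antisymm (fun x hx => ?_) fun x hx => ?_ <;> rcases eq_or_ne x 1 with rfl | h
    exacts [one_mem _, by rw [k2 x hx h, ← k2 w w5 w4]; exact hw, one_mem _, w3 x hx h ▸ w5]
  let π := QuotientGroup.mk' Z[(T : Subgroup H)]
  have hπ : Function.Surjective π := QuotientGroup.mk'_surjective _
  have kπ : π.ker = Z[E] := (QuotientGroup.ker_mk' _).trans ze
  have := SC64.main (Invol.pPrimeCore_quotient_central hO _ zc (T.2.to_le inf_le_left)) (T.mapSurjective hπ) P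
    (π.comp ((T : Subgroup H).subtype.comp φ.symm.toMonoidHom)) (Subgroup.ext fun y => (QuotientGroup.eq_one_iff _).trans (k y))
    (Subgroup.ext fun x => ⟨fun ⟨y, hy⟩ => ⟨_, (φ.symm y).2, hy⟩, fun ⟨y, hy, c⟩ => ⟨φ ⟨y, hy⟩, by simpa using c⟩⟩)
    (A := E.map π) (map_mono hE) (abelian_iff.2 (le_cent_iff.2 (by
      rintro _ ⟨a, ha, rfl⟩ _ ⟨b, hb, rfl⟩
      rw [← commutatorElement_eq_one_iff_mul_comm, ← map_commutatorElement, ← MonoidHom.mem_ker, kπ, ← map_subtype_center,
        ← hEx.1.2.2]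
      exact ⟨_, commutator_mem_commutator (mem_top (⟨a, ha⟩ : E)) (mem_top (⟨b, hb⟩ : E)), rfl⟩))) (by
      have := card_mul_relIndex (center_sub E)
      rw [c2, hE7, ← kπ, relIndex_ker] at this
      omega)
  rw [← comap_map_eq_self (kπ.le.trans (center_sub E))]
  infer_instance

end Cfsg.Agent.S3170
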