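import Cfsg.Statements.S3177
import Cfsg.Agent.Gold.All
import Cfsg.Agent.Ly.U3M
import Cfsg.Agent.LieM.Yen

set_option autoImplicit false
open Cfsg

namespace Cfsg.Agent.S3177

open Cfsg.Agent.BG Subgroup

/-- Let n ≥ 3 and let G be a finite group whose Sylow 2-subgroups are isomorphic to those of PSU(3, 2^n), realised over the field with 4^n elements. Then either G is solvable of 2-length at most one, or the quotient of G by its largest normal subgroup of odd order has a normal subgroup of odd index isomorphic to PSU(3, 2^n). -/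
theorem result {G : Type*} [Group G] [Finite G]
    (n : ℕ) (hn : 3 ≤ n) {F : Type*} [Field F] [Fintype F] (hF : Fintype.card F = 4 ^ n)
    (S : Sylow 2 G) (P : Sylow 2 (Cfsg.PSU 3 F (2 ^ n)))
    (hS : Nonempty (↥(S : Subgroup G) ≃* ↥(P : Subgroup (Cfsg.PSU 3 F (2 ^ n))))) :
    (Group.IsSolvable G ∧ Cfsg.PLengthLE 2 1 G) ∨
      ∃ N : Subgroup (G ⧸ Cfsg.oddCore G), N.Normal ∧ Odd N.index ∧ Nonempty (↥N ≃* Cfsg.PSU 3 F (2 ^ n)) := by
  obtain ⟨e⟩ := hS
  have hF' : Fintype.card F = (2 ^ n) ^ 2 := by rw [hF, ← pow_mul, mul_comm, pow_mul]; rfl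
  obtain ⟨Z, h⟩ := Ly.u3s_of_iso (by omega) hF' P e
  let π := QuotientGroup.mk' (pPrimeCore 2 G)
  have h1 := h.range (π.comp (Subgroup.subtype _)) ((injective_iff_map_eq_one _).2 fun x hx => Subtype.ext
    ((coprime_TI (GW.cop_two Block.odd_card_pPrimeCore S.isPGroup')).le ⟨(QuotientGroup.eq_one_iff _).1 hx, x.2⟩))
  have h2 := sylowIn_top (S.mapSurjective (QuotientGroup.mk'_surjective (pPrimeCore 2 G)))
  rw [MonoidHom.range_comp, range_subtype] at h1
  refine (h1.main Gold.sh ((Nat.pow_le_pow_right two_pos hn).trans_lt' (by norm_num)) h2 (Sig.Op'_top_quot 2 G) hF').imp_left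
    fun k => ?_
  have k : (map π S).Normal := k
  have o : Odd (map π S).index := relIndex_top_right (map π S) ▸ pnat_odd.1 h2.idx
  refine ⟨?_, LieM.pLengthLE_one_iff.2 (Nat.coprime_two_right.2 (o.of_dvd_nat (index_dvd_of_le ?_)))⟩
  · have := GW.odd_sol (Block.odd_card_pPrimeCore (G := G))
    have : Group.IsSolvable (map π S) := pgroup_sol h2.pg
    have : Group.IsSolvable ((G ⧸ pPrimeCore 2 G) ⧸ map π S) := FTC.solvable_of_odd o
    have := Group.isSolvable_of_ker_le_range (map π S).subtype (QuotientGroup.mk' (map π S)) (by simp)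
    exact Group.isSolvable_of_ker_le_range (pPrimeCore 2 G).subtype π (by simp [π])
  · rw [← Op_top]; exact pcore_max (BG.normal_top _) h2.pg.pi

end Cfsg.Agent.S3177
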