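import Cfsg.Statements.S3182
import Cfsg.Agent.S2754
import Cfsg.Agent.LieM.Gold7
import Mathlib.Tactic.Group

set_option autoImplicit false
open Cfsg

namespace Cfsg.Agent.S3182
open scoped commutatorElement

open Subgroup Cfsg.Agent.BG Cfsg.Agent.LieM Cfsg.Agent.AB
open scoped MatrixGroups

theorem pow_mem_of_inv {G : Type*} [Group G] {C : Subgroup G} {x y : G} (hy : y ∈ N[C]) (e : x * y * x⁻¹ * y ∈ C) {j : ℕ}
    (hj : (x * (y * x⁻¹ * y⁻¹)) ^ 2 ^ j = 1) : y ^ 2 ^ (j + 1) ∈ C := by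
  have k : ∀ n : ℕ, (x * (y * x⁻¹ * y⁻¹)) ^ n * y ^ (2 * n) ∈ C := fun n => by
    induction n with
    | zero => simp
    | succ n ih =>
      have := mul_mem e ((mem_normalizer_iff.1 (inv_mem (pow_mem hy 2)) _).1 ih)
      convert this using 1
      rw [pow_succ']; group
  have := k (2 ^ j)
  rwa [hj, one_mul, ← pow_succ'] at this

theorem jt_case {G : Type*} [Group G] [Finite G] [IsSimpleGroup G] (hG : ¬ IsMulCommutative G) {F : Type} [Field F]
    [Fintype F] {t : G} {K : Subgroup G} (h : JT F t K) : (∀ S : Sylow 2 G, IsMulCommutative ↥(S : Subgroup G)) ∧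
      ∃ t : G, orderOf t = 2 ∧ IsCoatom (Subgroup.centralizer ({t} : Set G)) ∧
        ∃ E : Subgroup G, Cfsg.IsInternalDirectProduct (Subgroup.zpowers t) E (Subgroup.centralizer ({t} : Set G)) ∧
          ∃ (F : Type) (_ : Field F) (_ : Fintype F), Odd (Fintype.card F) ∧ 3 < Fintype.card F ∧
            ∃ N : Subgroup ↥E, N.Normal ∧ Nonempty (↥N ≃* Matrix.ProjectiveSpecialLinearGroup (Fin 2) F) ∧
              Subgroup.centralizer (N : Set ↥E) = ⊥ := by
  obtain ⟨u, s, K', w⟩ := h.wj hG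
  obtain ⟨e⟩ := h.iso
  exact ⟨fun S => h.hab _ S.isPGroup', t, h.ht, w.isCoatom hG h.nsol, K, h.dp, F, _, _,
    Nat.card_eq_fintype_card (α := F) ▸ h.oddF, by have := h.five; omega, ⊤, inferInstance, ⟨topEquiv.trans e⟩,
    by rw [coe_top, centralizer_univ, h.center_eq]⟩

/-- Simple groups with central Sylow 2-intersections. Let G be a non-abelian finite simple group in which the intersection of any two distinct Sylow 2-subgroups is contained in the centre of some Sylow 2-subgroup. Then G is isomorphic to PSL(2, q) for some prime power q ≡ 0, 3 or 5 mod 8; or G has abelian Sylow 2-subgroups and an involution t whose centralizer is a maximal subgroup of G and is the direct product of the subgroup generated by t with a subgroup E having a normal subgroup isomorphic to PSL(2, q), q odd and greater than 3, with trivial centralizer in E; or G is isomorphic to a Suzuki group Sz(2^(2m+1)) with m ≥ 1, or to PSU(3, 2^n) with n ≥ 2. -/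
theorem result {G : Type*} [Group G] [Finite G] [IsSimpleGroup G]
    (hG : ¬ IsMulCommutative G)
    (hCI : ∀ S T : Sylow 2 G, S ≠ T → ∃ U : Sylow 2 G,
      (S : Subgroup G) ⊓ (T : Subgroup G) ≤ (Subgroup.center ↥(U : Subgroup G)).map (U : Subgroup G).subtype) :
    (∃ (F : Type) (_ : Field F) (_ : Fintype F),
        (Fintype.card F % 8 = 0 ∨ Fintype.card F % 8 = 3 ∨ Fintype.card F % 8 = 5) ∧
        Nonempty (G ≃* Matrix.ProjectiveSpecialLinearGroup (Fin 2) F)) ∨
    ((∀ S : Sylow 2 G, IsMulCommutative ↥(S : Subgroup G)) ∧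
      ∃ t : G, orderOf t = 2 ∧ IsCoatom (Subgroup.centralizer ({t} : Set G)) ∧
        ∃ E : Subgroup G, Cfsg.IsInternalDirectProduct (Subgroup.zpowers t) E (Subgroup.centralizer ({t} : Set G)) ∧
          ∃ (F : Type) (_ : Field F) (_ : Fintype F), Odd (Fintype.card F) ∧ 3 < Fintype.card F ∧
            ∃ N : Subgroup ↥E, N.Normal ∧ Nonempty (↥N ≃* Matrix.ProjectiveSpecialLinearGroup (Fin 2) F) ∧
              Subgroup.centralizer (N : Set ↥E) = ⊥) ∨
    (∃ (m : ℕ) (F : Type) (_ : Field F) (_ : Fintype F), 1 ≤ m ∧ Fintype.card F = 2 ^ (2 * m + 1) ∧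
        Nonempty (G ≃* ↥(Cfsg.Lie.Sz F (2 ^ (m + 1))))) ∨
    (∃ (n : ℕ) (F : Type) (_ : Field F) (_ : Fintype F), 2 ≤ n ∧ Fintype.card F = 4 ^ n ∧
        Nonempty (G ≃* Cfsg.PSU 3 F (2 ^ n))) := by
  have h4 : ¬ Cfsg.Involves (Equiv.Perm (Fin 4)) G := not_S4_of fun T hT x hx y hy x2 ⟨k, hk⟩ e => by
    obtain ⟨S, hS⟩ := (x2.to_sup_of_normal_right' hT (zpowers_le.2 hx)).exists_le_sylow
    have xS := hS (mem_sup_left (mem_zpowers x))
    have TS : T ≤ S := le_sup_right.trans hS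
    by_cases hne : S = MulAut.conj y • S
    · have h1 : y * x⁻¹ * y⁻¹ ∈ (S : Subgroup G) := hne ▸ Transfer.conj_mem_conj_smul.2 (inv_mem xS)
      obtain ⟨j, hj⟩ := S.isPGroup' ⟨_, mul_mem xS h1⟩
      replace hj : (x * (y * x⁻¹ * y⁻¹)) ^ 2 ^ j = 1 := congrArg Subtype.val hj
      exact mem_of_pow_coprime ((by norm_num : Nat.Coprime 3 2).pow _ (j + 1)) hk
        (pow_mem_of_inv (cent_norm T hy) e hj)
    obtain ⟨U, hU⟩ := hCI _ _ hne
    have h1 : (U : Subgroup G) ≤ C[T] := Subgroup.le_centralizer_iff.1 fun a ha => by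
      obtain ⟨b, hb, rfl⟩ := hU ⟨TS ha, (cj_of_norm hy).ge.trans (cj_mono y TS) ha⟩
      exact mem_cent.2 fun c hc => congrArg Subtype.val (mem_center_iff.1 hb ⟨c, hc⟩)
    obtain ⟨j, hj⟩ := pg_zpowers_iff.1 x2
    have h2 : x ∈ C[T] := mem_of_norm_odd_index (fun r => U.not_dvd_index (r.trans (index_dvd_of_le h1)))
      (cent_norm T hx) (hj ▸ pow_orderOf_eq_one x)
    refine mem_of_pow_coprime ((by norm_num : Nat.Coprime 3 2).pow_left _) hk ?_
    have h3 := mul_mem (mul_mem (inv_mem h2) e) ((mem_normalizer_iff.1 (inv_mem (cent_norm T hy)) _).1 h2)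
    convert h3 using 1
    rw [sq]; group
  rcases (Cfsg.Agent.S2754.result hG).1 h4 with
    h1 | ⟨F, _, _, n, hn, hF, e⟩ | ⟨F, _, _, m, hm, hF, e⟩ | ⟨F, _, _, n, hn, hF, e⟩ | ⟨F, _, _, q, rfl, h5, h8, e⟩ | h1
  · obtain ⟨F, _, _, t, K, j, -⟩ := jt_of_ree h1
    exact Or.inr (Or.inl (jt_case hG j))
  · obtain ⟨k, rfl⟩ := Nat.exists_eq_add_of_le hn
    exact Or.inl ⟨F, _, _, Or.inl (by rw [hF, pow_add]; omega), e⟩
  · exact Or.inr (Or.inr (Or.inl ⟨m, F, _, _, hm, hF, e⟩))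
  · exact Or.inr (Or.inr (Or.inr ⟨n, F, _, _, hn, hF, e⟩))
  · exact Or.inl ⟨F, _, _, Or.inr h8, e⟩
  · obtain ⟨t, K, j⟩ := jt_of_j1 h1
    exact Or.inr (Or.inl (jt_case hG j))

end Cfsg.Agent.S3182
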