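import Cfsg.Statements.S3183
import Cfsg.Agent.Transfer.SylowIn
import Cfsg.Agent.Invol.StrongEmb
import Cfsg.Agent.Solv.Basic

set_option autoImplicit false
open Cfsg

namespace Cfsg.Agent.S3183

theorem mem_cen {G : Type*} [Group G] {S : Subgroup G} {x : G} :
    x ∈ (Subgroup.center ↥S).map S.subtype ↔ x ∈ S ∧ ∀ s ∈ S, s * x = x * s := by
  constructor
  · rintro ⟨y, hy, rfl⟩
    refine ⟨y.2, fun s hs => ?_⟩
    exact congrArg Subtype.val (Subgroup.mem_center_iff.1 hy ⟨s, hs⟩)
  · rintro ⟨hx, h⟩
    exact ⟨⟨x, hx⟩, Subgroup.mem_center_iff.2 fun s => Subtype.ext (h s s.2), rfl⟩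

/-- Let G be a finite group in which the intersection of any two distinct Sylow 2-subgroups is contained in the centre of some Sylow 2-subgroup, and let S be a Sylow 2-subgroup. Then for every x in S the centralizer of x in S is a Sylow 2-subgroup of the centralizer of x in G (no 2-subgroup centralizing x is larger), and for every other Sylow 2-subgroup T the intersection S ∩ T lies in both the centre of S and the centre of T. -/
theorem result {G : Type*} [Group G] [Finite G]
    (hCI : ∀ S T : Sylow 2 G, S ≠ T → ∃ U : Sylow 2 G,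
      (S : Subgroup G) ⊓ (T : Subgroup G) ≤ (Subgroup.center ↥(U : Subgroup G)).map (U : Subgroup G).subtype)
    (S : Sylow 2 G) :
    (∀ x ∈ (S : Subgroup G), ∀ P : Subgroup G, IsPGroup 2 ↥P → P ≤ Subgroup.centralizer ({x} : Set G) →
        Nat.card ↥P ≤ Nat.card ↥((S : Subgroup G) ⊓ Subgroup.centralizer ({x} : Set G))) ∧
    (∀ T : Sylow 2 G, T ≠ S →
        (S : Subgroup G) ⊓ (T : Subgroup G) ≤
          (Subgroup.center ↥(S : Subgroup G)).map (S : Subgroup G).subtype ⊓
            (Subgroup.center ↥(T : Subgroup G)).map (T : Subgroup G).subtype) := by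
  open Cfsg.Agent.Transfer Cfsg.Agent.Invol in
  have key : ∀ S : Sylow 2 G, ∀ x ∈ (S : Subgroup G), ∀ P : Subgroup G, IsPGroup 2 ↥P →
      P ≤ Subgroup.centralizer ({x} : Set G) →
      Nat.card ↥P ≤ Nat.card ↥((S : Subgroup G) ⊓ Subgroup.centralizer ({x} : Set G)) := by
    intro S x hx P hP hPC
    set D := (S : Subgroup G) ⊓ Subgroup.centralizer ({x} : Set G) with hD
    have hDp : IsPGroup 2 D := S.isPGroup'.to_le inf_le_left
    obtain ⟨R, hR, hDR⟩ := exists_isSylowIn_ge hDp (inf_le_right : D ≤ _)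
    obtain ⟨T, hT⟩ := hR.isPGroup.exists_le_sylow
    by_cases hST : S = T
    · subst hST
      refine (hR.card_le hP hPC).trans (Subgroup.card_le_of_le (le_inf hT hR.le))
    · obtain ⟨U, hU⟩ := hCI S T hST
      have hDU : D ≤ (Subgroup.center ↥(U : Subgroup G)).map (U : Subgroup G).subtype :=
        (le_inf inf_le_left (hDR.trans hT)).trans hU
      have hUC : (U : Subgroup G) ≤ Subgroup.centralizer (D : Set G) := by
        intro u hu d hd
        exact ((mem_cen.1 (hDU hd)).2 u hu).symm
      have hxD : x ∈ D := Subgroup.mem_inf.2 ⟨hx, mem_centralizer_singleton.2 (Commute.refl x)⟩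
      have hSD : D = S := by
        by_contra hne
        have hlt : D < S := lt_of_le_of_ne inf_le_left hne
        obtain ⟨y, hyS, hyD, hyN⟩ := exists_mem_normalizer_of_lt S.isPGroup' hlt
        have hUN : IsSylowIn 2 (U : Subgroup G) (Subgroup.normalizer (D : Set G)) :=
          isSylowIn_of_sylow_le U (hUC.trans (Subgroup.centralizer_le_normalizer _))
        obtain ⟨n, hn, hle⟩ := hUN.exists_conj_le (Q := Subgroup.zpowers y)
          (S.isPGroup'.to_le ((Subgroup.zpowers_le).2 hyS)) ((Subgroup.zpowers_le).2 hyN)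
        have h1 : n * y * n⁻¹ ∈ Subgroup.centralizer (D : Set G) :=
          hUC (hle (conj_mem_conj_smul.2 (Subgroup.mem_zpowers y)))
        have h2 : n * x * n⁻¹ ∈ D := (Subgroup.mem_normalizer_iff.1 hn x).1 hxD
        have h3 := h1 _ h2
        apply hyD
        refine Subgroup.mem_inf.2 ⟨hyS, mem_centralizer_singleton.2 ?_⟩
        show y * x = x * y
        have : n * (y * x) * n⁻¹ = n * (x * y) * n⁻¹ := by
          calc _ = (n * y * n⁻¹) * (n * x * n⁻¹) := by group
            _ = (n * x * n⁻¹) * (n * y * n⁻¹) := h3.symm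
            _ = _ := by group
        simpa using this
      rw [hSD]
      exact (isSylowIn_top S).card_le hP le_top
  refine ⟨key S, fun T hT x hx => ?_⟩
  obtain ⟨U, hU⟩ := hCI S T hT.symm
  have hxU := mem_cen.1 (hU hx)
  have hUC : (U : Subgroup G) ≤ Subgroup.centralizer ({x} : Set G) :=
    fun u hu => mem_centralizer_singleton.2 (hxU.2 u hu)
  have fin : ∀ S : Sylow 2 G, x ∈ (S : Subgroup G) →
      x ∈ (Subgroup.center ↥(S : Subgroup G)).map (S : Subgroup G).subtype := by
    intro S hxS
    have h1 := key S x hxS U U.isPGroup' hUC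
    have h2 : Nat.card (U : Subgroup G) = Nat.card (S : Subgroup G) := (isSylowIn_top S).card_eq (isSylowIn_top U)
    have h3 : (S : Subgroup G) ⊓ Subgroup.centralizer ({x} : Set G) = S :=
      Subgroup.eq_of_le_of_card_ge inf_le_left (h2 ▸ h1)
    refine mem_cen.2 ⟨hxS, fun s hs => ?_⟩
    rw [← h3] at hs
    exact mem_centralizer_singleton.1 (Subgroup.mem_inf.1 hs).2
  exact Subgroup.mem_inf.2 ⟨fin S (Subgroup.mem_inf.1 hx).1, fin T (Subgroup.mem_inf.1 hx).2⟩

end Cfsg.Agent.S3183
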