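import Cfsg.Statements.S3185
import Cfsg.Agent.S2775
import Cfsg.Agent.LieM.Gold6
import Mathlib.Tactic.Group

set_option autoImplicit false
open Cfsg

namespace Cfsg.Agent.S3185
open scoped commutatorElement

open Subgroup Cfsg.Agent.BG Cfsg.Agent.LieM

/-- Call an involution of a finite group 2-central when it lies in the centre of some Sylow 2-subgroup, and call an intersection of two distinct Sylow 2-subgroups central when it is trivial or contains a 2-central involution. Let G be a non-abelian finite simple group in which every central intersection of two distinct Sylow 2-subgroups has 2-rank at most one (no Klein four-subgroup). Then G is isomorphic to PSL(2, 2^n) with n ≥ 2, to a Suzuki group over the field with 2^(2m+1) elements with m ≥ 1, to PSU(3, 2^n) with n ≥ 2, to PSL(2, q) with q ≡ 3 or 5 mod 8 and q > 5, or G is simple of order 175560 (the order of the first Janko group). -/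
theorem result {G : Type*} [Group G] [Finite G] [IsSimpleGroup G]
    (hG : ¬ IsMulCommutative G)
    (h : ∀ S T : Sylow 2 G, S ≠ T →
      ((S : Subgroup G) ⊓ (T : Subgroup G) = ⊥ ∨
        ∃ z ∈ (S : Subgroup G) ⊓ (T : Subgroup G), orderOf z = 2 ∧
          ∃ U : Sylow 2 G, z ∈ (Subgroup.center ↥(U : Subgroup G)).map (U : Subgroup G).subtype) →
      Cfsg.PRankLE 2 1 ↥((S : Subgroup G) ⊓ (T : Subgroup G))) :
    (∃ (n : ℕ) (F : Type) (_ : Field F) (_ : Fintype F), 2 ≤ n ∧ Fintype.card F = 2 ^ n ∧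
        Nonempty (G ≃* Matrix.ProjectiveSpecialLinearGroup (Fin 2) F)) ∨
    (∃ (m : ℕ) (F : Type) (_ : Field F) (_ : Fintype F), 1 ≤ m ∧ Fintype.card F = 2 ^ (2 * m + 1) ∧
        Nonempty (G ≃* ↥(Cfsg.Lie.Sz F (2 ^ (m + 1))))) ∨
    (∃ (n : ℕ) (F : Type) (_ : Field F) (_ : Fintype F), 2 ≤ n ∧ Fintype.card F = 4 ^ n ∧
        Nonempty (G ≃* Cfsg.PSU 3 F (2 ^ n))) ∨
    (∃ (F : Type) (_ : Field F) (_ : Fintype F), (Fintype.card F % 8 = 3 ∨ Fintype.card F % 8 = 5) ∧
        5 < Fintype.card F ∧ Nonempty (G ≃* Matrix.ProjectiveSpecialLinearGroup (Fin 2) F)) ∨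
    Cfsg.IsJ1 G := by
  refine HC.list @Cfsg.Agent.S2775.result hG fun S T a ha b hb ⟨a2, U, aU, hU⟩ b2 ne c => by_contra fun hne => ?_
  have h1 := h S T hne (Or.inr ⟨a, ha, a2, U, ⟨a, aU⟩, mem_center_iff.2 fun y => Subtype.ext (hU y y.2), rfl⟩)
  obtain ⟨h4, -⟩ := Small.four_of_commute a2 b2 ne c
  have l : zpowers a ⊔ zpowers b ≤ (S : Subgroup G) ⊓ T := sup_le (zpowers_le.2 ha) (zpowers_le.2 hb)
  have k1 : ∀ x ∈ zpowers a ⊔ zpowers b, x ^ 2 = 1 := fun x hx => by
    rw [sq]; exact congrArg Subtype.val (IsKleinFour.mul_self (⟨x, hx⟩ : ↥(zpowers a ⊔ zpowers b)))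
  have h2 := h1 ((zpowers a ⊔ zpowers b).subgroupOf _) ⟨⟨fun x y => Subtype.ext (Subtype.ext
    (h4.isMulCommutative.comm x.2 y.2))⟩⟩ fun x hx => Subtype.ext (k1 _ hx)
  rw [Nat.card_congr (subgroupOfEquivOfLe l).toEquiv, h4.card_four] at h2
  norm_num at h2

end Cfsg.Agent.S3185
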