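import Cfsg.Statements.S3186
import Cfsg.Agent.ASI.Dih
import Cfsg.Agent.ThA.As
import Cfsg.Agent.Gold.All

set_option autoImplicit false
open Cfsg

namespace Cfsg.Agent.S3186

open ASI DD BG Subgroup in
theorem key {G : Type*} [Group G] [Finite G] [hs : IsSimpleGroup G] (hG : ¬ IsMulCommutative G) {P : Sylow 2 G}
    (hU : UQ P) (c2 : ¬ ⁅(P : Subgroup G), (P : Subgroup G)⁆ ≤ C[(P : Subgroup G)]) :
    ∃ w r, DG (P : Subgroup G) w r ∧ 2 ≤ orderOf r := by
  have nab : ¬ (P : Subgroup G) ≤ C[(P : Subgroup G)] := fun l => c2 ((commg_subl (normG _)).trans l)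
  have hp : ⁅(⊤ : Subgroup G), (⊤ : Subgroup G)⁆ = ⊤ := (hs.eq_bot_or_eq_top_of_normal _ inferInstance).resolve_left
    fun e => hG ⟨⟨fun x y => commutatorElement_eq_one_iff_mul_comm.1
      (mem_bot.1 (e.le (commutator_mem_commutator (mem_top x) (mem_top y))))⟩⟩
  have hS : ∀ S : Subgroup G, S ≤ C[S] → IsStronglyClosed S P → S = ⊥ := fun S ab sc => by_contra fun ne => by
    obtain ⟨M, hM⟩ := (Gold.kn_of_closed hG P ne (abelian_of_cent ab) sc).se_or_ab.resolve_right fun e =>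
      nab fun x hx => mem_cent.2 fun y hy => Invol.isMulCommutative_iff'.1 (e _ P.2) y hy x hx
    obtain ⟨a, t, h⟩ := ThA.exists_hn hG hM (sylowIn_top P) fun e => nab fun x hx => mem_cent.2 fun y hy => e y hy x hx
    exact c2 (commutator_le.2 fun x hx y hy => mem_cent.2 fun u hu => (h.toHyp.Q0_comm (h.cm hx hy) hu).symm)
  by_cases hA : ∃ D, Ess P D ∧ ¬ (P : Subgroup G) ≤ N[D]
  · obtain ⟨D, hD, n⟩ := hA
    obtain ⟨A, s, k⟩ := hD.pr n
    obtain ⟨c, hc⟩ := k.cc hU (k.r2 hU nab hp)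
    refine AC.dihedral (c := c) ⟨hU, fun E hE => ?_, D, hD⟩ nab hp hS
    obtain ⟨B, s', k'⟩ := hE.pr (k.nn hU hE)
    obtain ⟨c', hc'⟩ := k'.cc hU (k'.r2 hU nab hp)
    exact ⟨hc.same k hc' k' hU ▸ hc', B, s', k', k'.r2 hU nab hp⟩
  push Not at hA
  have K : ∀ D A, Ess P D → Ess P A → #D ≤ #A → D = A := fun D A hD hE c => by_contra fun ne => by
    obtain ⟨h, l⟩ := hD.lp hU (le_inf hE.le (hE.le.trans (hA D hD))) ((commg_subr (hD.le.trans (hA A hE))).trans hE.ab)
      (fun l => ne (hE.eq_of_le hD.ab hD.le l)) (Nat.mul_le_mul c (card_le_card (le_inf inf_le_right (inf_le_left.trans hE.ab))))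
    have e : (P : Subgroup G) = A ⊔ D := le_antisymm ((le_inf le_rfl (hA D hD)).trans l.le) (sup_le hE.le hD.le)
    have n : (P : Subgroup G) ≤ N[A ⊓ D] := normsI (hA A hE) (hA D hD)
    have c1 : ⁅A, D⁆ ≤ A ⊓ D := le_inf (commg_subl (hD.le.trans (hA A hE))) (commg_subr (hE.le.trans (hA D hD)))
    have c3 : ∀ X ≤ (P : Subgroup G), ⁅X, A⁆ ≤ A ⊓ D → ⁅X, D⁆ ≤ A ⊓ D → ⁅X, (P : Subgroup G)⁆ ≤ A ⊓ D := fun X _ h1 h2 => by
      rw [commGC, e]; exact comm_sup_le (hE.le.trans n) (hD.le.trans n) (commGC X A ▸ h1) (commGC X D ▸ h2)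
    refine c2 (le_trans ?_ (e ▸ le_cent_sup (inf_le_left.trans hE.ab) (inf_le_right.trans hD.ab)))
    nth_rw 1 [e]
    exact comm_sup_le (hE.le.trans n) (hD.le.trans n) (c3 A hE.le (by rw [commG1.2 hE.ab]; exact bot_le) c1)
      (c3 D hD.le (commGC A D ▸ c1) (by rw [commG1.2 hD.ab]; exact bot_le))
  have K' : ∀ D A, Ess P D → Ess P A → D = A := fun D A hD hE =>
    (le_total #D #A).elim (K D A hD hE) fun c => (K A D hE hD c).symm
  by_cases hE : ∃ D, Ess P D
  · obtain ⟨D, hD⟩ := hE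
    have := hS D hD.ab ⟨hD.le, fun x hx g m => fus hU nab (fun a b => a ∈ D → b ∈ D) (fun _ _ _ f g m => g (f m))
      (fun n hn a _ m => (K' _ _ (hD.cj hn) hD).le (conj_mem_cj n m))
      (fun E hE g hg a ha _ => (K' _ _ hE hD).le (conj_mem_of_norm hg ha)) (hD.le hx) m hx⟩
    exact absurd (fun x _ => this ▸ mem_cent.2 fun y hy => by simp [mem_bot.1 hy]) hD.nab
  · exact absurd (hS _ (centSS inf_le_left le_rfl inf_le_right) ⟨inf_le_left, fun x hx g m => fus hU nab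
      (fun a b => a ∈ Z[(P : Subgroup G)] → b ∈ Z[(P : Subgroup G)]) (fun _ _ _ f g m => g (f m))
      (fun n hn a _ m => conj_mem_of_norm (norms_center le_rfl hn) m) (fun E h => absurd ⟨E, h⟩ hE) hx.1 m hx⟩)
      (center_nil_ne_bot (pgroup_nil P.2) fun e => nab (e ▸ bot_le))

/-- Let G be a non-abelian finite simple group in which the intersection of any two distinct Sylow 2-subgroups is abelian. Then a Sylow 2-subgroup of G is either dihedral (of order at least 4) or of nilpotency class at most two (its derived subgroup is central). -/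
theorem result {G : Type*} [Group G] [Finite G] [IsSimpleGroup G]
    (hG : ¬ IsMulCommutative G)
    (hA : ∀ S T : Sylow 2 G, S ≠ T → IsMulCommutative ↥((S : Subgroup G) ⊓ (T : Subgroup G))) (S : Sylow 2 G) :
    (∃ m : ℕ, 2 ≤ m ∧ Nonempty (↥(S : Subgroup G) ≃* DihedralGroup m)) ∨
      commutator ↥(S : Subgroup G) ≤ Subgroup.center ↥(S : Subgroup G) := by
  refine or_iff_not_imp_right.2 fun c2 => (key hG (P := S) (fun X l n g e => by_contra fun q => n ?_) fun l => c2 ?_).elim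
    fun w ⟨r, h, o⟩ => ⟨_, o, h.iso⟩
  · have := Invol.isMulCommutative_iff'.1 (hA S (g⁻¹ • S) fun e => q (inv_mem_iff.1 (Sylow.smul_eq_iff_mem_normalizer.1 e.symm)))
    have l' : X ≤ (S : Subgroup G) ⊓ (g⁻¹ • S : Sylow 2 G) := le_inf l (BG.cj_le_iff.1 e)
    exact fun x hx => BG.mem_cent.2 fun y hy => this y (l' hy) x (l' hx)
  · exact fun x hx => Subgroup.mem_center_iff.2 fun y => Subtype.ext (BG.mem_cent.1
      (l ((Subgroup.map_subtype_commutator (S : Subgroup G)).le (Subgroup.mem_map_of_mem _ hx))) y y.2)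

end Cfsg.Agent.S3186
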