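import Cfsg.Statements.S3189
import Cfsg.Agent.AB.SolC

set_option autoImplicit false
open Cfsg

namespace Cfsg.Agent.S3189

open Subgroup Cfsg.Agent.BG Cfsg.Agent.AB Cfsg.Agent.Sig in

/-- Let G be a non-abelian finite simple group whose Sylow 2-subgroup S is elementary abelian of order 8, and suppose the centralizer of every involution of G is solvable. Then the normalizer of S modulo the centralizer of S has order 7. -/
theorem result {G : Type*} [Group G] [Finite G]
    [IsSimpleGroup G] (hG : ¬ IsMulCommutative G) (S : Sylow 2 G)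
    (hS : Cfsg.IsElementaryAbelian 2 (S : Subgroup G)) (hS8 : Nat.card ↥(S : Subgroup G) = 8)
    (hC : ∀ t : G, orderOf t = 2 → Group.IsSolvable ↥(Subgroup.centralizer ({t} : Set G))) :
    (Subgroup.centralizer ((S : Subgroup G) : Set G)).relIndex (Subgroup.normalizer ((S : Subgroup G) : Set G)) = 7 := by
  have hab := hab_of_sylow S hS.abelian
  obtain ⟨H, hH⟩ := se_of_constrained hG (sylowIn_top S) hS.abelian hS le_rfl hS8.ge
    fun t ht => pLayerIn_eq_bot_of_isSolvable (hC t ht)
  obtain ⟨F, -, -, n, -, -, -, h⟩ := psl_of_se hG hab hH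
  obtain ⟨h1, h2⟩ := h S
  rw [← h1, hS8] at h2
  have h3 : C[(S : Subgroup G)].relIndex N[(S : Subgroup G)] ∣ 7 := by
    have := card_mul_relIndex (normG (S : Subgroup G))
    rw [h2, hS8] at this
    exact (show (S : Subgroup G).relIndex N[(S : Subgroup G)] = 7 by omega) ▸ relIndex_dvd_of_le_left _ hS.cent
  refine ((Nat.dvd_prime (by norm_num)).1 h3).resolve_left fun e => not_compl_simple hG
    (Transfer.hasNormalPComplement_of_normalizer_le_centralizer S (relIndex_eq_one.1 e))

end Cfsg.Agent.S3189
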