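import Cfsg.Statements.S3190
import Cfsg.Agent.Solv.CoprimeSylow
import Cfsg.Agent.S3183

set_option autoImplicit false
open Cfsg

namespace Cfsg.Agent.S3190

/-- Let p be an odd prime and, inside a finite group, let P be a p-subgroup normalized by a Klein four-group T. Let R be a subgroup of P, normal in P and normalized by T, such that P is the product of R with the centralizer of T in P. If T centralizes the centre of P, then T centralizes the centre of R. -/
theorem result {X : Type*} [Group X] [Finite X]
    {p : ℕ} (hp : p.Prime) (hodd : Odd p) (P T R : Subgroup X) (hP : IsPGroup p ↥P) (hT : IsKleinFour ↥T)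
    (hTP : T ≤ Subgroup.normalizer (P : Set X)) (hRP : R ≤ P) (hRn : (R.subgroupOf P).Normal)
    (hTR : T ≤ Subgroup.normalizer (R : Set X)) (hfac : R ⊔ (P ⊓ Subgroup.centralizer (T : Set X)) = P)
    (hZ : T ≤ Subgroup.centralizer (((Subgroup.center ↥P).map P.subtype : Subgroup X) : Set X)) :
    T ≤ Subgroup.centralizer (((Subgroup.center ↥R).map R.subtype : Subgroup X) : Set X) := by
  open Cfsg.Agent.Solv Cfsg.Agent.S3183 in
  haveI : Fact p.Prime := ⟨hp⟩
  have hZR : (Subgroup.center ↥R).map R.subtype ≤ R := Subgroup.map_subtype_le _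
  have hPN : P ≤ Subgroup.normalizer (R : Set X) := by
    rwa [Subgroup.normal_subgroupOf_iff_le_normalizer hRP] at hRn
  refine thompson_PxQ (p := p) (P := P ⊓ Subgroup.centralizer (T : Set X)) (hP.to_le inf_le_left) ?_
    (hP.to_le (hZR.trans hRP)) inf_le_right
    (le_normalizer_map_of_characteristic (inf_le_left.trans hPN) _)
    (le_normalizer_map_of_characteristic hTR _) ?_
  · rw [hT.card_four, show 4 = 2 ^ 2 from rfl]
    exact Nat.Coprime.pow_left _ (Nat.coprime_two_left.2 hodd)
  · intro z hz
    obtain ⟨hz1, hz2⟩ := Subgroup.mem_inf.1 hz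
    have hzP : z ∈ (Subgroup.center ↥P).map P.subtype := by
      refine mem_cen.2 ⟨hRP (hZR hz1), ?_⟩
      have : P ≤ Subgroup.centralizer ({z} : Set X) := by
        rw [← hfac]
        refine sup_le (fun r hr => ?_) (fun r hr => ?_)
        · rw [Subgroup.mem_centralizer_singleton_iff]; exact (mem_cen.1 hz1).2 r hr
        · rw [Subgroup.mem_centralizer_singleton_iff]; exact hz2 r hr
      intro s hs
      exact Subgroup.mem_centralizer_singleton_iff.1 (this hs)
    intro t ht
    exact (hZ ht z hzP).symm

end Cfsg.Agent.S3190
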