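import Cfsg.Statements.S3192
import Cfsg.Agent.FG.Ito4
import Cfsg.Agent.Classical.PSL2Four
import Cfsg.Agent.Classical.GL2Class

set_option autoImplicit false
open Cfsg

namespace Cfsg.Agent.S3192

open Cfsg.Agent.Classical Subgroup in
theorem cs_psl {F : Type} [Field F] [Finite F] (h2 : (2 : F) = 0) (h4 : 4 ≤ Nat.card F) :
    {m : ℕ | ∃ x : Matrix.SpecialLinearGroup (Fin 2) F, x ≠ 1 ∧ m = (centralizer ({x} : Set _)).index}.ncard = 3 := by
  have := Fintype.ofFinite F
  have : CharP F 2 := CharTwo.of_one_ne_zero_of_two_eq_zero one_ne_zero h2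
  have ev : Even (Nat.card F) := by
    obtain ⟨a, -, ha⟩ := FiniteField.card F 2
    rw [Nat.card_eq_fintype_card, ha]; exact Nat.even_pow.2 ⟨even_two, a.ne_zero⟩
  have hu : ∀ b : F, b ≠ 0 → (centralizer ({uSL b} : Set _)).index = Nat.card F ^ 2 - 1 := fun b hb => by
    rw [← index_centralizer_uSL hb, gcd_two_pred_of_even ev (by omega), one_mul]
  have ng : ∀ g : Matrix.SpecialLinearGroup (Fin 2) F, -g = g := fun g => by
    ext i j; simp [CharTwo.neg_eq]
  have n1 : ∀ x : Matrix.SpecialLinearGroup (Fin 2) F, ∀ n, 1 < n → n = (centralizer ({x} : Set _)).index → x ≠ 1 := by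
    rintro x n l e rfl
    exact l.ne' (e.trans Gen2.cs_one)
  obtain ⟨q, hq⟩ : ∃ q, Nat.card F = q + 4 := ⟨_, (Nat.sub_add_cancel h4).symm⟩
  have e1 : Nat.card F ^ 2 - 1 = q * q + 8 * q + 15 := by rw [hq]; exact Nat.sub_eq_of_eq_add (by ring)
  have e2 : Nat.card F * (Nat.card F - 1) = q * q + 7 * q + 12 := by rw [hq]; show _ * (q + 3) = _; ring
  have e3 : Nat.card F * (Nat.card F + 1) = q * q + 9 * q + 20 := by rw [hq]; ring
  refine Set.ncard_eq_three.2 ⟨q * q + 8 * q + 15, q * q + 7 * q + 12, q * q + 9 * q + 20, by omega, by omega, by omega,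
    Set.Subset.antisymm ?_ ?_⟩
  · rintro _ ⟨x, x1, rfl⟩
    by_cases d : disc x.1 = 0
    · obtain ⟨b, e⟩ := sl_isConj_uSL_of_disc d
      rw [ng, or_self] at e
      refine .inl ((Gen2.cs_of_isConj e).trans ((hu b ?_).trans e1))
      rintro rfl
      exact x1 (isConj_one_left.1 (uSL_zero (F := F) ▸ e))
    by_cases n : NoEig x.1
    exacts [.inr (.inl ((index_centralizer_noEig n).trans e2)), .inr (.inr ((index_centralizer_split d n).trans e3))]
  · rintro _ (rfl | rfl | rfl)
    · have := ((hu 1 one_ne_zero).trans e1).symm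
      exact ⟨_, n1 _ _ (by omega) this, this⟩
    · obtain ⟨g, hg⟩ := sl_exists_noEig (F := F)
      have := ((index_centralizer_noEig hg).trans e2).symm
      exact ⟨_, n1 _ _ (by omega) this, this⟩
    · obtain ⟨a, ha, -⟩ := exists_dSL_generator (F := F)
      have := ((index_centralizer_split ((disc_dSL a).2 fun e => ?_) (not_noEig_dSL a)).trans e3).symm
      · exact ⟨_, n1 _ _ (by omega) this, this⟩
      have : a = 1 := Units.ext (by rwa [sq, mul_self_eq_one_iff, CharTwo.neg_eq, or_self] at e)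
      rw [this, show dSL (1 : Fˣ) = 1 by ext i j; fin_cases i <;> fin_cases j <;> simp, orderOf_one] at ha
      omega

/-- Simple groups of conjugate type rank three. For a finite group G consider the set of indices of the centralizers of the non-central elements of G. Then G is a non-abelian simple group for which this set has exactly three members if and only if G is isomorphic to PSL(2, 2^m) for some m ≥ 2. -/
theorem result (G : Type*) [Group G] [Finite G] :
    (IsSimpleGroup G ∧ ¬ IsMulCommutative G ∧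
        Set.ncard {m : ℕ | ∃ x : G, x ∉ Subgroup.center G ∧ m = (Subgroup.centralizer ({x} : Set G)).index} = 3) ↔
      ∃ (m : ℕ) (F : Type) (_ : Field F) (_ : Fintype F), 2 ≤ m ∧ Fintype.card F = 2 ^ m ∧
        Nonempty (G ≃* Matrix.ProjectiveSpecialLinearGroup (Fin 2) F) := by
  constructor
  · rintro ⟨hs, nc, h⟩
    have hZ : Subgroup.center G = ⊥ := (hs.eq_bot_or_eq_top_of_normal _ inferInstance).resolve_right fun e =>
      nc ⟨⟨fun a b => Subgroup.mem_center_iff.1 (e ▸ Subgroup.mem_top b) a⟩⟩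
    obtain ⟨F, _, _, hF, h2, e⟩ := FG.Ito.three hZ (by simpa [hZ, eq_comm] using h.le)
      fun _ => nc ⟨⟨IsSimpleGroup.comm_iff_isSolvable.2 ‹_›⟩⟩
    have : CharP F 2 := CharTwo.of_one_ne_zero_of_two_eq_zero one_ne_zero h2
    obtain ⟨a, -, ha⟩ := FiniteField.card F 2
    refine ⟨a, F, _, _, by_contra fun l => ?_, ha, e⟩
    rw [ha, show (a : ℕ) = 1 by have := a.pos; omega] at hF
    exact absurd hF (by decide)
  · rintro ⟨m, F, _, _, hm, hF, ⟨e⟩⟩
    have h4 : 4 ≤ Nat.card F := by
      rw [Nat.card_eq_fintype_card, hF]; exact Nat.pow_le_pow_right (n := 2) two_pos hm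
    have h2 : (2 : F) = 0 := by
      have := FiniteField.cast_card_eq_zero F
      rw [hF] at this
      exact (pow_eq_zero_iff (n := m) (by omega)).1 (by exact_mod_cast this)
    have := Matrix.ProjectiveSpecialLinearGroup.rank_two_simple h4
    have hs := e.isSimpleGroup
    have f := e.trans (Classical.slEquivPSL h2).symm
    have k := cs_psl h2 h4
    have nc : ¬ IsMulCommutative G := fun c => by
      refine absurd (k.ge.trans ((Set.ncard_le_ncard (t := {1}) ?_).trans (Set.ncard_singleton 1).le)) (by decide)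
      rintro _ ⟨x, -, rfl⟩
      exact (Gen2.cs_mulEquiv f.symm x).symm.trans (Gen2.cs_eq_one_iff.2 (Subgroup.mem_center_iff.2 fun g => c.1.1 _ _))
    have hZ : Subgroup.center G = ⊥ := (hs.eq_bot_or_eq_top_of_normal _ inferInstance).resolve_right fun e =>
      nc ⟨⟨fun a b => Subgroup.mem_center_iff.1 (e ▸ Subgroup.mem_top b) a⟩⟩
    refine ⟨hs, nc, Eq.trans ?_ k⟩
    congr 1
    ext n
    rw [hZ]
    exact ⟨fun ⟨x, x1, e⟩ => ⟨f x, by simpa using x1, e.trans (Gen2.cs_mulEquiv f x).symm⟩,
      fun ⟨x, x1, e⟩ => ⟨f.symm x, by simpa using x1, e.trans (Gen2.cs_mulEquiv f.symm x).symm⟩⟩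

end Cfsg.Agent.S3192
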