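import Cfsg.Statements.S3197
import Cfsg.Agent.SC64.G

set_option autoImplicit false
open Cfsg

namespace Cfsg.Agent.S3197

/-- Let G be a finite group whose Sylow 2-subgroups are isomorphic to those of the alternating group of degree 8, with exactly three conjugacy classes of involutions, and containing an elementary abelian subgroup A of order 16 whose normalizer N satisfies: A·O(N) is normal in N with quotient N/(A·O(N)) isomorphic to the alternating group of degree 5, O(N) being the largest normal subgroup of odd order of N. Then A·O(G) is a normal subgroup of G. -/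
theorem result {G : Type*} [Group G] [Finite G]
    (S : Sylow 2 G) (P : Sylow 2 ↥(alternatingGroup (Fin 8)))
    (hS : Nonempty (↥(S : Subgroup G) ≃* ↥(P : Subgroup ↥(alternatingGroup (Fin 8)))))
    (h3 : Nat.card {c : ConjClasses G // ∃ x ∈ c.carrier, orderOf x = 2} = 3)
    (A : Subgroup G) (hA : Cfsg.IsElementaryAbelian 2 A) (hA16 : Nat.card ↥A = 16)
    (N : Subgroup G) (hN : N = Subgroup.normalizer (A : Set G))
    (hNA : ∃ (_ : (A.subgroupOf N ⊔ Cfsg.oddCore ↥N).Normal),
      Nonempty (↥N ⧸ (A.subgroupOf N ⊔ Cfsg.oddCore ↥N) ≃* ↥(alternatingGroup (Fin 5)))) :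
    (A ⊔ Cfsg.oddCore G).Normal := by
  open Cfsg.Agent.BG Subgroup in
  have := Fact.mk Nat.prime_two
  subst hN
  obtain ⟨φ⟩ := hS
  obtain ⟨hM, ⟨χ⟩⟩ := hNA
  obtain ⟨T, hT⟩ := (IsPGroup.of_card (p := 2) (n := 4) hA16).exists_le_sylow
  obtain ⟨E, e, h⟩ := SC16.exists_fr P (T : Subgroup G) ((Sylow.equiv T S).trans φ)
  obtain rfl := h.uniq hT hA.1 hA16
  let ψ := χ.toMonoidHom.comp (QuotientGroup.mk' _)
  have hψ : Function.Surjective ψ := χ.surjective.comp (QuotientGroup.mk'_surjective _)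
  have k : ∀ x, ψ x = 1 ↔ x ∈ A.subgroupOf N[A] ⊔ oddCore N[A] := fun x =>
    (map_eq_one_iff _ χ.injective).trans (QuotientGroup.eq_one_iff x)
  have l : A.subgroupOf N[A] ⊔ oddCore N[A] ≤ (C[A]).subgroupOf N[A] := sup_le (fun x hx => h.ac hx) fun x hx =>
    mem_cent.2 fun a ha => congrArg Subtype.val (commute_of_normal_of_disjoint (A.subgroupOf N[A]) (oddCore N[A])
      inferInstance inferInstance (disjoint_of_coprime_natCard (by
        rw [card_subgroupOf (normG A), hA16]
        exact ((Solv.coprime_card_pPrimeCore 2 N[A]).pow_right 4).symm)) ⟨a, normG A ha⟩ x ha hx).eq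
  refine h.normal ψ hψ (fun x => ⟨fun c => l ((k x).1 c), fun c => ?_⟩) T rfl h3
  rcases (Normal.map (cent_normal A).subgroupOf ψ hψ).eq_bot_or_eq_top with d | d
  · exact d.le ⟨x, c, rfl⟩
  · obtain ⟨t, ht, kt, -⟩ := h.split 1 (by decide)
    obtain ⟨r, hr, d⟩ := d.ge (mem_top (ψ ⟨t, h.sN ht⟩))
    have := l ((k (r⁻¹ * ⟨t, h.sN ht⟩)).1 (by rw [map_mul, map_inv, d, inv_mul_cancel]))
    exact absurd (h.zero' kt ((mul_mem_cancel_left (inv_mem hr)).1 this)) (by decide)

end Cfsg.Agent.S3197
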