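import Cfsg.Statements.S3198
import Cfsg.Agent.L34S.C
import Cfsg.Agent.L34S.P1
import Cfsg.Agent.L34S.P3

set_option autoImplicit false
open Cfsg

namespace Cfsg.Agent.S3198

/-- If G is a finite group whose Sylow 2-subgroups are isomorphic to those of PSL(3, 4), then G modulo its largest normal subgroup of odd order is isomorphic to a subgroup of PGL(3, 4) (the general linear group of dimension 3 over the field with 4 elements modulo its centre). -/
theorem result {G : Type*} [Group G] [Finite G]
    {F : Type*} [Field F] [Fintype F] (hF : Fintype.card F = 4) (S : Sylow 2 G)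
    (P : Sylow 2 (Matrix.ProjectiveSpecialLinearGroup (Fin 3) F))
    (hS : Nonempty (↥(S : Subgroup G) ≃* ↥(P : Subgroup (Matrix.ProjectiveSpecialLinearGroup (Fin 3) F)))) :
    ∃ f : G ⧸ Cfsg.oddCore G →* GL (Fin 3) F ⧸ Subgroup.center (GL (Fin 3) F), Function.Injective f := by
  obtain ⟨e⟩ := hS
  obtain ⟨A, B, h⟩ := L34S.exists_fr hF S P e
  have := Nat.fact_prime_two
  have h' := h.map (QuotientGroup.mk' (oddCore G)) (QuotientGroup.mk'_surjective _) (by
    rw [QuotientGroup.ker_mk']; exact Nat.coprime_two_right.1 Sig.coprime_pPrimeCore)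
  have hO : oddCore (G ⧸ oddCore G) = ⊥ := Sig.pPrimeCore_quotient
  rcases h'.cases hO with hA | hB | ⟨tA, tB⟩
  · exact h'.aff hO hF
  · exact h'.symm.aff hO hF
  · exact h'.plane (fun z hz z1 => h'.hC hO tA tB hz z1) tA tB hO hF

end Cfsg.Agent.S3198
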