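import Cfsg.Statements.S3199
import Cfsg.Agent.HJS.Main

set_option autoImplicit false
open Cfsg

namespace Cfsg.Agent.S3199


open Subgroup Cfsg.Agent.HJS

/-- Let G be a finite group with no normal subgroup of index 2 whose Sylow 2-subgroups are isomorphic to those of the Hall–Janko group J₂, and let z be an involution central in a Sylow 2-subgroup of G. Then the centralizer of z modulo its largest normal subgroup of odd order is isomorphic to the centralizer of a 2-central involution in J₂ or to the centralizer of a 2-central involution in the third Janko group J₃. -/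
theorem result {G : Type*} [Group G] [Finite G]
    (S : Sylow 2 G) (P : Sylow 2 Cfsg.Spor.J2) (hS : Nonempty (↥(S : Subgroup G) ≃* ↥(P : Subgroup Cfsg.Spor.J2)))
    (h2 : ∀ H : Subgroup G, H.Normal → H.index ≠ 2)
    (z : G) (hz : orderOf z = 2) (hzS : z ∈ (S : Subgroup G)) (hzc : ∀ s ∈ (S : Subgroup G), s * z = z * s) :
    (∃ (z' : Cfsg.Spor.J2) (Q : Sylow 2 Cfsg.Spor.J2), orderOf z' = 2 ∧ z' ∈ (Q : Subgroup Cfsg.Spor.J2) ∧
        (∀ s ∈ (Q : Subgroup Cfsg.Spor.J2), s * z' = z' * s) ∧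
        Nonempty ((↥(Subgroup.centralizer ({z} : Set G)) ⧸ Cfsg.oddCore ↥(Subgroup.centralizer ({z} : Set G))) ≃*
          ↥(Subgroup.centralizer ({z'} : Set Cfsg.Spor.J2)))) ∨
      (∃ (F : Type) (_ : Field F) (_ : Fintype F) (ω : F), Fintype.card F = 4 ∧ ω ^ 2 + ω + 1 = 0 ∧
        ∃ (z' : Cfsg.Spor.J3 F ω) (Q : Sylow 2 (Cfsg.Spor.J3 F ω)), orderOf z' = 2 ∧ z' ∈ (Q : Subgroup (Cfsg.Spor.J3 F ω)) ∧
          (∀ s ∈ (Q : Subgroup (Cfsg.Spor.J3 F ω)), s * z' = z' * s) ∧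
          Nonempty ((↥(Subgroup.centralizer ({z} : Set G)) ⧸ Cfsg.oddCore ↥(Subgroup.centralizer ({z} : Set G))) ≃*
            ↥(Subgroup.centralizer ({z'} : Set (Cfsg.Spor.J3 F ω))))) := by
  have := Nat.fact_prime_two
  obtain ⟨φ, E, hr⟩ := exists_emb S P hS
  obtain ⟨c, rfl⟩ := hr.ge hzS
  obtain rfl : c = tz := (cen c fun b => E.eq.1 (by
    rw [map_mul, map_mul]; exact (hzc _ (hr.le ⟨b, rfl⟩)).symm)).resolve_left fun e => by
      rw [e, map_one, orderOf_one] at hz; omega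
  obtain ⟨z, a, x, e, s, t, hc, L, -⟩ := E.core fun H h => h2 H (normal_of_index_eq_two h) h
  obtain ⟨F, E', hF⟩ := embJ2
  obtain ⟨Q, hQ⟩ := BG.sylow_of_sylowIn_top E'.syl
  obtain ⟨i⟩ := hF L
  refine .inl ⟨F tz, Q, Invol.orderOf_two_iff.2 ⟨by rw [← map_mul, zz, map_one], mt E'.eq1.1 z1⟩, hQ.ge ⟨_, rfl⟩,
    fun y hy => ?_, ⟨(topEquiv.symm.trans (MulEquiv.subgroupCongr hc.symm)).trans i⟩⟩
  obtain ⟨b, rfl⟩ := hQ.le hy
  exact (zc b).map F

end Cfsg.Agent.S3199
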