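import Cfsg.Statements.S4034
import Cfsg.Agent.Gen2.PPClass
import Cfsg.Agent.Solv.Hall
import Cfsg.Agent.Gen2.Cyc

set_option autoImplicit false
open Cfsg

namespace Cfsg.Agent.S4034

theorem sol_of {G : Type*} [Group G] [Finite G] {p : ℕ} [Fact p.Prime]
    (h : IsPGroup p (G ⧸ Cfsg.solvableRadical G)) : Group.IsSolvable G := by
  have := h.isNilpotent
  exact Solv.isSolvable_of_normal_of_quotient (Cfsg.solvableRadical G)

/-- Let G be a finite group and p a prime. Every conjugacy class of p-regular elements of G (elements of order prime to p) has p-power size if and only if G has an abelian p-complement, i.e. an abelian subgroup of order prime to p and p-power index. -/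
theorem result {G : Type*} [Group G] [Finite G] {p : ℕ} (hp : p.Prime) :
    (∀ x : G, (orderOf x).Coprime p → ∃ k : ℕ, (ConjClasses.mk x).carrier.ncard = p ^ k) ↔
    (∃ H : Subgroup G, IsMulCommutative H ∧ ¬ p ∣ Nat.card H ∧ ∃ k : ℕ, H.index = p ^ k) := by
  have := Fact.mk hp
  have e : ∀ x : G, (ConjClasses.mk x).carrier.ncard =
      (Subgroup.centralizer ({x} : Set G)).index := fun x => by
    rw [← Gen2.card_carrier_mk, Nat.card_coe_set_eq]
  simp only [e]
  constructor
  · intro h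
    have hs : Group.IsSolvable G := by
      refine sol_of (p := p) fun x => ?_
      obtain ⟨x, rfl⟩ := QuotientGroup.mk_surjective x
      obtain ⟨k, hk⟩ := h (Block.regPart p x)
        ((Nat.Prime.coprime_iff_not_dvd hp).2 (Block.not_dvd_orderOf_regPart p x)).symm
      obtain ⟨j, hj⟩ := (Block.isPPart_pPart p x).orderOf_eq
      refine ⟨j, ?_⟩
      rw [← Block.pPart_mul_regPart p x, QuotientGroup.mk_mul,
        (QuotientGroup.eq_one_iff _).2 (Gen2.mem_solRad_of_cs hp hk), mul_one,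
        ← QuotientGroup.mk_pow, ← hj, pow_orderOf_eq_one, QuotientGroup.mk_one]
    obtain ⟨H, hH⟩ := (Solv.HallOK.of_isSolvable {p}ᶜ G).exists_hall
    obtain ⟨h1, h2⟩ := (Solv.isPiHall_compl_singleton_iff hp).1 hH
    refine ⟨H, Gen2.isMulCommutative_of_forall fun x hx y hy => ?_,
      (Nat.Prime.coprime_iff_not_dvd hp).1 h1.symm, h2⟩
    obtain ⟨k, hk⟩ := h x (h1.coprime_dvd_left (H.orderOf_dvd_natCard hx))
    obtain ⟨l, hl⟩ := h y (h1.coprime_dvd_left (H.orderOf_dvd_natCard hy))
    have h3 : x * y * x⁻¹ * y⁻¹ ∈ H ⊓ Cfsg.pCore p G :=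
      ⟨H.mul_mem (H.mul_mem (H.mul_mem hx hy) (H.inv_mem hx)) (H.inv_mem hy),
        Gen2.commutator_mem_pCore_of_cs hk hl⟩
    rw [Solv.eq_bot_of_isPGroup_of_coprime ((Solv.isPGroup_pCore p G).to_inf_right)
      (h1.coprime_dvd_left (Subgroup.card_dvd_of_le inf_le_left)), Subgroup.mem_bot] at h3
    calc x * y = (x * y * x⁻¹ * y⁻¹) * (y * x) := by group
      _ = y * x := by rw [h3, one_mul]
  · rintro ⟨H, hc, h1, k, hk⟩ x hx
    have h2 : ∀ y ∈ H, ∃ k, (Subgroup.centralizer ({y} : Set G)).index = p ^ k := fun y hy => by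
      have : (Subgroup.centralizer ({y} : Set G)).index ∣ p ^ k := hk ▸ Subgroup.index_dvd_of_le
        fun z hz => Gen2.mem_cent.2 (Gen2.mul_comm_of_mem hc hz hy)
      obtain ⟨k, -, hk⟩ := (Nat.dvd_prime_pow hp).1 this
      exact ⟨k, hk⟩
    have hs : Group.IsSolvable G := by
      have h3 : (Cfsg.solvableRadical G).index ∣ p ^ k := hk ▸ Subgroup.index_dvd_of_le
        fun y hy => (h2 y hy).elim fun _ h => Gen2.mem_solRad_of_cs hp h
      obtain ⟨j, -, hj⟩ := (Nat.dvd_prime_pow hp).1 h3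
      exact sol_of (IsPGroup.of_card hj)
    obtain ⟨g, hg⟩ := (Solv.HallOK.of_isSolvable {p}ᶜ G).exists_conj_le
      ((Solv.isPiHall_compl_singleton_iff hp).2
        ⟨((Nat.Prime.coprime_iff_not_dvd hp).2 h1).symm, k, hk⟩)
      (K := Subgroup.zpowers x) ((Solv.isPiNum_compl_singleton_iff hp).2 (by rwa [Nat.card_zpowers]))
    rw [← Gen2.cs_conj g x]
    exact h2 _ (hg (Subgroup.smul_mem_pointwise_smul _ _ _ (Subgroup.mem_zpowers x)))

end Cfsg.Agent.S4034
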