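import Cfsg.Statements.S3200
import Cfsg.Agent.S4034
import Cfsg.Agent.BG.Base6

set_option autoImplicit false
open Cfsg

namespace Cfsg.Agent.S3200

open Subgroup Cfsg.Agent.BG

theorem compl {X : Type*} [Group X] [Finite X] {D : Subgroup X} (h : IsPiHallOf {2}ᶜ D ⊤)
    (hD : IsMulCommutative D) :
    ∃ (P : Sylow 2 X) (D : Subgroup X), IsMulCommutative ↥D ∧ IsComplement' (P : Subgroup X) D := by
  obtain ⟨P⟩ : Nonempty (Sylow 2 X) := inferInstance
  have hP := sylowIn_top P
  refine ⟨P, D, hD, isComplement'_of_coprime ?_ (pnat_coprime hP.pi h.pi)⟩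
  rw [card_Hall hP, card_Hall h, partnC _ (cardG_pos _).ne', card_top]

/-- Let H be a finite group in which a Sylow 2-subgroup has an abelian complement (an abelian subgroup meeting it trivially whose product with it is all of H). Then H is solvable, and every subgroup and every quotient group of H again has a Sylow 2-subgroup with an abelian complement. -/
theorem result {H : Type*} [Group H] [Finite H]
    (S : Sylow 2 H) (C : Subgroup H) (hC : IsMulCommutative ↥C) (hSC : Subgroup.IsComplement' (S : Subgroup H) C) :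
    Group.IsSolvable H ∧
    (∀ L : Subgroup H, ∃ (P : Sylow 2 ↥L) (D : Subgroup ↥L), IsMulCommutative ↥D ∧ Subgroup.IsComplement' (P : Subgroup ↥L) D) ∧
    (∀ (N : Subgroup H) [N.Normal], ∃ (P : Sylow 2 (H ⧸ N)) (D : Subgroup (H ⧸ N)),
      IsMulCommutative ↥D ∧ Subgroup.IsComplement' (P : Subgroup (H ⧸ N)) D) := by
  obtain ⟨k, hk⟩ := S.isPGroup'.exists_card_eq
  have hi : C.index = 2 ^ k := hSC.index_eq_card.trans hk
  have h1 : IsPiHallOf {2}ᶜ C ⊤ := pHall_top.2 ((Solv.isPiHall_compl_singleton_iff Nat.prime_two).2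
    ⟨hSC.symm.index_eq_card ▸ ((Nat.Prime.coprime_iff_not_dvd Nat.prime_two).2 S.not_dvd_index).symm, k, hi⟩)
  have hs : Group.IsSolvable H := by
    have h3 : (Cfsg.solvableRadical H).index ∣ 2 ^ k := hi ▸ index_dvd_of_le fun y hy => by
      have : (centralizer ({y} : Set H)).index ∣ 2 ^ k := hi ▸ index_dvd_of_le
        fun z hz => Gen2.mem_cent.2 (Gen2.mul_comm_of_mem hC hz hy)
      obtain ⟨k, -, hk⟩ := (Nat.dvd_prime_pow Nat.prime_two).1 this
      exact Gen2.mem_solRad_of_cs Nat.prime_two hk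
    obtain ⟨j, -, hj⟩ := (Nat.dvd_prime_pow Nat.prime_two).1 h3
    exact S4034.sol_of (IsPGroup.of_card hj)
  refine ⟨hs, fun L => ?_, fun N _ => ?_⟩
  · obtain ⟨D, hD⟩ := Hall_exists (G := L) {2}ᶜ (M := ⊤) inferInstance
    have h2 := pHall_map L.subtype hD
    obtain ⟨g, -, hg⟩ := Hall_Jsub (M := ⊤) inferInstance h1 le_top h2.pi
    have h3 := abelianS hg hC
    refine compl hD ⟨⟨fun a b => Subtype.ext (Subtype.ext ((MulAut.conj g).injective ?_))⟩⟩
    simp only [map_mul, coe_mul]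
    exact congrArg Subtype.val
      (h3.is_comm.comm ⟨_, ⟨_, ⟨_, a.2, rfl⟩, rfl⟩⟩ ⟨_, ⟨_, ⟨_, b.2, rfl⟩, rfl⟩⟩)
  · have h2 := pHall_map (QuotientGroup.mk' N) h1
    rw [map_top_of_surjective _ (QuotientGroup.mk'_surjective N)] at h2
    exact compl h2 inferInstance

end Cfsg.Agent.S3200
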