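import Cfsg.Statements.S3216
import Cfsg.Agent.JT2.T0
import Cfsg.Agent.JT2.T1
import Cfsg.Agent.JT2.T3
import Cfsg.Agent.JT2.T5
import Cfsg.Agent.JT2.T6
import Cfsg.Agent.JT2.T7
import Cfsg.Agent.JT2.T8
import Cfsg.Agent.Invol.ZS

set_option autoImplicit false
open Cfsg

namespace Cfsg.Agent.S3216

open Cfsg.Agent.BG Cfsg.Agent.JT2 Subgroup

theorem noD {G : Type*} [Group G] [Finite G] [IsSimpleGroup G] (hG : ¬ IsMulCommutative G) {t c s : G} {n : ℕ}
    (h : DF t c s n) : False := by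
  have := Nat.fact_prime_two
  have pf := AB.simple_perfect hG
  have n2 := AB.index_ne_two pf
  obtain ⟨T, hT, l⟩ := Sylow_superset le_top h.syl.pg
  have h0 : (zpowers c ⊔ zpowers s ⊔ zpowers t).relIndex T ≠ 0 := index_ne_zero_of_finite
  have h2 := d3 pf h hT l
  have h1 : (zpowers c ⊔ zpowers s ⊔ zpowers t).relIndex T ≠ 1 := fun e => by
    obtain ⟨P, rfl⟩ := sylow_of_sylowIn_top hT
    obtain ⟨g, -, hg⟩ := Invol.thompson_transfer n2 P (Q := zpowers c ⊔ zpowers s) (by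
      have := card_mul_relIndex (le_sup_left.trans l : zpowers c ⊔ zpowers s ≤ P)
      rw [← le_antisymm l (relIndex_eq_one.1 e), card_sup_inv (cent_sub _ (le_cent1_iff.1 h.Dt)) h.t2 h.tD,
        mul_comm, le_antisymm l (relIndex_eq_one.1 e)] at this
      exact Nat.eq_of_mul_eq_mul_right (cardG_pos _) this) h.t2 (l DF.tS)
    exact h.ncD g hg
  obtain ⟨t', c', s', T', a, b, d, e⟩ := d4 n2 h hT l (by omega)
  exact dfin n2 a b d e

/-- Let G be a finite non-abelian simple group and t an involution of G; write C = C_G(t) and C̄ = C/O(C). If the subgroup of C̄ generated by its 2-elements (the smallest normal subgroup of C̄ of odd index) is isomorphic to Z₂ × PSL₂(q) for some prime power q > 3, then the Sylow 2-subgroups of G are elementary abelian of order 8. -/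
theorem result {G : Type*} [Group G] [Finite G] [IsSimpleGroup G]
    (hG : ¬ IsMulCommutative G) (t : G) (ht : orderOf t = 2) {F : Type*} [Field F] [Fintype F] (hF : 3 < Fintype.card F)
    (hL : Nonempty (↥(Subgroup.closure {x : (↥(Subgroup.centralizer ({t} : Set G)) ⧸ Cfsg.oddCore ↥(Subgroup.centralizer ({t} : Set G))) | ∃ k : ℕ, orderOf x = 2 ^ k}) ≃*
      (Multiplicative (ZMod 2) × Matrix.ProjectiveSpecialLinearGroup (Fin 2) F))) (S : Sylow 2 G) :
    Nat.card ↥(S : Subgroup G) = 8 ∧ ∀ x ∈ (S : Subgroup G), x ^ 2 = 1 := by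
  have := Nat.fact_prime_two
  obtain ⟨e⟩ := hL
  have t2 : t * t = 1 := by rw [← pow_two, ← ht, pow_orderOf_eq_one]
  have hO : Odd (Nat.card (oddCore C1[t])) := Invol.odd_oddCore
  have : (closure {x : C1[t] ⧸ oddCore C1[t] | ∃ k : ℕ, orderOf x = 2 ^ k}).Normal :=
    ⟨fun x hx g => map_le_iff_le_comap.1 ((MonoidHom.map_closure (MulAut.conj g).toMonoidHom _).trans_le
      (closure_mono (by rintro _ ⟨y, ⟨k, hk⟩, rfl⟩; exact ⟨k, ((MulAut.conj g).orderOf_eq y).trans hk⟩))) hx⟩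
  have a2 : (QuotientGroup.mk ⟨t, self_c t⟩ : C1[t] ⧸ oddCore C1[t]) * QuotientGroup.mk ⟨t, self_c t⟩ = 1 := by
    rw [← QuotientGroup.mk_mul, show (⟨t, self_c t⟩ : C1[t]) * ⟨t, self_c t⟩ = 1 from Subtype.ext t2]; rfl
  have a1 : (QuotientGroup.mk ⟨t, self_c t⟩ : C1[t] ⧸ oddCore C1[t]) ≠ 1 := fun e => by
    have := (orderOf_dvd_natCard (⟨_, (QuotientGroup.eq_one_iff _).1 e⟩ : oddCore C1[t]))
    rw [← orderOf_coe, ← orderOf_coe] at this
    exact (Nat.not_even_iff_odd.2 hO) (even_iff_two_dvd.2 (ht ▸ this))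
  have ac : ∀ g : C1[t] ⧸ oddCore C1[t], g * QuotientGroup.mk ⟨t, self_c t⟩ = QuotientGroup.mk ⟨t, self_c t⟩ * g :=
    fun g => by
      obtain ⟨g, rfl⟩ := QuotientGroup.mk_surjective g
      rw [← QuotientGroup.mk_mul, tc0]; rfl
  obtain ⟨V, ρ, h⟩ : ∃ V ρ, EF t V ρ := by
    rcases Nat.even_or_odd (Fintype.card F) with he | ho
    · obtain ⟨V, ρ, h⟩ := @fr_even _ _ _ _ a2 a1 ac _ _ _ hF _ this (fun x hx => subset_closure hx) e he
      exact EF.lift t2 _ hO h
    · rcases @fr_odd _ _ _ _ a2 a1 ac _ _ _ hF _ this (fun x hx => subset_closure hx) e ho with ⟨V, ρ, h⟩ | ⟨c, s, n, h⟩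
      · exact EF.lift t2 _ hO h
      · obtain ⟨c, s, h⟩ := DF.lift t2 _ hO h
        exact (noD hG h).elim
  obtain ⟨hS, c4⟩ := thmE_of hG h (chain h) fun n _ _ q b => JT2.beta n q b
  obtain ⟨P, e⟩ := sylow_of_sylowIn_top hS
  have c8 : Nat.card P = 8 := by rw [e, card_sup_inv h.tNV h.t2 h.tV, c4]
  let f := Sylow.equiv S P
  refine ⟨(Nat.card_congr f.toEquiv).trans c8, fun x hx => ?_⟩
  have : f ⟨x, hx⟩ * f ⟨x, hx⟩ = 1 := Subtype.ext (h.S2 (e ▸ (f ⟨x, hx⟩).2))
  rw [← map_mul, map_eq_one_iff _ f.injective] at this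
  rw [pow_two]; exact congrArg Subtype.val this

end Cfsg.Agent.S3216
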