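import Cfsg.Statements.S3222
import Cfsg.Agent.S3035
import Cfsg.Agent.GW.D8A6
import Cfsg.Agent.GW.Inv
import Cfsg.Agent.Perm.IndexN
import Cfsg.Agent.Invol.Transfer
import Cfsg.Agent.Block.ZStar
import Cfsg.Agent.Char.Burnside

set_option autoImplicit false
open Cfsg

namespace Cfsg.Agent.S3222

open Subgroup Equiv Cfsg.Agent.BG
open scoped commutatorElement

abbrev W := Multiplicative (ZMod 2) × Perm (Fin 4)
def σ : W := (Multiplicative.ofAdd 1, 1)
def z0 : W := (1, swap 0 2 * swap 1 3)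
def a0 : W := (1, swap 0 1 * swap 2 3)
def b0 : W := (1, swap 0 2)
def c0 : W := (1, swap 0 1)
def y0 : W := (1, swap 0 1 * swap 1 2)

theorem d1 : ∀ w : W, w * b0 = b0 * w → w * y0 = y0 * w → w = 1 ∨ w = σ := by decide +kernel
theorem d2 : (Finset.univ.filter fun w : W => z0 * w = w * z0).card = 16 := by decide +kernel
theorem d3 : ∀ p q : W, z0 * p = p * z0 → z0 * q = q * z0 → p * q * p⁻¹ * q⁻¹ = 1 ∨ p * q * p⁻¹ * q⁻¹ = z0 := by
  decide +kernel
theorem d4 : ∀ w : W, w * w = 1 → w = 1 ∨ w = σ ∨ ∃ c : W, c * w * c⁻¹ = z0 ∨ c * w * c⁻¹ = σ * z0 ∨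
    (c * w * c⁻¹ = b0 ∧ w.1 = 1) ∨ (c * w * c⁻¹ = σ * b0 ∧ w.1 ≠ 1) := by decide +kernel
theorem d4' : ∀ w : W, w * w = 1 → w.1 = 1 → w = 1 ∨ ∃ c : W, c * w * c⁻¹ = z0 ∨ c * w * c⁻¹ = b0 := by decide +kernel
theorem d5 : ∀ w : W, σ * w = w * σ := by decide +kernel
theorem d6 : ∀ b : W, b = b0 ∨ b = σ * b0 →
    (Finset.univ.filter fun w : W => w = σ ∨ ∃ c : W, c * b * c⁻¹ = w).card = 7 := by decide +kernel
theorem d7 : b0 * a0 * b0⁻¹ * a0⁻¹ = z0 ∧ z0 * a0 = a0 * z0 ∧ z0 * b0 = b0 * z0 ∧ z0 ≠ 1 ∧ σ ≠ 1 ∧ z0 * z0 = 1 ∧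
    σ * σ = 1 ∧ σ ≠ z0 ∧ σ ≠ σ * z0 ∧ z0 ≠ σ * z0 ∧ orderOf y0 = 3 ∧ (∃ c, c * z0 * c⁻¹ = a0) ∧
    (∃ c, c * z0 * c⁻¹ = z0 * a0) ∧ σ * b0 ≠ 1 ∧ b0 ≠ 1 := by
  refine ⟨?_, ?_, ?_, ?_, ?_, ?_, ?_, ?_, ?_, ?_, orderOf_eq_prime ?_ ?_, ?_, ?_, ?_, ?_⟩ <;> decide +kernel
theorem d8 : (Finset.univ.filter fun w : W => z0 * w = w * z0 ∧ w.1 = 1).card = 8 := by decide +kernel
def δf : DihedralGroup 4 → W
  | .r i => (1, (swap 0 1 * swap 1 2 * swap 2 3) ^ i.val)
  | .sr i => (1, swap 0 2 * (swap 0 1 * swap 1 2 * swap 2 3) ^ i.val)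
theorem δ1 : ∀ c d, δf (c * d) = δf c * δf d := by decide +kernel
theorem δ2 : ∀ d, δf d = 1 ∨ δf d = σ → d = 1 := by decide +kernel
theorem δ3 : ∀ w : W, z0 * w = w * z0 → ∃ d, w = δf d ∨ w = σ * δf d := by decide +kernel
theorem δ4 : δf (.r 2) = z0 := by decide +kernel

variable {G : Type*} [Group G] [Finite G]

theorem tt (P : Sylow 2 G) {Q : Subgroup G} (hQi : Q.relIndex P = 2) {u : G} (hu : u * u = 1) (huP : u ∈ (P : Subgroup G))
    (hcon : ∀ g : G, g * u * g⁻¹ ∉ Q) : ∃ H : Subgroup G, H.index = 2 ∧ u ∉ H := by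
  have hn : (Q.subgroupOf P).Normal := normal_of_index_eq_two hQi
  have huQ : u ∉ Q := by simpa using hcon 1
  obtain ⟨_, f, hf⟩ := Invol.exists_hom_of_control (P : Subgroup G) Q hn fun x hx y hy => by
    rw [Invol.mul_mem_iff_of_relIndex_two hQi (mul_mem (mul_mem hx hy) (inv_mem hx)) (inv_mem hy),
      Invol.mul_mem_iff_of_relIndex_two hQi (mul_mem hx hy) (inv_mem hx),
      Invol.mul_mem_iff_of_relIndex_two hQi hx hy, inv_mem_iff, inv_mem_iff]
    tauto
  have h1 : f u ≠ 1 := by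
    rw [hf u huP fun m a ha => ?_]
    · obtain ⟨k, hk⟩ := Nat.odd_iff.2 (Nat.two_dvd_ne_zero.1 P.not_dvd_index)
      rw [hk, pow_succ, pow_mul, sq, ← QuotientGroup.mk_mul, show (⟨u, huP⟩ * ⟨u, huP⟩ : (P : Subgroup G)) = 1 from
        Subtype.ext hu]
      simpa [mem_subgroupOf] using huQ
    · rcases Invol.zpow_invol hu m with h | h <;> rw [zpow_natCast] at h <;> rw [h] at ha ⊢
      · simp
      · rw [Invol.mul_mem_iff_of_relIndex_two hQi ha (inv_mem huP), inv_mem_iff]
        exact iff_of_false (hcon a) huQ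
  refine ⟨f.ker, ?_, h1⟩
  have h2 : f.ker.index ∣ 2 := by rw [index_ker]; exact (card_subgroup_dvd_card _).trans (dvd_of_eq hQi)
  rcases (Nat.dvd_prime Nat.prime_two).1 h2 with h | h
  · exact absurd ((index_eq_one.1 h).ge trivial : u ∈ f.ker) h1
  · exact h

structure St (f : W →* G) (P : Sylow 2 G) : Prop where
  inj : Function.Injective f
  ct : ∀ g, f σ * g = g * f σ → ∃ w, f w = g
  cz : ∀ g, g ∈ (P : Subgroup G) ↔ f z0 * g = g * f z0
  pt : ∀ g ∈ (P : Subgroup G), f σ * g = g * f σ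

namespace St
variable {f : W →* G} {P : Sylow 2 G} (h : St f P)
include h

theorem mem {w : W} : f w ∈ (P : Subgroup G) ↔ z0 * w = w * z0 := by
  rw [h.cz, ← map_mul, ← map_mul, h.inj.eq_iff]

theorem ex {g : G} (hg : g ∈ (P : Subgroup G)) : ∃ w, z0 * w = w * z0 ∧ f w = g := by
  obtain ⟨w, rfl⟩ := h.ct g (h.pt g hg)
  exact ⟨w, h.mem.1 hg, rfl⟩

theorem nc {x y : G} (hx : ∀ g ∈ (P : Subgroup G), g * x = x * g) (hy : ∀ g ∈ (P : Subgroup G), g * y = y * g)
    (c : IsConj x y) : x = y := by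
  obtain ⟨g, rfl⟩ := isConj_iff.1 c
  obtain ⟨n, hn, e⟩ := P.conj_eq_normalizer_conj_of_mem_centralizer x g⁻¹ hx (by rw [inv_inv]; exact hy)
  have hn := inv_mem hn
  obtain ⟨p, hp, e1⟩ := h.ex ((mem_normalizer_iff.1 hn _).1 (h.mem.2 d7.2.2.1))
  obtain ⟨q, hq, e2⟩ := h.ex ((mem_normalizer_iff.1 hn _).1 (h.mem.2 d7.2.1))
  have e3 : f (p * q * p⁻¹ * q⁻¹) = n⁻¹ * f z0 * n := by
    rw [← d7.1]; simp only [map_mul, map_inv, e1, e2]; group
  have : n⁻¹ ∈ (P : Subgroup G) := by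
    rcases d3 p q hp hq with e4 | e4 <;> rw [e4] at e3
    · exact absurd (h.inj (a₂ := 1) (by rw [map_one] at e3 ⊢; simpa [mul_eq_one_iff_eq_inv] using e3.symm)) d7.2.2.2.1
    · rw [h.cz]; conv_lhs => rw [e3]
      group
  rw [inv_inv] at e; rw [e, hx _ this]; group

theorem cσ (g) (hg : g ∈ (P : Subgroup G)) : g * f σ = f σ * g := (h.pt g hg).symm
theorem cz' (g) (hg : g ∈ (P : Subgroup G)) : g * f z0 = f z0 * g := ((h.cz g).1 hg).symm
theorem cσz (g) (hg : g ∈ (P : Subgroup G)) : g * f (σ * z0) = f (σ * z0) * g := by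
  rw [map_mul, ← mul_assoc, h.cσ g hg, mul_assoc, h.cz' g hg, mul_assoc]
theorem n1 : ¬ IsConj (f σ) (f z0) := fun c => d7.2.2.2.2.2.2.2.1 (h.inj (h.nc h.cσ h.cz' c))
theorem n2 : ¬ IsConj (f σ) (f (σ * z0)) := fun c => d7.2.2.2.2.2.2.2.2.1 (h.inj (h.nc h.cσ h.cσz c))
theorem n3 : ¬ IsConj (f z0) (f (σ * z0)) := fun c => d7.2.2.2.2.2.2.2.2.2.1 (h.inj (h.nc h.cz' h.cσz c))

omit [Finite G] h in
theorem cj {c w v : W} (e : c * w * c⁻¹ = v) : IsConj (f w) (f v) := isConj_iff.2 ⟨f c, by rw [← e]; simp⟩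

theorem eqP : (P : Subgroup G) = (centralizer {z0}).map f := by
  ext g; constructor
  · intro hg; obtain ⟨w, hw, rfl⟩ := h.ex hg; exact ⟨w, by simpa [mem_centralizer_iff] using hw, rfl⟩
  · rintro ⟨w, hw, rfl⟩; exact h.mem.2 (by simpa [mem_centralizer_iff] using hw)

theorem exH : ∃ H : Subgroup G, H.index = 2 ∧ f σ ∉ H := by
  set Q := (centralizer {z0} ⊓ (MonoidHom.fst _ _).ker).map f
  have hQ : Q.relIndex P = 2 := by
    have := BG.card_mul_relIndex (A := Q) (B := P) (h.eqP ▸ map_mono inf_le_left)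
    have c1 : Nat.card Q = 8 := by
      rw [card_map_of_injective h.inj, ← d8, ← Fintype.card_subtype, ← Nat.card_eq_fintype_card]
      exact Nat.card_congr (Equiv.subtypeEquivRight fun w => by simp [mem_centralizer_iff, mem_prod])
    have c2 : Nat.card (P : Subgroup G) = 16 := by
      rw [h.eqP, card_map_of_injective h.inj, ← d2, ← Fintype.card_subtype, ← Nat.card_eq_fintype_card]
      exact Nat.card_congr (Equiv.subtypeEquivRight fun w => by simp [mem_centralizer_iff])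
    rw [c1, c2] at this; omega
  have key : ∀ w : W, w * w = 1 → w ≠ 1 → (∃ g, g * f w * g⁻¹ ∈ Q) → IsConj (f w) (f z0) ∨ IsConj (f w) (f b0) := by
    rintro w ww w1 ⟨g, v, hv, e⟩
    have c : IsConj (f w) (f v) := isConj_iff.2 ⟨g, e.symm⟩
    rcases d4' v (h.inj (by rw [map_mul, e, map_one, conj_mul, ← map_mul, ww]; simp)) hv.2 with rfl | ⟨c', e' | e'⟩
    · exact absurd (h.inj (a₂ := 1) (by simpa using c)) w1
    · exact .inl (c.trans (cj e'))
    · exact .inr (c.trans (cj e'))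
  by_cases h1 : ∃ g, g * f σ * g⁻¹ ∈ Q
  · have c1 := (key σ d7.2.2.2.2.2.2.1 d7.2.2.2.2.1 h1).resolve_left h.n1
    obtain ⟨H, hH, hu⟩ := tt P hQ (u := f (σ * z0)) (by rw [← map_mul, ← map_one f]; congr 1; decide +kernel)
      (h.mem.2 (by decide +kernel)) fun g hg => by
        rcases key (σ * z0) (by decide +kernel) (by decide +kernel) ⟨g, hg⟩ with c | c
        · exact h.n3 c.symm
        · exact h.n2 (c1.trans c.symm)
    refine ⟨H, hH, fun ht => hu ?_⟩
    rw [map_mul, ← d7.1]; simp only [map_mul, map_inv, mul_mem_iff_of_index_two hH, inv_mem_iff]; tauto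
  · exact tt P hQ (by rw [← map_mul, d7.2.2.2.2.2.2.1, map_one]) (h.mem.2 (d5 _).symm) (not_exists.1 h1)

theorem eqC : centralizer {f σ} = f.range := by
  ext g; constructor
  · intro hg; exact h.ct g (by simpa [mem_centralizer_iff] using hg)
  · rintro ⟨w, rfl⟩; simp only [mem_centralizer_iff, Set.mem_singleton_iff, forall_eq, ← map_mul, d5]

theorem cardC : Nat.card (centralizer {f σ}) = 48 := by
  rw [h.eqC, ← Nat.card_congr (MonoidHom.ofInjective h.inj).toEquiv]; simp [Nat.card_perm]; rfl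

theorem oddbot (N : Subgroup G) [hN : N.Normal] (ho : Odd (Nat.card N)) : N = ⊥ := by
  have key : ∀ c w : W, c * z0 * c⁻¹ = w → N ⊓ C1[f w] = ⊥ := fun c w e => by
    refine eq_bot_iff.2 fun x hx => ?_
    have h1 : (f c)⁻¹ * x * f c ∈ (P : Subgroup G) := by
      have := BG.mem_cent1.1 hx.2
      rw [← e] at this; simp only [map_mul, map_inv] at this
      rw [h.cz]; calc _ = (f c)⁻¹ * (f c * f z0 * (f c)⁻¹ * x) * f c := by group
        _ = _ := by rw [← this]; group
    have h2 : (f c)⁻¹ * x * f c ∈ N := by simpa using hN.conj_mem _ hx.1 (f c)⁻¹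
    obtain ⟨k, hk⟩ := IsPGroup.iff_card.1 P.2
    have : (f c)⁻¹ * x * f c ∈ N ⊓ P := ⟨h2, h1⟩
    rw [inf_eq_bot_of_coprime (by rw [hk]; exact Nat.Coprime.pow_right _ (Nat.coprime_two_right.2 ho)), mem_bot] at this
    simpa [mul_assoc, inv_mul_eq_one] using this
  obtain ⟨c1, e1⟩ := d7.2.2.2.2.2.2.2.2.2.2.2.1
  obtain ⟨c2, e2⟩ := d7.2.2.2.2.2.2.2.2.2.2.2.2.1
  have i1 := GW.inv_of_cent_bot ho (t := f z0) (by rw [← map_mul, d7.2.2.2.2.2.1, map_one]) (by rw [normalizer_eq_top]; trivial) (key 1 z0 (by simp))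
  have i2 := GW.inv_of_cent_bot ho (t := f a0) (by rw [← map_mul, ← map_one f]; congr 1; decide +kernel) (by rw [normalizer_eq_top]; trivial) (key _ _ e1)
  rw [← key _ _ e2, eq_comm, inf_eq_left]
  intro x hx
  have j1 : f z0 * x⁻¹ * (f z0)⁻¹ = x⁻¹⁻¹ := i1 _ (inv_mem hx)
  have j2 : f a0 * x * (f a0)⁻¹ = x⁻¹ := i2 x hx
  rw [BG.mem_cent1, map_mul]
  calc _ = (f z0 * x⁻¹ * (f z0)⁻¹) * (f z0 * f a0) := by rw [j1, inv_inv]
    _ = _ := by rw [← j2]; group

theorem exD8 {H : Subgroup G} (hH : H.index = 2) (ht : f σ ∉ H) : ∃ φ : DihedralGroup 4 →* H, GW.IsD8 φ := by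
  classical
  have cm : ∀ w, f w * f σ = f σ * f w := fun w => by rw [← map_mul, ← d5, map_mul]
  have tt : f σ * f σ = 1 := by rw [← map_mul, d7.2.2.2.2.2.2.1, map_one]
  let ρ : W →* H := MonoidHom.mk' (fun w => ⟨if f w ∈ H then f w else f σ * f w, by
    split_ifs with h1
    exacts [h1, (mul_mem_iff_of_index_two hH).2 (iff_of_false ht h1)]⟩) fun v w => Subtype.ext (by
      by_cases h1 : f v ∈ H <;> by_cases h2 : f w ∈ H <;>
        simp only [map_mul, mul_mem_iff_of_index_two hH, h1, h2, coe_mul, if_true, if_false, iff_self, iff_false,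
          not_true, false_iff]
      · rw [← mul_assoc, ← mul_assoc, cm]
      · rw [mul_assoc]
      · rw [mul_assoc, ← mul_assoc (f v), cm, ← mul_assoc, ← mul_assoc, tt, one_mul])
  have hρ : ∀ w, (ρ w : G) = if f w ∈ H then f w else f σ * f w := fun _ => rfl
  have hz : f z0 ∈ H := by
    rw [← d7.1]; simp only [map_mul, map_inv, mul_mem_iff_of_index_two hH, inv_mem_iff]; tauto
  refine ⟨ρ.comp (MonoidHom.mk' δf δ1), (injective_iff_map_eq_one _).2 fun d hd => δ2 d ?_, fun g hg => ?_⟩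
  · have := congrArg Subtype.val hd
    change (ρ (δf d) : G) = 1 at this
    rw [hρ] at this
    split_ifs at this
    · exact .inl (h.inj (this.trans (map_one f).symm))
    · exact .inr (h.inj (by rw [← mul_right_inj (f σ), this, tt]))
  · have e : (ρ (δf (.r 2)) : G) = f z0 := by rw [δ4, hρ, if_pos hz]
    have := congrArg Subtype.val hg.eq
    change (g : G) * (ρ (δf (.r 2)) : G) = (ρ (δf (.r 2)) : G) * g at this
    rw [e] at this
    obtain ⟨w, hw, e'⟩ := h.ex ((h.cz g).2 this.symm)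
    obtain ⟨d, rfl | rfl⟩ := δ3 w hw
    · exact ⟨d, Subtype.ext (by change (ρ (δf d) : G) = g; rw [hρ, if_pos (e' ▸ g.2), e'])⟩
    · have := e' ▸ g.2
      rw [map_mul] at this
      exact ⟨d, Subtype.ext (by
        change (ρ (δf d) : G) = g; rw [hρ, if_neg fun h1 => ht ((mul_mem_cancel_right h1).1 this), ← map_mul, e'])⟩

/-- if `C(t) ≠ G` then `t` has at least seven conjugates, and if exactly seven they all commute with `t` -/
theorem seven (hne : centralizer {f σ} ≠ ⊤) : 7 ≤ (centralizer {f σ}).index ∧ ((centralizer {f σ}).index = 7 →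
    ∃ b, b ≠ 1 ∧ IsConj (f σ) (f (σ * b)) ∧ ∀ g, g * f σ * g⁻¹ ∈ centralizer {f σ}) := by
  classical
  have o2 : orderOf (f σ) = 2 := by
    rw [orderOf_injective f h.inj]; exact orderOf_eq_prime (by decide +kernel) d7.2.2.2.2.1
  obtain ⟨b, hb, c⟩ : ∃ b, (b = b0 ∨ b = σ * b0) ∧ IsConj (f σ) (f b) := by
    by_contra hc
    push Not at hc
    refine hne (eq_top_iff.2 fun g _ => ?_)
    have := Block.zstar_center (u := f σ) ⟨o2, fun g hg => ?_⟩ (h.oddbot _ Block.odd_card_pPrimeCore)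
    · simpa [mem_centralizer_iff] using (mem_center_iff.1 this g).symm
    obtain ⟨w, e⟩ := h.ct _ hg.eq
    have c : IsConj (f σ) (f w) := isConj_iff.2 ⟨g, e.symm⟩
    rcases d4 w (h.inj (by rw [map_mul, e, map_one, conj_mul, ← map_mul, d7.2.2.2.2.2.2.1]; simp)) with
      rfl | rfl | ⟨c', e' | e' | ⟨e', -⟩ | ⟨e', -⟩⟩
    · exact absurd (h.inj (a₂ := 1) (by simpa using c)) d7.2.2.2.2.1
    · exact e.symm
    · exact absurd (c.trans (cj e')) h.n1
    · exact absurd (c.trans (cj e')) h.n2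
    · exact absurd (c.trans (cj e')) (hc _ (.inl rfl))
    · exact absurd (c.trans (cj e')) (hc _ (.inr rfl))
  have := Fintype.ofFinite G
  set X := Finset.univ.filter fun g => IsConj (f σ) g
  have cX : X.card = (centralizer {f σ}).index := by convert Block.card_filter_isConj (f σ)
  set Y := (Finset.univ.filter fun w : W => w = σ ∨ ∃ c : W, c * b * c⁻¹ = w).image f
  have cY : Y.card = 7 := by rw [Finset.card_image_of_injective _ h.inj, d6 b hb]
  have sub : Y ⊆ X := fun g hg => by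
    obtain ⟨w, hw, rfl⟩ := Finset.mem_image.1 hg
    rcases (Finset.mem_filter.1 hw).2 with rfl | ⟨c', e⟩
    · exact Finset.mem_filter.2 ⟨Finset.mem_univ _, IsConj.refl _⟩
    · exact Finset.mem_filter.2 ⟨Finset.mem_univ _, c.trans (cj e)⟩
  refine ⟨cX ▸ cY ▸ Finset.card_le_card sub, fun h7 => ⟨σ * b, ?_, ?_, fun g => ?_⟩⟩
  · rcases hb with rfl | rfl <;> decide +kernel
  · rwa [← mul_assoc, d7.2.2.2.2.2.2.1, one_mul]
  · have : g * f σ * g⁻¹ ∈ Y := by
      rw [Finset.eq_of_subset_of_card_le sub (by omega)]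
      exact Finset.mem_filter.2 ⟨Finset.mem_univ _, isConj_iff.2 ⟨g, rfl⟩⟩
    obtain ⟨w, -, e⟩ := Finset.mem_image.1 this
    rw [h.eqC]; exact ⟨w, e⟩


theorem cent {H : Subgroup G} (hH : H.index = 2) (hne : centralizer {f σ} ≠ ⊤) (hZ : center H = ⊥) {c : G}
    (hc : ∀ x ∈ H, c * x = x * c) : c = 1 := by
  by_cases h1 : c ∈ H
  · have : (⟨c, h1⟩ : H) ∈ center H := mem_center_iff.2 fun x => Subtype.ext (hc x x.2).symm
    rw [hZ] at this; exact congrArg Subtype.val (mem_bot.1 this)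
  have all : ∀ g, c * g = g * c := fun g => by
    by_cases h2 : g ∈ H
    · exact hc g h2
    · have := hc (c * g) ((mul_mem_iff_of_index_two hH).2 (iff_of_false h1 h2))
      rw [mul_assoc] at this; exact mul_left_cancel this
  obtain ⟨w, rfl⟩ := h.ct c (all _).symm
  rcases d1 w (h.inj (by simp only [map_mul, all])) (h.inj (by simp only [map_mul, all])) with rfl | rfl
  · exact map_one f
  · exact absurd (eq_top_iff.2 fun g _ => by simpa [mem_centralizer_iff] using all g) hne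

end St

theorem conjA {u v : alternatingGroup (Fin 6)} (hu : orderOf u = 3)
    (e : (u : Perm (Fin 6)).cycleType = (v : Perm (Fin 6)).cycleType) : IsConj u v := by
  have : ∃ c : Perm (Fin 6), Perm.sign c = -1 ∧ c * u = u * c := by
    have key : ∀ u0 c0 : Perm (Fin 6), Perm.sign c0 = -1 → c0 * u0 = u0 * c0 → u0.cycleType = (u : Perm (Fin 6)).cycleType →
        ∃ c : Perm (Fin 6), Perm.sign c = -1 ∧ c * u = u * c := fun u0 c0 h1 h2 h3 => by
      obtain ⟨p, hp⟩ := isConj_iff.1 (Perm.isConj_iff_cycleType_eq.2 h3)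
      exact ⟨p * c0 * p⁻¹, by simp [h1], by rw [← hp, conj_mul, conj_mul, h2]⟩
    rcases Perm.isThreeCycle_or_of_six (by simp) ((orderOf_coe u).trans hu) with h | h
    · exact key (swap 0 1 * swap 1 2) (swap 3 4) (by decide +kernel) (by decide +kernel) (h ▸ by decide +kernel)
    · exact key (swap 0 1 * swap 1 2 * swap 3 4 * swap 4 5) (swap 0 3 * swap 1 4 * swap 2 5) (by decide +kernel)
        (by decide +kernel) (h ▸ by decide +kernel)
  obtain ⟨c, c1, c2⟩ := this
  obtain ⟨p, hp⟩ := isConj_iff.1 (Perm.isConj_iff_cycleType_eq.2 e)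
  rcases Int.units_eq_one_or (Perm.sign p) with h | h
  · exact isConj_iff.2 ⟨⟨p, h⟩, Subtype.ext hp⟩
  · exact isConj_iff.2 ⟨⟨p * c, by simp [h, c1]⟩, Subtype.ext (by
      change p * c * u * (p * c)⁻¹ = v; rw [← hp, mul_assoc p c, c2]; group)⟩

theorem St.main {f : W →* G} {P : Sylow 2 G} (h : St f P) (hne : centralizer {f σ} ≠ ⊤) : Nonempty (G ≃* Perm (Fin 6)) := by
  obtain ⟨H, hH, ht⟩ := h.exH
  have hN := normal_of_index_eq_two hH
  obtain ⟨φ, hφ⟩ := h.exD8 hH ht
  have c1 := (centralizer {f σ}).card_mul_index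
  have c2 := H.card_mul_index
  rw [h.cardC] at c1; rw [hH] at c2
  obtain ⟨s1, s2⟩ := h.seven hne
  have hO : oddCore H = ⊥ := by
    have := h.oddbot ((oddCore H).map H.subtype) (by
      rw [card_map_of_injective H.subtype_injective]; exact Block.odd_card_pPrimeCore)
    exact (map_eq_bot_iff_of_injective _ H.subtype_injective).1 this
  rcases S3035.result (φ (.r 2)) (by rw [orderOf_injective φ hφ.inj]; exact orderOf_eq_prime (by decide) (by decide))
    hφ.nonempty_equiv with h1 | ⟨⟨e⟩⟩ | ⟨⟨e⟩⟩ | ⟨⟨e⟩⟩ | ⟨⟨e⟩⟩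
  · obtain ⟨e⟩ := hφ.nonempty_equiv
    have := Nat.card_congr e.toEquiv
    rw [hO, sup_bot_eq] at h1
    rw [h1, card_top, DihedralGroup.nat_card] at this; omega
  · have := Nat.card_congr e.toEquiv
    rw [Nat.card_perm, Nat.card_fin, show Nat.factorial 4 = 24 from rfl] at this; omega
  · have := Nat.card_congr e.toEquiv
    rw [Nat.card_perm, Nat.card_fin, show Nat.factorial 5 = 120 from rfl] at this; omega
  · have := Nat.card_congr e.toEquiv
    rw [GW.card_SL3_two] at this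
    obtain ⟨b, b1, hg, all⟩ := s2 (by omega)
    obtain ⟨g, hg⟩ := isConj_iff.1 hg
    have hs := GW.isSimpleGroup_SL3_two
    have hs := e.isSimpleGroup
    have hb : f b = (f σ)⁻¹ * (g * f σ * (g : G)⁻¹) := by rw [hg]; simp
    have hle : normalClosure {f σ} ≤ centralizer {f σ} := closure_le _ |>.2 fun x hx => by
      obtain ⟨y, rfl, c⟩ := Group.mem_conjugatesOfSet_iff.1 hx
      obtain ⟨k, rfl⟩ := isConj_iff.1 c
      exact all k
    have m0 : f σ ∈ normalClosure {f σ} := subset_normalClosure rfl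
    rcases (normal_subgroupOf (H := H) (N := normalClosure {f σ})).eq_bot_or_eq_top with h2 | h2
    · have : (⟨f b, by rw [hb]; simp only [mul_mem_iff_of_index_two hH, inv_mem_iff]; tauto⟩ : H) ∈
          (normalClosure {f σ}).subgroupOf H := by
        rw [mem_subgroupOf]; change f b ∈ _
        rw [hb]; exact mul_mem (inv_mem m0) (normalClosure_normal.conj_mem _ m0 _)
      rw [h2] at this
      exact absurd (h.inj ((congrArg Subtype.val (mem_bot.1 this)).trans (map_one f).symm)) b1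
    · have := card_le_of_le ((subgroupOf_eq_top.1 h2).trans hle)
      rw [h.cardC] at this; omega
  have cH := Nat.card_congr e.toEquiv
  rw [GW.card_A6] at cH
  have hs := alternatingGroup.isSimpleGroup (α := Fin 6) (by simp)
  have hs := e.isSimpleGroup
  have hZ : center H = ⊥ := (inferInstance : (center H).Normal).eq_bot_or_eq_top.resolve_right fun h2 => by
    obtain ⟨x, y, hxy⟩ : ∃ x y : DihedralGroup 4, x * y ≠ y * x := by decide
    exact hxy (hφ.inj (by rw [map_mul, map_mul]; exact (mem_center_iff.1 (h2.ge trivial : φ y ∈ center H) _)))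
  let Φ : G →* MulAut (alternatingGroup (Fin 6)) := (MulAut.congr e).toMonoidHom.comp MulAut.conjNormal
  have hΦ : ∀ g (x : H), Φ g (e x) = e (MulAut.conjNormal g x) := fun g x => by simp [Φ]
  have inj : Function.Injective Φ := (injective_iff_map_eq_one _).2 fun c hc => h.cent hH hne hZ fun x hx => by
    have := hΦ c ⟨x, hx⟩
    rw [hc, MulAut.one_apply, e.apply_eq_iff_eq] at this
    have : x = c * x * c⁻¹ := congrArg Subtype.val this
    conv_rhs => rw [this]
    group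
  have o3 : orderOf (f y0) = 3 := by rw [orderOf_injective f h.inj, d7.2.2.2.2.2.2.2.2.2.2.1]
  have hy : f y0 ∈ H := by
    have := sq_mem_of_index_two hH (f y0 ^ 2)
    rwa [← pow_mul, show 2 * 2 = 3 + 1 from rfl, pow_succ, ← o3, pow_orderOf_eq_one, one_mul] at this
  set y := e ⟨_, hy⟩
  have oy : orderOf y = 3 := by rw [e.orderOf_eq, ← orderOf_coe, o3]
  have fy : Φ (f σ) y = y := by
    rw [hΦ]; congr 1; apply Subtype.ext
    simp only [MulAut.conjNormal_apply, ← map_mul, d5]; simp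
  obtain ⟨s, hs⟩ := Perm.AutAlt.exists_conj_of_threeCycle (by simp) (Φ (f σ)) fun g hg => by
    have og : orderOf g = 3 := (orderOf_coe g).symm.trans hg.orderOf
    have og' : orderOf (Φ (f σ) g) = 3 := ((Φ (f σ)).orderOf_eq g).trans og
    have ct : ∀ {a b : alternatingGroup (Fin 6)}, IsConj a b → (a : Perm (Fin 6)).cycleType = (b : Perm (Fin 6)).cycleType :=
      fun c => Perm.isConj_iff_cycleType_eq.1 ((alternatingGroup (Fin 6)).subtype.map_isConj c)
    rcases Perm.isThreeCycle_or_of_six (by simp) ((orderOf_coe y).trans oy) with h3 | h3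
    · have := (Φ (f σ)).toMonoidHom.map_isConj (conjA og (hg.trans h3.symm))
      simp only [MulEquiv.coe_toMonoidHom, fy] at this
      exact (ct this).trans h3
    · refine (Perm.isThreeCycle_or_of_six (by simp) ((orderOf_coe _).trans og')).resolve_right fun h4 => ?_
      have := (Φ (f σ)).symm.toMonoidHom.map_isConj (conjA og' ((h4.trans h3.symm).trans (by rw [fy])) :
        IsConj _ (Φ (f σ) y))
      simp only [MulEquiv.coe_toMonoidHom, MulEquiv.symm_apply_apply] at this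
      have := (hg.symm.trans (ct this)).trans h3
      revert this; decide
  have ci := Perm.AutAlt.conjNormal_injective (α := Fin 6) (by simp)
  have r1 : ∀ x ∈ H, Φ x ∈ (MulAut.conjNormal : Perm (Fin 6) →* _).range := fun x hx =>
    ⟨e ⟨x, hx⟩, by
      ext1 a; obtain ⟨a, rfl⟩ := e.surjective a
      rw [hΦ, show MulAut.conjNormal x a = ⟨x, hx⟩ * a * ⟨x, hx⟩⁻¹ from Subtype.ext (by simp)]
      apply Subtype.ext; simp⟩
  have r2 : ∀ x, Φ x ∈ (MulAut.conjNormal : Perm (Fin 6) →* _).range := fun x => by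
    by_cases hx : x ∈ H
    · exact r1 x hx
    · have := r1 (f σ * x) ((mul_mem_iff_of_index_two hH).2 (iff_of_false ht hx))
      rw [map_mul] at this
      exact (mul_mem_cancel_left (MonoidHom.mem_range.2 ⟨s, hs⟩)).1 this
  let Ψ := (MonoidHom.ofInjective ci).symm.toMonoidHom.comp (Φ.codRestrict _ r2)
  refine ⟨MulEquiv.ofBijective Ψ ((Nat.bijective_iff_injective_and_card _).2 ⟨?_, ?_⟩)⟩
  · exact (MonoidHom.ofInjective ci).symm.injective.comp fun a b hab => inj (congrArg Subtype.val hab)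
  · rw [Nat.card_perm, Nat.card_fin, show Nat.factorial 6 = 720 from rfl]; omega

/-- Let G be a finite group of even order such that (1) some involution t lying in the centre of a Sylow 2-subgroup of G has C_G(t) ≅ Z₂ × S₄, and (2) every Sylow 2-subgroup S of G satisfies C_G(S′) = S, where S′ is the derived subgroup of S. Then G = C_G(t) if G is solvable, and G ≅ S₆ otherwise. -/
theorem result {G : Type*} [Group G] [Finite G] (hev : Even (Nat.card G))
    (t : G) (ht : orderOf t = 2) (T : Sylow 2 G) (htT : t ∈ (T : Subgroup G)) (htc : ∀ s ∈ (T : Subgroup G), s * t = t * s)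
    (e : ↥(Subgroup.centralizer ({t} : Set G)) ≃* (Multiplicative (ZMod 2) × Equiv.Perm (Fin 4)))
    (h2 : ∀ S : Sylow 2 G, Subgroup.centralizer ((⁅(S : Subgroup G), (S : Subgroup G)⁆ : Subgroup G) : Set G) = (S : Subgroup G)) :
    (Group.IsSolvable G → Subgroup.centralizer ({t} : Set G) = ⊤) ∧
      (¬ Group.IsSolvable G → Nonempty (G ≃* Equiv.Perm (Fin 6))) := by
  have tm : t ∈ centralizer ({t} : Set G) := by simp [mem_centralizer_iff]
  let f : W →* G := (centralizer ({t} : Set G)).subtype.comp e.symm.toMonoidHom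
  have inj : Function.Injective f := (centralizer ({t} : Set G)).subtype_injective.comp e.symm.injective
  have fm : ∀ w, t * f w = f w * t := fun w => (e.symm w).2 t rfl
  have ft : f σ = t := by
    have h1 : f (e ⟨t, tm⟩) = t := by simp [f]
    rcases d1 (e ⟨t, tm⟩) (inj (by rw [map_mul, map_mul, h1, fm])) (inj (by rw [map_mul, map_mul, h1, fm])) with h | h
    · rw [h, map_one] at h1; rw [← h1, orderOf_one] at ht; omega
    · rwa [h] at h1
  have ct : ∀ g, t * g = g * t → ∃ w, f w = g := fun g hg =>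
    ⟨e ⟨g, by simpa [mem_centralizer_iff] using hg⟩, by simp [f]⟩
  have c0 : Nat.card ((centralizer {z0}).map f) = 2 ^ 4 := by
    rw [card_map_of_injective inj, show 2 ^ 4 = 16 from rfl, ← d2, ← Fintype.card_subtype, ← Nat.card_eq_fintype_card]
    exact Nat.card_congr (Equiv.subtypeEquivRight fun w => by simp [mem_centralizer_iff])
  obtain ⟨P, hP⟩ := (IsPGroup.of_card c0).exists_le_sylow
  have cC : Nat.card (centralizer ({t} : Set G)) = 48 := by
    rw [Nat.card_congr e.toEquiv]; simp [Nat.card_perm]; rfl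
  have hP : (centralizer {z0}).map f = P := by
    refine eq_of_le_of_card_ge hP ?_
    have h1 : Nat.card (T : Subgroup G) ∣ 48 := cC ▸ card_dvd_of_le fun s hs => by
      simpa [mem_centralizer_iff] using (htc s hs).symm
    obtain ⟨k, hk⟩ := IsPGroup.iff_card.1 T.2
    rw [Nat.card_congr (P.equiv T).toEquiv, c0, hk]
    rw [hk] at h1
    exact Nat.le_of_dvd (by norm_num) ((Nat.Coprime.pow_left k (by norm_num : Nat.Coprime 2 3)).dvd_of_dvd_mul_left h1)
  have h : St f P := ⟨inj, ft ▸ ct, fun g => ⟨fun hg => ?_, fun hg => ?_⟩, fun g hg => ?_⟩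
  rotate_left
  · obtain ⟨w, hw, rfl⟩ := hP.ge hg
    rw [← map_mul, ← map_mul, hw z0 rfl]
  · rw [← h2 P]
    refine centralizer_le (show ((⁅(P : Subgroup G), (P : Subgroup G)⁆ : Subgroup G) : Set G) ⊆ zpowers (f z0) from ?_) ?_
    · refine SetLike.coe_subset_coe.2 (commutator_le.2 fun a ha b hb => ?_)
      obtain ⟨p, hp, rfl⟩ := hP.ge ha
      obtain ⟨q, hq, rfl⟩ := hP.ge hb
      rw [← map_commutatorElement, commutatorElement_def]
      rcases d3 p q (hp z0 rfl) (hq z0 rfl) with h | h <;> simp [h]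
    · rintro _ ⟨k, rfl⟩
      exact (Commute.zpow_left hg k).eq
  · obtain ⟨w, -, rfl⟩ := hP.ge hg
    rw [← map_mul, ← map_mul, d5]
  have hm := h.main
  rw [ft] at hm
  refine ⟨fun hs => by_contra fun hne => ?_, fun hs => hm fun h1 => hs ?_⟩
  · obtain ⟨e6⟩ := hm hne
    exact Perm.not_isSolvable (Fin 6) (by simp; norm_num) (Group.isSolvable_of_surjective (f := e6.toMonoidHom) e6.surjective)
  · rw [h1, card_top] at cC
    exact Char.isSolvable_of_card_eq_prime_pow_mul (p := 2) (q := 3) (a := 4) (b := 1) Nat.prime_two Nat.prime_three cC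

end Cfsg.Agent.S3222
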