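import Cfsg.Statements.S3234
import Cfsg.Agent.F24V.Main

set_option autoImplicit false
open Cfsg

namespace Cfsg.Agent.S3234

open Subgroup Cfsg.Agent.BG Cfsg.Agent.LES

/-- Let G be a finite group with an involution z, H = C_G(z), such that (i) J = O₂(H) is extraspecial of order 2¹³ with C_H(J) ≤ J, and (ii) H has normal subgroups J ≤ M ≤ K where M/J has order 3 and is the largest normal 3-subgroup of H/J (that is, M = O_{2,3}(H)) and K/M ≅ U₄(3). Then G = H·O(G); or H/K has order 2 and G is isomorphic to the Fischer group Fi₂₄′; or H/K is a four-group and G ≅ Fi₂₄. -/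
theorem result {G : Type*} [Group G] [Finite G] (z : G) (hz : orderOf z = 2)
    {L : Type*} [Field L] [Fintype L] (hL : Fintype.card L = 9)
    (hJ : Cfsg.IsExtraspecial 2 ↥(Cfsg.pCore 2 ↥(Subgroup.centralizer ({z} : Set G)))) (hJc : Nat.card ↥(Cfsg.pCore 2 ↥(Subgroup.centralizer ({z} : Set G))) = 2 ^ 13)
    (hCJ : Subgroup.centralizer ((Cfsg.pCore 2 ↥(Subgroup.centralizer ({z} : Set G))) : Set ↥(Subgroup.centralizer ({z} : Set G))) ≤ Cfsg.pCore 2 ↥(Subgroup.centralizer ({z} : Set G)))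
    (M K : Subgroup ↥(Subgroup.centralizer ({z} : Set G))) [hMn : M.Normal] [hKn : K.Normal] (hJM : Cfsg.pCore 2 ↥(Subgroup.centralizer ({z} : Set G)) ≤ M) (hMK : M ≤ K)
    (hM3 : Nat.card ↥M = 3 * Nat.card ↥(Cfsg.pCore 2 ↥(Subgroup.centralizer ({z} : Set G))))
    (hMmax : ∀ M' : Subgroup ↥(Subgroup.centralizer ({z} : Set G)), M'.Normal → Cfsg.pCore 2 ↥(Subgroup.centralizer ({z} : Set G)) ≤ M' → (∃ a : ℕ, Nat.card ↥M' = 3 ^ a * Nat.card ↥(Cfsg.pCore 2 ↥(Subgroup.centralizer ({z} : Set G)))) → M' ≤ M)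
    (e : (↥K ⧸ M.subgroupOf K) ≃* Cfsg.PSU 4 L 3) :
    Subgroup.centralizer ({z} : Set G) ⊔ Cfsg.oddCore G = ⊤ ∨
      (K.index = 2 ∧ Cfsg.Spor.IsoFi24' G) ∨
      (K.index = 4 ∧ (∀ x : ↥(Subgroup.centralizer ({z} : Set G)) ⧸ K, x ^ 2 = 1) ∧ Nonempty (G ≃* Cfsg.Spor.Fi24)) := by
  have E : ES (pCore 2 C1[z]) ⟨z, mem_cent1.2 rfl⟩ := ES.of_mem hJ (hCJ fun y _ => Subtype.ext (mem_cent1.1 y.2))
    (fun e => by rw [show z = 1 from congrArg Subtype.val e, orderOf_one] at hz; omega)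
    fun y _ => mem_cent1.2 (Subtype.ext (mem_cent1.1 y.2))
  obtain ⟨e'⟩ := Known.U43T.equiv hL
  exact F24T.V.Hp.main ⟨LE.of_core hz (PGrp.ES_of_mulEquiv hJ (equivMapOfInjective _ _ (subtype_injective _))) fun c hc =>
    ⟨⟨c, mem_cent1.2 (hc z ⟨_, E.zQ, rfl⟩).symm⟩, hCJ fun y hy => Subtype.ext (hc _ ⟨y, hy, rfl⟩), rfl⟩,
    hJc, hJM, hMK, hM3, ⟨e.trans e'⟩⟩

end Cfsg.Agent.S3234
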