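import Cfsg.Statements.S3237
import Cfsg.Agent.A34.T1
import Cfsg.Agent.A34.T2
import Cfsg.Agent.A34.T3
import Cfsg.Agent.A34.T4
import Cfsg.Agent.A34.T5

set_option autoImplicit false
open Cfsg

namespace Cfsg.Agent.S3237

/-- Let G be a finite group of even order with an involution z, H = C_G(z), such that H has a normal subgroup E of order 32 that is extraspecial and contains no elementary abelian subgroup of order 8 (the central product of a dihedral group of order 8 with a quaternion group), C_H(E) ≤ E, and H/E ≅ S₄. Then O(G) is abelian, and if G is not solvable then G is isomorphic to the automorphism group of PGL₃(4). -/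
theorem result {G : Type*} [Group G] [Finite G]
    (hev : Even (Nat.card G)) (z : G) (hz : orderOf z = 2)
    (E : Subgroup ↥(Subgroup.centralizer ({z} : Set G))) [hEn : E.Normal] (hE : Cfsg.IsExtraspecial 2 ↥E) (hE32 : Nat.card ↥E = 32)
    (hEminus : ∀ A : Subgroup ↥E, Cfsg.IsElementaryAbelian 2 A → Nat.card ↥A ≠ 8)
    (hCE : Subgroup.centralizer (E : Set ↥(Subgroup.centralizer ({z} : Set G))) ≤ E)
    (e : (↥(Subgroup.centralizer ({z} : Set G)) ⧸ E) ≃* Equiv.Perm (Fin 4)) {F : Type*} [Field F] [Fintype F] (hF : Fintype.card F = 4) :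
    IsMulCommutative ↥(Cfsg.oddCore G) ∧
      (¬ Group.IsSolvable G → Nonempty (G ≃* MulAut (GL (Fin 3) F ⧸ Subgroup.center (GL (Fin 3) F)))) := by
  obtain ⟨γ, σ, h⟩ := A34.exists_cl z hz E hE hE32 hEminus hCE e
  obtain ⟨v, b, c, T, A, B, Q, M, S, h⟩ := h.hs
  refine ⟨h.odd_comm, fun ns => ?_⟩
  by_cases hi : ∀ t, IsConj z t → Commute z t → t = z
  · exact absurd (h.solv (Invol.isolated_of_forall hz hi)) ns
  push Not at hi
  obtain ⟨t, ht, hc, tz⟩ := hi
  have f := h.fz ht hc.symm tz
  obtain ⟨K, hK, h1, h2, h3⟩ := f.transfer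
  exact f.final f.syl K h1 h2 h3 ns hF

end Cfsg.Agent.S3237
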