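import Cfsg.Statements.S3244
import Cfsg.Agent.S3109
import Cfsg.Agent.Sig.Sf1
import Cfsg.Agent.Invol.More
import Cfsg.Agent.Invol.StrongEmb
import Cfsg.Agent.PLocal.PSolv

set_option autoImplicit false
open Cfsg

namespace Cfsg.Agent.S3244

open Subgroup Cfsg.Agent.BG Cfsg.Agent.Sig

open Cfsg.Agent.Invol

theorem exmax {G : Type*} [Group G] [Finite G] {T : Subgroup G} (hT : IsPGroup 2 T) (h : T ≠ ⊥) :
    ∃ M, IsMaximalTwoLocal M ∧ N[T] ≤ M := by
  obtain ⟨M, h1, h2, h4⟩ := Finite.exists_le_maximal (p := IsTwoLocal) (a := N[T]) ⟨T, hT, h, rfl⟩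
  exact ⟨M, ⟨h2, fun M' a b => (h4 a b).antisymm b⟩, h1⟩

theorem uniq {G : Type*} [Group G] [Finite G]
    (h : ∀ M : Subgroup G, IsMaximalTwoLocal M → ∃ y, orderOf y = 2 ∧ M = C1[y] ∧ ∀ U, SylowIn 2 U M →
      y ∈ U ∧ ∀ w ∈ U, orderOf w = 2 → U ≤ C1[w] → w = y) (n : ℕ) :
    ∀ X M N : Subgroup G, X.index = n → IsPGroup 2 X → X ≠ ⊥ → IsMaximalTwoLocal M → IsMaximalTwoLocal N →
      X ≤ M → X ≤ N → M = N := by
  induction n using Nat.strong_induction_on with | _ n ih => ?_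
  intro X M N hn hX h0 hM hN hXM hXN
  have syl : ∀ M N : Subgroup G, IsMaximalTwoLocal M → IsMaximalTwoLocal N → SylowIn 2 X M → X ≤ N → M = N :=
    fun M N hM hN h1 h2 => by
      obtain ⟨y, y2, rfl, hy⟩ := h M hM
      obtain ⟨z, z2, rfl, -⟩ := h N hN
      have h3 : z ∈ C1[y] := mem_cent1_comm.1 (h2 (hy X h1).1)
      have h4 : zpowers z ≤ X := sub_Hall_of_norm h1 (zpowers_le.2 h3)
        (IsPGroup.pi (isPGroup_zpowers (n := 1) (by simpa [pow_two] using mul_self_of z2)))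
        (.inr (h2.trans (cent1_le_norm_zpowers z)))
      rw [(hy X h1).2 z (h4 (mem_zpowers z)) z2 h2]
  obtain ⟨K, hK, h1⟩ := exmax hX h0
  have step : ∀ M : Subgroup G, IsMaximalTwoLocal M → X ≤ M → SylowIn 2 X M ∨ M = K := fun M hM hXM => by
    obtain ⟨U, hU, h2⟩ := Sylow_superset hXM hX
    rcases h2.eq_or_lt with rfl | h3
    · exact .inl hU
    have h4 := nilpotent_proper_norm (pgroup_nil hU.pg) h3
    refine .inr (ih _ ?_ (U ⊓ N[X]) M K rfl (hU.pg.to_le inf_le_left) (fun e => h0 (eq_bot_iff.2 (e ▸ h4.le))) hM hK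
      (inf_le_left.trans hU.le) (inf_le_right.trans h1))
    exact hn ▸ index_strictAnti h4
  rcases step M hM hXM with a | a
  · exact syl M N hM hN a hXN
  rcases step N hN hXN with b | b
  · exact (syl N M hN hM b hXM).symm
  rw [a, b]

/-- Say that a finite group G is of characteristic 2 type in the early sense when a Sylow 2-subgroup S of G has a self-centralizing normal subgroup of rank at least 3, S normalizes no nontrivial subgroup of odd order, and every 2-local subgroup of G is 2-constrained. If G is a non-abelian simple group of characteristic 2 type in this sense, then for some maximal 2-local subgroup M of G the centre of O₂(M) is not cyclic. -/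
theorem result {G : Type*} [Group G] [Finite G] [IsSimpleGroup G]
    (hG : ¬ IsMulCommutative G) (S : Sylow 2 G) (A : Subgroup G) (hA : Cfsg.IsSCN (S : Subgroup G) A) (hA3 : ¬ Cfsg.PRankLE 2 2 ↥A)
    (hinv : ∀ X : Subgroup G, Odd (Nat.card ↥X) → (S : Subgroup G) ≤ Subgroup.normalizer (X : Set G) → X = ⊥)
    (hcon : ∀ T : Subgroup G, IsPGroup 2 ↥T → T ≠ ⊥ → Cfsg.IsPConstrained 2 ↥(Subgroup.normalizer (T : Set G))) :
    ∃ M : Subgroup G, Cfsg.IsMaximalTwoLocal M ∧ ¬ IsCyclic ↥(Subgroup.center ↥(Cfsg.pCore 2 ↥M)) := by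
  classical
  by_contra! hc
  have ab : IsMulCommutative A := abelian_iff.2 (hA.2.2.ge.trans inf_le_right)
  simp only [PRankLE, not_forall, not_le] at hA3
  obtain ⟨E, hE1, hE2, hE3⟩ := hA3
  have e : A.subgroupOf S ≃* A := subgroupOfEquivOfLe hA.1
  have core := S3109.result hG hcon S (A.subgroupOf S) ((normal_subgroupOf_iff_le_normalizer hA.1).2 hA.2.1)
    (abelian_iff.2 fun x hx => mem_centralizer_iff.2 fun y hy => Subtype.ext (ab.comm hy hx))
    (le_antisymm (fun x hx => hA.2.2.le ⟨x.2, fun y hy => congrArg Subtype.val (hx ⟨y, hA.1 hy⟩ hy)⟩)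
      fun x hx => mem_centralizer_iff.2 fun y hy => Subtype.ext (ab.comm hy hx)) fun h => by
    have := h (E.map e.symm.toMonoidHom) (map_isMulCommutative _ _) (by
      rintro _ ⟨a, ha, rfl⟩
      rw [← map_pow, hE2 a ha, map_one])
    rw [card_map_of_injective e.symm.injective] at this
    omega
  have key : ∀ M : Subgroup G, IsMaximalTwoLocal M → ∃ y, orderOf y = 2 ∧ M = C1[y] ∧ ∀ U, SylowIn 2 U M →
      y ∈ U ∧ ∀ w ∈ U, orderOf w = 2 → U ≤ C1[w] → w = y := fun M hM => by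
    obtain ⟨T, hT, h0, rfl⟩ := hM.1
    have cy : IsCyclic Z[Op 2 N[T]] := by
      rw [Op_eq, ← map_subtype_center]
      haveI := hc _ hM
      exact isCyclic_of_surjective (((center _).equivMapOfInjective _ (subtype_injective _)).toMonoidHom.comp
        (centerCongr ((pCore 2 N[T]).equivMapOfInjective _ (subtype_injective _))).toMonoidHom)
        ((MulEquiv.surjective _).comp (MulEquiv.surjective _))
    have hTQ : T ≤ Op 2 N[T] := pcore_max ⟨normG _, le_rfl⟩ (IsPGroup.pi hT)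
    obtain ⟨y, hy, y2, hy'⟩ := exists_central_invol (Op_pgroup 2 N[T]) fun e => h0 (eq_bot_iff.2 (e ▸ hTQ))
    have hz : y ∈ Z[Op 2 N[T]] := ⟨hy, fun s hs => hy' s hs⟩
    have un : ∀ w ∈ Z[Op 2 N[T]], orderOf w = 2 → w = y := fun w hw w2 => by
      have := eq_subG_cyclic cy (zpowers_le.2 hw) (zpowers_le.2 hz) (by simp [w2, y2])
      obtain ⟨k, hk, rfl⟩ := Finset.mem_image.1 (mem_zpowers_iff_mem_range_orderOf.1 (this ▸ mem_zpowers w))
      rw [y2, Finset.mem_range] at hk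
      interval_cases k <;> simp_all
    have nZ : N[T] ≤ N[Z[Op 2 N[T]]] := normsI (pcore_normal _ _).2 (norms_cent (pcore_normal _ _).2)
    have h1 : N[T] ≤ C1[y] := fun g hg => mem_cent1.2 (mul_inv_eq_iff_eq_mul.1
      (un _ (conj_mem_of_norm (nZ hg) hz) (BG.orderOf_conj' g y ▸ y2)))
    have h2 : N[zpowers y] = N[T] := hM.2 _ ⟨_, pgroup_zpowers y2, by simpa using ne_one_of y2, rfl⟩
      (h1.trans (cent1_le_norm_zpowers y))
    have h3 : N[T] = C1[y] := le_antisymm h1 (h2 ▸ cent1_le_norm_zpowers y)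
    have hO : pPrimeCore 2 N[T] = ⊥ := by
      have := core y y2
      rw [cpc_eq, ← h3, Op'_eq] at this
      exact (map_eq_bot_iff_of_injective _ (subtype_injective _)).1 this
    have hC : N[T] ⊓ C[Op 2 N[T]] ≤ Op 2 N[T] := fun x hx => by
      rw [Op_eq] at hx ⊢
      exact ⟨⟨x, hx.1⟩, (PLocal.isPConstrained_iff_of_bot hO).1 (hcon T hT h0) fun y hy =>
        Subtype.ext (hx.2 _ ⟨y, hy, rfl⟩), rfl⟩
    refine ⟨y, y2, h3, fun U hU => ⟨pcore_sub_Hall hU hy, fun w hw w2 h4 => un w ?_ w2⟩⟩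
    have h5 : w ∈ C[Op 2 N[T]] := le_cent1_iff.1 ((pcore_sub_Hall hU).trans h4)
    exact ⟨hC ⟨hU.le hw, h5⟩, h5⟩
  have two : ∃ a b : E, a ≠ 1 ∧ b ≠ 1 ∧ a ≠ b := by
    haveI := Fintype.ofFinite E
    obtain ⟨a, b, c, h1, h2, h3⟩ := Fintype.two_lt_card_iff.1 (show 2 < Fintype.card E by
      rw [← Nat.card_eq_fintype_card]; omega)
    exact ⟨a⁻¹ * b, a⁻¹ * c, by simpa [inv_mul_eq_one] using h1, by simpa [inv_mul_eq_one] using h2, by simpa using h3⟩
  obtain ⟨a, b, a1, b1, hab⟩ := two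
  have o : ∀ a : E, a ≠ 1 → orderOf (a.1 : G) = 2 := fun a a1 => orderOf_eq_prime
    (congrArg Subtype.val (hE2 a a.2)) (by simpa using a1)
  obtain ⟨M, hM, h1⟩ := exmax S.2 fun e => ne_one_of (o a a1) (mem_bot.1 (e ▸ hA.1 a.1.2))
  have hSM : (S : Subgroup G) ≤ M := (normG _).trans h1
  obtain ⟨y, y2, e1, -⟩ := key M hM
  have se : IsStronglyEmbedded M := se_of_normalizers (fun e => by
    rcases IsSimpleGroup.eq_bot_or_eq_top_of_normal (center G) inferInstance with e2 | e2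
    · exact ne_one_of y2 (mem_bot.1 (e2 ▸ mem_center_iff.2 fun g => mem_cent1.1 (e1 ▸ e ▸ mem_top g)))
    · exact hG ⟨⟨fun a b => (mem_center_iff.1 (e2 ▸ mem_top a) b).symm⟩⟩) ⟨y, e1 ▸ cent1_self y, y2⟩
    fun X hX h2 h0 => by
      obtain ⟨K, hK, h3⟩ := exmax h2 h0
      exact uniq key _ X K M rfl h2 h0 hK hM ((normG _).trans h3) hX ▸ h3
  obtain ⟨u, huN, hu⟩ := SE.exists_invol_not_mem se
  have all : ∀ t ∈ M, orderOf t = 2 → t = y := fun t ht t2 => by
    obtain ⟨d, hd, -, e2⟩ := SE.exists_conj_inverted se huN hu (e1 ▸ cent1_self y) y2 ht t2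
    rw [← e2, mem_cent1.1 (e1.le hd), mul_inv_cancel_right]
  exact hab (Subtype.ext (Subtype.ext ((all _ (hSM (hA.1 a.1.2)) (o a a1)).trans
    (all _ (hSM (hA.1 b.1.2)) (o b b1)).symm)))

end Cfsg.Agent.S3244
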