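import Cfsg.Statements.S3245
import Cfsg.Agent.SE.Bender2
import Cfsg.Agent.SE.LP

set_option autoImplicit false
open Cfsg

namespace Cfsg.Agent.S3245

open Subgroup BG

/-- A finite non-abelian simple group in which all maximal 2-local subgroups are conjugate is isomorphic to L₂(2ⁿ), Sz(2ⁿ) or U₃(2ⁿ) for some n ≥ 2. -/
theorem result {G : Type*} [Group G] [Finite G] [IsSimpleGroup G] (hG : ¬ IsMulCommutative G)
    (h1 : ∀ M M' : Subgroup G, Cfsg.IsMaximalTwoLocal M → Cfsg.IsMaximalTwoLocal M' → ∃ g : G, M' = M.map (MulAut.conj g).toMonoidHom) :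
    (∃ (F : Type) (_ : Field F) (_ : Fintype F) (n : ℕ), 2 ≤ n ∧ Fintype.card F = 2 ^ n ∧
        Nonempty (G ≃* Matrix.ProjectiveSpecialLinearGroup (Fin 2) F)) ∨
      Cfsg.Lie.IsoSuzuki G ∨
      (∃ (F : Type) (_ : Field F) (_ : Fintype F) (n : ℕ), 2 ≤ n ∧ Fintype.card F = (2 ^ n) ^ 2 ∧ Nonempty (G ≃* Cfsg.PSU 3 F (2 ^ n))) := by
  have hex : ∀ T : Subgroup G, IsPGroup 2 T → T ≠ ⊥ → ∃ M, N[T] ≤ M ∧ IsMaximalTwoLocal M := fun T h2 h0 =>
    maxgroup_exists (P := IsTwoLocal) ⟨T, h2, h0, rfl⟩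
  obtain ⟨S, hS⟩ := Sylow_exists 2 (⊤ : Subgroup G)
  have hS1 : S ≠ ⊥ := Sylow_ne_bot hS (by rw [card_top]; exact (SE.even_simple hG).two_dvd)
  obtain ⟨M, hSM, hM⟩ := hex S hS.pg hS1
  have hN : N[M] ≤ M := by
    obtain ⟨T, h2, h0, e⟩ := hM.1
    have hT : T ⊴ M := e ▸ normalG T
    exact (norms_pcore {2} le_rfl).trans (hM.2 _ ⟨Op 2 M, Op_pgroup 2 M, fun h =>
      h0 (eq_bot_iff.2 (h ▸ pcore_max hT (IsPGroup.pi h2))), rfl⟩ (pcore_normal _ _).norm).le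
  have hsyl : ∀ g : G, S ≤ cj g M → cj g M = M := fun g hg => by
    have h1 : SylowIn 2 S (cj g M) := pHall_subl hg le_top hS
    have h2 : SylowIn 2 (cj g S) (cj g M) := pHallJ g (pHall_subl ((normG S).trans hSM) le_top hS)
    obtain ⟨m, hm, e⟩ := Sylow_trans h2 h1
    rw [← cj_mul, eq_comm, ← mem_norm] at e
    rw [← cj_of_mem hm, ← cj_mul, cj_of_mem (hSM e)]
  have key : ∀ T : Subgroup G, IsPGroup 2 T → T ≠ ⊥ → ∀ g k : G, T ≤ cj g M → T ≤ cj k M → cj g M = cj k M := by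
    intro T hT h0
    by_contra! H
    obtain ⟨T, -, ⟨hT, h0, g, k, hg, hk, hne⟩, hmax⟩ := maxgroup_exists (P := fun T => IsPGroup 2 T ∧ T ≠ ⊥ ∧
      ∃ g k : G, T ≤ cj g M ∧ T ≤ cj k M ∧ cj g M ≠ cj k M) ⟨hT, h0, H⟩
    obtain ⟨L, hL, hL'⟩ := hex T hT h0
    obtain ⟨l, rfl⟩ := h1 M L hM hL'
    have H : ∀ g : G, T ≤ cj g M → ¬ SylowIn 2 T ⊤ → cj g M = cj l M := fun g hg hn => by
      obtain ⟨P, hP, hlt⟩ := SE.exists_lt_of_not_sylow hT hg fun h => hn (pHall_of_card le_top (by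
        rw [card_Hall h, card_cj, ← card_Hall hS, card_Hall (pHall_subl ((normG S).trans hSM) le_top hS)]))
      by_contra e
      exact hlt.ne' (hmax P ⟨hP.pg, fun e => h0 (eq_bot_iff.2 (e ▸ hlt.le)), g, l, hP.le.trans inf_le_left,
        hP.le.trans (inf_le_right.trans hL), e⟩ hlt.le)
    by_cases hn : SylowIn 2 T ⊤
    · obtain ⟨x, -, rfl⟩ := Sylow_trans hS hn
      rw [cj_le_iff, ← cj_mul] at hg hk
      refine hne (cj_inj (g := x⁻¹).1 ?_)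
      rw [← cj_mul, ← cj_mul, hsyl _ hg, hsyl _ hk]
    · exact hne ((H g hg hn).trans (H k hk hn).symm)
  obtain ⟨s, hs, hs2⟩ := Invol.exists_invol_mem_of_isPGroup hS.pg hS1
  refine SE.bender_list hG (H := M) (Invol.stronglyEmbedded_iff.2 ⟨fun e => ?_, ⟨s, hSM (normG S hs), hs2⟩,
    fun t ht h2 g hg => ?_⟩)
  · obtain ⟨T, h2, h0, e'⟩ := hM.1
    have := (normalizer_eq_top_iff.1 (e'.symm.trans e)).eq_bot_or_eq_top.resolve_left h0
    exact hG ⟨⟨IsSimpleGroup.comm_iff_isSolvable.2 (isog_sol ⟨topEquiv⟩ (this ▸ pgroup_sol h2))⟩⟩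
  · have := key (zpowers t) (pgroup_of_card_p (by rw [Nat.card_zpowers, h2]))
      (by rw [Ne, zpowers_eq_bot]; exact Invol.ne_one_of h2) g⁻¹ 1 (zpowers_le.2 (mem_cj_inv.2 hg))
      (zpowers_le.2 (by rwa [cj_one]))
    rw [cj_one] at this
    exact inv_mem_iff.1 (hN (mem_norm.2 this))

end Cfsg.Agent.S3245
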