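import Cfsg.Statements.S3246
import Cfsg.Agent.S3247
import Cfsg.Agent.Sig.Dich
import Cfsg.Agent.Sig.Sf1
import Cfsg.Agent.BG.S3Gen

set_option autoImplicit false
open Cfsg

namespace Cfsg.Agent.S3246

open Subgroup Cfsg.Agent.BG Cfsg.Agent.Sig

theorem key {G : Type*} [Group G] [Finite G] {H T Y S : Subgroup G} (hc : IsPConstrained 2 H)
    (hO : oddCore H = ⊥) (hS : SylowIn 2 S ⊤) (hT : T ≤ H) (hTS : T ≤ S) (h2 : #S ≤ 2 * #T) (hY : Y ≤ H)
    (ho : Odd #Y) (hn : T ≤ N[Y]) : Y = ⊥ := by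
  have hQ := pcore_normal {2} H
  have pQ := Op_pgroup 2 H
  set Q := Op 2 H with hQe
  have co : ∀ R ≤ Q, (#R).Coprime #Y := fun R hR => by
    obtain ⟨k, hk⟩ := (pQ.to_le hR).exists_card_eq
    rw [hk]; exact (Nat.coprime_two_left.2 ho).pow_left _
  have hC : H ⊓ C[Q] ≤ Q := fun x hx => by
    rw [hQe, Op_eq] at hx ⊢
    exact ⟨⟨x, hx.1⟩, (PLocal.isPConstrained_iff_of_bot hO).1 hc fun y hy => Subtype.ext (hx.2 _ ⟨y, hy, rfl⟩), rfl⟩
  have h3 : #(T ⊔ Q) ≤ #S := Nat.le_of_dvd (cardG_pos _) (pgroup_card_dvd_Hall hS le_top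
    (IsPGroup.pi ((hS.pg.to_le hTS).to_sup_of_normal_right' pQ (hT.trans hQ.2))))
  have h4 := card_sup_mul_inf (.inl (hT.trans hQ.2))
  have h5 := card_mul_relIndex (inf_le_right : T ⊓ Q ≤ Q)
  have h6 : (T ⊓ Q).relIndex Q ≤ 2 := by
    have := cardG_pos T
    have := cardG_pos (T ⊓ Q)
    by_contra hc
    push Not at hc
    rw [← h5] at h4
    nlinarith [Nat.mul_le_mul (h3.trans h2) (le_refl #(T ⊓ Q)), Nat.mul_pos (cardG_pos T) (cardG_pos (T ⊓ Q))]
  have c0 : Y ≤ C[T ⊓ Q] := commG1'.1 (le_bot_iff.1 ((le_inf (commg_subr (inf_le_left.trans hn))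
    ((commutator_mono inf_le_right le_rfl).trans (commg_subl (hY.trans hQ.2)))).trans
      (coprime_TI (co Q le_rfl).symm).le))
  have c1 : ⁅Q, Y⁆ ≤ T ⊓ Q := by
    have h0 : (T ⊓ Q).relIndex Q ≠ 0 := (relIndex_pos _ _).ne'
    rcases (by omega : (T ⊓ Q).relIndex Q = 1 ∨ (T ⊓ Q).relIndex Q = 2) with h | h
    · exact (commg_subl (hY.trans hQ.2)).trans (relIndex_eq_one.1 h)
    refine commutator_le.2 fun q hq y hy => ?_
    have a : y * q⁻¹ * y⁻¹ ∈ Q := conj_mem_of_norm (hQ.2 (hY hy)) (inv_mem hq)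
    have := (mul_mem_iff_of_index_two h (a := ⟨q, hq⟩) (b := ⟨_, a⟩)).2 (by
      simp only [mem_subgroupOf]
      rw [← mem_normalizer_iff.1 (cents_norm c0 hy), inv_mem_iff])
    simpa only [mem_subgroupOf, commutatorElement_def, coe_mul, mul_assoc] using this
  exact le_bot_iff.1 ((le_inf ((le_inf hY (stable_factor_cent c0 c1 (co _ inf_le_right))).trans hC) le_rfl).trans
    (coprime_TI (co Q le_rfl)).le)

/-- Let G be a finite group whose Sylow 2-subgroup S has a self-centralizing normal subgroup of rank at least 3. Suppose that either every maximal 2-local subgroup of G is 2-constrained with no nontrivial normal subgroup of odd order, or the centralizer of every involution of G is 2-constrained with no nontrivial normal subgroup of odd order. Then S normalizes no nontrivial subgroup of G of odd order and every 2-local subgroup of G is 2-constrained. -/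
theorem result {G : Type*} [Group G] [Finite G]
    (S : Sylow 2 G) (A : Subgroup G) (hA : Cfsg.IsSCN (S : Subgroup G) A) (hA3 : ¬ Cfsg.PRankLE 2 2 ↥A)
    (h : (∀ M : Subgroup G, Cfsg.IsMaximalTwoLocal M → Cfsg.IsPConstrained 2 ↥M ∧ Cfsg.oddCore ↥M = ⊥) ∨
      (∀ t : G, orderOf t = 2 → Cfsg.IsPConstrained 2 ↥(Subgroup.centralizer ({t} : Set G)) ∧
        Cfsg.oddCore ↥(Subgroup.centralizer ({t} : Set G)) = ⊥)) :
    (∀ X : Subgroup G, Odd (Nat.card ↥X) → (S : Subgroup G) ≤ Subgroup.normalizer (X : Set G) → X = ⊥) ∧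
      (∀ T : Subgroup G, IsPGroup 2 ↥T → T ≠ ⊥ → Cfsg.IsPConstrained 2 ↥(Subgroup.normalizer (T : Set G))) := by
  have hS := sylowIn_top S
  have loc : ∀ u : G, orderOf u = 2 → ∃ H : Subgroup G, C1[u] ≤ H ∧ IsPConstrained 2 H ∧ oddCore H = ⊥ :=
    fun u hu => by
      rcases h with h | h
      · obtain ⟨M, h1, h2, h4⟩ := Finite.exists_le_maximal (p := IsTwoLocal) (a := N[zpowers u])
          ⟨zpowers u, IsPGroup.of_card (n := 1) (by rw [Nat.card_zpowers, hu]; rfl),
            fun e => by rw [zpowers_eq_bot.1 e, orderOf_one] at hu; omega, rfl⟩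
        exact ⟨M, (C_zpowers u ▸ centralizer_le_normalizer _ : _ ≤ N[zpowers u]).trans h1,
          h M ⟨h2, fun M' a b => (h4 a b).antisymm b⟩⟩
      · exact ⟨_, le_rfl, h u hu⟩
  refine ⟨fun X ho hn => ?_, fun T hT h1 => ?_⟩
  · have ab : IsMulCommutative A := abelian_iff.2 (hA.2.2.ge.trans inf_le_right)
    have hE := Ohm1_abelem 2 ab
    have h8 : 2 ^ 2 ∣ #(omegaOne 2 A) := by
      simp only [PRankLE, not_forall, not_le] at hA3
      obtain ⟨E, -, hE2, hE3⟩ := hA3
      have h1 : E.map A.subtype ≤ omegaOne 2 A := by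
        rintro _ ⟨a, ha, rfl⟩
        exact mem_Ohm1 a.2 (congrArg Subtype.val (hE2 a ha))
      have h2 := card_le_card h1
      rw [card_map_of_injective A.subtype_injective] at h2
      obtain ⟨k, hk⟩ := (hS.pg.to_le ((Ohm_sub 2 A).trans hA.1)).exists_card_eq
      rw [hk] at h2 ⊢
      exact pow_dvd_pow 2 ((Nat.pow_lt_pow_iff_right one_lt_two).1 (hE3.trans_le h2)).le
    obtain ⟨U, hU, nU, cU⟩ := normal_pgroup hS.pg ⟨(Ohm_sub 2 A).trans hA.1, norms_Ohm 2 hA.2.1⟩ h8
    have aU : Abelem 2 U := abelemS hU hE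
    have i4 := four_relIndex hS.pg nU.2 aU cU
    refine le_bot_iff.1 (coprime_abelian_gen_cent1 aU.1 (abelem_not_cyclic aU cU.ge) (nU.1.trans hn)
      (by rw [cU]; exact (Nat.coprime_two_right.2 ho).pow_right _) fun u hu u1 => ?_)
    obtain ⟨H, h1, h2, h3⟩ := loc u (abelem_order_p aU hu u1)
    have hle : C[U] ≤ C1[u] := centralizer_le (Set.singleton_subset_iff.2 hu)
    refine (key (T := C[U] ⊓ S) h2 h3 hS (inf_le_left.trans (hle.trans h1)) inf_le_right ?_
      (inf_le_right.trans h1) (ho.of_dvd_nat (card_dvd_of_le inf_le_left))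
      (normsI (inf_le_right.trans hn) ((inf_le_left.trans hle).trans le_normalizer))).le
    rw [← card_mul_relIndex (inf_le_right : C[U] ⊓ S ≤ S), inf_relIndex_right, mul_comm]
    exact Nat.mul_le_mul_right _ (Nat.le_of_dvd two_pos i4)
  · rcases h with h | h
    · obtain ⟨M, h1, h2, h4⟩ := Finite.exists_le_maximal (p := IsTwoLocal) (a := N[T]) ⟨T, hT, h1, rfl⟩
      exact S3247.loc (h M ⟨h2, fun M' a b => (h4 a b).antisymm b⟩).1 hT (le_normalizer.trans h1)
        ((centralizer_le_normalizer _).trans h1)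
    · exact S3247.cen (fun x hx => (h x hx).1) hT h1

end Cfsg.Agent.S3246
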