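import Cfsg.Statements.S3285
import Cfsg.Agent.AB.J1f
import Cfsg.Agent.AB.WJ2
import Cfsg.Agent.AB.Simp
import Cfsg.Agent.S3188
import Cfsg.Agent.S0813
import Cfsg.Agent.Classical.PSL2Max2

set_option autoImplicit false
open Cfsg

namespace Cfsg.Agent.S3285

open Equiv Equiv.Perm in
theorem pair_mem {α : Type*} [Fintype α] [DecidableEq α] (h6 : 6 ≤ Fintype.card α) {t : Perm α} (ht : t * t = 1)
    {K : Subgroup (Perm α)} (hK : ∀ x, sign x = 1 → x * t = t * x → x * x ∈ K) {a b : α} (ha : t a ≠ a) (hb : t b ≠ b)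
    (h1 : b ≠ a) (h2 : b ≠ t a) : swap a (t a) * swap b (t b) ∈ K := by
  have tt : ∀ x, t (t x) = x := fun x => by rw [← mul_apply, ht, one_apply]
  have ti : t⁻¹ = t := inv_eq_of_mul_eq_one_left ht
  have h3 : t b ≠ a := fun e => h2 (by rw [← e, tt])
  have h4 : t b ≠ t a := t.injective.ne h1
  have ex : ∀ s : Finset α, s.card ≤ 5 → ∃ c, c ∉ s := fun s hs => by
    by_contra! n
    have := Finset.card_le_card (fun c _ => n c : Finset.univ ⊆ s)
    rw [Finset.card_univ] at this; omega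
  have out : ∀ c, c ∉ ({a, t a, b, t b} : Finset α) → t c ∉ ({a, t a, b, t b} : Finset α) := fun c hc h => hc (by
    simp only [Finset.mem_insert, Finset.mem_singleton] at h ⊢
    have := tt c; have := tt a; have := tt b; grind)
  obtain ⟨c, d, hcd, hc, hd, hs⟩ : ∃ c d, c ≠ d ∧ c ∉ ({a, t a, b, t b} : Finset α) ∧ d ∉ ({a, t a, b, t b} : Finset α) ∧
      swap (t c) (t d) = swap c d := by
    obtain ⟨c, hc⟩ := ex {a, t a, b, t b} (Finset.card_le_four.trans (by decide))
    by_cases e : t c = c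
    · obtain ⟨d, hd⟩ := ex {c, a, t a, b, t b} Finset.card_le_five
      rw [Finset.mem_insert, not_or] at hd
      by_cases e' : t d = d
      · exact ⟨c, d, Ne.symm hd.1, hc, hd.2, by rw [e, e']⟩
      · exact ⟨d, t d, Ne.symm e', hd.2, out d hd.2, by rw [tt, swap_comm]⟩
    · exact ⟨c, t c, Ne.symm e, hc, out c hc, by rw [tt, swap_comm]⟩
  simp only [Finset.mem_insert, Finset.mem_singleton, not_or] at hc hd
  obtain ⟨c1, c2, c3, c4⟩ := hc
  obtain ⟨d1, d2, d3, d4⟩ := hd
  have := hK (swap a (t a) * (swap a b * swap (t a) (t b)) * swap c d) (by simp [ha.symm, h1.symm, h4.symm, hcd]) (by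
    rw [eq_comm, ← mul_inv_eq_iff_eq_mul, ← MulAut.conj_apply]
    simp only [map_mul, MulAut.conj_apply, ← swap_apply_apply, tt, hs, swap_comm (t a) a]
    congr 2
    ext z
    simp only [mul_apply, swap_apply_def]
    grind)
  convert this using 1
  ext z
  simp only [mul_apply, swap_apply_def]
  grind

open Equiv Equiv.Perm in
theorem alt_mem {α : Type*} [Fintype α] [DecidableEq α] (h6 : 6 ≤ Fintype.card α) {t : Perm α} (ht : t * t = 1)
    {K : Subgroup (Perm α)} (hK : ∀ x, sign x = 1 → x * t = t * x → x * x ∈ K) (n : ℕ) :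
    ∀ s : Perm α, s.support.card = n → sign s = 1 → (∀ a, s a = a ∨ s a = t a) → s ∈ K := by
  have tt : ∀ x, t (t x) = x := fun x => by rw [← mul_apply, ht, one_apply]
  induction n using Nat.strong_induction_on with | _ n ih => ?_
  intro s hn hs h
  have k : ∀ a, s a ≠ a → s a = t a ∧ s (t a) = a ∧ t a ≠ a := fun a ha => by
    have e := (h a).resolve_left ha
    refine ⟨e, (h (t a)).elim (fun r => absurd (s.injective (r.trans e.symm)) (e ▸ ha)) fun r => r.trans (tt a), e ▸ ha⟩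
  by_cases s1 : s = 1
  · exact s1 ▸ one_mem K
  obtain ⟨a, ha⟩ : ∃ a, s a ≠ a := by by_contra! n; exact s1 (Equiv.ext n)
  obtain ⟨a1, a2, a3⟩ := k a ha
  obtain ⟨b, hb, h1, h2⟩ : ∃ b, s b ≠ b ∧ b ≠ a ∧ b ≠ t a := by
    by_contra! n
    have : s = swap a (t a) := by ext z; rw [swap_apply_def]; grind
    rw [this, sign_swap a3.symm] at hs
    exact absurd hs (by decide)
  obtain ⟨b1, b2, b3⟩ := k b hb
  have h3 : t b ≠ a := fun e => h2 (by rw [← e, tt])
  have h4 : t b ≠ t a := t.injective.ne h1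
  have m := pair_mem h6 ht hK a3 b3 h1 h2
  have v : ∀ z, (s * (swap a (t a) * swap b (t b))) z = z ∨
      (s * (swap a (t a) * swap b (t b))) z = s z ∧ z ≠ a := fun z => by
    simp only [mul_apply, swap_apply_def]; grind
  refine (mul_mem_cancel_right m).1 (ih _ ?_ _ rfl (by simp [hs, a3.symm, b3.symm]) fun z => by
    have := v z; have := h z; grind)
  rw [← hn]
  refine Finset.card_lt_card ⟨fun z hz => ?_, fun q => ?_⟩
  · rw [mem_support] at hz ⊢; have := v z; grind
  · have := q (mem_support.2 ha); rw [mem_support] at this; have := v a; grind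

/-- `C₂ × A₄`. -/
abbrev X4 := Multiplicative (ZMod 2) × alternatingGroup (Fin 4)
theorem F1 : ∀ x : X4, x ^ 6 = 1 := by decide +kernel
theorem F2 : ∃ x : X4, x * x ≠ 1 := by decide +kernel
theorem F3 : ∀ y : X4, y * y = 1 ∨ ∃ g, y * (g * y⁻¹ * g⁻¹) ≠ 1 ∧
    y * (g * y⁻¹ * g⁻¹) * (y * (g * y⁻¹ * g⁻¹)) = 1 := by decide +kernel
theorem F4 : ∀ x y : alternatingGroup (Fin 4), x * x = 1 → x ≠ 1 → y * y = 1 → y ≠ 1 → ∃ g, g * x * g⁻¹ = y := by
  decide +kernel
set_option synthInstance.maxSize 1000 in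
theorem F5 : ∃ a b : X4, a * a = 1 ∧ b * b = 1 ∧ a * b * (a * b) = 1 ∧ a ≠ 1 ∧ b ≠ 1 ∧ a * b ≠ 1 := by decide +kernel
theorem F6 (m : ℕ) (h : m ≤ 3) : ∀ x : alternatingGroup (Fin m), x * x = 1 → x = 1 := by
  interval_cases m <;> decide +kernel

open Subgroup Cfsg.Agent.BG Cfsg.Agent.AB Cfsg.Agent.Sig Cfsg.Agent.Invol Cfsg.Agent.Classical Cfsg.Agent.GW in
theorem four {G : Type*} [Group G] [Finite G] (hns : ¬ Group.IsSolvable G) {J : G} (hJ : IsTwoCentralInvolution J)
    (e : C1[J] ≃* X4) (cls : ∀ u : G, orderOf u = 2 → IsConj J u) : ∃ (F : Type) (_ : Field F) (_ : Fintype F),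
    Fintype.card F = 8 ∧ Nonempty (G ≃* MulAut (Matrix.ProjectiveSpecialLinearGroup (Fin 2) F)) := by
  have c12 : Nat.card (alternatingGroup (Fin 4)) = 12 := by rw [nat_card_alternatingGroup]; simp; rfl
  have c24 : #C1[J] = 24 := by rw [Nat.card_congr e.toEquiv, Nat.card_prod, c12]; simp
  have hab := hab_of_prod hJ e (by rw [c12]; decide)
  have hC : ∀ u : G, orderOf u = 2 → Group.IsSolvable C1[u] := fun u hu => by
    obtain ⟨g, rfl⟩ := isConj_iff.1 (cls u hu)
    exact isSolvable_of_card_dvd_24 (by rw [C1_conj, card_cj, c24])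
  have od : Odd #(oddCore G) := Nat.coprime_two_right.1 coprime_pPrimeCore
  have on : (oddCore G).Normal := inferInstance
  have n : ∀ x, x ∈ N[oddCore G] := fun x => normalizer_eq_top (oddCore G) ▸ mem_top x
  have hO : oddCore G = ⊥ := by
    have k : ∀ u : G, u * u = 1 → u ≠ 1 → oddCore G ⊓ C1[u] = ⊥ := fun u h1 h2 => by
      obtain ⟨g, rfl⟩ := isConj_iff.1 (cls u (orderOf_eq_prime (by rwa [pow_two]) h2))
      suffices oddCore G ⊓ C1[J] = ⊥ by
        rw [C1_conj, ← BG.mem_norm.1 (n g), ← cj_inf, this, cj_bot]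
      refine (eq_bot_iff_forall _).2 fun y hy => ?_
      rcases F3 (e ⟨y, hy.2⟩) with r | ⟨g, r1, r⟩
      · exact eq_one_of_odd_sq (odd_of_mem od hy.1) (congrArg Subtype.val (e.injective (by rw [map_mul, r, map_one]) :
          (⟨y, hy.2⟩ * ⟨y, hy.2⟩ : C1[J]) = 1))
      · obtain ⟨g, rfl⟩ := e.surjective g
        simp only [← map_mul, ← map_inv, ne_eq, map_eq_one_iff e e.injective] at r r1
        exact absurd (Subtype.ext (eq_one_of_odd_sq (odd_of_mem od (mul_mem hy.1 (on.conj_mem _ (inv_mem hy.1) g)))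
          (congrArg Subtype.val r))) r1
    obtain ⟨a, b, h1, h2, h3, h4, h5, h6⟩ := F5
    obtain ⟨a, rfl⟩ := e.surjective a
    obtain ⟨b, rfl⟩ := e.surjective b
    simp only [← map_mul, ne_eq, map_eq_one_iff e e.injective, Subtype.ext_iff, coe_mul, coe_one] at h1 h2 h3 h4 h5 h6
    exact bot_of_three od h1 h2 h3 (n _) (n _) (k _ h1 h4) (k _ h2 h5) (k _ h3 h6)
  obtain ⟨L, hL, h1, h2, h3⟩ := S3188.aux hO hab hC hns
  obtain ⟨F, i1, i2, h4, ⟨f⟩⟩ := absol_simple h2 (hab_sub hab L) fun t ht => pLayerIn_eq_bot_of_isSolvable (by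
    have := hC t (by rwa [orderOf_coe])
    exact Group.isSolvable_of_isSolvable_injective (f := (L.subtype.comp C1[t].subtype).codRestrict C1[(t : G)]
      fun x => mem_cent1.2 (congrArg Subtype.val (mem_cent1.1 x.2))) fun a b h => by simpa using h)
  have cL := card_PSL2_mul (F := F)
  rw [← Nat.card_congr f.toEquiv, Nat.card_eq_fintype_card (α := F)] at cL
  have q3 : 3 ≤ Fintype.card F := h4.elim (by omega) fun ⟨n, h, r⟩ => r ▸ le_trans (by decide)
    (Nat.pow_le_pow_right two_pos h)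
  obtain ⟨u, hu, -⟩ := psl_cent (F := F) (by rwa [Nat.card_eq_fintype_card])
  have JL : J ∈ L := by
    obtain ⟨g, hg⟩ := isConj_iff.1 (cls (f.symm u) (by rw [orderOf_coe, f.symm.orderOf_eq, hu])).symm
    exact hg ▸ hL.conj_mem _ (f.symm u).2 g
  obtain ⟨J2, P, JP, hP⟩ := hJ
  have PC : (P : Subgroup G) ≤ C1[J] := fun x hx => mem_cent1.2 (hP x hx)
  have PL : (P : Subgroup G) ≤ L := fun x hx => by
    obtain ⟨k, hk⟩ := P.isPGroup' ⟨x, hx⟩
    have x6 : x ^ 6 = 1 := congrArg Subtype.val (e.injective (by rw [map_pow, F1, map_one]) :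
      (⟨x, PC hx⟩ : C1[J]) ^ 6 = 1)
    have : orderOf x ∣ 2 := (Nat.Coprime.dvd_of_dvd_mul_right (n := 3) (Nat.Coprime.coprime_dvd_left
      (orderOf_dvd_of_pow_eq_one (congrArg Subtype.val hk)) (Nat.Coprime.pow_left k (by decide : Nat.Coprime 2 3)))
      (orderOf_dvd_of_pow_eq_one x6))
    rcases (Nat.dvd_prime Nat.prime_two).1 this with r | r
    · exact orderOf_eq_one_iff.1 r ▸ one_mem L
    · obtain ⟨g, rfl⟩ := isConj_iff.1 (cls x r)
      exact hL.conj_mem _ JL g
  have n16 : ¬ 16 ∣ Nat.card G ∧ 8 ∣ #(P : Subgroup G) := by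
    obtain ⟨k, hk⟩ := P.isPGroup'.exists_card_eq
    have d1 := card_dvd_of_le PC
    have d2 := P.not_dvd_index
    have d3 := (P : Subgroup G).card_mul_index
    have d4 := card_subgroup_dvd_card C1[J]
    rw [hk] at d1 d3 ⊢
    rw [c24] at d1 d4
    have : k ≤ 4 := by
      by_contra r
      exact absurd ((pow_dvd_pow 2 (by omega : 5 ≤ k)).trans d1) (by decide)
    interval_cases k <;> omega
  have d8 := n16.2.trans (card_dvd_of_le PL)
  have dG := card_subgroup_dvd_card L
  have q8 : Fintype.card F = 8 := by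
    rcases h4 with ⟨r, -⟩ | ⟨n, h, r⟩
    · exfalso
      obtain ⟨c, hc⟩ := d8
      rw [hc, Nat.gcd_eq_left (by omega)] at cL
      obtain ⟨k, hk⟩ : ∃ k, Fintype.card F = 8 * k + 3 ∨ Fintype.card F = 8 * k + 5 := ⟨Fintype.card F / 8, by omega⟩
      rcases hk with hk | hk <;> rw [hk] at cL <;> simp only [Nat.add_succ_sub_one] at cL <;> ring_nf at cL <;> omega
    · obtain ⟨n, rfl⟩ := Nat.exists_eq_add_of_le' h
      rw [r, show Nat.gcd 2 (2 ^ (n + 2) - 1) = 1 from Nat.coprime_two_left.2 (Nat.Even.sub_odd Nat.one_le_two_pow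
        (by simp [pow_succ, parity_simps]) odd_one), one_mul] at cL
      rcases n with _ | _ | n
      · rw [cL] at d8; exact absurd d8 (by decide)
      · exact r
      · exact absurd (((by rw [pow_add]; exact dvd_mul_left _ _ : 2 ^ 4 ∣ 2 ^ (n + 4)).trans
          (cL ▸ (dvd_mul_right _ _).mul_right _)).trans dG) n16.1
  rw [q8] at cL
  have cA := S0813.result (F := F) 2 3 (by decide) q8 2 le_rfl (by decide)
  rw [card_PGL2, Nat.card_eq_fintype_card (α := F), q8] at cA
  let ρ : G →* MulAut (Matrix.ProjectiveSpecialLinearGroup (Fin 2) F) :=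
    (MulAut.congr f).toMonoidHom.comp MulAut.conjNormal
  have hρ : Function.Injective ρ := (MulAut.congr f).injective.comp ((injective_iff_map_eq_one _).2 fun g hg =>
    mem_bot.1 (h3 ▸ mem_cent.2 fun y hy => by
      have := congrArg Subtype.val (DFunLike.congr_fun hg ⟨y, hy⟩)
      simp only [MulAut.conjNormal_apply, MulAut.one_apply, mul_inv_eq_iff_eq_mul] at this
      exact this.symm))
  refine ⟨F, i1, i2, q8, ⟨.ofBijective ρ (hρ.bijective_of_nat_card_le ?_)⟩⟩
  have d := card_dvd_of_injective ρ hρ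
  have hne : Nat.card G ≠ #L := fun r => by
    have tp := eq_top_of_card_eq L r.symm
    obtain ⟨x, hx⟩ := F2
    obtain ⟨x, rfl⟩ := e.surjective x
    have := psl_sq (F := F) (by
      by_contra n
      have := Classical.two_ne_zero_iff_odd.1 n
      rw [Nat.card_eq_fintype_card, q8] at this
      exact absurd this (by decide)) (u := f ⟨J, JL⟩) (x := f ⟨x, tp ▸ mem_top _⟩)
      (by rw [f.orderOf_eq, ← orderOf_coe, J2]) (mem_cent1.2 (by
        rw [← map_mul, ← map_mul]; exact congrArg f (Subtype.ext (mem_cent1.1 x.2))))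
    rw [← map_mul, map_eq_one_iff f f.injective] at this
    exact hx (by rw [← map_mul, map_eq_one_iff e e.injective]; simpa [Subtype.ext_iff] using this)
  obtain ⟨c, hc⟩ := dG
  norm_num only [one_mul, if_true] at cL cA
  rw [cA, hc, cL] at d ⊢
  rw [hc, cL] at hne
  have := (Nat.dvd_prime Nat.prime_three).1 (Nat.dvd_of_mul_dvd_mul_left (by decide : 0 < 504) d)
  omega

open Subgroup Cfsg.Agent.BG Cfsg.Agent.AB Cfsg.Agent.Invol in

/-- Let G be a finite non-solvable group with no normal subgroup of index 2, and J an involution lying in the centre of a Sylow 2-subgroup of G whose centralizer is the internal direct product of ⟨J⟩ with a subgroup isomorphic to the alternating group of degree m. Then either m = 4 and G is isomorphic to the automorphism group PΓL(2, 8) of PSL(2, 8), or m = 5 and G is isomorphic to the first Janko group. -/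
theorem result {G : Type*} [Group G] [Finite G] (hns : ¬ Group.IsSolvable G) (h2 : ∀ N : Subgroup G, N.Normal → N.index ≠ 2)
    (J : G) (hJ : Cfsg.IsTwoCentralInvolution J) (m : ℕ) (T : Subgroup G)
    (hT : Nonempty (↥T ≃* ↥(alternatingGroup (Fin m))))
    (hd : Cfsg.IsInternalDirectProduct (Subgroup.zpowers J) T (Subgroup.centralizer ({J} : Set G))) :
    (m = 4 ∧ ∃ (F : Type) (_ : Field F) (_ : Fintype F), Fintype.card F = 8 ∧
        Nonempty (G ≃* MulAut (Matrix.ProjectiveSpecialLinearGroup (Fin 2) F))) ∨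
      (m = 5 ∧ Cfsg.Spor.IsoJ1 G) := by
  have hG : ∀ H : Subgroup G, H.index ≠ 2 := fun H h => h2 H (normal_of_index_eq_two h) h
  obtain ⟨f⟩ := hT
  have dp : Dprod (zpowers J) T C1[J] := ⟨hd.2.2.2.2, le_cent_iff.2 fun a ha b hb => (hd.2.2.1 b hb a ha).symm,
    hd.2.2.2.1⟩
  obtain ⟨e⟩ := prod_equiv hJ.1 dp
  replace e := e.trans ((MulEquiv.refl _).prodCongr f)
  have JT : J ∉ T := fun h => ne_one_of hJ.1 (mem_bot.1 (dp.inf ▸ mem_inf.2 ⟨mem_zpowers J, h⟩))
  have ix : T.relIndex C1[J] = 2 := by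
    have := dp.card
    rw [Nat.card_zpowers, hJ.1, ← card_mul_relIndex dp.ler, mul_comm] at this
    exact (Nat.eq_of_mul_eq_mul_left Nat.card_pos this).symm
  have th : ∀ u : G, orderOf u = 2 → ∃ v : T, IsConj u v := fun u hu => by
    obtain ⟨-, P, JP, hP⟩ := hJ
    have PC : (P : Subgroup G) ≤ C1[J] := fun x hx => mem_cent1.2 (hP x hx)
    obtain ⟨a, ha⟩ := exists_conj_invol_mem_sylow (mul_self_of hu) P
    obtain ⟨g, -, hg⟩ := thompson_transfer hG P (Q := T) (relIndex_eq_two_iff.2 ⟨J, JP, fun b hb => by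
      rw [mul_mem_iff_of_relIndex_two ix (PC hb) (PC JP)]; tauto⟩)
      (mul_self_of ((Invol.orderOf_conj' a u).trans hu)) ha
    exact ⟨⟨_, hg⟩, isConj_iff.2 ⟨g * a, by group⟩⟩
  have sq : ∀ u : G, orderOf u = 2 → ∀ v : T, IsConj u v → f v * f v = 1 ∧ f v ≠ 1 := fun u hu v h => by
    obtain ⟨g, hg⟩ := isConj_iff.1 h
    have : orderOf (f v) = 2 := by rw [f.orderOf_eq, ← orderOf_coe, ← hg, Invol.orderOf_conj', hu]
    exact ⟨mul_self_of this, ne_one_of this⟩
  obtain ⟨t, ht⟩ := th J hJ.1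
  obtain ⟨t1, t2⟩ := sq J hJ.1 t ht
  rcases Nat.lt_or_ge m 6 with m6 | m6
  · rcases Nat.lt_or_ge m 4 with m4 | m4
    · exact absurd (F6 m (by omega) _ t1) t2
    interval_cases m
    · refine .inl ⟨rfl, four hns hJ e fun u hu => ?_⟩
      obtain ⟨v, hv⟩ := th u hu
      obtain ⟨g, hg⟩ := F4 _ _ t1 t2 (sq u hu v hv).1 (sq u hu v hv).2
      obtain ⟨g, rfl⟩ := f.surjective g
      rw [← map_inv, ← map_mul, ← map_mul, f.apply_eq_iff_eq] at hg
      exact (ht.trans (isConj_iff.2 ⟨g, congrArg Subtype.val hg⟩)).trans hv.symm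
    · exact .inr ⟨rfl, isoJ1_of hG hJ e⟩
  obtain ⟨g, hg⟩ := isConj_iff.1 ht.symm
  let ψ : alternatingGroup (Fin m) →* G := (MulAut.conj g).toMonoidHom.comp (T.subtype.comp f.symm.toMonoidHom)
  have k := alt_mem (by simpa using m6) (congrArg Subtype.val t1) (K := (T.comap ψ).map (alternatingGroup _).subtype)
    (fun x hx xt => ⟨⟨x, hx⟩ * ⟨x, hx⟩, ?_, rfl⟩) _ (f t) rfl (f t).2 fun a => .inr rfl
  · obtain ⟨y, hy, r⟩ := k
    obtain rfl : y = f t := Subtype.ext r
    exact absurd (by simpa [ψ, hg] using hy) JT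
  · have : ψ ⟨x, hx⟩ ∈ C1[J] := mem_cent1.2 (by
      rw [show J = ψ (f t) by simp [ψ, hg], ← map_mul, ← map_mul]; exact congrArg ψ (Subtype.ext xt))
    exact mem_comap.2 (by rw [map_mul, mul_mem_iff_of_relIndex_two ix this this])

end Cfsg.Agent.S3285
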