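import Cfsg.Statements.S3286
import Cfsg.Agent.M12R.Main

set_option autoImplicit false
open Cfsg

namespace Cfsg.Agent.S3286

open Cfsg.Agent.M12R Subgroup

/-- Let G be a non-abelian finite simple group containing an involution whose centralizer is isomorphic to the centralizer, in the Mathieu group M₁₂, of an involution lying in the centre of a Sylow 2-subgroup of M₁₂. Then G is isomorphic to M₁₂. -/
theorem result {G : Type*} [Group G] [Finite G] [IsSimpleGroup G] (hG : ¬ IsMulCommutative G)
    (u : ↥Cfsg.Spor.M12) (hu : Cfsg.IsTwoCentralInvolution u)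
    (t : G) (ht : orderOf t = 2) (e : ↥(Subgroup.centralizer ({t} : Set G)) ≃* ↥(Subgroup.centralizer ({u} : Set ↥Cfsg.Spor.M12))) :
    Cfsg.Spor.IsoM12 G := by
  obtain ⟨a, b, c, d, x, s, z, L⟩ := exists_loc12
  obtain ⟨g, hg⟩ := isConj_iff.1 (L.conj_of_central (by rw [Golay.card_M12]; decide) hu)
  have f : centralizer ({z} : Set Cfsg.Spor.M12) ≃* centralizer ({u} : Set Cfsg.Spor.M12) :=
    ((centralizer {z}).equivMapOfInjective _ (MulAut.conj g).injective).trans
      (MulEquiv.subgroupCongr (hg ▸ Comp.map_conj_centralizer g z))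
  obtain ⟨a, b, c, d, x, s, L'⟩ := L.map (Invol.ne_one_of ht) (f.trans e.symm)
  exact L'.iso_of_simple hG

end Cfsg.Agent.S3286
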