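import Cfsg.Statements.S3287
import Cfsg.Agent.GW.Psl
import Cfsg.Agent.GW.Main
import Cfsg.Agent.Sig.FStar
import Cfsg.Agent.S0253
import Cfsg.Agent.S0255

set_option autoImplicit false
open Cfsg

namespace Cfsg.Agent.S3287

open Subgroup Cfsg.Agent.BG Cfsg.Agent.Classical Cfsg.Agent.GW

/-- Let G be a finite simple group whose Sylow 2-subgroups are dihedral, and suppose the centralizer of some involution of G is properly contained in a subgroup whose generalized Fitting subgroup equals its Fitting subgroup (a subgroup without components). Then G is isomorphic to the alternating group of degree 5 or 7, to PSL(3, 2), or to PSL(2, 9). -/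
theorem result {G : Type*} [Group G] [Finite G] [IsSimpleGroup G] (S : Sylow 2 G) (m : ℕ) (eS : ↥(S : Subgroup G) ≃* DihedralGroup m)
    (t : G) (ht : orderOf t = 2) (K : Subgroup G) (hlt : Subgroup.centralizer ({t} : Set G) < K)
    (hK : Cfsg.generalizedFittingSubgroup ↥K = Cfsg.fittingSubgroup ↥K) :
    Nonempty (G ≃* ↥(alternatingGroup (Fin 5))) ∨ Nonempty (G ≃* ↥(alternatingGroup (Fin 7))) ∨
      (∃ (F : Type) (_ : Field F) (_ : Fintype F), Fintype.card F = 2 ∧ Nonempty (G ≃* Matrix.ProjectiveSpecialLinearGroup (Fin 3) F)) ∨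
      (∃ (F : Type) (_ : Field F) (_ : Fintype F), Fintype.card F = 9 ∧ Nonempty (G ≃* Matrix.ProjectiveSpecialLinearGroup (Fin 2) F)) := by
  rcases gw_simple (dihSyl_of_not_sol S eS fun hs => hlt.not_ge fun x _ =>
    mem_cent1.2 (IsSimpleGroup.comm_iff_isSolvable.2 hs x t)) with ⟨q, F, _, _, rfl, ho, h3, ⟨e⟩⟩ | h
  swap
  · exact .inr (.inl h)
  have hq := Nat.card_eq_fintype_card (α := F)
  have h2 := two_ne_zero_iff_odd.2 (hq ▸ ho)
  let f := (pslι F).comp e.toMonoidHom
  have hf : Function.Injective f := pslInj.comp e.injective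
  obtain ⟨p, hp, h0⟩ : ∃ p : ℕ, p.Prime ∧ Op p K ≠ ⊥ := by
    by_contra! k
    have := (map_eq_bot_iff_of_injective _ K.subtype_injective).1
      (le_bot_iff.1 (Fitting_le_of_pcore fun p hp _ => (k p hp).le))
    have r := Sig.centralizer_fstar_le (G := K)
    rw [hK, this] at r
    exact Invol.ne_one_of ht (congrArg Subtype.val (r (x := ⟨t, hlt.le (cent1_self t)⟩) (by simp)))
  have := Fact.mk hp
  obtain ⟨g, gK, gt⟩ := SetLike.exists_of_lt hlt
  have t2 := (orderOf_injective f hf t).trans ht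
  obtain ⟨u, hu, tu⟩ := exists_tor_invol h2 t2
  have n : ∀ g ∈ K, f g ∈ N[(Op p K).map f] := fun g hg =>
    le_normalizer_map f (mem_map_of_mem f ((pcore_normal _ K).norm hg))
  have := Nat.le_of_dvd (by simp) (hu.dvd_eight h2 (hq ▸ h3) tu t2 ⟨_, rfl⟩ ((Op_pgroup p K).map f)
    (by rwa [Ne, map_eq_bot_iff_of_injective _ hf]) (by
      rintro _ ⟨⟨x, rfl⟩, hx⟩
      obtain ⟨x, rfl⟩ := e.surjective x
      exact n x (hlt.le (mem_cent1.2 (hf (by simpa [f] using mem_cent1.1 hx)))))
    (n g gK) fun c => gt (mem_cent1.2 (hf (by simpa using c.eq))))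
  obtain ⟨o, o4⟩ := hu.ord_inner h2 tu t2 ⟨_, rfl⟩
  rw [hq, qm] at o
  rcases (by split_ifs at o <;> omega : Fintype.card F = 5 ∨ Fintype.card F = 7 ∨ Fintype.card F = 9) with r | r | r
  · exact .inl (isog_trans ⟨e⟩ (S0253.result r))
  · exact .inr (.inr (.inl ⟨ZMod 2, inferInstance, inferInstance, rfl, isog_trans ⟨e⟩ (S0255.result r rfl)⟩))
  · exact .inr (.inr (.inr ⟨F, _, _, r, ⟨e⟩⟩))

end Cfsg.Agent.S3287
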