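import Cfsg.Statements.S3289
import Cfsg.Agent.SCl.Q
import Mathlib.Tactic.Group

set_option autoImplicit false
open Cfsg

namespace Cfsg.Agent.S3289
open scoped commutatorElement

open Subgroup Cfsg.Agent.BG Cfsg.Agent.Gold Cfsg.Agent.ZD Cfsg.Agent.Invol Cfsg.Agent.ThA Cfsg.Agent.SCl

/-- Let T be a Sylow 2-subgroup of a finite group G and S a nontrivial subgroup of T strongly closed in T with respect to G. Suppose a proper subgroup H of G contains the centralizer of every non-identity element of S and the normalizer of the subgroup generated by the involutions of S. Then, writing X for the normal closure of S, the subgroup H ∩ X is strongly embedded in X, and S equals T ∩ X or the subgroup generated by the involutions of T ∩ X; if moreover S has 2-rank 1, then S = T ∩ X. -/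
theorem result {G : Type*} [Group G] [Finite G] (T : Sylow 2 G) (S : Subgroup G) (hS : S ≠ ⊥)
    (hsc : Cfsg.IsStronglyClosed S (T : Subgroup G)) (H : Subgroup G) (hH : H ≠ ⊤)
    (hC : ∀ s ∈ S, s ≠ 1 → Subgroup.centralizer ({s} : Set G) ≤ H)
    (hN : Subgroup.normalizer ((Cfsg.omegaOne 2 S : Subgroup G) : Set G) ≤ H) :
    Cfsg.IsStronglyEmbedded ((H ⊓ Subgroup.normalClosure (S : Set G)).subgroupOf (Subgroup.normalClosure (S : Set G))) ∧
      (S = (T : Subgroup G) ⊓ Subgroup.normalClosure (S : Set G) ∨ S = Cfsg.omegaOne 2 ((T : Subgroup G) ⊓ Subgroup.normalClosure (S : Set G))) ∧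
      (Cfsg.PRankLE 2 1 ↥S → S = (T : Subgroup G) ⊓ Subgroup.normalClosure (S : Set G)) := by
  have hT := sylowIn_top T
  have hB := cl_of_sylow hT hsc
  have pc := pc_of_closed hT hsc hC ((norms_Ohm 2 le_rfl).trans hN)
  have k : ∀ x ∈ S, orderOf x = 2 → x ∈ ZI S := fun x h1 h2 => ⟨h2, 1, by simpa⟩
  have SH : S ≤ H := (normG S).trans ((norms_Ohm 2 le_rfl).trans hN)
  have uh : UH S H := ⟨SH, hH, fun z hz z2 g e =>
    SE.smul_pt.1 (pc.eq_of_conj (k z hz z2) (SE.smul_pt.2 (SH hz)) (SE.smul_pt.2 e))⟩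
  obtain ⟨z, hz, z2, zc⟩ := exists_central hB.pg hS
  have r1 : ¬ SE.Rank2 S → (T : Subgroup G) ⊓ ncl ⊤ S ≤ S := fun r => rank1 hT hB hsc.1 fun x hx y hy x2 y2 => by
    have : ∀ x ∈ S, orderOf x = 2 → x = z := fun x hx x2 => by_contra fun e =>
      r ⟨x, hx, z, hz, x2, z2, e, mem_cent.1 zc x hx⟩
    rw [this x hx x2, this y hy y2]
  have con : Con S T := by
    by_cases r : SE.Rank2 S
    exacts [r2 uh hT hsc r, .inl (r1 r)]
  rw [← ncl_top]
  have nX := Gold.ncl_normal (le_top : S ≤ ⊤)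
  have l : S ≤ (T : Subgroup G) ⊓ ncl ⊤ S := le_inf hsc.1 (le_ncl ⊤ S)
  refine ⟨?_, con.imp (fun e => l.antisymm e) fun e => le_antisymm (fun s hs => mem_Ohm1 (l hs) (pow_two s ▸ e.1 s hs))
    (Ohm1_le_iff.2 fun x hx xx => e.2 x hx (pow_two x ▸ xx)), fun r => l.antisymm (r1 ?_)⟩
  · have kX : ∀ t : ncl ⊤ S, orderOf t = 2 → (t : G) ∈ ZI S := fun t ht => by
      rw [← orderOf_coe] at ht
      obtain ⟨g, -, hg⟩ := Sylow_Jsub hT le_top (GW.pg_invol (mul_self_of ht))
      have m : g * t * g⁻¹ ∈ (T : Subgroup G) ⊓ ncl ⊤ S :=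
        ⟨hg (conj_mem_cj g (mem_zpowers _)), nX.conj_mem (mem_top g) t.2⟩
      exact ⟨ht, g⁻¹, mem_cj_inv.2 (con.elim (fun e => e m) fun e => e.2 _ m (mul_self_of (SE.conj_two ht g)))⟩
    obtain ⟨g, hg⟩ : ∃ g, g ∉ H := by_contra fun e => hH (eq_top_iff.2 fun g _ => by_contra fun r => e ⟨g, r⟩)
    have := SE.One.se (G := ncl ⊤ S) (Ω := G ⧸ H) ⟨fun t ht => pc.ex t (kX t ht), fun t ht => pc.uniq t (kX t ht)⟩
      (t := ⟨z, le_ncl ⊤ S hz⟩) (g := ⟨_, nX.conj_mem (mem_top g) (le_ncl ⊤ S hz)⟩) (a := SE.pt H)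
      (by rw [← orderOf_coe]; exact z2) (SE.smul_pt.2 (SH hz)) fun e => hg (uh.uq z hz z2 g (SE.smul_pt.1 e))
    rw [inf_subgroupOf_right]
    convert this using 1
    ext x
    exact (SE.smul_pt (H := H) (x := (x : G))).symm
  · rintro ⟨x, hx, y, hy, x2, y2, ne, hc⟩
    obtain ⟨h1, h2⟩ := four_of (t := (⟨x, hx⟩ : S)) (z := ⟨y, hy⟩) (by rw [← orderOf_coe]; exact x2)
      (by rw [← orderOf_coe]; exact y2) (fun e => ne (congrArg Subtype.val e)) (mem_cent1.2 (Subtype.ext hc.eq))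
    have := r _ h1.1 h1.2
    omega

end Cfsg.Agent.S3289
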