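import Cfsg.Statements.S3297
import Cfsg.Agent.Loc.GSz4
import Cfsg.Agent.Gold.All
import Cfsg.Agent.Gold.KA
import Cfsg.Agent.SE.Bender2

set_option autoImplicit false
open Cfsg

namespace Cfsg.Agent.S3297

section helpers
open Cfsg.Agent.Loc Subgroup
open scoped commutatorElement

theorem mem_smul_syl {G : Type*} [Group G] {p : ℕ} {P : Sylow p G} {g x : G} :
    x ∈ ((g • P : Sylow p G) : Subgroup G) ↔ g⁻¹ * x * g ∈ (P : Subgroup G) := by
  rw [Sylow.coe_subgroup_smul, mem_pointwise_smul_iff_inv_smul_mem]; simp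

theorem two {G : Type*} [Group G] [Finite G] (hcore : Cfsg.pPrimeCore 2 G = ⊥) (P : Sylow 2 G) (h : GH P)
    (hnn : ¬ (P : Subgroup G).Normal)
    (hd : ¬ (Cfsg.IsElementaryAbelian 2 (P : Subgroup G) ∧
      ∀ x ∈ (P : Subgroup G), ∀ y ∈ (P : Subgroup G), x ≠ 1 → y ≠ 1 → ∃ g : G, g * x * g⁻¹ = y)) :
    Cfsg.Lie.IsoSuzuki G := by
  obtain ⟨K, _, hK, hs, hnp, -, hz, -⟩ := h.red hcore hnn
  have hP : (P.subtype hK : Subgroup K) ≠ ⊥ := fun e => hz (le_bot_iff.1 (e ▸ Zs_le))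
  have hna : ¬ IsMulCommutative K := fun hc => hnp (by
    have := (hs.eq_bot_or_eq_top_of_normal (P.subtype hK) ⟨fun a ha g => by
      rwa [mul_comm' g, mul_inv_cancel_right]⟩).resolve_left hP
    exact (this ▸ (P.subtype hK).isPGroup').of_equiv topEquiv)
  have kn := Gold.kn_of_closed hna (P.subtype hK) hz ⟨⟨fun a b => Subtype.ext (a.2.2.2 b b.2.1)⟩⟩
    ⟨Zs_le, fun x hx g hg => (h.sub hK).closed hx hg (isConj_iff.2 ⟨g, rfl⟩)⟩
  have nab : ¬ ∀ Q : Subgroup K, IsPGroup 2 Q → IsMulCommutative Q := fun hab => hd (by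
    obtain ⟨k1, k2⟩ := kn.elem hna hab
    have sq : ∀ x ∈ (P : Subgroup G), x * x = 1 := fun x hx => congrArg Subtype.val
      (k1 ⟨x, hK hx⟩ ((P.subtype hK).isPGroup'.to_le (zpowers_le.2 hx)))
    refine ⟨⟨⟨⟨fun a b => Subtype.ext (congrArg (fun c : K => (c : G)) (BG.IsMulCommutative.comm
      (hab _ (P.subtype hK).isPGroup') (x := ⟨a, hK a.2⟩) (y := ⟨b, hK b.2⟩) a.2 b.2))⟩⟩,
      fun a ha => (pow_two a).trans (sq a ha)⟩, fun x hx y hy x1 y1 => ?_⟩
    obtain ⟨g, hg⟩ := isConj_iff.1 (k2 ⟨x, hK hx⟩ ⟨y, hK hy⟩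
      ((orderOf_coe _).symm.trans (Invol.orderOf_two_iff.2 ⟨sq x hx, x1⟩))
      ((orderOf_coe _).symm.trans (Invol.orderOf_two_iff.2 ⟨sq y hy, y1⟩)))
    exact ⟨g, congrArg Subtype.val hg⟩)
  have ab : ∀ V : Subgroup K, BG.SylowIn 2 V ⊤ → ¬ IsMulCommutative V := fun V hV hc => nab fun Q hQ => by
    obtain ⟨g, hg⟩ := BG.Sylow_subJ hV le_top hQ
    exact BG.abelianS hg.2 (BG.abelian_cj g hc)
  obtain ⟨M, hM⟩ | ⟨V, h1, -, h2⟩ | ⟨V, h1, -, h2, -⟩ := kn
  rotate_left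
  · exact absurd h1.1 (ab V h2)
  · exact absurd h1.1 (ab V h2)
  obtain ⟨t0, Q0, h0⟩ := SE.bender_simple (SE.exists_not_comm hna) hM
  obtain ⟨S, rfl⟩ := h0.exists_sylow
  have ti : ∀ u ∈ (P : Subgroup G), u ≠ 1 → ∀ g : G, Commute g u → g ∈ normalizer ((P : Subgroup G) : Set G) := by
    intro u hu u1 g hg
    have hK' : ((g • P : Sylow 2 G) : Subgroup G) ≤ K := fun x hx => by
      simpa [mul_assoc] using ‹K.Normal›.conj_mem _ (hK (mem_smul_syl.1 hx)) g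
    obtain ⟨k, hk⟩ := MulAction.exists_smul_eq K S (P.subtype hK)
    obtain ⟨k', hk'⟩ := MulAction.exists_smul_eq K S ((g • P).subtype hK')
    have m1 : k⁻¹ * ⟨u, hK hu⟩ * k ∈ (S : Subgroup K) := mem_smul_syl.1 (hk ▸ hu)
    have m2 : k'⁻¹ * ⟨u, hK hu⟩ * k' ∈ (S : Subgroup K) := mem_smul_syl.1 (hk' ▸ mem_smul_syl.2 (show g⁻¹ * u * g ∈ _ by
      rwa [mul_assoc, ← hg.eq, inv_mul_cancel_left]))
    have m3 := Rank1.Setup.mem_H_of_conj h0.setup (g := k'⁻¹ * k) m1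
      (fun e => u1 (congrArg Subtype.val (show (⟨u, hK hu⟩ : K) = 1 by
        rwa [mul_assoc, inv_mul_eq_one, right_eq_mul] at e)))
      (by convert MulAction.mem_stabilizer_iff.1 (h0.setup.le m2) using 2; group)
    have m4 := Sylow.smul_eq_iff_mem_normalizer.2 (h0.norm_Q.ge m3)
    rw [mul_smul, inv_smul_eq_iff, hk, hk'] at m4
    exact Sylow.smul_eq_iff_mem_normalizer.1 (Sylow.subtype_injective m4).symm
  have se := AB.se_of_cent (BG.sylowIn_top P) (H := normalizer ((P : Subgroup G) : Set G))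
    (fun e => hnn (normalizer_eq_top_iff.1 e)) le_rfl (fun e => hP (by simp [e]))
    fun u hu ho g hg => ti u hu (Invol.ne_one_of ho) g (mem_centralizer_singleton_iff.1 hg)
  obtain ⟨x, -, y, -, hx, hy, hne, hc⟩ := SE.rank2_simple (SE.exists_not_comm hna) (SE.se_even hM)
  obtain ⟨_, t, Q, hQ⟩ := SE.bender se ⟨x, trivial, y, trivial, (orderOf_coe x).trans hx, (orderOf_coe y).trans hy,
    fun e => hne (Subtype.ext e), hc.map K.subtype⟩ hcore
  obtain rfl : Q = P := P.is_maximal' hQ.tri.1 fun x hx => let ⟨n, hn⟩ := P.isPGroup' ⟨x, hx⟩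
    Rank1.Setup.mem_Q_of_pow hQ.setup (SE.smul_pt.2 (le_normalizer hx)) (n := n) (congrArg Subtype.val hn)
  have hV : Suz.Vg (SE.pt (normalizer ((P : Subgroup G) : Set G))) t = ⊥ := eq_bot_iff.2 fun v hv => by
    obtain ⟨s, r, a1, a2, a3, a4⟩ := Rank1.Setup.exists_struct hQ.setup
    have hv := Suz.mem_Vg.1 hv
    have ho := Rank1.Setup.odd_orderOf hQ.setup hv.1
    exact hQ.eq_one_of_odd ho fun x hx => h.fpf (SE.smul_pt.1 hv.1.1) (Nat.two_dvd_ne_zero.2 (Nat.odd_iff.1 ho)) a1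
      (Invol.ne_one_of a2) (Rank1.Setup.commute_struct hQ.setup (hQ.setup.le a1) a2 a3 a4 hv.1.1 hv.2).1 hx
  have e0 : G ≃* Suz.Lg t P := topEquiv.symm.trans (MulEquiv.subgroupCongr (hQ.Lg_eq_top_of_V (hV ▸ bot_le)).symm)
  obtain ⟨h2, ⟨-, he⟩ | ⟨h3, hc, hq⟩ | ⟨-, -, w, hw, x, -, hwx⟩⟩ := hQ.tri
  · exact absurd ⟨⟨fun a b => Subtype.ext (Subtype.ext (by
      have := he _ (mul_mem a.2 b.2)
      rw [mul_eq_one_iff_eq_inv, mul_inv_rev, inv_eq_of_mul_eq_one_right (he _ a.2),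
        inv_eq_of_mul_eq_one_right (he _ b.2)] at this
      exact this))⟩⟩ (ab _ (BG.sylowIn_top (P.subtype hK)))
  · obtain ⟨F, i1, i2, m, hm, hF, -, ⟨e⟩⟩ := hQ.idB h2 h3 hc hq
    exact ⟨F, i1, i2, m, hm, hF, ⟨e0.trans e⟩⟩
  · exact absurd (mem_bot.1 (hV ▸ hQ.W_le_V hw) ▸ Commute.one_left x) hwx

end helpers

/-- Let p be a prime and P a Sylow p-subgroup of a finite group G with no nontrivial normal subgroup of order prime to p, with P not normal in G. Suppose (a) two elements of P are conjugate in G only if they are conjugate in N_G(P); (b) the centralizer of every element of order p of P has a normal p-complement; (c) every two elements of order p of G generate a p-solvable subgroup; (d) it is not the case that p = 2 and P is elementary abelian with all its nonidentity elements conjugate in G. Then p = 2 and G is isomorphic to a Suzuki group Sz(q), q = 2^(2m+1) ≥ 8. -/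
theorem result {G : Type*} [Group G] [Finite G] {p : ℕ} [Fact p.Prime] (hcore : Cfsg.pPrimeCore p G = ⊥) (P : Sylow p G)
    (hnn : ¬ (P : Subgroup G).Normal)
    (ha : ∀ x ∈ (P : Subgroup G), ∀ y ∈ (P : Subgroup G), (∃ g : G, g * x * g⁻¹ = y) →
      ∃ n ∈ Subgroup.normalizer ((P : Subgroup G) : Set G), n * x * n⁻¹ = y)
    (hb : ∀ x ∈ (P : Subgroup G), orderOf x = p → Cfsg.HasNormalPComplement p ↥(Subgroup.centralizer ({x} : Set G)))
    (hc : ∀ x y : G, orderOf x = p → orderOf y = p → Cfsg.IsPSolvable p ↥(Subgroup.closure ({x, y} : Set G)))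
    (hd : ¬ (p = 2 ∧ Cfsg.IsElementaryAbelian 2 (P : Subgroup G) ∧
      ∀ x ∈ (P : Subgroup G), ∀ y ∈ (P : Subgroup G), x ≠ 1 → y ≠ 1 → ∃ g : G, g * x * g⁻¹ = y)) :
    p = 2 ∧ Cfsg.Lie.IsoSuzuki G := by
  open Cfsg.Agent.Loc Subgroup in
  open scoped commutatorElement in
  obtain rfl : p = 2 := by_contra fun hp2 => hnn ((GH.mk ha hb).normal_of_odd hp2 hcore hc)
  exact ⟨rfl, two hcore P ⟨ha, hb⟩ hnn fun h => hd ⟨rfl, h⟩⟩

end Cfsg.Agent.S3297
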