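import Cfsg.Statements.S3306
import Cfsg.Agent.S2775
import Cfsg.Agent.LieM.Gold9
import Cfsg.Agent.S3303
import Mathlib.Tactic.Group

set_option autoImplicit false
open Cfsg

namespace Cfsg.Agent.S3306
open scoped commutatorElement

open Subgroup Cfsg.Agent.BG Cfsg.Agent.LieM Cfsg.Agent.Invol

theorem exists_odd {X : Type*} [Group X] [Finite X] (h : ¬ IsPGroup 2 X) : ∃ g : X, g ≠ 1 ∧ Odd (orderOf g) := by
  obtain ⟨q, hq, hd, hq2⟩ : ∃ q, q.Prime ∧ q ∣ Nat.card X ∧ q ≠ 2 := by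
    by_contra! hc
    exact h (IsPGroup.of_card (Nat.eq_prime_pow_of_unique_prime_dvd Nat.card_pos.ne' fun hp hd => hc _ hp hd))
  haveI := Fact.mk hq
  obtain ⟨g, hg⟩ := exists_prime_orderOf_dvd_card' q hd
  exact ⟨g, fun e => hq.one_lt.ne (by rw [← hg, e, orderOf_one]), hg ▸ hq.odd_of_ne_two hq2⟩

theorem core {X : Type*} [Group X] [Finite X] (hns : ¬ Group.IsSolvable X)
    (hC : ∀ S T : Sylow 2 X, S ≠ T → IsCyclic ↥((S : Subgroup X) ⊓ (T : Subgroup X))) (hO : pPrimeCore 2 X = ⊥)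
    (N : Subgroup X) [N.Normal] (hN : Group.IsSolvable N) : IsCyclic N ∧ IsPGroup 2 N ∧ N ≤ center X := by
  obtain ⟨-, S, T, hST⟩ := S3303.two (X := X) fun ⟨P, hP⟩ => hns (by
    haveI := pgroup_sol P.isPGroup'
    haveI : Group.IsSolvable (X ⧸ (P : Subgroup X)) := isog_sol ⟨topEquiv⟩ (SE.sol_of_odd (by
      rw [card_top, ← index_eq_card]; exact Nat.odd_iff.2 (Nat.two_dvd_ne_zero.1 P.not_dvd_index)))
    exact Group.isSolvable_of_ker_le_range (P : Subgroup X).subtype (QuotientGroup.mk' (P : Subgroup X)) (by simp))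
  haveI := hC S T hST
  have hc : IsCyclic (pCore 2 X) := isCyclic_of_le (le_inf (Solv.pCore_le_sylow S) (Solv.pCore_le_sylow T))
  obtain ⟨z, hz⟩ := (Subgroup.isCyclic_iff_exists_zpowers_eq_top _).1 hc
  have ho : ∀ g, Odd (orderOf g) → g ∈ C[pCore 2 X] := fun g hg => by
    have hz' : z ∈ pCore 2 X := hz ▸ mem_zpowers z
    obtain ⟨n, hn⟩ := Solv.isPGroup_pCore 2 X ⟨z, hz'⟩
    have := conj_eq_of_odd_of_mem_zpowers hg (congrArg Subtype.val hn) (hz.ge (Normal.conj_mem inferInstance z hz' g))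
    rw [← hz, C_zpowers]
    exact mem_cent1.2 (mul_inv_eq_iff_eq_mul.1 this)
  have hm : ∀ N : Subgroup X, N.Normal → Group.IsSolvable N → N ≤ pCore 2 X := fun N _ _ => Solv.le_pCore (by
    by_contra h
    obtain ⟨g, g1, hg⟩ := exists_odd h
    have h1 : g ∈ pCore 2 N := Solv.centralizer_pCore_le ((Subgroup.map_eq_bot_iff_of_injective _ N.subtype_injective).1
      (le_bot_iff.1 ((Solv.map_subtype_pPrimeCore_le N).trans hO.le))) fun y hy => Subtype.ext
        (mem_cent.1 (ho g (by rwa [orderOf_coe])) y (Solv.map_subtype_pCore_le N (mem_map_of_mem _ hy)))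
    obtain ⟨n, hn⟩ := pg_zpowers_iff.1 ((Solv.isPGroup_pCore 2 N).to_le (zpowers_le.2 h1))
    exact g1 (orderOf_eq_one_iff.1 (Nat.eq_one_of_dvd_coprimes ((Nat.coprime_two_right.2 hg).pow_right n) dvd_rfl hn.dvd)))
  obtain ⟨L, _, _, h1, -, h3⟩ := ci_struct @Cfsg.Agent.S2775.result hns (pCore 2 X) (pgroup_sol (Solv.isPGroup_pCore 2 X)) hm
    (ci_of_cyclic (S3305.result hC _))
  have hs := QuotientGroup.mk'_surjective (pCore 2 X)
  haveI : (C[pCore 2 X].map (QuotientGroup.mk' (pCore 2 X))).Normal := Normal.map inferInstance _ hs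
  have h4 : L ≤ C[pCore 2 X].map (QuotientGroup.mk' (pCore 2 X)) := by
    obtain ⟨g, g1, hg⟩ := exists_odd (X := L) fun h => h1 ⟨⟨IsSimpleGroup.comm_iff_isSolvable.2 (pgroup_sol h)⟩⟩
    refine subgroupOf_eq_top.1 ((IsSimpleGroup.eq_bot_or_eq_top_of_normal _ inferInstance).resolve_left
      (trivgPn.2 ⟨g, ?_, g1⟩))
    obtain ⟨x, hx, e⟩ := FG.exists_lift_piElt hs (π := {2}ᶜ) (y := g) (pnat_odd.2 (by rwa [orderOf_coe]))
    exact ⟨x, ho x (pnat_odd.1 hx), e⟩
  have h5 : C[pCore 2 X] = ⊤ := Solv.eq_top_of_forall_sylow_le fun p _ _ => by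
    obtain ⟨P⟩ : Nonempty (Sylow p X) := inferInstance
    refine ⟨P, fun x hx => ?_⟩
    rcases (Fact.out : p.Prime).eq_two_or_odd' with rfl | hp
    · obtain ⟨n, hn⟩ := P.isPGroup' ⟨x, hx⟩
      have := h4 (mem_of_norm_odd_index h3.not_two_dvd_nat (a := QuotientGroup.mk' _ x) (k := n)
        ((normalizer_eq_top L).ge trivial) (by rw [← map_pow, show x ^ 2 ^ n = 1 from congrArg Subtype.val hn, map_one]))
      rwa [← mem_comap, comap_map_eq, QuotientGroup.ker_mk', sup_eq_left.2 (abelian_iff.1 (cyclic_abelian hc))] at this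
    · obtain ⟨n, hn⟩ := pg_zpowers_iff.1 (P.isPGroup'.to_le (zpowers_le.2 hx))
      exact ho x (hn ▸ hp.pow)
  exact ⟨isCyclic_of_le (hm N ‹_› hN), (Solv.isPGroup_pCore 2 X).to_le (hm N ‹_› hN), fun x hx =>
    mem_center_iff.2 fun g => (mem_cent.1 (h5.ge (mem_top g)) x (hm N ‹_› hN hx)).symm⟩

/-- Let G be a finite nonsolvable group in which any two distinct Sylow 2-subgroups intersect in a cyclic group, and let N be a solvable normal subgroup of G. Then the image of N in G/O(G) is a cyclic 2-group contained in the centre of G/O(G) (O(G) the largest normal subgroup of odd order). In other words the solvable radical of G is V·O(G) with V a cyclic 2-group central modulo O(G). -/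
theorem result {G : Type*} [Group G] [Finite G] (hns : ¬ Group.IsSolvable G)
    (hC : ∀ S T : Sylow 2 G, S ≠ T → IsCyclic ↥((S : Subgroup G) ⊓ (T : Subgroup G)))
    (N : Subgroup G) [N.Normal] (hN : Group.IsSolvable ↥N) :
    IsCyclic ↥(N.map (QuotientGroup.mk' (Cfsg.oddCore G))) ∧ IsPGroup 2 ↥(N.map (QuotientGroup.mk' (Cfsg.oddCore G))) ∧
      N.map (QuotientGroup.mk' (Cfsg.oddCore G)) ≤ Subgroup.center (G ⧸ Cfsg.oddCore G) := by
  haveI : (N.map (QuotientGroup.mk' (oddCore G))).Normal := Normal.map inferInstance _ (QuotientGroup.mk'_surjective _)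
  refine core (fun h => hns ?_) (S3305.result hC _) (Solv.pPrimeCore_quotient_pPrimeCore 2 G) _ (solvable_map _ hN)
  haveI := SE.sol_of_odd (Block.odd_card_pPrimeCore (G := G))
  exact Group.isSolvable_of_ker_le_range (oddCore G).subtype (QuotientGroup.mk' (oddCore G)) (by simp)

end Cfsg.Agent.S3306
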