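import Cfsg.Statements.S3322
import Cfsg.Agent.SCl.DZ
import Mathlib.Tactic.Group

set_option autoImplicit false
open Cfsg

namespace Cfsg.Agent.S3322
open scoped commutatorElement

open Subgroup Cfsg.Agent.BG Cfsg.Agent.GW Cfsg.Agent.Invol Cfsg.Agent.SCl

/-- Call a group a D-group when it has a proper subgroup outside of which every element x satisfies x² = 1 (for instance a dihedral group, or an elementary abelian 2-group). Let G be a finite group with a subgroup H that is a D-group (witnessed by a proper subgroup A of H) of order divisible by 4, such that H = C_G(j) for every involution j in the centre of H. If G is not solvable, then G has a normal subgroup N whose order is odd or twice an odd number with G/N isomorphic to PSL(2, q) or PGL(2, q) for some prime power q > 3 (q may be even). -/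
theorem result
    {G : Type*} [Group G] [Finite G] (H A : Subgroup G) (hAH : A < H) (hD : ∀ x ∈ H, x ∉ A → x ^ 2 = 1)
    (h4 : 4 ∣ Nat.card ↥H)
    (hC : ∀ j ∈ H, orderOf j = 2 → (∀ h ∈ H, h * j = j * h) → Subgroup.centralizer ({j} : Set G) = H)
    (hns : ¬ Group.IsSolvable G) :
    ∃ (N : Subgroup G) (_ : N.Normal), (Odd (Nat.card ↥N) ∨ ∃ m : ℕ, Odd m ∧ Nat.card ↥N = 2 * m) ∧
      ∃ (F : Type) (_ : Field F) (_ : Fintype F), 3 < Fintype.card F ∧
        (Nonempty (G ⧸ N ≃* Matrix.ProjectiveSpecialLinearGroup (Fin 2) F) ∨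
          Nonempty (G ⧸ N ≃* Matrix.ProjGenLinGroup (Fin 2) F)) := by
  obtain ⟨w, hw, w0⟩ := SetLike.exists_of_lt hAH
  have h : DG H A := ⟨hAH.le, ⟨w, hw, w0⟩, fun x hx x0 => sq x ▸ hD x hx x0⟩
  let Z : Subgroup G :=
    { carrier := {z | z ∈ H ∧ z ∈ C[H] ∧ z * z = 1}
      mul_mem' := fun {a b} ha hb => ⟨mul_mem ha.1 hb.1, mul_mem ha.2.1 hb.2.1, by
        rw [mul_assoc, ← mul_assoc b, mem_cent.1 ha.2.1 b hb.1, mul_assoc, hb.2.2, mul_one, ha.2.2]⟩
      one_mem' := ⟨one_mem _, one_mem _, one_mul _⟩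
      inv_mem' := fun {a} ha => ⟨inv_mem ha.1, inv_mem ha.2.1, by rw [← mul_inv_rev, ha.2.2, inv_one]⟩ }
  have cen : ∀ z ∈ Z, z ≠ 1 → C1[z] = H := fun z hz z1 =>
    hC z hz.1 (orderOf_two_iff.2 ⟨hz.2.2, z1⟩) (mem_cent.1 hz.2.1)
  have uq : ∀ a ∈ A, a * a = 1 → a ∈ Z := fun a ha aa => ⟨h.le ha, h.cent ha aa, aa⟩
  have el : (∀ x ∈ H, x * x = 1) → H ≤ Z := fun r x hx => ⟨hx, mem_cent.2 fun y hy =>
    commute_of_mul_sq (r y hy) (r x hx) (r _ (mul_mem hy hx)), r x hx⟩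
  have alt : (H ≤ Z ∧ SE.Rank2 Z) ∨ (Z ≤ A ∧ Z ≠ ⊥ ∧ ∀ x ∈ H, ∀ y ∈ H, x ∉ A → y ∉ A → x * y ∈ A) := by
    by_cases r : ∀ x ∈ H, x * x = 1
    · have w2 := orderOf_two_iff.2 ⟨r w hw, fun e => w0 (e ▸ one_mem _)⟩
      obtain ⟨y, hy, y0⟩ := SetLike.not_le_iff_exists.1 fun l : H ≤ zpowers w => by
        have := h4.trans (card_dvd_of_le l)
        rw [Nat.card_zpowers, w2] at this
        omega
      exact .inl ⟨el r, w, el r hw, y, el r hy, w2, orderOf_two_iff.2 ⟨r y hy, fun e => y0 (e ▸ one_mem _)⟩,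
        fun e => y0 (e ▸ mem_zpowers w), mem_cent.1 (el r hy).2.1 w hw⟩
    have idx := h.alt.resolve_left r
    refine .inr ⟨fun z hz => by_contra fun z0 => r fun x hx => ?_, fun e => ?_, idx⟩
    · by_cases x0 : x ∈ A
      · have := h.inv hz.1 z0 x0
        rw [← mem_cent.1 hz.2.1 x hx, mul_inv_cancel_right] at this
        rw [← mul_inv_eq_one.2 this, inv_inv]
      · exact h.sq x hx x0
    have i2 : A.relIndex H = 2 := index_eq_two_iff.2 ⟨⟨w, hw⟩, fun b => by
      by_cases b0 : (b : G) ∈ A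
      · exact .inr ⟨b0, mt (A.mul_mem_cancel_left b0).1 w0⟩
      · exact .inl ⟨idx b b.2 w hw b0 w0, b0⟩⟩
    have := card_mul_relIndex h.le
    rw [i2] at this
    obtain ⟨m, hm⟩ : Odd #A := odd_card_iff.2 fun t ht t2 => ne_one_of t2 (e.le (uq t ht (mul_self_of t2)))
    omega
  obtain ⟨C, _, hc, pl⟩ := DZ.res (Z := Z) ⟨h, fun z hz => hz.1, fun z hz => hz.2.2, cen, uq, alt, fun r z hz g e => by
    rcases eq_or_ne z 1 with rfl | z1
    · simpa using Z.one_mem
    have zz : g * z * g⁻¹ * (g * z * g⁻¹) = 1 := by rw [conj_mul, hz.2.2]; simp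
    refine ⟨e, ?_, zz⟩
    have k : ∀ u ∈ Z, g⁻¹ * u * g ∈ H := fun u hu => by
      rw [← cen z hz z1]
      simpa using mem_cj.1 ((C1_conj g z).le (mem_cent1.2 (mem_cent.1 hu.2.1 _ e).symm))
    obtain ⟨u, hu, u1, r⟩ : ∃ u ∈ Z, u ≠ 1 ∧ g⁻¹ * u * g ∈ Z := by
      obtain ⟨x, hx, y, hy, x2, y2, ne, c⟩ := r
      have k2 : ∀ u ∈ Z, g⁻¹ * u * g ∈ A → g⁻¹ * u * g ∈ Z := fun u hu r => uq _ r (by
        rw [show g⁻¹ * u * g * (g⁻¹ * u * g) = g⁻¹ * (u * u) * g by group, hu.2.2]; simp)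
      obtain ⟨l, -⟩ | ⟨-, -, idx⟩ := alt
      · exact ⟨x, hx, ne_one_of x2, l (k x hx)⟩
      by_cases x0 : g⁻¹ * x * g ∈ A
      · exact ⟨x, hx, ne_one_of x2, k2 x hx x0⟩
      by_cases y0 : g⁻¹ * y * g ∈ A
      · exact ⟨y, hy, ne_one_of y2, k2 y hy y0⟩
      exact ⟨_, mul_mem hx hy, ne_one_of (orderOf_mul_of_commute (mul_self_of x2) (mul_self_of y2) c ne),
        k2 _ (mul_mem hx hy) (by simpa [mul_assoc] using idx _ (k x hx) _ (k y hy) x0 y0)⟩
    have e1 : cj g H = H := by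
      have e2 := cen _ r fun e => u1 (by simpa [mul_assoc] using congrArg (fun x => g * x * g⁻¹) e)
      rw [← e2, ← C1_conj]
      simpa [mul_assoc] using (cen u hu u1).trans e2.symm
    refine mem_cent.2 fun x hx => mem_cent1.1 ?_
    rwa [C1_conj, cen z hz z1, e1]⟩ hns
  let φ := (QuotientGroup.mk' C).comp (QuotientGroup.mk' (oddCore G))
  have sφ : Function.Surjective φ := (QuotientGroup.mk'_surjective _).comp (QuotientGroup.mk'_surjective _)
  have e := QuotientGroup.quotientKerEquivOfSurjective φ sφ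
  have ho : Odd #(oddCore G) := by
    have := odd_Op' (⊤ : Subgroup G)
    rwa [Op'_top] at this
  have k : #φ.ker = #C * #(oddCore G) := by
    have e1 := card_eq_card_quotient_mul_card_subgroup φ.ker
    rw [card_eq_card_quotient_mul_card_subgroup (oddCore G), card_eq_card_quotient_mul_card_subgroup C,
      Nat.card_congr e.toEquiv, mul_assoc] at e1
    exact (Nat.eq_of_mul_eq_mul_left Nat.card_pos e1).symm
  refine ⟨φ.ker, inferInstance, ?_, pl.isog ⟨e⟩⟩
  rcases (Nat.dvd_prime Nat.prime_two).1 hc with r | r <;> rw [k, r]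
  exacts [.inl (by rwa [one_mul]), .inr ⟨_, ho, rfl⟩]

end Cfsg.Agent.S3322
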