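import Cfsg.Statements.S3341
import Cfsg.Agent.Small.T333
import Cfsg.Agent.S0496
import Cfsg.Agent.S0497

set_option autoImplicit false
open Cfsg

namespace Cfsg.Agent.S3341

open Cfsg.Agent.Small Cfsg.Agent.Char Cfsg.Agent.Block Finset Subgroup
open scoped _root_.Classical ComplexConjugate

theorem arith4 {X Y Z D : ℤ} {g n : ℚ} (hX : 9 ∣ X - 1) (hY : 9 ∣ Y - 1) (hZ : 9 ∣ Z - 1)
    (hD : D = 1 + (X + Y + Z)) (hn : n ≤ 324) (hg : 0 ≤ g)
    (h : n = g * (1 + (1 / X + 1 / Y + 1 / Z) + 2 / D)) : g ≤ 1092 := by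
  have k : ∀ (X : ℤ) (m : ℚ), 0 < m → (0 < X ∨ (X : ℚ) ≤ -m) → -1 / m ≤ 1 / (X : ℚ) := by
    rintro X m hm (h | h)
    · have : (0 : ℚ) < X := by exact_mod_cast h
      exact le_trans (by rw [neg_div]; simpa using hm.le) (by positivity : (0 : ℚ) ≤ _)
    · rw [le_div_iff_of_neg (by linarith), div_mul_eq_mul_div, le_div_iff₀ hm]; linarith
  have k8 : ∀ X : ℤ, 9 ∣ X - 1 → -1 / 8 ≤ 1 / (X : ℚ) := fun X h =>
    k X 8 (by norm_num) (by rw [show (-8 : ℚ) = (-8 : ℤ) by norm_num, Int.cast_le]; omega)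
  have k0 : ∀ X : ℤ, 0 < X → 0 ≤ 1 / (X : ℚ) := fun X h => by positivity
  have h1 : 7 / 20 ≤ 1 + (1 / (X : ℚ) + 1 / Y + 1 / Z) + 2 / D := by
    rw [show 2 / (D : ℚ) = 2 * (1 / D) by ring]
    have a1 := k8 X hX
    have a2 := k8 Y hY
    have a3 := k8 Z hZ
    by_cases h5 : D = -5
    · rw [h5]
      obtain h | h | h : 0 < X ∨ 0 < Y ∨ 0 < Z := by omega
      all_goals have := k0 _ h; push_cast; linarith
    · have := k D 14 (by norm_num) (by
        rw [show (-14 : ℚ) = (-14 : ℤ) by norm_num, Int.cast_le]; omega)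
      linarith
  nlinarith

theorem sign_vals {I : Type*} {Y : Finset I} {A B : I → ℤ} {d m : ℤ} (hm : 0 < m) (h8 : m ≤ 8)
    (hA : ∑ i ∈ Y, A i * A i = m) (hB : ∑ i ∈ Y, B i * B i = m) (h1 : ∀ i ∈ Y, 3 ∣ A i - d)
    (h2 : ∀ i ∈ Y, 3 ∣ B i - d) : ∃ s : ℤ, s * s = 1 ∧ ∀ i ∈ Y, A i * A i = s * A i + 2 ∧
      B i * B i = s * B i + 2 := by
  have k : ∀ A : I → ℤ, ∑ i ∈ Y, A i * A i = m → ∀ i ∈ Y, -2 ≤ A i ∧ A i ≤ 2 := fun A hA i hi => by
    have := single_le_sum (f := fun i => A i * A i) (fun i _ => mul_self_nonneg _) hi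
    constructor <;> nlinarith
  obtain h | h | h : d % 3 = 0 ∨ d % 3 = 1 ∨ d % 3 = 2 := by omega
  · rw [sum_eq_zero fun i hi => by
      have := k A hA i hi; have := h1 i hi; rw [show A i = 0 by omega, zero_mul]] at hA
    omega
  · refine ⟨-1, rfl, fun i hi => ⟨?_, ?_⟩⟩
    · have := k A hA i hi; have := h1 i hi
      obtain e | e : A i = 1 ∨ A i = -2 := by omega
      all_goals rw [e]; rfl
    · have := k B hB i hi; have := h2 i hi
      obtain e | e : B i = 1 ∨ B i = -2 := by omega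
      all_goals rw [e]; rfl
  · refine ⟨1, rfl, fun i hi => ⟨?_, ?_⟩⟩
    · have := k A hA i hi; have := h1 i hi
      obtain e | e : A i = -1 ∨ A i = 2 := by omega
      all_goals rw [e]; rfl
    · have := k B hB i hi; have := h2 i hi
      obtain e | e : B i = -1 ∨ B i = 2 := by omega
      all_goals rw [e]; rfl

theorem cases_Z {c δ Z : ℤ} {t e : ℕ} (hδ : δ = 1 ∨ δ = -1) (h24 : e = 2 ∨ e = 4) (ht : t * e = 8)
    (h1 : 1 ≤ Z) (hs : (c - δ) ^ 2 + (t - 1) * c ^ 2 + Z = e + 1) : Z = e := by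
  have h : -2 ≤ c ∧ c ≤ 2 := by
    rcases h24 with rfl | rfl
    · rw [show t = 4 by omega] at hs; push_cast at hs
      constructor <;> nlinarith [sq_nonneg (c - δ)]
    · rw [show t = 2 by omega] at hs; push_cast at hs
      constructor <;> nlinarith [sq_nonneg (c - δ)]
  obtain ⟨h, h'⟩ := h
  rcases h24 with rfl | rfl
  · rw [show t = 4 by omega] at hs
    rcases hδ with rfl | rfl <;> interval_cases c <;> omega
  · rw [show t = 2 by omega] at hs
    rcases hδ with rfl | rfl <;> interval_cases c <;> omega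

theorem sign_of_le {z : ℤ} (h : z * z ≤ 3) (h0 : z ≠ 0) : z = 1 ∨ z = -1 := by
  have : -1 ≤ z ∧ z ≤ 1 := by constructor <;> nlinarith
  omega

variable {G : Type*} [Group G] [Finite G]

set_option maxHeartbeats 400000 in
theorem eqns [IsSimpleGroup G] (hG : ¬ IsCyclic G) {P : Sylow 3 G} (hC : Centric (P : Subgroup G))
    (hcard : Nat.card P = 9) {e : ℕ} (he : Nat.card (autE (P : Subgroup G)) = e)
    (h24 : e = 2 ∨ e = 4) {a b : G} (ha : a ∈ (P : Subgroup G)) (hb : b ∈ (P : Subgroup G))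
    (a3 : orderOf a = 3) (b3 : orderOf b = 3) (hab : ¬ IsConj a b) (ra : IsConj a a⁻¹)
    (rb : IsConj b b⁻¹) : ∃ (W : Finset (IrrCharacter G)) (X : IrrCharacter G → ℤ) (D : ℤ),
      #W + 1 = e ∧ (∀ χ ∈ W, 9 ∣ X χ - 1 ∧ X χ ≠ 1) ∧ D = 1 + ∑ χ ∈ W, X χ ∧ D ≠ 0 ∧
      (Nat.card {x : G × G // x.1 * a * x.1⁻¹ * (x.2 * a * x.2⁻¹) = b} : ℚ) =
        Nat.card G * (1 + ∑ χ ∈ W, 1 / (X χ : ℚ) + (3 * e - 10) / D) := by
  have := Fintype.ofFinite G
  have := Fact.mk Nat.prime_three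
  obtain ⟨Y, z, c, δ, d, hδ, hY, hz, hs, hd, h1⟩ := hC.exc (by omega)
  rw [he, hcard] at hY
  rw [he] at hs
  have ne : ∀ {a : G}, orderOf a = 3 → a ≠ 1 := fun ha e => by simp [e] at ha
  have int : ∀ {u : G}, orderOf u = 3 → IsConj u u⁻¹ → ∀ χ : IrrCharacter G, ∃ n : ℤ, χ.1 u = n :=
    fun {u} u3 ru χ => χ.2.isCharacter.isGeneralizedCharacter.exists_int_of_forall_pow
      fun m hm => by
        rw [← pow_mod_orderOf, u3]
        rw [u3, Nat.coprime_comm, Nat.prime_three.coprime_iff_not_dvd] at hm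
        obtain e | e : m % 3 = 1 ∨ m % 3 = 2 := by omega
        · rw [e, pow_one]
        · rw [e, χ.2.isClassFunction.apply_eq_of_isConj ru, eq_inv_of_mul_eq_one_left
            (show u ^ 2 * u = 1 by rw [← pow_succ, ← orderOf_dvd_iff_pow_eq_one, u3])]
  choose A hA using int a3 ra
  choose B hB using int b3 rb
  have zA : ∀ χ ∈ Yᶜ, A χ = z χ := fun χ h => by
    exact_mod_cast (hA χ).symm.trans (hz χ (mem_compl.1 h) a ha (ne a3))
  have zB : ∀ χ ∈ Yᶜ, B χ = z χ := fun χ h => by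
    exact_mod_cast (hB χ).symm.trans (hz χ (mem_compl.1 h) b hb (ne b3))
  have o1 : irrOne G ∈ Yᶜ := mem_compl.2 h1
  have z1 : z (irrOne G) = 1 := by
    exact_mod_cast (hz _ h1 a ha (ne a3)).symm.trans (irrOne_apply a)
  have hZ : ∑ χ ∈ Yᶜ, z χ * z χ = e := by
    have := single_le_sum (f := fun χ => z χ ^ 2) (fun i _ => sq_nonneg _) o1
    rw [sum_congr rfl fun χ _ => (sq (z χ)).symm]
    beta_reduce at this
    rw [z1] at this
    exact cases_Z (t := #Y) (c := c) hδ h24 (by omega) this (by convert hs)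
  have col : ∀ {u v : G} {A B : IrrCharacter G → ℤ}, (∀ χ : IrrCharacter G, χ.1 u = A χ) →
      (∀ χ : IrrCharacter G, χ.1 v = B χ) → (∀ χ ∈ Yᶜ, A χ = z χ) → (∀ χ ∈ Yᶜ, B χ = z χ) →
      ((∑ χ ∈ Y, A χ * B χ + e : ℤ) : ℂ) =
        if IsConj u v then (Nat.card (centralizer ({u} : Set G)) : ℂ) else 0 :=
    fun {u v A B} hA hB zA zB => by
      refine Eq.trans ?_ ((sum_irr_mul_conj u v).trans (by congr))
      rw [← hZ, ← sum_congr rfl fun χ h => congrArg₂ (· * ·) (zA χ h) (zB χ h), sum_add_sum_compl]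
      simp [hA, hB]
  have AA := col hA hA zA zA
  have BB := col hB hB zB zB
  have AB := col hA hB zA zB
  rw [if_pos (IsConj.refl _), hC _ ‹_› (ne ‹_›), hcard] at AA BB
  rw [if_neg hab] at AB
  norm_cast at AA BB AB
  have m3 : ∀ {u : G} {A : IrrCharacter G → ℤ}, orderOf u = 3 → (∀ χ : IrrCharacter G, χ.1 u = A χ) →
      ∀ χ ∈ Y, 3 ∣ A χ - d := fun {u A} u3 hA χ h =>
    dvd_sub_of_mul χ.2.isCharacter Nat.prime_three (u := u) (g := 1) ⟨1, by simp [u3]⟩
      (Commute.one_right _) (by rw [mul_one, hA]) (by rw [χ.2.apply_one_eq_charDegree, hd χ h]; simp)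
  obtain ⟨s, ss, hs'⟩ := sign_vals (m := 9 - e) (by omega) (by omega) (eq_sub_of_add_eq AA)
    (eq_sub_of_add_eq BB) (m3 a3 hA) (m3 b3 hB)
  have sB : s * ∑ χ ∈ Y, B χ = e - 3 := by
    rw [sum_congr rfl fun χ h => (hs' χ h).2, sum_add_distrib, ← mul_sum, sum_const] at BB
    rcases h24 with rfl | rfl
    · rw [show #Y = 4 by omega] at BB; simp at BB ⊢; omega
    · rw [show #Y = 2 by omega] at BB; simp at BB ⊢; omega
  have sB' : ∑ χ ∈ Y, B χ = s * (e - 3) := by rw [← sB, ← mul_assoc, ss, one_mul]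
  have sAB : ∑ χ ∈ Y, A χ * A χ * B χ = s * (e - 6) := by
    rw [sum_congr rfl fun χ h => by rw [(hs' χ h).1, add_mul, mul_assoc], sum_add_distrib,
      ← mul_sum, ← mul_sum, sB', eq_neg_of_add_eq_zero_left AB]
    ring
  set W := (Yᶜ.erase (irrOne G)).filter (z · ≠ 0) with hW
  have sp : ∀ {R : Type} [Field R] (f : IrrCharacter G → ℤ → R), (∀ χ, f χ 0 = 0) →
      ∑ χ ∈ Yᶜ, f χ (z χ) = f (irrOne G) 1 + ∑ χ ∈ W, f χ (z χ) := fun f h0 => by
    rw [← add_sum_erase _ _ o1, z1, hW,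
      sum_filter_of_ne (p := (z · ≠ 0)) fun χ _ h e => h (by rw [e, h0])]
  have hW1 : ∑ χ ∈ W, z χ * z χ = e - 1 := by
    have := sp (R := ℚ) (fun _ n => n * n) (by simp)
    have h2 := congrArg (Int.cast : ℤ → ℚ) hZ
    push_cast at h2 this
    have h3 : ∑ χ ∈ W, (z χ : ℚ) * z χ = e - 1 := by linarith
    exact_mod_cast h3
  have zz : ∀ χ ∈ W, z χ = 1 ∨ z χ = -1 := fun χ h => by
    have := single_le_sum (f := fun χ => z χ * z χ) (fun i _ => mul_self_nonneg _) h
    exact sign_of_le (by omega) (mem_filter.1 h).2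
  have dpos : ∀ χ : IrrCharacter G, 0 < charDegree χ.1 := fun χ => χ.2.charDegree_pos
  have d0 : 0 < d := by
    obtain ⟨χ, h⟩ : Y.Nonempty := card_pos.1 (Nat.pos_of_ne_zero fun e => by rw [e] at hY; omega)
    exact hd χ h ▸ dpos χ
  have s1 : s = 1 ∨ s = -1 := Int.eq_one_or_neg_one_of_mul_eq_one ss
  refine ⟨W, fun χ => z χ * charDegree χ.1, -(s * (e - 3)) * d, ?_, fun χ h => ⟨?_, fun h3 => ?_⟩,
    ?_, ?_, ?_⟩
  · rw [sum_congr rfl (g := fun _ => 1) fun χ h => by rcases zz χ h with e | e <;> simp [e]] at hW1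
    simp at hW1
    omega
  · have := fx_const χ.2.isCharacter (H := P) (hz χ (mem_compl.1 (mem_of_mem_erase
      (mem_filter.1 h).1)))
    rw [hcard, χ.2.apply_one_eq_charDegree] at this
    have h2 : (charDegree χ.1 : ℤ) + 8 * z χ = 9 * fx χ.1 P := by
      apply Int.cast_injective (α := ℂ); push_cast at this ⊢; linear_combination this
    beta_reduce
    rcases zz χ h with e | e <;> rw [e] at h2 ⊢ <;> omega
  · refine ne_of_mem_erase (mem_filter.1 h).1
      (eq_irrOne_of_degree (commutator_eq_top_of_not_isCyclic hG) ?_)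
    have := dpos χ
    beta_reduce at h3
    rcases zz χ h with e | e <;> rw [e] at h3 <;> omega
  · have h2 := sum_irr_degree_mul (ne b3)
    rw [← sum_add_sum_compl Y, sum_congr rfl (g := fun χ => (d : ℂ) * B χ) fun χ h => by
      rw [hB, χ.2.apply_one_eq_charDegree, hd χ h], sum_congr rfl (s₁ := Yᶜ)
      (g := fun χ => (z χ : ℂ) * charDegree χ.1) fun χ h => by
      rw [hB, χ.2.apply_one_eq_charDegree, zB χ h, mul_comm],
      sp (fun χ n => (n : ℂ) * charDegree χ.1) (by simp), charDegree_irrOne, ← mul_sum] at h2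
    norm_cast at h2
    rw [sB'] at h2
    push_cast at h2 ⊢
    linarith
  · rcases s1 with rfl | rfl <;> rcases h24 with rfl | rfl <;> simp <;> omega
  · have h2 := card_mul_conj_pairs a a b
    rw [← sum_add_sum_compl Y, sum_congr rfl (g := fun χ => ((A χ * A χ * B χ : ℤ) : ℂ) / d)
      fun χ h => by rw [hA, hB, χ.2.apply_one_eq_charDegree, hd χ h]; simp, sum_congr rfl (s₁ := Yᶜ)
      (g := fun χ => (z χ : ℂ) * z χ * z χ / charDegree χ.1) fun χ h => by
      rw [hA, hB, χ.2.apply_one_eq_charDegree, zA χ h, zB χ h]; simp,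
      sp (fun χ n => (n : ℂ) * n * n / charDegree χ.1) (by simp), charDegree_irrOne, ← sum_div,
      ← Int.cast_sum, sAB, sum_congr rfl (g := fun χ => 1 / ((z χ * charDegree χ.1 : ℤ) : ℂ))
      fun χ h => by rcases zz χ h with e | e <;> simp [e, div_eq_mul_inv]] at h2
    apply Rat.cast_injective (α := ℂ)
    push_cast at h2 ⊢
    rw [h2]
    have : (d : ℂ) ≠ 0 := by exact_mod_cast d0.ne'
    rcases s1 with rfl | rfl <;> rcases h24 with rfl | rfl <;> push_cast <;> field_simp <;> ring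

/-- Let G be a finite simple group whose Sylow 3-subgroup S is elementary abelian of order 9, such that G has more than one conjugacy class of elements of order 3 and C_G(s) = S for every non-identity s in S. Then G is isomorphic to the alternating group of degree 6. -/
theorem result {G : Type*} [Group G] [Finite G] [IsSimpleGroup G]
    (P : Sylow 3 G) (S : Subgroup G) (hSP : S = P) (hcomm : IsMulCommutative S) (hexp : ∀ a ∈ S, a ^ 3 = 1)
    (hcard : Nat.card S = 9)
    (hclasses : ∃ a b : G, orderOf a = 3 ∧ orderOf b = 3 ∧ ∀ g : G, g * a * g⁻¹ ≠ b)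
    (hcent : ∀ s ∈ S, s ≠ 1 → Subgroup.centralizer ({s} : Set G) = S) :
    Nonempty (G ≃* alternatingGroup (Fin 6)) := by
  subst hSP
  have := Fintype.ofFinite G
  have := Fact.mk Nat.prime_three
  have := Fact.mk Nat.prime_two
  have hC : Centric (P : Subgroup G) := hcent
  have h9 : 9 ∣ Nat.card G := hcard ▸ card_subgroup_dvd_card _
  have hG : ¬ IsCyclic G := not_isCyclic_of_card fun hp => by
    rcases (Nat.dvd_prime hp).1 h9 with h | h
    · omega
    · rw [← h] at hp; norm_num at hp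
  have hb : (P : Subgroup G) ≠ ⊥ := fun e => by simp [e] at hcard
  have ne : ∀ {a : G}, orderOf a = 3 → a ≠ 1 := fun ha e => by simp [e] at ha
  obtain ⟨a, b, ha, hb', a3, b3, hab⟩ : ∃ a b : G, a ∈ (P : Subgroup G) ∧ b ∈ (P : Subgroup G) ∧
      orderOf a = 3 ∧ orderOf b = 3 ∧ ¬ IsConj a b := by
    have k : ∀ a : G, orderOf a = 3 → ∃ g : G, g⁻¹ * a * g⁻¹⁻¹ ∈ (P : Subgroup G) := fun a h => by
      obtain ⟨Q, hQ⟩ := (isPGroup_zpowers_of_orderOf h).exists_le_sylow
      obtain ⟨g, rfl⟩ := MulAction.exists_smul_eq G P Q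
      exact ⟨g, by rw [inv_inv]; exact Solv.mem_conj_smul.1 (hQ (mem_zpowers a))⟩
    obtain ⟨a, b, a3, b3, h⟩ := hclasses
    obtain ⟨g, hg⟩ := k a a3
    obtain ⟨f, hf⟩ := k b b3
    refine ⟨_, _, hg, hf, by rw [Small.orderOf_conj', a3], by rw [Small.orderOf_conj', b3], fun e => ?_⟩
    obtain ⟨c, hc⟩ := isConj_iff.1 (((isConj_iff.2 ⟨g⁻¹, rfl⟩).trans e).trans
      (isConj_iff.2 ⟨f⁻¹, rfl⟩).symm)
    exact h c hc
  obtain ⟨e, he⟩ : ∃ e, Nat.card (autE (P : Subgroup G)) = e := ⟨_, rfl⟩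
  have hN := hC.card_normalizer hb
  rw [he, hcard] at hN
  have h24 : e = 2 ∨ e = 4 := by
    have e8 : e ∣ 8 := by
      have := hC.relIndex_dvd
      rw [card_autE, hC.centralizer_eq hb] at he
      rwa [he, show Nat.card P = 9 from hcard] at this
    have e1 : e ≠ 1 := fun h => not_le_centralizer hG ((by decide : 3 ∣ 9).trans h9) P
      (relIndex_eq_one.1 (by rw [← card_autE, he, h]))
    have e7 : e ≤ 7 := by
      have := Fintype.ofFinite (autE (P : Subgroup G))
      have h1 := card_le_card_of_injOn (s := (univ : Finset (autE (P : Subgroup G))))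
        (t := (univ.erase 1).erase (⟨b, hb'⟩ : P)) (fun g => g.1 ⟨a, ha⟩) (fun g _ => by
          simp only [coe_erase, coe_univ, Set.mem_sdiff, Set.mem_univ, true_and,
            Set.mem_singleton_iff, EmbeddingLike.map_eq_one_iff]
          exact ⟨fun e => ne a3 (congrArg Subtype.val e),
            fun e => hab (hC.frob.isConj_iff.2 ⟨g, g.2, e⟩)⟩) fun g _ f _ e => by
          have := hC.frob.hE _ (f⁻¹ * g).2 ⟨a, ha⟩ (by
            simp only at e; simp [e]) fun e => ne a3 (congrArg Subtype.val e)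
          exact (inv_mul_eq_one.1 (Subtype.ext this)).symm
      rw [card_erase_of_mem (by simpa using fun e => ne b3 (congrArg Subtype.val e)), card_erase_of_mem (mem_univ _), card_univ,
        card_univ, ← Nat.card_eq_fintype_card, ← Nat.card_eq_fintype_card, he] at h1
      have h2 : @Nat.card (@Subtype G (· ∈ P)) = 9 := hcard
      omega
    have := Nat.pos_of_dvd_of_pos e8 (by omega)
    interval_cases e <;> omega
  obtain ⟨g, hg⟩ := exists_prime_orderOf_dvd_card' (G := autE (P : Subgroup G)) 2 (by omega)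
  have g1 : g ≠ 1 := fun e => by simp [e] at hg
  have inv : ∀ u : P, g.1 u = u⁻¹ := fun u => eq_inv_of_mul_eq_one_left (by_contra fun h =>
    g1 (Subtype.ext (hC.frob.hE _ g.2 _ (by
      rw [map_mul, ← MulAut.mul_apply, ← Subgroup.coe_mul, ← sq, ← hg, pow_orderOf_eq_one]
      exact hC.frob.comm _ _) h)))
  have re : ∀ u ∈ (P : Subgroup G), IsConj u u⁻¹ := fun u hu =>
    hC.frob.isConj_iff (u := ⟨u, hu⟩) (v := ⟨u, hu⟩⁻¹).2 ⟨g, g.2, inv _⟩
  obtain ⟨W, X, D, hW, hX, hD, D0, h⟩ := eqns hG hC hcard he h24 ha hb' a3 b3 hab (re a ha) (re b hb')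
  have mem : ∀ u v : G, u * a * u⁻¹ * (v * a * v⁻¹) = b →
      u * a * u⁻¹ ∈ (P : Subgroup G) ∧ v * a * v⁻¹ ∈ (P : Subgroup G) := fun u v e =>
    (hC.sep.tri (by rw [Small.orderOf_conj', a3]) (by rw [Small.orderOf_conj', a3]) (e ▸ b3)
      (e ▸ hb')).resolve_right fun h => hab (((re a ha).trans
        (isConj_iff.2 ⟨u, by group⟩)).trans (e ▸ h.2))
  rcases h24 with rfl | rfl
  · exfalso
    have k : ∀ u : G, u * a * u⁻¹ ∈ (P : Subgroup G) → u * a * u⁻¹ = a ∨ u * a * u⁻¹ = a⁻¹ :=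
      fun u hu => by
        obtain ⟨f, hf, e⟩ := (hC.frob.isConj_iff (u := ⟨a, ha⟩) (v := ⟨_, hu⟩)).1
          (isConj_iff.2 ⟨u, rfl⟩)
        by_cases f1 : (⟨f, hf⟩ : autE (P : Subgroup G)) = 1
        · obtain rfl : f = 1 := congrArg Subtype.val f1
          exact .inl (congrArg Subtype.val e).symm
        · obtain rfl : f = g :=
            congrArg Subtype.val (((Nat.card_eq_two_iff' 1).1 he).unique f1 g1)
          exact .inr (congrArg Subtype.val (e.symm.trans (inv _)))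
    have aa : a * a = a⁻¹ := eq_inv_of_mul_eq_one_left (by
      rw [← pow_three', ← a3, pow_orderOf_eq_one])
    have : IsEmpty {x : G × G // x.1 * a * x.1⁻¹ * (x.2 * a * x.2⁻¹) = b} := ⟨fun ⟨x, e⟩ => by
      obtain ⟨h1, h2⟩ := mem _ _ e
      rcases k _ h1 with h1 | h1 <;> rcases k _ h2 with h2 | h2 <;> rw [h1, h2] at e
      · exact hab (e ▸ aa ▸ re a ha)
      · exact ne b3 (by simpa using e.symm)
      · exact ne b3 (by simpa using e.symm)
      · exact hab (by rw [← e, ← mul_inv_rev, aa, inv_inv])⟩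
    obtain ⟨χ, rfl⟩ := card_eq_one.1 (show #W = 1 by omega)
    rw [Nat.card_of_isEmpty, sum_singleton, Nat.cast_zero, eq_comm, mul_eq_zero] at h
    rw [sum_singleton] at hD
    obtain ⟨h1, h2⟩ := hX χ (mem_singleton_self _)
    have X0 : (X χ : ℚ) ≠ 0 := by
      rw [Int.cast_ne_zero]; omega
    have D1 : (D : ℚ) ≠ 0 := Int.cast_ne_zero.2 D0
    have h3 := h.resolve_left (Nat.cast_ne_zero.2 Nat.card_pos.ne')
    field_simp at h3
    rw [hD] at h3
    have h4 : ((X χ : ℚ) - 1) ^ 2 = 0 := by push_cast at h3; linear_combination h3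
    exact h2 (by exact_mod_cast sub_eq_zero.1 (pow_eq_zero_iff two_ne_zero |>.1 h4))
  obtain ⟨χ, ψ, θ, n1, n2, n3, rfl⟩ := card_eq_three.1 (show #W = 3 by omega)
  simp only [mem_insert, mem_singleton, forall_eq_or_imp, forall_eq] at hX
  rw [sum_insert (by simp [n1, n2]), sum_pair n3, ← add_assoc _ _ (_ / _)] at h
  rw [sum_insert (by simp [n1, n2]), sum_pair n3, ← add_assoc (X χ)] at hD
  have hn : Nat.card {x : G × G // x.1 * a * x.1⁻¹ * (x.2 * a * x.2⁻¹) = b} ≤ 324 := by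
    rw [Nat.card_eq_fintype_card, Fintype.card_subtype]
    refine (card_le_mul_card_image_of_maps_to (f := Prod.fst)
      (t := univ.filter (· ∈ normalizer ((P : Subgroup G) : Set G))) (fun x hx => mem_filter.2
        ⟨mem_univ _, hC.sep.mem_normalizer ha (ne a3) (mem _ _ (mem_filter.1 hx).2).1⟩) 9
      fun u _ => ?_).trans (by rw [← Fintype.card_subtype, ← Nat.card_eq_fintype_card, hN])
    refine (card_le_card_of_injOn (t := univ.filter fun v => v * a * v⁻¹ = (u * a * u⁻¹)⁻¹ * b)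
      Prod.snd (fun x hx => ?_) fun x hx y hy e => ?_).trans ?_
    · simp only [coe_filter, mem_filter, mem_univ, true_and, Set.mem_ofPred_eq] at hx ⊢
      rw [← hx.1, hx.2, inv_mul_cancel_left]
    · simp only [coe_filter, Set.mem_ofPred_eq] at hx hy
      exact Prod.ext (hx.2.trans hy.2.symm) e
    · by_cases hc : IsConj a ((u * a * u⁻¹)⁻¹ * b)
      · rw [← Fintype.card_subtype, ← Nat.card_eq_fintype_card, card_conj_fiber hc,
          hC a ha (ne a3), hcard]
      · rw [filter_eq_empty_iff.2 fun v _ e => hc (isConj_iff.2 ⟨v, e⟩)]; simp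
  have h1 := arith4 hX.1.1 hX.2.1.1 hX.2.2.1 hD (by exact_mod_cast hn)
    (Nat.cast_nonneg (Nat.card G)) (h.trans (by norm_num))
  have h2 := S0496.result (G := G) (fun h => by
    obtain ⟨x, y, e⟩ := exists_not_comm hG
    exact e (mul_comm' x y)) (by exact_mod_cast h1)
  have h3 := card_mul_index (normalizer ((P : Subgroup G) : Set G))
  have h4 := card_sylow_modEq_one 3 G
  rw [P.card_eq_index_normalizer] at h4
  change index (normalizer ((P : Subgroup G) : Set G)) % 3 = 1 % 3 at h4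
  rw [hN] at h3
  exact S0497.result (by clear hX hD hn; omega)

end Cfsg.Agent.S3341
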