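import Cfsg.Statements.S3333
import Cfsg.Agent.Hig.D8
import Cfsg.Agent.S3341
import Cfsg.Agent.S0058
import Cfsg.Agent.Solv.MinNormal
import Cfsg.Agent.Perm.AutAlt
-- import your own Cfsg.Agent.* helpers here

set_option autoImplicit false
open Cfsg

namespace Cfsg.Agent.S3333

open Cfsg.Agent.Hig Cfsg.Agent.Small Subgroup Equiv

variable {G : Type*} [Group G] [Finite G]

theorem conj_three {x y : alternatingGroup (Fin 6)} (hx : orderOf x = 3) (hy : orderOf y = 3)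
    (h1 : ¬ x.1.IsThreeCycle) (h2 : ¬ y.1.IsThreeCycle) : IsConj x y := by
  let z : alternatingGroup (Fin 6) := ⟨swap 0 1 * swap 1 2 * (swap 3 4 * swap 4 5), by
    rw [Perm.mem_alternatingGroup]; decide⟩
  have k : ∀ {x : alternatingGroup (Fin 6)}, orderOf x = 3 → ¬ x.1.IsThreeCycle → IsConj z x :=
    fun {x} hx h1 => by
      rw [← Subgroup.orderOf_coe] at hx
      obtain ⟨n, hn⟩ := Perm.cycleType_prime_order (σ := x.1) (hx ▸ Nat.prime_three)
      have := Perm.sum_cycleType_le x.1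
      rw [hx] at hn
      rw [hn, Multiset.sum_replicate, Fintype.card_fin, smul_eq_mul] at this
      obtain rfl : n = 1 := by
        rcases n with _ | _ | n
        · exact absurd hn h1
        · rfl
        · omega
      obtain ⟨π, hπ⟩ := isConj_iff.1 (Perm.isConj_iff_cycleType_eq.2
        (show z.1.cycleType = x.1.cycleType by rw [hn]; decide))
      rcases Int.units_eq_one_or (Perm.sign π) with c | c
      · exact isConj_iff.2 ⟨⟨π, c⟩, Subtype.ext hπ⟩
      · refine isConj_iff.2 ⟨⟨π * (swap 0 3 * swap 1 4 * swap 2 5), by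
          rw [Perm.mem_alternatingGroup, map_mul, c]; decide⟩, Subtype.ext ?_⟩
        rw [← hπ, show z.1 = (swap 0 3 * swap 1 4 * swap 2 5) * z.1 *
          (swap 0 3 * swap 1 4 * swap 2 5)⁻¹ by decide]
        simp only [Subgroup.coe_mul, Subgroup.coe_inv]
        group
  exact (k hx h1).symm.trans (k hy h2)

theorem restrict {K0 ι : Type} [AddCommGroup K0] [Fintype K0] [DecidableEq K0] {e : ι → K0 → K0}
    {E : Finset ι} {φ : K0 → G} {P : Sylow 3 G} {K : Subgroup G} (hK : (P : Subgroup G) ≤ K)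
    (hC : centralizer ((P : Subgroup G) : Set G) ≤ P) (hc : ∀ t ∈ (P : Subgroup G), t ≠ 1 →
      centralizer ({t} : Set G) ≤ normalizer ((P : Subgroup G) : Set G))
    (add : ∀ x y, φ (x + y) = φ x * φ y) (inj : Function.Injective φ)
    (three : ∀ x : K0, x + x + x = 0) (mem : ∀ g, g ∈ (P : Subgroup G) ↔ ∃ k, φ k = g)
    (act : ∀ g ∈ K, g ∈ normalizer ((P : Subgroup G) : Set G) →
      ∃ i ∈ E, ∀ x, g * φ x * g⁻¹ = φ (e i x))
    (real : ∀ i ∈ E, ∃ n ∈ K, ∀ x, n * φ x * n⁻¹ = φ (e i x))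
    (faith : ∀ i ∈ E, ∀ j ∈ E, (∀ x, e i x = e j x) → i = j) :
    ∃ ψ : K0 → K, SMod e E ψ ∧ ∀ x, (ψ x : G) = φ x := by
  have m : ∀ g : K, g ∈ (P.subtype hK : Subgroup K) ↔ g.1 ∈ (P : Subgroup G) := fun _ => Iff.rfl
  have n : ∀ g : K, g ∈ normalizer ((P.subtype hK : Subgroup K) : Set K) ↔
      g.1 ∈ normalizer ((P : Subgroup G) : Set G) := fun g =>
    ⟨fun h => mem_normalizer_fintype fun x hx => (mem_normalizer_iff.1 h ⟨x, hK hx⟩).1 hx,
      fun h => mem_normalizer_fintype fun x hx => (mem_normalizer_iff.1 h x.1).1 hx⟩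
  refine ⟨fun x => ⟨φ x, hK ((mem _).2 ⟨x, rfl⟩)⟩, .of_sylow (S := P.subtype hK)
    (fun g hg => hC fun x hx => congrArg Subtype.val (hg ⟨x, hK hx⟩ hx))
    (fun t ht t1 g hg => (n g).2 (hc t ht (fun c => t1 (Subtype.ext c))
      (mem_centralizer_singleton_iff.2 (congrArg Subtype.val (mem_centralizer_singleton_iff.1 hg)))))
    (fun x y => Subtype.ext (add x y)) (fun x y c => inj (congrArg Subtype.val c)) three
    (fun g => (mem g).trans (by simp [Subtype.ext_iff])) (fun g hg => ?_) (fun i hi => ?_) faith,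
    fun _ => rfl⟩
  · exact (act g g.2 ((n g).1 hg)).imp fun i c => ⟨c.1, fun x => Subtype.ext (c.2 x)⟩
  · obtain ⟨n, hn, c⟩ := real i hi
    exact ⟨⟨n, hn⟩, fun x => Subtype.ext (c x)⟩

def pP (x : K2) : K2 := eM ((1, 1), (1, -1)) x

def rr : K2 × K2 := ((0, 1), (-1, 0))

def s1 : K2 × K2 := ((1, 0), (0, -1))

def s2 : K2 × K2 := ((0, 1), (1, 0))

def Cp (k i j : K2 × K2) : Prop := ∀ x, eM k x = eM i (eM j x)

def Cj (k i j : K2 × K2) : Prop := ∀ x, eM k (eM j x) = eM j (eM i x)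

instance dCp (k i j : K2 × K2) : Decidable (Cp k i j) := by unfold Cp; infer_instance

instance dCj (k i j : K2 × K2) : Decidable (Cj k i j) := by unfold Cj; infer_instance

theorem a0 : ((1, 0) : K2) ≠ 0 ∧ ((1, 1) : K2) ≠ 0 ∧ rr ∈ E8 ∧ s1 ∈ E8 := by decide

set_option synthInstance.maxSize 4000 in
theorem facts : (∀ y : K2, y ≠ 0 → ∀ z, ∃ u ∈ [0, y, -y], ∃ v ∈ [0, eM rr y, -eM rr y], z = u + v) ∧
    (∀ x y, pP (x + y) = pP x + pP y) ∧ (∀ x y, pP x = pP y → x = y) ∧ (∀ y, ∃ x, pP x = y) ∧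
    (∀ i ∈ E8, ∀ x ≠ 0, eM i x = x → (∀ y, eM i y = y) ∨ ∃ j ∈ E8, Cj s1 i j ∨ Cj s2 i j) ∧
    (∀ i ∈ E8, ∃ a ∈ E8, (∃ j ∈ E8, Cj a s1 j ∨ Cj a s2 j) ∧ ∃ b ∈ E8,
      (∃ l ∈ E8, Cj b s1 l ∨ Cj b s2 l) ∧ (i = a ∨ Cp i a b)) ∧
    (∀ x : K2, x + x + x = 0) ∧ (∀ i ∈ E8, ∀ j ∈ E8, (∀ x, eM i x = eM j x) → i = j) ∧
    (∀ i ∈ E4, ∀ j ∈ E4, (∀ x, e4 i x = e4 j x) → i = j) ∧ 36 = E4.card * Fintype.card K2 ∧
    ∀ i ∈ E8, eM i (1, 0) ≠ (1, 1) := by
  refine ⟨?_, ?_, ?_, ?_, ?_, ?_, ?_, ?_, ?_, ?_, ?_⟩ <;> decide +kernel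

def F2 (a b : K2 × K2) (p : K2 → K2) : Prop :=
  (∀ i ∈ E8, (∃ j ∈ E4, ∀ x, eM i (p x) = p (e4 j x)) ∨ ∃ k ∈ E8, (k = i ∨ Cp k i a) ∧
    ∃ j ∈ E8, Cj b k j) ∧ ∀ j ∈ E4, ∃ i ∈ E8, (∀ x, eM i (p x) = p (e4 j x)) ∧
      ∃ c ∈ E8, (i = c ∨ Cp i c a) ∧ ∃ l ∈ E8, Cj c a l

set_option synthInstance.maxSize 4000 in
theorem facts2 : F2 s1 s2 id ∧ F2 s2 s1 pP := by
  unfold F2; constructor <;> decide +kernel

theorem equiv_perm {K : Subgroup G} [K.Normal] (f : K ≃* alternatingGroup (Fin 6))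
    (hC : ∀ g : G, (∀ k ∈ K, g * k * g⁻¹ = k) → g = 1) (hK : K ≠ ⊤) {a c : G} (ha : a ∈ K)
    (hc : c ∈ K) (a3 : orderOf a = 3) (c3 : orderOf c = 3) (hac : ¬ IsConj a c) :
    Nonempty (G ≃* Perm (Fin 6)) := by
  let F : G →* MulAut (alternatingGroup (Fin 6)) :=
    (MulAut.congr f).toMonoidHom.comp MulAut.conjNormal
  have hF : ∀ g x, (f.symm (F g x) : G) = g * f.symm x * g⁻¹ := fun g x => by simp [F]
  have ic : ∀ {x y}, IsConj x y → IsConj (f.symm x : G) (f.symm y) := fun h =>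
    (K.subtype.comp f.symm.toMonoidHom).map_isConj h
  have h3 : ∀ g, ∃ σ : Perm (Fin 6), MulAut.conjNormal σ = F g := fun g =>
    Perm.AutAlt.exists_conj_of_threeCycle (by simp) _ fun x hx => by
      by_contra h
      have x3 : orderOf x = 3 := by rw [← Subgroup.orderOf_coe, hx.orderOf]
      have k : ∀ u (hu : u ∈ K), orderOf u = 3 → IsConj (f.symm x : G) u := fun u hu u3 => by
        have e : u = f.symm (f ⟨u, hu⟩) := by simp
        rw [e]
        by_cases c : (f ⟨u, hu⟩).1.IsThreeCycle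
        · exact ic (alternatingGroup.isThreeCycle_isConj (by simp) hx c)
        · exact (isConj_iff.2 ⟨g, (hF g x).symm⟩).trans (ic (conj_three
            (by rw [MulEquiv.orderOf_eq, x3]) (by rw [MulEquiv.orderOf_eq, ← u3,
              ← Subgroup.orderOf_coe]) h c))
      exact hac ((k a ha a3).symm.trans (k c hc c3))
  choose σ hσ using h3
  have ij := Perm.AutAlt.conjNormal_injective (α := Fin 6) (by simp)
  let j : G →* Perm (Fin 6) := MonoidHom.mk' σ fun a b => ij (by rw [map_mul, hσ, hσ, hσ, map_mul])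
  have hj : Function.Injective j := (injective_iff_map_eq_one j).2 fun g hg => hC g fun k hk => by
    have := hF g (f ⟨k, hk⟩)
    rw [← hσ, show σ g = 1 from hg, map_one] at this
    simpa using this.symm
  refine ⟨MulEquiv.ofBijective j ((Nat.bijective_iff_injective_and_card j).2 ⟨hj, ?_⟩)⟩
  have h1 := card_dvd_of_injective j hj
  have h2 := card_mul_index K
  have h4 : K.index ≠ 1 := fun c => hK (index_eq_one.1 c)
  have h5 : K.index ≠ 0 := index_ne_zero_of_finite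
  have h6 : Nat.card K = 360 := by
    have := two_mul_nat_card_alternatingGroup (α := Fin 6)
    rw [Nat.card_perm, Nat.card_fin] at this
    rw [Nat.card_congr f.toEquiv]
    simp only [Nat.factorial] at this
    omega
  rw [Nat.card_perm, Nat.card_fin] at h1 ⊢
  have := Nat.le_of_dvd (by decide) h1
  simp only [Nat.factorial] at this ⊢
  rw [h6] at h2
  omega


/-- Let G be a finite group with a Sylow 3-subgroup S of order 9 that is its own centralizer, with N_G(S)/S dihedral of order 8, and such that C_G(x) ≤ N_G(S) for every non-identity x in S. Then S is normal in G or G is isomorphic to the symmetric group of degree 6. -/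
theorem result {G : Type*} [Group G] [Finite G]
    (P : Sylow 3 G) (S : Subgroup G) (hSP : S = P) (hcard : Nat.card S = 9)
    (hC : Subgroup.centralizer (S : Set G) = S)
    (eN : Subgroup.normalizer (S : Set G) ⧸ S.subgroupOf (Subgroup.normalizer (S : Set G)) ≃* DihedralGroup 4)
    (hcent : ∀ x ∈ S, x ≠ 1 → Subgroup.centralizer ({x} : Set G) ≤ Subgroup.normalizer (S : Set G)) :
    S.Normal ∨ Nonempty (G ≃* Equiv.Perm (Fin 6)) := by
  subst hSP
  have := Fact.mk Nat.prime_three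
  have hcm : IsMulCommutative (P : Subgroup G) := ⟨⟨fun a b => Subtype.ext (hC.ge b.2 a a.2)⟩⟩
  obtain ⟨r, hr⟩ := QuotientGroup.mk_surjective (eN.symm (.r 1))
  obtain ⟨s, hs⟩ := QuotientGroup.mk_surjective (eN.symm (.sr 0))
  have o : ∀ x : normalizer ((P : Subgroup G) : Set G), x.1 ∈ (P : Subgroup G) ↔
      eN (QuotientGroup.mk x) = 1 := fun x => by
    rw [EmbeddingLike.map_eq_one_iff, QuotientGroup.eq_one_iff, mem_subgroupOf]
  have h4 : ((s : G) * r)⁻¹ * (r * s) ∉ (P : Subgroup G) := fun c => by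
    have := (o ((s * r)⁻¹ * (r * s))).1 c
    simp only [QuotientGroup.mk_mul, QuotientGroup.mk_inv, hr, hs, map_mul, map_inv,
      MulEquiv.apply_symm_apply] at this
    revert this; decide
  have nc : ¬ IsCyclic (P : Subgroup G) := fun c => h4 (hC.le fun u hu => by
    obtain ⟨g, hg⟩ := c.exists_generator
    obtain ⟨a, ha⟩ := hg ⟨_, (mem_normalizer_iff.1 r.2 g.1).1 g.2⟩
    obtain ⟨b, hb⟩ := hg ⟨_, (mem_normalizer_iff.1 s.2 g.1).1 g.2⟩
    obtain ⟨c, hc⟩ := hg ⟨u, hu⟩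
    obtain rfl : g.1 ^ c = u := congrArg Subtype.val hc
    have ha : g.1 ^ a = r * g.1 * (r : G)⁻¹ := congrArg Subtype.val ha
    have hb : g.1 ^ b = s * g.1 * (s : G)⁻¹ := congrArg Subtype.val hb
    refine (Commute.zpow_left (mul_inv_eq_iff_eq_mul.1 ?_ : _ = _).symm c).eq
    rw [show ((s : G) * r)⁻¹ * (r * s) * g.1 * (((s : G) * r)⁻¹ * (r * s))⁻¹ =
      ((s : G) * r)⁻¹ * (r * (s * g.1 * (s : G)⁻¹) * (r : G)⁻¹) * (s * r) by group, ← hb,
      ← conj_zpow, ← ha, ← zpow_mul, mul_comm a, zpow_mul, hb, conj_zpow, ha]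
    group)
  have hel : ∀ a ∈ (P : Subgroup G), a ^ 3 = 1 := fun a ha => by
    by_contra c
    have h1 : orderOf (⟨a, ha⟩ : (P : Subgroup G)) ∣ 3 ^ 2 :=
      (_root_.orderOf_dvd_natCard _).trans (dvd_of_eq hcard)
    obtain ⟨k, hk, h2⟩ := (Nat.dvd_prime_pow Nat.prime_three).1 h1
    have h3 : ¬ orderOf (⟨a, ha⟩ : (P : Subgroup G)) ∣ 3 := fun d =>
      c (congrArg Subtype.val (orderOf_dvd_iff_pow_eq_one.1 d))
    interval_cases k
    · simp [h2] at h3
    · simp [h2] at h3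
    · exact nc (isCyclic_of_orderOf_eq_card _ (h2.trans hcard.symm))
  obtain ⟨φ, h, mem⟩ := d8_model P ⟨hcm, hel⟩ hcard hC.le hcent (fun _ => by
      rw [← card_mul_index ((P : Subgroup G).subgroupOf _), Nat.card_congr
        (subgroupOfEquivOfLe le_normalizer).toEquiv, index_eq_card, Nat.card_congr eN.toEquiv,
        DihedralGroup.nat_card, hcard]) r.2 s.2
    ((o (s * s)).2 (by
      simp only [QuotientGroup.mk_mul, hs, map_mul, MulEquiv.apply_symm_apply]; decide))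
    ((o (s * r * (s * r))).2 (by
      simp only [QuotientGroup.mk_mul, hr, hs, map_mul, MulEquiv.apply_symm_apply]; decide))
    ((o (r ^ 4)).2 (by
      rw [QuotientGroup.mk_pow, hr, map_pow, MulEquiv.apply_symm_apply]; decide)) h4
  obtain ⟨f1, f2, f3, f4, f5, f6, f7, f8, f9, f10, f11⟩ := facts
  have m : ∀ x, φ x ∈ (P : Subgroup G) := fun x => (mem _).2 ⟨x, rfl⟩
  have nm : ∀ {g : G} {x y}, x ≠ 0 → g * φ x * g⁻¹ = φ y →
      g ∈ normalizer ((P : Subgroup G) : Set G) := fun {g x y} hx c => by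
    obtain ⟨i, -, hi⟩ := h.act g x y hx c
    exact mem_normalizer_fintype fun u hu => by
      obtain ⟨z, rfl⟩ := (mem u).1 hu
      exact hi z ▸ m _
  have an : ∀ g ∈ normalizer ((P : Subgroup G) : Set G), ∃ i ∈ E8,
      ∀ x, g * φ x * g⁻¹ = φ (eM i x) := fun g hg => by
    obtain ⟨y, hy⟩ := (mem _).1 ((mem_normalizer_iff.1 hg _).1 (m (1, 0)))
    exact h.act g _ y a0.1 hy.symm
  have A : ∀ L : Subgroup G, (P : Subgroup G) ≤ normalizer (L : Set G) → L ≠ ⊥ →
      ∃ x ≠ 0, φ x ∈ L := fun L hL L1 => by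
    by_contra! c
    have d : L ⊓ P = ⊥ := eq_bot_iff.2 fun g hg => by
      obtain ⟨x, rfl⟩ := (mem g).1 hg.2
      by_cases x0 : x = 0
      · rw [x0, h.zero]; exact one_mem _
      · exact absurd hg.1 (c x x0)
    have h1 : (Nat.card L).Coprime 9 := (Nat.Coprime.pow_right 2 ((Nat.Prime.coprime_iff_not_dvd
      Nat.prime_three).2 fun e => by
        have := card_subgroup_dvd_card (L ⊔ P)
        rw [Solv.card_sup_of_disjoint hL d, ← card_mul_index (P : Subgroup G), hcard,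
          mul_comm] at this
        exact P.not_dvd_index (e.trans (Nat.dvd_of_mul_dvd_mul_left (by omega) this))).symm)
    have h2 : L ≤ normalizer ((P : Subgroup G) : Set G) := BG.coprime_abelian_gen_cent1 hcm nc hL
      (hcard ▸ h1) fun a ha a1 => inf_le_right.trans (hcent a ha a1)
    refine L1 (eq_bot_iff.2 fun g hg => d.le ⟨hg, hC.le fun u hu => ?_⟩)
    have : u * g * u⁻¹ * g⁻¹ ∈ L ⊓ P := ⟨L.mul_mem ((mem_normalizer_iff.1 (hL hu) g).1 hg)
      (L.inv_mem hg), by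
        rw [mul_assoc u, mul_assoc u]
        exact (P : Subgroup G).mul_mem hu ((mem_normalizer_iff.1 (h2 hg) _).1
          ((P : Subgroup G).inv_mem hu))⟩
    rw [d, mem_bot, mul_inv_eq_one, mul_inv_eq_iff_eq_mul] at this
    exact this
  have gen : ∀ (L : Subgroup G) y, y ≠ 0 → φ y ∈ L → φ (eM rr y) ∈ L → (P : Subgroup G) ≤ L :=
    fun L y hy h1 h2 u hu => by
      obtain ⟨z, rfl⟩ := (mem u).1 hu
      obtain ⟨u, hu', v, hv, rfl⟩ := f1 y hy z
      have k : ∀ {y u}, φ y ∈ L → u ∈ [0, y, -y] → φ u ∈ L := fun {y u} h1 hu => by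
        simp only [List.mem_cons, List.not_mem_nil, or_false] at hu
        rcases hu with rfl | rfl | rfl
        exacts [h.zero ▸ one_mem _, h1, h.neg _ ▸ inv_mem h1]
      exact h.add _ _ ▸ mul_mem (k h1 hu') (k h2 hv)
  obtain ⟨ρ, hρ⟩ := h.real rr a0.2.2.1
  refine or_iff_not_imp_left.2 fun hn => ?_
  have : Nontrivial G := ⟨⟨_, _, h.ne_one a0.1⟩⟩
  obtain ⟨K, hK, K1, hmin⟩ := Solv.exists_minimal_normal G
  have hPK : (P : Subgroup G) ≤ K := by
    obtain ⟨y, hy, c⟩ := A K (normalizer_eq_top K ▸ le_top) K1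
    exact gen K y hy c (hρ y ▸ hK.conj_mem _ c ρ)
  have o3 : ∀ (g : G) {x}, x ≠ 0 → ∃ k, orderOf (g * φ x * g⁻¹) = 3 ^ k := fun g x hx =>
    ⟨1, by rw [Small.orderOf_conj', h.ord hx, pow_one]⟩
  have nK : ¬ K ≤ normalizer ((P : Subgroup G) : Set G) := fun c => hn ⟨fun u hu g => by
    obtain ⟨x, rfl⟩ := (mem u).1 hu
    by_cases x0 : x = 0
    · rw [x0, h.zero, mul_one, mul_inv_cancel]; exact one_mem _
    · exact mem_sylow_of_mem_normalizer P (o3 g x0) (c (hK.conj_mem _ (hPK hu) g))⟩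
  have hS : IsSimpleGroup K := by
    have : Nontrivial K := (nontrivial_iff_ne_bot K).2 K1
    refine ⟨fun L0 hL0 => or_iff_not_imp_left.2 fun L1 => ?_⟩
    set L := L0.map K.subtype with hL
    have LK : L ≤ K := map_subtype_le L0
    have cj : ∀ g ∈ K, ∀ u ∈ L, g * u * g⁻¹ ∈ L := by
      rintro g hg _ ⟨u, hu, rfl⟩
      exact ⟨_, hL0.conj_mem u hu ⟨g, hg⟩, rfl⟩
    have KL : K ≤ normalizer (L : Set G) := fun g hg => mem_normalizer_fintype (cj g hg)
    obtain ⟨y, hy, c⟩ := A L (hPK.trans KL) fun c => L1 ((map_eq_bot_iff_of_injective _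
      K.subtype_injective).1 c)
    by_cases hP : (P : Subgroup G) ≤ L
    · have : (P : Subgroup G) ≤ L.normalCore := fun u hu g => by
        obtain ⟨k, hk, n, hn, rfl⟩ := (Solv.mem_sup_left_of_le_normalizer (N := K)
          (H := normalizer ((P : Subgroup G) : Set G)) (normalizer_eq_top K ▸ le_top)).1
          (show g ∈ _ by rw [sup_comm]; exact (P.normalizer_sup_eq_top' hPK).ge (mem_top g))
        rw [show k * n * u * (k * n)⁻¹ = k * (n * u * n⁻¹) * k⁻¹ by group]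
        exact cj k hk _ (hP ((mem_normalizer_iff.1 hn u).1 hu))
      rcases hmin L.normalCore inferInstance ((normalCore_le L).trans LK) with e | e
      · exact absurd (e.le (this (m y))) (h.ne_one hy)
      · exact eq_top_iff.2 fun g _ => by
          obtain ⟨u, hu, e'⟩ := normalCore_le L (e.ge g.2)
          rwa [← show u = g from Subtype.ext e']
    · exfalso
      let L' := L.comap (MulAut.conj ρ).toMonoidHom
      have m' : ∀ u, u ∈ L' ↔ ρ * u * ρ⁻¹ ∈ L := fun _ => Iff.rfl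
      have cj' : ∀ g ∈ K, ∀ u ∈ L', g * u * g⁻¹ ∈ L' := fun g hg u hu => by
        rw [m', ← conj_mul, ← conj_mul, ← conj_inv]
        exact cj _ (hK.conj_mem g hg ρ) _ hu
      have LK' : L' ≤ K := fun u hu => by simpa [mul_assoc] using hK.conj_mem' _ (LK hu) ρ
      have d : L ⊓ L' = ⊥ := by
        by_contra d
        obtain ⟨x, hx, c⟩ := A (L ⊓ L') (fun g hg => mem_normalizer_fintype fun u hu =>
          ⟨cj g (hPK hg) u hu.1, cj' g (hPK hg) u hu.2⟩) d
        exact hP (gen L x hx c.1 (hρ x ▸ c.2))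
      have h1 : L' ≤ normalizer ((P : Subgroup G) : Set G) := fun g hg =>
        hcent _ (m y) (h.ne_one hy) (mem_centralizer_singleton_iff.2 (by
          have : g * φ y * g⁻¹ * (φ y)⁻¹ ∈ L ⊓ L' := ⟨L.mul_mem (cj g (LK' hg) _ c) (L.inv_mem c), by
            rw [mul_assoc g, mul_assoc g]
            exact L'.mul_mem hg (cj' _ (LK c) _ (L'.inv_mem hg))⟩
          rwa [d, mem_bot, mul_inv_eq_one, mul_inv_eq_iff_eq_mul] at this))
      obtain ⟨z, hz⟩ := (mem _).1 ((mem_normalizer_iff.1 (inv_mem (nm hy (hρ y))) _).1 (m y))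
      have z0 : z ≠ 0 := fun e => h.ne_one hy (by simpa [e, h.zero, mul_eq_one_iff_eq_inv] using hz.symm)
      refine nK fun g hg => ?_
      obtain ⟨w, hw⟩ := (mem _).1 (mem_sylow_of_mem_normalizer P (o3 g z0)
        (h1 (cj' g hg _ ((m' _).2 (by simpa [hz, mul_assoc] using c)))))
      exact nm z0 hw.symm
  let R : K2 × K2 → Prop := fun i => ∃ n ∈ K, ∀ x, n * φ x * n⁻¹ = φ (eM i x)
  have Rp : ∀ {k i j}, Cp k i j → R i → R j → R k := fun c ⟨a, ha, h1⟩ ⟨b, hb, h2⟩ =>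
    ⟨a * b, mul_mem ha hb, fun x => by rw [c, ← h1, ← h2]; group⟩
  have Rj : ∀ {k i j}, j ∈ E8 → Cj k i j → R i → R k := fun {k i j} hj c ⟨a, ha, h1⟩ => by
    obtain ⟨n, hn⟩ := h.real j hj
    refine ⟨_, hK.conj_mem a ha n, fun x => ?_⟩
    obtain ⟨y, hy⟩ := (mem _).1 ((mem_normalizer_iff.1 (inv_mem (nm a0.1
      (hn _))) _).1 (m x))
    obtain rfl : x = eM j y := h.inj (by rw [← hn, hy]; group)
    rw [c, ← hn, ← hn, ← h1]; group
  have V : ∀ {a b p}, F2 a b p → (∀ x y, p (x + y) = p x + p y) →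
      (∀ x y, p x = p y → x = y) → (∀ y, ∃ x, p x = y) → R a → R b :=
    fun {a b p} hp g1 g2 g3 R1 => by
      by_contra R2
      have mem' : ∀ g, g ∈ (P : Subgroup G) ↔ ∃ k, φ (p k) = g := fun g => (mem g).trans
        ⟨fun ⟨k, c⟩ => (g3 k).imp fun x e => by rw [e, c], fun ⟨k, c⟩ => ⟨_, c⟩⟩
      obtain ⟨ψ, hψ, e⟩ := restrict (e := e4) (E := E4) (φ := fun x => φ (p x)) hPK hC.le hcent
        (fun x y => by rw [g1, h.add]) (fun x y c => g2 _ _ (h.inj c)) f7 mem' (fun g hg c => by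
          obtain ⟨i, hi, h1⟩ := an g c
          rcases hp.1 i hi with ⟨j, hj, h2⟩ | ⟨k, -, rfl | h2, j, hj, h3⟩
          · exact ⟨j, hj, fun x => by rw [h1, h2]⟩
          · exact absurd (Rj hj h3 ⟨g, hg, h1⟩) R2
          · exact absurd (Rj hj h3 (Rp h2 ⟨g, hg, h1⟩ R1)) R2) (fun j hj => by
          obtain ⟨i, -, h3, a, -, h2, l, hl, h1⟩ := hp.2 j hj
          obtain ⟨n, hn, h4⟩ : R i := h2.elim (fun c => c ▸ Rj hl h1 R1)
            fun c => Rp c (Rj hl h1 R1) R1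
          exact ⟨n, hn, fun x => by rw [h4, h3]⟩) f9
      refine nK fun g hg => mem_normalizer_fintype fun u hu => ?_
      obtain ⟨x, rfl⟩ := (mem' u).1 hu
      obtain ⟨y, hy⟩ := hψ.normal_of_card ((card_v4 hψ).trans f10) ⟨g, hg⟩ x
      exact (mem' _).2 ⟨y, by simpa [e] using congrArg Subtype.val hy⟩
  have V1 : R s1 ↔ R s2 := ⟨V facts2.1 (fun _ _ => rfl) (fun _ _ => id) (fun y => ⟨y, rfl⟩),
    V facts2.2 f2 f3 f4⟩
  have R1 : ¬ R s1 := fun R1 => by
    obtain ⟨ψ, hψ, -⟩ := restrict (e := eM) (E := E8) hPK hC.le hcent h.add h.inj f7 mem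
      (fun g _ c => an g c) (fun i hi => by
        obtain ⟨a, -, ⟨j, hj, h1⟩, b, -, ⟨l, hl, h2⟩, h4⟩ := f6 i hi
        have Ra : R a := h1.elim (Rj hj · R1) (Rj hj · (V1.1 R1))
        exact h4.elim (fun c => c ▸ Ra) fun c => Rp c Ra
          (h2.elim (Rj hl · R1) (Rj hl · (V1.1 R1)))) f8
    exact d8_false hψ
  have nc : ¬ IsConj (φ (1, 0)) (φ (1, 1)) := fun c => by
    obtain ⟨i, hi, e⟩ := (h.conj_iff a0.1).1 c
    exact f11 i hi e
  obtain ⟨f⟩ := S3341.result (G := K) (P.subtype hPK) _ rfl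
    ⟨⟨fun a b => Subtype.ext (Subtype.ext (hC.ge b.2 a.1.1 a.2))⟩⟩
    (fun a ha => Subtype.ext (hel a ha))
    ((Nat.card_congr (subgroupOfEquivOfLe hPK).toEquiv).trans hcard)
    ⟨⟨_, hPK (m (1, 0))⟩, ⟨_, hPK (m (1, 1))⟩, by rw [← Subgroup.orderOf_coe, h.ord a0.1],
      by rw [← Subgroup.orderOf_coe, h.ord a0.2.1],
      fun g c => nc (isConj_iff.2 ⟨g, congrArg Subtype.val c⟩)⟩
    fun t ht t1 => le_antisymm (fun g hg => by
      obtain ⟨x, hx⟩ := (mem t.1).1 ht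
      have x0 : x ≠ 0 := fun c => t1 (Subtype.ext (by rw [← hx, c, h.zero]; rfl))
      have e : g.1 * φ x * g.1⁻¹ = φ x := hx ▸ mul_inv_eq_iff_eq_mul.2
        (congrArg Subtype.val (mem_centralizer_singleton_iff.1 hg))
      obtain ⟨i, hi, h1⟩ := h.act g x x x0 e
      rcases f5 i hi x x0 (h.inj ((h1 x).symm.trans e)) with c | ⟨j, hj, c | c⟩
      · exact (mem g.1).2 (h.cent g fun y => by rw [h1, c])
      · exact absurd (Rj hj c ⟨g, g.2, h1⟩) R1
      · exact absurd (V1.2 (Rj hj c ⟨g, g.2, h1⟩)) R1)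
      fun g hg => mem_centralizer_singleton_iff.2 (Subtype.ext (hC.ge ht g.1 hg))
  refine equiv_perm f (fun g hg => ?_) (fun c => R1 ?_) (hPK (m _)) (hPK (m _)) (h.ord a0.1)
    (h.ord a0.2.1) nc
  · obtain ⟨x, rfl⟩ := h.cent g fun x => hg _ (hPK (m x))
    by_contra c
    exact nK fun k hk => hcent _ (m x) c (mem_centralizer_singleton_iff.2
      (mul_inv_eq_iff_eq_mul.1 (hg k hk)).symm)
  · obtain ⟨n, hn⟩ := h.real s1 a0.2.2.2
    exact ⟨n, c ▸ mem_top n, hn⟩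

end Cfsg.Agent.S3333
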