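import Cfsg.Statements.S3332
import Cfsg.Agent.Sig.Sf5
import Cfsg.Agent.S1221

set_option autoImplicit false
open Cfsg

namespace Cfsg.Agent.S3332

open Subgroup Cfsg.Agent.BG Cfsg.Agent.Sig

/-- Let G be a finite group of 2-rank at least 4 with O_{2'}(G) = 1 whose Sylow 2-subgroup S has a normal abelian subgroup of rank at least 3 that is its own centralizer in S. If the centralizer of every involution of G is solvable, then O_{2'}(C_G(t)) = 1 for every involution t of G. -/
theorem result {G : Type*} [Group G] [Finite G]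
    (hrank : ¬ Cfsg.PRankLE 2 3 G) (hO : Cfsg.oddCore G = ⊥) (S : Sylow 2 G)
    (A : Subgroup G) (hAS : A ≤ S) (hAn : (A.subgroupOf S).Normal) (hAc : IsMulCommutative A)
    (hAself : (S : Subgroup G) ⊓ Subgroup.centralizer (A : Set G) = A) (hA3 : ¬ Cfsg.PRankLE 2 2 A)
    (hsol : ∀ t : G, orderOf t = 2 → Group.IsSolvable (Subgroup.centralizer ({t} : Set G))) :
    ∀ t : G, orderOf t = 2 → Cfsg.oddCore (Subgroup.centralizer ({t} : Set G)) = ⊥ := by
  have := Fact.mk Nat.prime_two
  have hc' : ∀ t : G, orderOf t = 2 → pLayerIn 2 C1[t] = ⊥ := fun t ht => pLayerIn_eq_bot_of_isSolvable (hsol t ht)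
  obtain ⟨E₀, hE₀A, hE₀, h₀⟩ := exists_abelem_of_rank hA3
  obtain ⟨E, hn, hE, h3⟩ := exists_normal_abelem (p := 2) (k := 2) hAn
    (by have := hAc; infer_instance) (not_rank_of_abelem (E := E₀.subgroupOf S) (abelem_subgroupOf _ hE₀) (fun x hx => hE₀A hx)
      (by rwa [Nat.card_congr (subgroupOfEquivOfLe (hE₀A.trans hAS)).toEquiv]))
  have hU := uni_of_normal (fun A _ hA => sf_two hc' hA) S.2 hE hn h3
  have := hU.le_core hc' (sylowIn_top S) hE hn.1 h3 fun H hH => S1221.result H hH
  rw [hO, le_bot_iff] at this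
  intro t ht
  have h := (this ▸ hU : Uni _ _ ⊥).core_eq_bot (sylowIn_top S) hE hn.1 (sq_le_of_cube h3) ht
  rw [Op'_eq] at h
  exact (Subgroup.map_eq_bot_iff_of_injective _ (subtype_injective _)).1 h

end Cfsg.Agent.S3332
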