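import Cfsg.Statements.S3344
import Cfsg.Agent.W4.Q0
import Cfsg.Agent.W4.Q3
import Cfsg.Agent.W4.R1
import Cfsg.Agent.W4.R2
import Cfsg.Agent.W4.A0
import Cfsg.Agent.W4.A2
import Cfsg.Agent.W4.A3
import Cfsg.Agent.W4.A4
import Cfsg.Agent.W4.B
import Cfsg.Agent.W4.C1
import Cfsg.Agent.W4.C2
import Cfsg.Agent.W4.C3
import Cfsg.Agent.W4.C4
import Cfsg.Agent.W4.F

set_option autoImplicit false
open Cfsg

namespace Cfsg.Agent.S3344

/-- Let G be a finite group with an involution s, L = C_G(s) and Q = O₂(L). Suppose Q is extraspecial of order 32, L/Q is isomorphic to Sym(3), C_Q(X) = ⟨s⟩ for a Sylow 3-subgroup X of L, and s is not weakly closed in Q with respect to G (some conjugate of s other than s lies in Q). Then either G has an elementary abelian normal subgroup of order 8 with quotient isomorphic to PSL(3,2), or G is isomorphic to the alternating group of degree 8 or 9, or to the Mathieu group M₁₂.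 -/
theorem result {G : Type*} [Group G] [Finite G]
    (s : G) (hs : orderOf s = 2) (L : Subgroup G) (hL : L = Subgroup.centralizer ({s} : Set G))
    (Q : Subgroup G) (hQ : Q = (Cfsg.pCore 2 L).map L.subtype)
    (hQex : Cfsg.IsExtraspecial 2 Q) (hQcard : Nat.card Q = 32)
    (e : L ⧸ Cfsg.pCore 2 L ≃* Equiv.Perm (Fin 3))
    (X : Sylow 3 L) (hCQX : Q ⊓ Subgroup.centralizer (((X : Subgroup L).map L.subtype : Subgroup G) : Set G) = Subgroup.zpowers s)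
    (hnwc : ∃ g : G, g * s * g⁻¹ ∈ Q ∧ g * s * g⁻¹ ≠ s) :
    (∃ (N : Subgroup G) (hN : N.Normal), IsMulCommutative N ∧ (∀ n ∈ N, n ^ 2 = 1) ∧ Nat.card N = 8 ∧
        Nonempty (G ⧸ N ≃* Matrix.ProjectiveSpecialLinearGroup (Fin 3) (ZMod 2))) ∨
    Nonempty (G ≃* alternatingGroup (Fin 8)) ∨ Nonempty (G ≃* alternatingGroup (Fin 9)) ∨ Cfsg.Spor.IsoM12 G := by
  obtain ⟨x, w, h⟩ := W4.exists_hy s hs L hL Q hQ hQex hQcard e X hCQX hnwc
  by_cases hc : IsMulCommutative (Subgroup.normalClosure ({s} : Set G))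
  · exact Or.inl (h.ab hc)
  have := h.simple hc
  obtain ⟨w', a, c, hg, hA | hB⟩ := h.gen
  swap
  · exact Or.inr (Or.inr (Or.inr (hg.typeB hB)))
  obtain ⟨f, F, fz, hQ'⟩ := hg.typeA hA
  obtain ⟨f', F', h13, h24 | ⟨hb, hc'⟩⟩ := F.norm (by rw [fz, ← hQ']; exact hnwc)
  swap
  · obtain ⟨w3, ε, h3⟩ := F'.w3 h13
    exact (F'.nsc h3 hb hc').elim
  obtain ⟨f'', w1, w3, A⟩ := F'.fa h13 h24
  obtain ⟨ψ, H⟩ := A.fh
  have C := H.fc
  have key : ∀ K : Subgroup G, ψ.range ≤ K → W4.cV ψ ≤ K → K = ⊤ := fun K h1 h2 => H.fin h1 fun g hg =>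
    (C.idx g hg).elim (fun e => h2 e) fun e => (Subgroup.mul_mem_cancel_right _ (h1 ⟨W4.tau, rfl⟩)).1 (h2 e)
  rcases C.cases with h1 | ⟨θ, hs, hk⟩
  · exact Or.inr (Or.inl ⟨(MulEquiv.ofBijective ψ ⟨H.inj', MonoidHom.range_eq_top.1 (key _ le_rfl h1)⟩).symm⟩)
  · obtain ⟨y, hy⟩ := C.yd θ hs hk
    obtain ⟨φ, hi, h1, h2⟩ := C.a9 hy
    exact Or.inr (Or.inr (Or.inl ⟨(MulEquiv.ofBijective φ ⟨hi, MonoidHom.range_eq_top.1 (key _ h1 (hy.gen _ h1 h2))⟩).symm⟩))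

end Cfsg.Agent.S3344

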