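import Cfsg.Statements.S3390
import Cfsg.Agent.S3224
import Cfsg.Agent.Transfer.Frobenius

set_option autoImplicit false
open Cfsg

namespace Cfsg.Agent.S3390

open Subgroup MulAction

section
variable {G : Type*} [Group G] [Finite G] {Ω : Type*} [Fintype Ω] [MulAction G Ω]

omit [Finite G] in
theorem three (hfix : ∀ g : G, g ≠ 1 → Nat.card (fixedBy Ω g) ≤ 2) {g : G} {a b c : Ω} (ha : g • a = a) (hb : g • b = b)
    (hc : g • c = c) (hab : a ≠ b) (hac : a ≠ c) (hbc : b ≠ c) : g = 1 := by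
  by_contra h
  have := hfix g h
  rw [Nat.card_coe_set_eq] at this
  exact absurd ((Set.two_lt_ncard_iff (s := fixedBy Ω g) (Set.toFinite _)).2 ⟨a, b, c, ha, hb, hc, hab, hac, hbc⟩) (not_lt.2 this)

omit [Finite G] in
theorem rel_le (hfix : ∀ g : G, g ≠ 1 → Nat.card (fixedBy Ω g) ≤ 2) {t : G} (ht : t ≠ 1) {a : Ω} {N : Subgroup G}
    (h : ∀ n ∈ N, t • n • a = n • a) : (stabilizer G a).relIndex N ≤ 2 := by
  rw [relIndex, show (stabilizer G a).subgroupOf N = stabilizer N a from rfl, index_stabilizer]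
  refine le_trans (Set.ncard_le_ncard (t := fixedBy Ω t) ?_) (hfix t ht)
  rintro _ ⟨n, rfl⟩
  exact h n n.2

theorem dih (hG : IsPGroup 2 G) (hfix : ∀ g : G, g ≠ 1 → Nat.card (fixedBy Ω g) ≤ 2) {a : Ω}
    (ha : Nat.card (stabilizer G a) = 2) (hne : stabilizer G a ≠ ⊤) (hc : ¬ IsCyclic G) :
    (∃ n : ℕ, Nonempty (G ≃* DihedralGroup n)) ∨ IsQuasiDihedral G := by
  haveI : Fact (Nat.Prime 2) := ⟨Nat.prime_two⟩
  obtain ⟨t, ht⟩ := exists_prime_orderOf_dvd_card' (G := stabilizer G a) 2 (ha ▸ dvd_rfl)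
  have ht' : orderOf (t : G) = 2 := by rwa [orderOf_coe]
  have ht1 : (t : G) ≠ 1 := fun e => by simp [e] at ht'
  have hz : zpowers (t : G) = stabilizer G a :=
    eq_of_le_of_card_ge (zpowers_le.2 t.2) (by rw [Nat.card_zpowers, ht', ha])
  have h1 : stabilizer G a ≤ centralizer {(t : G)} :=
    hz.ge.trans (zpowers_le.2 (mem_centralizer_singleton_iff.2 rfl))
  have h2 := rel_le hfix ht1 (a := a) (N := centralizer {(t : G)}) fun n hn => by
    rw [← mul_smul, ← mem_centralizer_singleton_iff.1 hn, mul_smul, mem_stabilizer_iff.1 t.2]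
  have h3 := card_mul_index ((stabilizer G a).subgroupOf (centralizer {(t : G)}))
  rw [Nat.card_congr (subgroupOfEquivOfLe h1).toEquiv, ha, ← relIndex] at h3
  have h4 : (stabilizer G a).relIndex (centralizer {(t : G)}) ≠ 1 := fun e => by
    haveI : Nontrivial G := ⟨_, _, ht1⟩
    haveI := hG.center_nontrivial
    obtain ⟨z, hz1⟩ := exists_ne (1 : center G)
    have h5 : (z : G) ∈ stabilizer G a := relIndex_eq_one.1 e (center_le_centralizer _ z.2)
    have h6 : ∀ g : G, z.1 • g • a = g • a := fun g => by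
      rw [← mul_smul, ← mem_center_iff.1 z.2, mul_smul, mem_stabilizer_iff.1 h5]
    have h7 : zpowers (z : G) = stabilizer G a := eq_of_le_of_card_ge (zpowers_le.2 h5) (by
      rw [Nat.card_zpowers, ha]
      exact lt_of_le_of_ne (orderOf_pos _) fun e => hz1 (Subtype.ext (orderOf_eq_one_iff.1 e.symm)))
    have h8 : (t : G) ∈ center G := (zpowers_le.2 z.2) (h7.ge t.2)
    exact hne (top_le_iff.1 fun g _ => relIndex_eq_one.1 e (mem_centralizer_singleton_iff.2 (mem_center_iff.1 h8 g)))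
  have h5 : (stabilizer G a).relIndex (centralizer {(t : G)}) ≠ 0 := index_ne_zero_of_finite
  rcases S3224.result hG t ht' (by omega) with h | h | h
  · exact Or.inl h
  · exact Or.inr h
  · haveI : Nontrivial G := ⟨_, _, ht1⟩
    haveI : IsKleinFour G := ⟨h, (not_isCyclic_iff_exponent_eq_prime Nat.prime_two h).1 hc⟩
    exact Or.inl ⟨2, IsKleinFour.nonempty_mulEquiv⟩

theorem frob [FaithfulSMul G Ω] [IsPretransitive G Ω] (hfix : ∀ g : G, g ≠ 1 → Nat.card (fixedBy Ω g) ≤ 2) {α : Ω}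
    (S : Sylow 2 G) (h1 : stabilizer S α ≠ ⊥) (h2 : (stabilizer S α).index = 2)
    (h3 : ∀ (s : S) (ω : Ω), s • ω = ω → s ∈ stabilizer S α) :
    ∃ N : Subgroup G, N.Normal ∧ N.index = 2 ∧ ∃ H : Subgroup N, IsFrobeniusComplement H := by
  haveI : Fact (Nat.Prime 2) := ⟨Nat.prime_two⟩
  haveI := normal_of_index_eq_two h2
  have hc : ∀ (x : G) (j : ℕ), x ^ 2 ^ j = 1 → ∃ g : G, g * x * g⁻¹ ∈ (S : Subgroup G) := fun x j hx => by
    obtain ⟨Q, hQ⟩ := (show IsPGroup 2 (zpowers x) from fun ⟨_, i, rfl⟩ => ⟨j, Subtype.ext (by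
      simp only [SubgroupClass.coe_pow, OneMemClass.coe_one]; rw [← zpow_natCast, ← zpow_mul, mul_comm, zpow_mul, zpow_natCast, hx, one_zpow])⟩).exists_le_sylow
    obtain ⟨g, rfl⟩ := exists_smul_eq G S Q
    exact ⟨g⁻¹, by simpa [Sylow.coe_subgroup_smul, mem_pointwise_smul_iff_inv_smul_mem] using hQ (mem_zpowers x)⟩
  have hle : (S : Subgroup G).focalSubgroupOf ≤ (stabilizer S α).comap (MonoidHom.id _) := fun x hx => by
    have := (Transfer.focalSubgroup_le_iff (K := (stabilizer S α).map (S : Subgroup G).subtype)).2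
      (fun y hy g hg => ⟨(⟨y, hy⟩ : S)⁻¹ * ⟨_, hg⟩, (mul_mem_iff_of_index_two h2).2 (by
        rw [inv_mem_iff]
        exact ⟨fun e => h3 _ (g • α) (by
          change (g * y * g⁻¹) • g • α = _
          rw [mul_smul, inv_smul_smul, mul_smul]; exact congrArg _ e), fun e => h3 _ (g⁻¹ • α) (by
          change y • g⁻¹ • α = _
          rw [eq_inv_smul_iff, ← mul_smul, ← mul_smul]; exact e)⟩), rfl⟩) hx
    obtain ⟨y, hy, e⟩ := this
    rwa [← Subtype.ext e]
  let f := (QuotientGroup.map _ _ _ hle).comp (S : Subgroup G).transferFocal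
  have hsq : ∀ (u : S ⧸ stabilizer S α) (n : ℕ), ¬ 2 ∣ n → u ^ n = u := fun u n hn => by
    have : u ^ 2 = 1 := by have := pow_card_eq_one' (x := u); rwa [← index_eq_card, h2] at this
    obtain ⟨k, rfl⟩ : ∃ k, n = 2 * k + 1 := ⟨n / 2, by omega⟩
    rw [pow_succ, pow_mul, this, one_pow, one_mul]
  have hf : ∀ x : S, f x = x := fun x => by
    simp only [f, MonoidHom.comp_apply, transferFocal_eq_pow, map_pow]
    exact hsq _ _ S.not_dvd_index
  have hN : ∀ (x : G) (ω : Ω), x • ω = ω → x ∈ f.ker := fun x ω hx => by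
    obtain ⟨j, m, hm, e⟩ := Nat.exists_eq_two_pow_mul_odd (orderOf_pos x).ne'
    obtain ⟨g, hg⟩ := hc (x ^ m) j (by rw [← pow_mul, mul_comm, ← e, pow_orderOf_eq_one])
    have h4 := hf ⟨_, hg⟩
    rw [(QuotientGroup.eq_one_iff _).2 (h3 ⟨_, hg⟩ (g • ω) (by
      change (g * x ^ m * g⁻¹) • g • ω = _
      rw [mul_smul, inv_smul_smul, mul_smul, mem_stabilizer_iff.1 (pow_mem (mem_stabilizer_iff.2 hx) m)]))] at h4
    simp only [map_mul, map_inv, conj_eq_one_iff, map_pow] at h4
    rwa [hsq _ _ hm.not_two_dvd_nat] at h4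
  have hi : f.ker.index = 2 := by
    rw [index_ker, MonoidHom.range_eq_top.2 fun u => by
      obtain ⟨x, rfl⟩ := QuotientGroup.mk_surjective u; exact ⟨x, hf x⟩, card_top]; exact h2
  obtain ⟨s, hs⟩ : ∃ s : S, s ∉ stabilizer S α := by
    by_contra hh; push Not at hh
    rw [(eq_top_iff' _).2 hh, index_top] at h2; omega
  have hsN : (s : G) ∉ f.ker := fun e => hs ((QuotientGroup.eq_one_iff _).1 ((hf s).symm.trans e))
  have hd : ∀ (g : G) (n : f.ker), n • g • α ≠ g • (s : G) • α := fun g n e => hsN (by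
    have h4 := hN (((g * s)⁻¹ * n * g)) α (by rw [mul_smul, mul_smul, inv_smul_eq_iff, mul_smul]; exact e)
    have h5 := mul_mem h4 (f.normal_ker.conj_mem _ (inv_mem n.2) g⁻¹)
    simpa [mul_assoc] using h5)
  obtain ⟨t, ht, ht1⟩ := (bot_or_exists_ne_one _).resolve_left h1
  refine ⟨f.ker, inferInstance, hi, stabilizer f.ker α, fun e => ht1 ?_, fun e => ht1 ?_, fun n hn => ?_⟩
  · have : (⟨t, hN t α ht⟩ : f.ker) ∈ stabilizer f.ker α := ht
    rw [e] at this
    exact Subtype.ext (congrArg Subtype.val (mem_bot.1 this) :)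
  · refine Subtype.ext (FaithfulSMul.eq_of_smul_eq_smul (α := Ω) fun ω => ?_)
    obtain ⟨g, rfl⟩ := exists_smul_eq G α ω
    have : (⟨_, f.normal_ker.conj_mem _ (hN t α ht) g⁻¹⟩ : f.ker) ∈ stabilizer f.ker α := e ▸ mem_top _
    rw [mem_stabilizer_iff, Subgroup.mk_smul, inv_inv, mul_smul, mul_smul, inv_smul_eq_iff] at this
    simpa using this
  · rw [eq_bot_iff_forall]
    rintro x ⟨hx1, hx2⟩
    by_contra hx
    obtain ⟨r, hr, hd'⟩ := Nat.exists_prime_and_dvd (mt orderOf_eq_one_iff.1 hx)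
    haveI := Fact.mk hr
    have hy := orderOf_pow_orderOf_div (orderOf_pos x).ne' hd'
    have hy1 : (x ^ (orderOf x / r)) • α = α := pow_mem hx1 _
    have hy2 : (x ^ (orderOf x / r)) • n • α = n • α := by
      have : x ∈ stabilizer f.ker (n • α) := by
        rw [stabilizer_smul_eq_stabilizer_map_conj]; exact hx2
      exact pow_mem this _
    generalize x ^ (orderOf x / r) = y at hy hy1 hy2
    have hy0 : (y : G) ≠ 1 := fun e => hr.one_lt.ne' (by rw [← hy, orderOf_eq_one_iff]; exact Subtype.ext e)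
    have hyf : ∀ ω, y • ω = ω → ω ∈ orbit f.ker α := fun ω hω => by
      by_contra e
      exact hy0 (three hfix hy1 hy2 hω (Ne.symm hn) (fun e1 => e (e1 ▸ mem_orbit_self _))
        fun e1 => e (e1 ▸ mem_orbit _ _))
    have hP : IsPGroup r (zpowers y) := IsPGroup.of_card (n := 1) (by rw [Nat.card_zpowers, hy, pow_one])
    have h4 : r = 2 := by
      have h5 : r ∣ Nat.card (orbit f.ker ((s : G) • α)) := by
        by_contra e
        obtain ⟨⟨_, m, rfl⟩, h6⟩ := hP.nonempty_fixed_point_of_prime_not_dvd_card _ e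
        obtain ⟨m', h7⟩ := hyf _ (congrArg Subtype.val (h6 ⟨y, mem_zpowers y⟩))
        exact hd 1 (m⁻¹ * m') (by simpa [mul_smul, inv_smul_eq_iff] using h7)
      have h6 : r ∣ Nat.card Ω := by
        rw [← index_stabilizer_of_transitive G ((s : G) • α),
          ← relIndex_mul_index (show stabilizer G ((s : G) • α) ≤ f.ker from fun x hx => hN x _ hx)]
        exact Dvd.dvd.mul_right (by rwa [Nat.card_coe_set_eq, ← index_stabilizer] at h5) _
      have h7 := (Nat.modEq_zero_iff_dvd.2 h6).symm.trans (hP.card_modEq_card_fixedPoints Ω)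
      have h8 : fixedPoints (zpowers y) Ω = fixedBy Ω (y : G) := Set.ext fun ω =>
        ⟨fun e => e ⟨y, mem_zpowers y⟩, fun e u => (zpowers_le.2 (show y ∈ stabilizer f.ker ω from e)) u.2⟩
      rw [h8] at h7
      haveI : Nonempty (fixedBy Ω (y : G)) := ⟨⟨α, hy1⟩⟩
      exact le_antisymm ((Nat.le_of_dvd Nat.card_pos (Nat.modEq_zero_iff_dvd.1 h7.symm)).trans (hfix _ hy0)) hr.two_le
    subst h4
    obtain ⟨g, hg⟩ := hc y 1 (by have := pow_orderOf_eq_one (y : G); rwa [orderOf_coe, hy] at this)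
    have h5 : (⟨_, hg⟩ : S) ∈ stabilizer S α := h3 _ (g • α) (by
      change (g * y * g⁻¹) • g • α = _
      rw [mul_smul, inv_smul_smul, mul_smul]; exact congrArg _ hy1)
    have h6 : ∀ u : S, y • g⁻¹ • (u : G) • α = g⁻¹ • (u : G) • α := fun u => by
      have := mem_stabilizer_iff.1 (Normal.conj_mem inferInstance _ h5 u⁻¹)
      rw [inv_inv, mul_smul, mul_smul, inv_smul_eq_iff] at this
      rw [eq_inv_smul_iff, Subgroup.smul_def, ← mul_smul, ← mul_smul]; exact this
    obtain ⟨m, hm⟩ := hyf _ (h6 1)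
    obtain ⟨m', hm'⟩ := hyf _ (h6 s)
    refine hd g⁻¹ (m' * m⁻¹) ?_
    simp only [OneMemClass.coe_one, one_smul] at hm hm'
    rw [← hm, ← hm', mul_smul, inv_smul_smul]
end

/-- Let G be a finite group acting faithfully and transitively on a finite set Ω with fixity 2 (every non-identity element fixes at most two points, and some fixes exactly two). Let α ∈ Ω and S a Sylow 2-subgroup of G. Then one of the following holds: the stabilizer S_α of α in S is trivial; S is dihedral or semidihedral and either |S_α| = 2 or |S : S_α| = 2; |S| ≥ 4, S has exactly one orbit of size 2 on Ω, every other S-orbit is regular, and G has a normal subgroup of index 2 or of index |S| which is a Frobenius group; or S ≤ G_α. -/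
theorem result {G : Type*} [Group G] [Finite G] {Ω : Type*} [Fintype Ω] [MulAction G Ω] [FaithfulSMul G Ω] (htr : MulAction.IsPretransitive G Ω)
    (hfix : ∀ g : G, g ≠ 1 → Nat.card (MulAction.fixedBy Ω g) ≤ 2) (hex : ∃ g : G, g ≠ 1 ∧ Nat.card (MulAction.fixedBy Ω g) = 2) (α : Ω) (S : Sylow 2 G) :
    (S : Subgroup G) ⊓ MulAction.stabilizer G α = ⊥ ∨
    (((∃ n : ℕ, Nonempty (↥(S : Subgroup G) ≃* DihedralGroup n)) ∨ Cfsg.IsQuasiDihedral ↥(S : Subgroup G)) ∧
       (Nat.card ↥((S : Subgroup G) ⊓ MulAction.stabilizer G α) = 2 ∨ ((S : Subgroup G) ⊓ MulAction.stabilizer G α).relIndex (S : Subgroup G) = 2)) ∨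
    (4 ≤ Nat.card (S : Subgroup G) ∧
       (∃ ω : Ω, Nat.card (MulAction.orbit ↥(S : Subgroup G) ω) = 2 ∧
          ∀ ω' : Ω, ω' ∉ MulAction.orbit ↥(S : Subgroup G) ω → Nat.card (MulAction.orbit ↥(S : Subgroup G) ω') = Nat.card (S : Subgroup G)) ∧
       ∃ N : Subgroup G, N.Normal ∧ (N.index = 2 ∨ N.index = Nat.card (S : Subgroup G)) ∧ (∃ H : Subgroup ↥N, Cfsg.IsFrobeniusComplement H)) ∨
    (S : Subgroup G) ≤ MulAction.stabilizer G α := by
  haveI : Fact (Nat.Prime 2) := ⟨Nat.prime_two⟩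
  have hT : (stabilizer G α).subgroupOf S = stabilizer S α := rfl
  have hc : Nat.card ↥((S : Subgroup G) ⊓ stabilizer G α) = Nat.card (stabilizer S α) := by
    rw [← hT, ← inf_subgroupOf_left, Nat.card_congr (subgroupOfEquivOfLe inf_le_left).toEquiv]
  have hi : ((S : Subgroup G) ⊓ stabilizer G α).relIndex S = (stabilizer S α).index := by
    rw [inf_relIndex_left]; rfl
  rw [hc, hi, ← subgroupOf_eq_top, hT, ← card_eq_one, hc, card_eq_one]
  have hf : ∀ g : S, g ≠ 1 → Nat.card (fixedBy Ω g) ≤ 2 := fun g hg => hfix g fun e => hg (Subtype.ext e)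
  by_cases h1 : stabilizer S α = ⊥
  · exact Or.inl h1
  by_cases h2 : stabilizer S α = ⊤
  · exact Or.inr (Or.inr (Or.inr h2))
  obtain ⟨t, ht, ht1⟩ := (bot_or_exists_ne_one _).resolve_left h1
  have hcard : ∀ H K : Subgroup S, ∀ N, K ≤ N → H ⊓ K = ⊥ → H.relIndex N ≤ 2 → K ≠ ⊥ → Nat.card K = 2 :=
    fun H K N h3 h4 h5 h6 => by
      have h7 := (relIndex_le_of_le_right h3 index_ne_zero_of_finite).trans h5
      rw [← inf_relIndex_right, h4, relIndex_bot_left] at h7
      have := (one_lt_card_iff_ne_bot K).2 h6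
      omega
  haveI := S.isPGroup'.isNilpotent
  have hlt : NormalizerCondition S := normalizerCondition_of_isNilpotent
  have hn : ∀ n ∈ normalizer (stabilizer S α : Set S), ∀ x ∈ stabilizer S α, x • n • α = n • α := fun n hn x hx => by
    have := mem_stabilizer_iff.1 ((mem_normalizer_iff.1 (inv_mem hn) x).1 hx)
    rwa [inv_inv, mul_smul, mul_smul, inv_smul_eq_iff] at this
  have h3 := rel_le hf ht1 fun n h => hn n h t ht
  obtain ⟨n, hn1, hn2⟩ := SetLike.exists_of_lt (hlt _ (lt_top_iff_ne_top.2 h2))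
  have hcy : ∀ K : Subgroup S, stabilizer S α ⊓ K = ⊥ → K ≠ ⊥ → ¬ IsCyclic S := fun K h4 h5 h6 => by
    have hinv : ∀ L : Subgroup S, L ≠ ⊥ → ∃ x ∈ L, orderOf x = 2 := fun L hL => by
      obtain ⟨k, hk⟩ := IsPGroup.iff_card.1 (S.isPGroup'.to_subgroup L)
      obtain ⟨x, hx⟩ := exists_prime_orderOf_dvd_card' (G := L) 2 (by
        rw [hk]; exact dvd_pow_self _ fun e => hL (card_eq_one.1 (by rw [hk, e, pow_zero])))
      exact ⟨x, x.2, by rwa [orderOf_coe]⟩
    obtain ⟨x, hx, hx2⟩ := hinv _ h1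
    obtain ⟨y, hy, hy2⟩ := hinv _ h5
    have : x = y := by
      classical
      haveI := Fintype.ofFinite S
      have h := IsCyclic.card_orderOf_eq_totient (α := S) (d := 2) (hx2.symm.dvd.trans orderOf_dvd_card)
      exact Finset.card_le_one.1 h.le _ (by simpa) _ (by simpa)
    have : x = 1 := mem_bot.1 (h4 ▸ ⟨hx, this ▸ hy⟩)
    simp [this] at hx2
  by_cases h4 : normalizer (stabilizer S α : Set S) = ⊤
  · rw [h4, relIndex_top_right] at h3
    have h5 : (stabilizer S α).index = 2 := by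
      have h8 : (stabilizer S α).index ≠ 1 := mt index_eq_one.1 h2
      have h9 : (stabilizer S α).index ≠ 0 := index_ne_zero_of_finite
      have h10 : (stabilizer S α).index ≤ 2 := h3
      omega
    have h6 : ∀ ω ∉ orbit S α, stabilizer S α ⊓ stabilizer S ω = ⊥ := fun ω hω => (eq_bot_iff_forall _).2
      fun x hx => three hf hx.1 (hn n hn1 x hx.1) hx.2 (Ne.symm hn2) (fun e => hω (e ▸ mem_orbit_self _))
        fun e => hω (e ▸ mem_orbit _ _)
    by_cases h7 : ∀ ω ∉ orbit S α, stabilizer S ω = ⊥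
    · refine Or.inr (Or.inr (Or.inl ⟨?_, ⟨α, by rw [Nat.card_coe_set_eq, ← index_stabilizer, h5], fun ω hω => by
        rw [Nat.card_coe_set_eq, ← index_stabilizer, h7 ω hω, index_bot]⟩, ?_⟩))
      · have := (one_lt_card_iff_ne_bot _).2 h1
        rw [← (stabilizer S α).card_mul_index, h5]; omega
      · obtain ⟨N, h8, h9, h10⟩ := frob hfix S h1 h5 fun s ω hs => by
          by_cases e : ω ∈ orbit S α
          · obtain ⟨u, rfl⟩ := e
            have := (mem_normalizer_iff.1 (h4 ▸ mem_top u) (u⁻¹ * s * u)).1 (by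
              rw [mem_stabilizer_iff, mul_smul, mul_smul, inv_smul_eq_iff]; exact hs)
            rwa [show u * (u⁻¹ * s * u) * u⁻¹ = s by group] at this
          · rw [mem_bot.1 ((h7 ω e).le hs)]; exact one_mem _
        exact ⟨N, h8, Or.inl h9, h10⟩
    · push Not at h7
      obtain ⟨ω, h8, h9⟩ := h7
      exact Or.inr (Or.inl ⟨dih S.isPGroup' hf (hcard _ _ ⊤ le_top (h6 ω h8) (by rw [relIndex_top_right, h5]) h9)
        (fun e => h1 (by simpa [e] using h6 ω h8)) (hcy _ (h6 ω h8) h9), Or.inr h5⟩)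
  · obtain ⟨g, hg1, hg2⟩ := SetLike.exists_of_lt (hlt _ (lt_top_iff_ne_top.2 h4))
    have h5 : stabilizer S α ⊓ stabilizer S (g • α) = ⊥ := (eq_bot_iff_forall _).2 fun x hx =>
      three hf hx.1 (hn n hn1 x hx.1) hx.2 (Ne.symm hn2) (fun e => hg2 (le_normalizer e.symm)) fun e => hg2 (by
        simpa using mul_mem hn1 (le_normalizer (show n⁻¹ * g ∈ stabilizer S α by
          rw [mem_stabilizer_iff, mul_smul, inv_smul_eq_iff, e])))
    have h6 : Nat.card (stabilizer S (g • α)) = Nat.card (stabilizer S α) :=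
      Nat.card_congr (stabilizerEquivStabilizer rfl).symm.toEquiv
    have h7 : stabilizer S (g • α) ≠ ⊥ := fun e => h1 (by rwa [e, card_bot, eq_comm, card_eq_one] at h6)
    have h8 := hcard _ _ _ (fun x hx => by
      simpa [mul_assoc] using (mem_normalizer_iff.1 hg1 (g⁻¹ * x * g)).1 (le_normalizer (by
        rw [mem_stabilizer_iff, mul_smul, mul_smul, inv_smul_eq_iff]; exact hx))) h5 h3 h7
    exact Or.inr (Or.inl ⟨dih S.isPGroup' hf (h6 ▸ h8) h2 (hcy _ h5 h7), Or.inl (h6 ▸ h8)⟩)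

end Cfsg.Agent.S3390
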