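import Cfsg.Statements.S3501
import Cfsg.Agent.Loc.Ons2
import Cfsg.Agent.Perm.Sharp2

set_option autoImplicit false
open Cfsg

namespace Cfsg.Agent.S3501

/-- Let a finite group G act faithfully and primitively on a finite set Ω with at least two points, and suppose G is not almost simple (it has no non-abelian simple normal subgroup with trivial centralizer). Then the derangements of G form a single conjugacy class if and only if G is sharply 2-transitive (2-transitive, and no non-identity element fixes two points). -/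
theorem result {G : Type*} [Group G] [Finite G] {Ω : Type*} [Fintype Ω] [MulAction G Ω] [FaithfulSMul G Ω] (hΩ : 2 ≤ Fintype.card Ω) (hprim : MulAction.IsPreprimitive G Ω) (hnas : ¬ ∃ T : Subgroup G, T.Normal ∧ IsSimpleGroup T ∧ ¬ IsMulCommutative T ∧ Subgroup.centralizer (T : Set G) = ⊥) :
    Nat.card {c : ConjClasses G // ∃ g : G, ConjClasses.mk g = c ∧ ∀ ω : Ω, g • ω ≠ ω} = 1 ↔ (MulAction.IsMultiplyPretransitive G Ω 2 ∧ ∀ g : G, g ≠ 1 → ∀ a b : Ω, a ≠ b → g • a = a → g • b ≠ b) := by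
  open Cfsg.Agent.Loc Subgroup in
  open scoped commutatorElement in
  have : Nontrivial Ω := Fintype.one_lt_card_iff_nontrivial.1 hΩ
  obtain ⟨α⟩ : Nonempty Ω := inferInstance
  rw [kappa_one]
  rcases prim_tri (G := G) (Ω := Ω) with ⟨N, r, -, nN, h0, ⟨hc, -⟩, ht, hr⟩ | h1 | ⟨hF, T, U, hT, hU, hne⟩
  · obtain ⟨⟨x, hx⟩, x1⟩ := (ne_bot_iff_exists_ne_one).1 h0
    have x1 : x ≠ 1 := fun e => x1 (Subtype.ext e)
    rw [two_trans_iff ht hr hc]
    refine ⟨fun ⟨u, hu, h⟩ => ⟨fun a ha b hb a1 b1 => (h a (reg_der hr ha a1)).trans (h b (reg_der hr hb b1)).symm,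
      frob_of_der hr fun w hw => mem_of_isConj ((h w hw).trans (h x (reg_der hr hx x1)).symm) hx⟩,
      fun ⟨h, hf⟩ => ⟨x, reg_der hr hx x1, fun w hw => h w (mem_of_der ht hr hf hw) x hx
        (fun e => hw α (by rw [e, one_smul])) x1⟩⟩
  · exact absurd h1 hnas
  obtain ⟨a, b, c, ha, hb, hc, h1, -⟩ := three_der hF hT hU hne α
  refine ⟨fun ⟨u, hu, h⟩ => absurd ((h a ha).trans (h b hb).symm) h1, fun ⟨h2, hf⟩ => ?_⟩
  obtain ⟨N, nN, h0, -, -, hc, -⟩ := Perm.sharp2_exists_kernel h2 fun g x y hxy e1 e2 =>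
    by_contra fun g1 => hf g g1 x y hxy e1 e2
  have := Perm.isMulCommutative_of_forall hc
  exact absurd (le_bot_iff.1 (hF ▸ Sig.le_fitIn le_top le_normalizer_of_normal
    (Solv.isNilpotent_of_isMulCommutative N))) h0

end Cfsg.Agent.S3501
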