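import Cfsg.Statements.S3520
import Cfsg.Agent.Loc.Ons2

set_option autoImplicit false
open Cfsg

namespace Cfsg.Agent.S3520

/-- Let a finite group G act faithfully and primitively on a finite set Ω with at least two points, suppose G is not almost simple (no non-abelian simple normal subgroup with trivial centralizer), and suppose the derangements of G form exactly two conjugacy classes. Then either Ω has 3 points and G has order 3; or G has a non-trivial abelian normal subgroup N acting regularly, every non-identity element of G fixes at most one point (so, when n > 3, G is a Frobenius group with kernel N), the number n of points is odd and a point stabilizer has order (n − 1)/2; or G is 2-transitive with a non-trivial abelian regular normal subgroup and some non-identity element fixes at least two points (a non-Frobenius 2-transitive affine group). -/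
theorem result {G : Type*} [Group G] [Finite G] {Ω : Type*} [Fintype Ω] [MulAction G Ω] [FaithfulSMul G Ω] (hΩ : 2 ≤ Fintype.card Ω) (hprim : MulAction.IsPreprimitive G Ω) (hnas : ¬ ∃ T : Subgroup G, T.Normal ∧ IsSimpleGroup T ∧ ¬ IsMulCommutative T ∧ Subgroup.centralizer (T : Set G) = ⊥)
    (hκ : Nat.card {c : ConjClasses G // ∃ g : G, ConjClasses.mk g = c ∧ ∀ ω : Ω, g • ω ≠ ω} = 2) (α : Ω) :
    (Fintype.card Ω = 3 ∧ Nat.card G = 3) ∨
    ((∃ N : Subgroup G, N.Normal ∧ N ≠ ⊥ ∧ IsMulCommutative N ∧ ∀ ω : Ω, MulAction.stabilizer N ω = ⊥) ∧ (∀ g : G, g ≠ 1 → Nat.card (MulAction.fixedBy Ω g) ≤ 1) ∧ ¬ 2 ∣ Fintype.card Ω ∧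
        2 * Nat.card (MulAction.stabilizer G α) = Fintype.card Ω - 1) ∨
    ((∃ N : Subgroup G, N.Normal ∧ N ≠ ⊥ ∧ IsMulCommutative N ∧ ∀ ω : Ω, MulAction.stabilizer N ω = ⊥) ∧ MulAction.IsMultiplyPretransitive G Ω 2 ∧ ∃ g : G, g ≠ 1 ∧ 2 ≤ Nat.card (MulAction.fixedBy Ω g)) := by
  open Cfsg.Agent.Loc Subgroup in
  open scoped commutatorElement in
  have : Nontrivial Ω := Fintype.one_lt_card_iff_nontrivial.1 hΩ
  obtain ⟨u, v, hu, hv, huv, h⟩ := kappa_two hκ
  right
  rcases prim_tri (G := G) (Ω := Ω) with ⟨N, r, -, nN, h0, ⟨hc, -⟩, ht, hr⟩ | h1 | ⟨hF, T, U, hT, hU, hne⟩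
  · by_cases hf : Frob1 G Ω
    · have n1 : ∀ w : G, IsDer Ω w → w ≠ 1 := fun w hw e => hw α (by rw [e, one_smul])
      have := two_classes_card ht hr hc hf (mem_of_der ht hr hf hu) (mem_of_der ht hr hf hv) (n1 u hu) (n1 v hv) huv
        (fun w hw w1 => h w (reg_der hr hw w1)) α
      rw [Nat.card_eq_fintype_card (α := Ω)] at this
      exact .inl ⟨⟨N, nN, h0, hc, hr⟩, frob_iff.1 hf, by omega, by omega⟩
    refine .inr ⟨⟨N, nN, h0, hc, hr⟩, (two_trans_iff ht hr hc).2 fun x hx y hy x1 y1 => by_contra fun hxy => ?_, ?_⟩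
    · refine hf (frob_of_der hr fun w hw => ?_)
      rcases h x (reg_der hr hx x1) with e1 | e1 <;> rcases h y (reg_der hr hy y1) with e2 | e2
      · exact absurd (e1.trans e2.symm) hxy
      · exact (h w hw).elim (fun e => mem_of_isConj (e.trans e1.symm) hx) fun e => mem_of_isConj (e.trans e2.symm) hy
      · exact (h w hw).elim (fun e => mem_of_isConj (e.trans e2.symm) hy) fun e => mem_of_isConj (e.trans e1.symm) hx
      · exact absurd (e1.trans e2.symm) hxy
    · rw [frob_iff] at hf
      push Not at hf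
      exact hf
  · exact absurd h1 hnas
  obtain ⟨a, b, c, ha, hb, hc, h1, h2, h3⟩ := three_der hF hT hU hne α
  exfalso
  rcases h a ha with e1 | e1 <;> rcases h b hb with e2 | e2 <;> rcases h c hc with e3 | e3 <;>
    first | exact h1 (e1.trans e2.symm) | exact h2 (e1.trans e3.symm) | exact h3 (e2.trans e3.symm)

end Cfsg.Agent.S3520
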