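import Cfsg.Statements.S3554
import Cfsg.Agent.Perm.Regular
import Cfsg.Agent.FG.PrimeGraph

set_option autoImplicit false
open Cfsg

namespace Cfsg.Agent.S3554

open Cfsg.Agent.BG Cfsg.Agent.FG Subgroup

/-- Let G act faithfully and transitively on a finite set and suppose G has a non-trivial cyclic normal subgroup. Then some element of G of prime order fixes no point. -/
theorem result {G Ω : Type*} [Group G] [Finite G] [MulAction G Ω] [FaithfulSMul G Ω] [Finite Ω]
    (htrans : MulAction.IsPretransitive G Ω) (C : Subgroup G) (hC : C.Normal) (hC1 : C ≠ ⊥) (hcyc : IsCyclic ↥C) :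
    ∃ g : G, (orderOf g).Prime ∧ ∀ ω : Ω, g • ω ≠ ω := by
  obtain ⟨p, hp, x, hx, rfl⟩ := Perm.exists_prime_orderOf hC1
  refine ⟨x, hp, fun ω h2 => ?_⟩
  obtain ⟨a, ha⟩ := Perm.exists_smul_ne (α := Ω) (ne_one_of_prime hp)
  obtain ⟨g, rfl⟩ := MulAction.exists_smul_eq G ω a
  have h3 : (zpowers x).Normal := normal_top_iff.1 (sub_cyclic_normal hcyc (zpowers_le_of_mem hx) (normal_top_iff.2 hC))
  have : g⁻¹ * x * g ∈ MulAction.stabilizer G ω := zpowers_le_of_mem (H := MulAction.stabilizer G ω) h2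
    (h3.conj_mem' _ (mem_zpowers x) g)
  rw [MulAction.mem_stabilizer_iff, mul_smul, mul_smul, inv_smul_eq_iff] at this
  exact ha this

end Cfsg.Agent.S3554
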