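import Cfsg.Statements.S3555
import Cfsg.Agent.FG.Derange
import Cfsg.Agent.Perm.FrobKernel
import Cfsg.Agent.Frob.Basic

set_option autoImplicit false
open Cfsg

namespace Cfsg.Agent.S3555

open Cfsg.Agent.FG Subgroup MulAction

/-- Let G act faithfully and transitively on a finite set and suppose every element of G fixing no point is an involution. Then either G is an elementary abelian 2-group, or G is a Frobenius group whose Frobenius kernel is an elementary abelian 2-group: G has a Frobenius complement H, and the elements lying in no conjugate of H, together with the identity, pairwise commute and square to the identity. -/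
theorem result {G Ω : Type*} [Group G] [Finite G] [MulAction G Ω] [FaithfulSMul G Ω] [Finite Ω]
    (htrans : MulAction.IsPretransitive G Ω) (hinv : ∀ g : G, (∀ ω : Ω, g • ω ≠ ω) → orderOf g = 2) :
    (IsMulCommutative G ∧ ∀ g : G, g ^ 2 = 1) ∨
    (∃ H : Subgroup G, Cfsg.IsFrobeniusComplement H ∧
      (∀ x ∈ Cfsg.frobeniusKernel H, x ^ 2 = 1) ∧
      ∀ x ∈ Cfsg.frobeniusKernel H, ∀ y ∈ Cfsg.frobeniusKernel H, x * y = y * x) := by
  rcases isEmpty_or_nonempty Ω with h | ⟨⟨a⟩⟩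
  · simpa using hinv 1 isEmptyElim
  haveI := Fintype.ofFinite G
  haveI : Nonempty Ω := ⟨a⟩
  have h1 : ∀ g : G, (nfix Ω g ^ 2 + Nat.card Ω ≤ nfix Ω (g ^ 2) + Nat.card Ω * nfix Ω g) ∧
      (nfix Ω g ^ 2 + Nat.card Ω = nfix Ω (g ^ 2) + Nat.card Ω * nfix Ω g → g ≠ 1 → nfix Ω g ≤ 1) := fun g => by
    rcases Nat.eq_zero_or_pos (nfix Ω g) with e | e
    · rw [show g ^ 2 = 1 from hinv g (nfix_eq_zero.1 e) ▸ pow_orderOf_eq_one g, nfix_one, e]; simp
    have h1 : nfix Ω g ≤ nfix Ω (g ^ 2) := Nat.card_mono (Set.toFinite _) fun x (hx : g • x = x) =>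
      show g ^ 2 • x = x by rw [sq, mul_smul, hx, hx]
    have h2 := nfix_le (Ω := Ω) g
    refine ⟨by nlinarith, fun h h3 => ?_⟩
    have := h2.lt_of_ne (mt eq_one_of_nfix h3)
    nlinarith
  have h2 := (Finset.sum_eq_sum_iff_of_le (s := Finset.univ) fun g _ => (h1 g).1).1 (le_antisymm
    (Finset.sum_le_sum fun g _ => (h1 g).1) (by
      rw [Finset.sum_add_distrib, Finset.sum_add_distrib, ← Finset.mul_sum, sum_nfix_eq, Finset.sum_const,
        Finset.card_univ, ← Nat.card_eq_fintype_card, smul_eq_mul, mul_comm]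
      exact Nat.add_le_add_right sum_nfix_sq_le _))
  have h3 : ∀ g : G, ∀ x y : Ω, x ≠ y → g • x = x → g • y = y → g = 1 := fun g x y h hx hy => by_contra fun e =>
    ((h1 g).2 (h2 g (Finset.mem_univ g)) e).not_gt (two_le_nfix h hx hy)
  obtain ⟨N, -, h4, -⟩ := Perm.exists_frobenius_kernel h3
  have h5 : ∀ x ∈ N, x ^ 2 = 1 := fun x hx => ((h4 x).1 hx).elim (by rintro rfl; simp) fun h => hinv x h ▸ pow_orderOf_eq_one x
  have h6 : ∀ x ∈ N, ∀ y ∈ N, x * y = y * x := fun x hx y hy => by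
    have e : ∀ x ∈ N, x⁻¹ = x := fun x hx => inv_eq_of_mul_eq_one_left (sq x ▸ h5 x hx)
    rw [← e _ (N.mul_mem hx hy), mul_inv_rev, e x hx, e y hy]
  have h7 : ∀ x ∈ frobeniusKernel (stabilizer G a), x ∈ N := fun x hx => (h4 x).2 <| (Frob.mem_frobeniusKernel.1 hx).imp_right
    fun h y e => let ⟨g, hg⟩ := exists_smul_eq G a y
      h g (by rw [mem_stabilizer_iff, mul_smul, mul_smul, hg, e, ← hg, inv_smul_smul])
  by_cases h8 : stabilizer G a = ⊥
  · have h9 : ∀ x, x ∈ N := fun x => h7 x <| Frob.mem_frobeniusKernel.2 <| or_iff_not_imp_left.2 fun e g hg => e (by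
      simpa [h8, mul_assoc, inv_mul_eq_one] using hg)
    exact .inl ⟨⟨⟨fun x y => h6 x (h9 x) y (h9 y)⟩⟩, fun g => h5 g (h9 g)⟩
  refine .inr ⟨_, Frob.isFrobeniusComplement_iff.2 ⟨h8, fun e => h8 (eq_bot_iff.2 fun g _ => eq_of_smul_eq_smul (α := Ω) fun z => ?_),
    fun g x hx x1 hg => by_contra fun e => x1 (h3 x a (g • a) (Ne.symm e) hx ?_)⟩, fun x hx => h5 x (h7 x hx),
    fun x hx y hy => h6 x (h7 x hx) y (h7 y hy)⟩
  · obtain ⟨k, rfl⟩ := exists_smul_eq G a z
    rw [← mul_smul, ← mul_smul]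
    exact (e.ge (mem_top _)).trans (e.ge (mem_top _)).symm
  · rwa [mem_stabilizer_iff, mul_smul, mul_smul, inv_smul_eq_iff] at hg

end Cfsg.Agent.S3555
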