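import Cfsg.Statements.S3556
import Cfsg.Agent.Loc.Ons

set_option autoImplicit false
open Cfsg

namespace Cfsg.Agent.S3556

/-- Let G act faithfully and primitively on a finite set with at least two points, and suppose that for some fixed prime p every element of G fixing no point has order a power of p. Then G is of affine type (it has a regular normal subgroup that is an elementary abelian r-group for some prime r) or almost simple (it has a non-abelian simple normal subgroup with trivial centralizer). -/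
theorem result {G Ω : Type*} [Group G] [Finite G] [MulAction G Ω] [FaithfulSMul G Ω] [Finite Ω]
    (hprim : MulAction.IsPreprimitive G Ω) (hΩ : 2 ≤ Nat.card Ω) (p : ℕ) (hp : p.Prime)
    (hder : ∀ g : G, (∀ ω : Ω, g • ω ≠ ω) → ∃ k : ℕ, orderOf g = p ^ k) :
    (∃ (N : Subgroup G) (r : ℕ), r.Prime ∧ N.Normal ∧ Cfsg.IsElementaryAbelian r N ∧
      MulAction.IsPretransitive N Ω ∧ ∀ a : Ω, MulAction.stabilizer N a = ⊥) ∨
    (∃ T : Subgroup G, T.Normal ∧ IsSimpleGroup ↥T ∧ ¬ IsMulCommutative ↥T ∧
      Subgroup.centralizer (T : Set G) = ⊥) := by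
  open Cfsg.Agent.Loc Subgroup in
  open scoped commutatorElement in
  have : Nontrivial Ω := Finite.one_lt_card_iff_nontrivial.1 hΩ
  have := Fact.mk hp
  obtain ⟨α⟩ : Nonempty Ω := inferInstance
  rcases prim_tri (G := G) (Ω := Ω) with ⟨N, r, h1, h2, -, h⟩ | h | ⟨hF, T, U, hT, hU, hne⟩
  · exact .inl ⟨N, r, h1, h2, h⟩
  · exact .inr h
  exfalso
  have ns : ∀ T : Subgroup G, Sig.CompIn T ⊤ → ¬ IsPGroup p T := fun T hT h => by
    have := h.isNilpotent
    exact Sig.qs_not_isSolvable hT.qs inferInstance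
  rcases der_dich hF hT α with h | ⟨t, ht, h⟩
  · refine ns T hT fun x => ?_
    by_cases e : (x : G) = 1
    · exact ⟨0, Subtype.ext (by simpa using e)⟩
    · obtain ⟨k, hk⟩ := hder x (h x x.2 e)
      exact ⟨k, Subtype.ext (by simp [← hk])⟩
  · refine ns U hU fun y => ?_
    have c := comp_cent hT hU hne y.2
    obtain ⟨k, hk⟩ := hder _ (h y ⟨hU.le_layerIn y.2, c⟩)
    have e := pow_orderOf_eq_one (t * y)
    rw [hk, Commute.mul_pow (c t ht)] at e
    refine ⟨k, Subtype.ext (comp_center hF hT ?_ (pow_mem c _))⟩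
    rw [coe_pow, eq_inv_of_mul_eq_one_right e]
    exact inv_mem (pow_mem ht _)

end Cfsg.Agent.S3556
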