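import Cfsg.Statements.S3557
import Cfsg.Agent.PGrp.Basic
import Cfsg.Agent.Gen.EqOrder

set_option autoImplicit false
open Cfsg

namespace Cfsg.Agent.S3557

open Subgroup MulAction

theorem key {P Ω : Type*} [Group P] [Finite P] [MulAction P Ω] {p : ℕ} [hp : Fact p.Prime] (hP : IsPGroup p P)
    {z : P} (hz : z ∈ center P) {a b : Ω} (ha : z • a ≠ a) (hb : z • b = b)
    (ia : (stabilizer P a).index = p ^ 2) (ib : (stabilizer P b).index = p ^ 2) :
    ∃ u : P, (∀ g : P, u • g • b ≠ g • b) ∧ (∀ g : P, u ^ p • g • b = g • b) ∧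
      ∀ g h : P, ∃ v : P, v • g • a = g • a ∧ v • h • b = u • h • b := by
  have hzb : ∀ (k : ℤ) (g : P), z ^ k • g • b = g • b := fun k g => by
    rw [← mul_smul, ← mem_center_iff.1 (zpow_mem hz k), mul_smul, mem_stabilizer_iff.1 (zpow_mem (mem_stabilizer_iff.2 hb) k)]
  have h1 : (stabilizer P a ⊔ zpowers z).index ∣ p := by
    have h2 := index_dvd_of_le (le_sup_left : stabilizer P a ≤ stabilizer P a ⊔ zpowers z)
    rw [ia] at h2
    obtain ⟨k, hk, e⟩ := (Nat.dvd_prime_pow hp.out).1 h2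
    have : k ≠ 2 := fun e' => ha (by
      have h3 := relIndex_mul_index (le_sup_left : stabilizer P a ≤ stabilizer P a ⊔ zpowers z)
      rw [e, e', ia, mul_eq_right₀ (pow_ne_zero _ hp.out.ne_zero), relIndex_eq_one] at h3
      exact h3 (mem_sup_right (mem_zpowers z)))
    rw [e]
    exact (pow_dvd_pow p (by omega : k ≤ 1)).trans (pow_one p).dvd
  haveI : (stabilizer P a ⊔ zpowers z).Normal := by
    rcases (Nat.dvd_prime hp.out).1 h1 with h | h
    · exact normal_of_index_eq_one h
    · exact PGrp.normal_of_index_eq hP h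
  have hK : ∀ x, x ∈ (stabilizer P b).normalCore ↔ ∀ g : P, x • g • b = g • b := fun x =>
    ⟨fun h g => by
      have := mem_stabilizer_iff.1 (h g⁻¹)
      rwa [inv_inv, mul_smul, mul_smul, inv_smul_eq_iff] at this, fun h g => by
      rw [mem_stabilizer_iff, mul_smul, mul_smul, h, smul_inv_smul]⟩
  obtain ⟨u, hu, h2, h3, h4⟩ := PGrp.exists_central_mod_pow hP (M := (stabilizer P b).normalCore)
    (N := stabilizer P a ⊔ zpowers z) fun h => by
      have := Nat.le_of_dvd hp.out.pos ((ib ▸ index_dvd_of_le (h.trans (normalCore_le _))).trans h1)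
      have := hp.out.two_le
      nlinarith
  refine ⟨u, fun g e => h2 ((hK _).2 fun h => ?_), (hK _).1 h3, fun g h => ?_⟩
  · have := (hK _).1 (h4 (h * g⁻¹)) (h * g⁻¹ * u * g)
    simp only [commutatorElement_def, mul_smul, mul_inv_rev, inv_inv, inv_smul_smul, smul_inv_smul] at this
    rw [this, e, inv_smul_smul]
  · haveI : (zpowers z).Normal := ⟨fun n hn g => by
      rwa [mem_center_iff.1 (zpowers_le.2 hz hn) g, mul_inv_cancel_right]⟩
    have h5 := Normal.conj_mem inferInstance _ hu g⁻¹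
    rw [← SetLike.mem_coe, mul_normal] at h5
    obtain ⟨v, hv, _, ⟨k, rfl⟩, e⟩ := h5
    refine ⟨g * v * g⁻¹, by rw [mul_smul, inv_smul_smul, mul_smul, mem_stabilizer_iff.1 hv], ?_⟩
    have : u = g * v * g⁻¹ * z ^ k := by
      rw [mul_assoc, mem_center_iff.1 (zpow_mem hz k), ← mul_assoc, mul_assoc g, show v * z ^ k = _ from e]; group
    rw [this, mul_smul _ (z ^ k), hzb]

/-- Let G act faithfully and transitively on a finite set with 2p² points, p a prime, and suppose G is 2-closed: every permutation of the set which, on each ordered pair of points, agrees with some element of G, is itself induced by an element of G. Then some element of G of prime order fixes no point. -/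
theorem result {G Ω : Type*} [Group G] [Finite G] [MulAction G Ω] [FaithfulSMul G Ω] [Finite Ω]
    (htrans : MulAction.IsPretransitive G Ω) (p : ℕ) (hp : p.Prime) (hcard : Nat.card Ω = 2 * p ^ 2)
    (hcl : ∀ σ : Equiv.Perm Ω, (∀ a b : Ω, ∃ g : G, σ a = g • a ∧ σ b = g • b) → ∃ g : G, ∀ a : Ω, σ a = g • a) :
    ∃ g : G, (orderOf g).Prime ∧ ∀ ω : Ω, g • ω ≠ ω := by
  classical
  haveI := Fact.mk hp
  obtain ⟨P⟩ : Nonempty (Sylow p G) := inferInstance
  have hd : ∀ a : Ω, p ^ 2 ∣ (stabilizer P a).index := fun a => by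
    have h1 := relIndex_mul_index (inf_le_right : stabilizer G a ⊓ P ≤ P)
    rw [← relIndex_mul_index (inf_le_left : stabilizer G a ⊓ P ≤ _), index_stabilizer_of_transitive, hcard,
      inf_relIndex_right] at h1
    exact (Nat.Coprime.pow_left 2 ((Nat.Prime.coprime_iff_not_dvd hp).2 P.not_dvd_index)).dvd_of_dvd_mul_right
      (h1 ▸ (dvd_mul_left _ _).mul_left _)
  have hp2 := pow_pos hp.pos 2
  obtain ⟨c⟩ : Nonempty Ω := (Nat.card_pos_iff.1 (by omega)).1
  haveI : Nontrivial P := by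
    by_contra h
    rw [not_nontrivial_iff_subsingleton] at h
    have := hd c
    rw [Subsingleton.elim (stabilizer P c) ⊤, index_top, Nat.dvd_one] at this
    exact (Nat.one_lt_pow two_ne_zero hp.one_lt).ne' this
  obtain ⟨z, hz, hzo⟩ := Gen.exists_central_orderOf P.isPGroup'
  by_cases hf : ∀ ω : Ω, z • ω ≠ ω
  · exact ⟨z, by rwa [orderOf_coe, hzo], hf⟩
  push Not at hf
  obtain ⟨b, hb⟩ := hf
  obtain ⟨a, ha⟩ : ∃ a : Ω, z • a ≠ a := by
    by_contra h; push Not at h
    have : z = 1 := Subtype.ext (FaithfulSMul.eq_of_smul_eq_smul (α := Ω) fun ω => (h ω).trans (one_smul _ _).symm)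
    exact hp.one_lt.ne (by rw [← hzo, this, orderOf_one])
  have hc : ∀ (g : P) (x : Ω), z • g • x = g • z • x := fun g x => by
    rw [← mul_smul, ← mem_center_iff.1 hz, mul_smul]
  have hdj : Disjoint (orbit P a) (orbit P b) := Set.disjoint_left.2 (by
    rintro _ ⟨g, rfl⟩ ⟨h, e⟩
    refine ha (smul_left_cancel g ?_)
    simp only at e
    rw [← hc, ← e, hc, hb])
  have h1 := Set.ncard_union_eq hdj
  have h2 := Set.ncard_le_card (orbit P a ∪ orbit P b)
  have h3 := fun x => Nat.le_of_dvd (Nat.pos_of_ne_zero index_ne_zero_of_finite) (hd x)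
  have h4 := h3 a
  have h5 := h3 b
  rw [index_stabilizer] at h4 h5
  have hU : orbit P a ∪ orbit P b = Set.univ := Set.eq_of_subset_of_ncard_le (Set.subset_univ _) (by
    rw [Set.ncard_univ]; omega)
  obtain ⟨u, u1, u2, u3⟩ := key P.isPGroup' hz ha hb (by rw [index_stabilizer]; omega) (by rw [index_stabilizer]; omega)
  let f : Ω → Ω := fun x => if x ∈ orbit P b then u • x else z • x
  have hab : ∀ x, (∃ g : P, g • a = x) ∨ ∃ g : P, g • b = x := fun x => (hU.ge (Set.mem_univ x) :)
  have fa : ∀ g : P, f (g • a) = z • g • a := fun g => if_neg (Set.disjoint_left.1 hdj (mem_orbit _ _))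
  have fb : ∀ g : P, f (g • b) = u • g • b := fun g => if_pos (mem_orbit _ _)
  have hloc : ∀ x y, ∃ g : P, f x = g • x ∧ f y = g • y := by
    have : ∀ g h : P, ∃ v : P, f (g • a) = v • g • a ∧ f (h • b) = v • h • b := fun g h => by
      obtain ⟨v, e1, e2⟩ := u3 g h
      exact ⟨z * v, by rw [fa, mul_smul, e1], by rw [fb, mul_smul, e2, hc, hc, hb]⟩
    intro x y
    rcases hab x with ⟨g, rfl⟩ | ⟨g, rfl⟩ <;> rcases hab y with ⟨h, rfl⟩ | ⟨h, rfl⟩
    · exact ⟨z, fa g, fa h⟩
    · exact this g h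
    · exact (this h g).imp fun _ => And.symm
    · exact ⟨u, fb g, fb h⟩
  have hinj : Function.Injective f := fun x y e => by
    obtain ⟨g, e1, e2⟩ := hloc x y
    exact smul_left_cancel g (e1 ▸ e2 ▸ e)
  obtain ⟨g, hg⟩ := hcl (Equiv.ofBijective f hinj.bijective_of_finite) fun x y => by
    obtain ⟨g, e⟩ := hloc x y
    exact ⟨g, e⟩
  simp only [Equiv.ofBijective_apply] at hg
  have hfp : ∀ ω, g • ω ≠ ω := fun ω => by
    rcases hab ω with ⟨h, rfl⟩ | ⟨h, rfl⟩
    · rw [← hg, fa, hc]; exact fun e => ha (smul_left_cancel h e)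
    · rw [← hg, fb]; exact u1 h
  have hpow : ∀ (x : Ω) (w : P), (∀ h : P, f (h • x) = w • h • x) → ∀ (n : ℕ) (h : P), g ^ n • h • x = w ^ n • h • x :=
    fun x w hw n => by
      induction n with
      | zero => simp
      | succ n ih => intro h; rw [pow_succ, pow_succ, mul_smul, mul_smul, ← hg, hw, ← mul_smul w h, ih]
  refine ⟨g, ?_, hfp⟩
  rw [orderOf_eq_prime (x := g) (p := p) (FaithfulSMul.eq_of_smul_eq_smul (α := Ω) fun ω => ?_)
    fun e => hfp a (by rw [e, one_smul])]
  · exact hp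
  rcases hab ω with ⟨h, rfl⟩ | ⟨h, rfl⟩
  · rw [hpow a z fa, orderOf_dvd_iff_pow_eq_one.1 hzo.dvd, one_smul, one_smul]
  · rw [hpow b u fb, u2, one_smul]

end Cfsg.Agent.S3557
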