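import Cfsg.Statements.S4249
import Cfsg.Agent.Gen2.Kegel

set_option autoImplicit false
open Cfsg

namespace Cfsg.Agent.S4249

open Subgroup Cfsg.Agent.BG Cfsg.Agent.Gen2

/-- Let G be a finite group and p a prime such that G is not a p-group, and suppose the Hughes subgroup H_p(G), generated by all elements g with g^p ≠ 1, is a proper subgroup. Then H_p(G) is nilpotent and has index p in G. -/
theorem result {G : Type*} [Group G] [Finite G] (p : ℕ) (hp : p.Prime) (hG : ¬ IsPGroup p G)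
    (hH : Subgroup.closure {g : G | g ^ p ≠ 1} ≠ ⊤) :
    Group.IsNilpotent (Subgroup.closure {g : G | g ^ p ≠ 1}) ∧ (Subgroup.closure {g : G | g ^ p ≠ 1}).index = p := by
  have := Fact.mk hp
  have nH : closure {g : G | g ^ p ≠ 1} ⊴ ⊤ := ⟨le_top, norms_closure fun g _ x hx e =>
    hx (by simpa [conj_pow] using e)⟩
  have out : ∀ g ∉ closure {g : G | g ^ p ≠ 1}, g ^ p = 1 := fun g hg => by
    by_contra h; exact hg (subset_closure h)
  generalize closure {g : G | g ^ p ≠ 1} = H at *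
  obtain ⟨x, hx⟩ : ∃ x, x ∉ H := by
    by_contra! h; exact hH ((eq_top_iff' _).2 h)
  have nil : Group.IsNilpotent H := kegel hp (nH.2 (mem_top x)) fun k hk =>
    out _ fun h => hx ((mul_mem_cancel_left hk).1 h)
  refine ⟨nil, ?_⟩
  obtain ⟨q, hq, hd, hne⟩ : ∃ q, q.Prime ∧ q ∣ Nat.card G ∧ q ≠ p := by
    by_contra! h
    exact hG (IsPGroup.of_card (Nat.eq_prime_pow_of_unique_prime_dvd Nat.card_pos.ne'
      fun h1 h2 => h _ h1 h2))
  have := Fact.mk hq
  obtain ⟨y, hy⟩ := exists_prime_orderOf_dvd_card' q hd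
  have yH : y ∈ H := by
    by_contra h
    exact hne ((Nat.prime_dvd_prime_iff_eq hq hp).1 (hy ▸ orderOf_dvd_of_pow_eq_one (out y h)))
  have V1 : Z[Op q H] ≠ ⊥ := center_nil_ne_bot (nilpotentS (pcore_sub _ _) nil)
    (Sylow_ne_bot (nilpotent_pcore_Hall _ nil) (hy ▸ orderOf_dvd_cardG yH))
  have nV : Z[Op q H] ⊴ ⊤ := (nH.pcore _).center
  have lV : Z[Op q H] ≤ H := (center_sub _).trans (pcore_sub _ _)
  have qV : PiGrp {q} Z[Op q H] := pgroupS (center_sub _) (pcore_pgroup _ _)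
  have aV := center_abelian (Op q H)
  generalize Z[Op q H] = V at *
  obtain ⟨P, hP⟩ := Sylow_exists p (⊤ : Subgroup G)
  have iH : PiNat {p} (H.relIndex ⊤) := by
    rw [← card_quotient nH.2]
    refine pgroup_of_elts fun z hz => ?_
    obtain ⟨z, -, h2, rfl⟩ := mem_quotient_iff.1 hz
    by_cases h : z ∈ H
    · rw [coset_id h]; exact p_elt_one _
    exact PiNat.of_dvd ((pnat_prime hp).2 rfl)
      ((orderOf_coset_dvd h2).trans (orderOf_dvd_of_pow_eq_one (out z h)))
  have sup : H ⊔ P = ⊤ := sup_eq_of_coprime_idx le_top le_top (pnat_coprime iH hP.idx)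
  have lt : H ⊓ P < P := lt_of_le_of_ne inf_le_right fun e =>
    hH (by rw [← sup, sup_eq_left.2 (inf_eq_right.1 e)])
  obtain ⟨M, lM, hM⟩ := maxSub_exists lt
  have nM := nil_maximal_normal (pgroup_nil hP.pg) hM
  obtain ⟨z, zP, zM⟩ := SetLike.exists_of_lt hM.1
  have cM : M ≤ C[V] := cent_of_coset hp aV (le_top.trans nV.2) (nV.2 trivial) (nM.2 zP)
    (pnat_coprime qV (p'group_of_ne (hP.pg.to_le nM.le) hne.symm)) fun a ha v hv =>
      out _ fun h => zM ((mul_mem_cancel_left ha).1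
        (lM ⟨(mul_mem_cancel_left (lV hv)).1 h, mul_mem (nM.le ha) zP⟩))
  have MH : M ≤ H := fun a ha => by
    by_contra h
    obtain ⟨v, hv, v1⟩ := trivgPn.1 V1
    have := out (v * a) fun h' => h ((mul_mem_cancel_left (lV hv)).1 h')
    rw [Commute.mul_pow (cM ha v hv), out a h, mul_one] at this
    exact v1 (p_elt_eq_one (mem_p_elt qV hv) (PiNat.of_dvd ((pnat_prime hp).2 hne.symm)
      (orderOf_dvd_of_pow_eq_one this)))
  rw [← relIndex_top_right, ← sup, relIndex_sup_norml (le_top.trans nH.2), ← inf_relIndex_right,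
    le_antisymm lM (le_inf MH nM.le), p_maximal_index hP.pg hM]

end Cfsg.Agent.S4249
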