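import Cfsg.Statements.S3634
import Cfsg.Agent.FG.PrimeGraph
import Cfsg.Agent.Loc.PGrp

set_option autoImplicit false
open Cfsg

namespace Cfsg.Agent.S3634

open Subgroup Cfsg.Agent.Loc

/-- Let G be a finite group with normal subgroups K ≤ M, and let p, q, r be distinct primes with p dividing the order of K, q dividing the order of M/K and r dividing the order of G/M. Then p, q, r are not pairwise non-adjacent in the prime graph of G: G has an element of order pq, pr or qr. -/
theorem result {G : Type*} [Group G] [Finite G] (K M : Subgroup G) [K.Normal] [M.Normal] (hKM : K ≤ M)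
    (p q r : ℕ) (hp : p.Prime) (hq : q.Prime) (hr : r.Prime) (hpq : p ≠ q) (hpr : p ≠ r) (hqr : q ≠ r)
    (hpK : p ∣ Nat.card ↥K) (hqM : q ∣ Nat.card ↥M / Nat.card ↥K) (hrG : r ∣ Nat.card G / Nat.card ↥M) :
    (∃ x : G, orderOf x = p * q) ∨ (∃ x : G, orderOf x = p * r) ∨ (∃ x : G, orderOf x = q * r) := by
  by_contra hcon
  push Not at hcon
  obtain ⟨h1, h2, h3⟩ := hcon
  haveI : Fact p.Prime := ⟨hp⟩
  haveI : Fact q.Prime := ⟨hq⟩
  haveI : Fact r.Prime := ⟨hr⟩
  obtain ⟨P, hP⟩ := exists_sylIn p K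
  set N1 := normalizer (P : Set G) with hN1
  have e1 : K ⊔ (⊤ ⊓ N1) = ⊤ := hP.frattini_sup le_top le_normalizer_of_normal
  have e2 : K ⊔ (M ⊓ N1) = M := hP.frattini_sup hKM le_normalizer_of_normal
  have hq1 : q ∣ Nat.card (M ⊓ N1 : Subgroup G) := by
    have : Nat.card M / Nat.card K = K.relIndex M := by
      rw [← Cfsg.Agent.Solv.card_mul_relIndex hKM, Nat.mul_div_cancel_left _ Nat.card_pos]
    rw [this, ← e2, relIndex_sup_left] at hqM
    exact hqM.trans (index_dvd_card _)
  obtain ⟨Q, hQ⟩ := exists_sylIn q (M ⊓ N1)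
  have e3 : (M ⊓ N1) ⊔ (N1 ⊓ normalizer (Q : Set G)) = N1 := hQ.frattini_sup inf_le_right
    ((le_inf le_normalizer_of_normal le_normalizer).trans inf_normalizer_le_normalizer_inf)
  have hr1 : r ∣ Nat.card (N1 ⊓ normalizer (Q : Set G) : Subgroup G) := by
    have : Nat.card G / Nat.card M = M.index := by
      rw [← M.card_mul_index, Nat.mul_div_cancel_left _ Nat.card_pos]
    have e4 : M ⊔ (N1 ⊓ normalizer (Q : Set G)) = ⊤ := by
      rw [eq_top_iff, ← e1, top_inf_eq]
      refine sup_le (hKM.trans le_sup_left) ?_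
      conv_lhs => rw [← e3]
      exact sup_le_sup_right inf_le_left _
    rw [this, ← relIndex_top_right, ← e4, relIndex_sup_left] at hrG
    exact hrG.trans (index_dvd_card _)
  obtain ⟨x, hx, hxr⟩ := exists_orderOf_eq_of_dvd_card hr1
  have hPp := hP.pg
  have hQq := hQ.pg
  haveI : Group.IsSolvable P := by haveI := hPp.isNilpotent; infer_instance
  haveI : Group.IsSolvable Q := by haveI := hQq.isNilpotent; infer_instance
  haveI : Group.IsSolvable (P ⊔ Q : Subgroup G) := Cfsg.Agent.Solv.isSolvable_sup (hQ.le.trans inf_le_right)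
  haveI : Group.IsSolvable (zpowers x) := isSolvable_of_comm mul_comm'
  have hs : Group.IsSolvable ((P ⊔ Q) ⊔ zpowers x : Subgroup G) := Cfsg.Agent.Solv.isSolvable_sup
    ((zpowers_le.2 hx).trans (normalizer_inf_normalizer_le_normalizer_sup P Q))
  refine Cfsg.Agent.FG.not_sol_of_coclique (s := {p, q, r}) (by
    rw [Finset.card_eq_three.2 ⟨p, q, r, hpq, hpr, hqr, rfl⟩]) ?_ ?_ hs
  · intro s hs
    simp only [Finset.mem_insert, Finset.mem_singleton] at hs
    rcases hs with rfl | rfl | rfl
    · exact ⟨hp, (dvd_card_of_isPGroup hPp (hP.ne_bot hpK)).trans (card_dvd_of_le (le_sup_left.trans le_sup_left))⟩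
    · exact ⟨hq, (dvd_card_of_isPGroup hQq (hQ.ne_bot hq1)).trans (card_dvd_of_le (le_sup_right.trans le_sup_left))⟩
    · exact ⟨hr, hxr ▸ orderOf_dvd_natCard _ (mem_sup_right (mem_zpowers x))⟩
  · intro a ha b hb hab g _
    simp only [Finset.mem_insert, Finset.mem_singleton] at ha hb
    rcases ha with rfl | rfl | rfl <;> rcases hb with rfl | rfl | rfl <;>
      first | exact absurd rfl hab | apply h1 | apply h2 | apply h3 | (rw [mul_comm]; first | apply h1 | apply h2 | apply h3)

end Cfsg.Agent.S3634
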