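import Cfsg.Statements.S3641
import Cfsg.Agent.Small.Recog
import Cfsg.Agent.S0731
import Cfsg.Agent.S0730
import Cfsg.Agent.S0680
import Cfsg.Agent.S4345
import Cfsg.Agent.FTC.Aniso
import Mathlib.Tactic.Group

set_option autoImplicit false
open Cfsg

namespace Cfsg.Agent.S3641
open scoped commutatorElement

open MulAction Cfsg.Agent.Perm Cfsg.Agent.Small Subgroup
open scoped MatrixGroups Pointwise
open Cfsg.Agent.BG

section Z
variable {H Ω : Type*} [Group H] [MulAction H Ω] [Finite H] [Finite Ω] [IsPretransitive H Ω]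
  {F : Subgroup H} {a : Ω}

theorem no_reg (hR : RegOn F a) (hF : Nat.card F = 17) (N : Subgroup H) (hN : N.Normal)
    (ht : IsPretransitive N Ω) (hr : ∀ u ∈ N, u • a = a → u = 1) : False := by
  have hc : Nat.card N = 18 := by rw [card_eq_of_regular ht a hr, hR.card, hF]
  haveI : Fact (Nat.Prime 2) := ⟨Nat.prime_two⟩
  haveI : Fact (Nat.Prime 3) := ⟨Nat.prime_three⟩
  obtain ⟨s, hs⟩ := exists_prime_orderOf_dvd_card' (G := N) 2 (by rw [hc]; norm_num)
  obtain ⟨t, ht⟩ := exists_prime_orderOf_dvd_card' (G := N) 3 (by rw [hc]; norm_num)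
  have hs1 : (s : H) • a ≠ a := fun h => by
    have : s = 1 := Subtype.ext (hr s s.2 h)
    rw [this, orderOf_one] at hs; omega
  have ht1 : (t : H) • a ≠ a := fun h => by
    have : t = 1 := Subtype.ext (hr t t.2 h)
    rw [this, orderOf_one] at ht; omega
  obtain ⟨x, hx, e⟩ := hR.trans hs1 ht1
  have hxa : x⁻¹ • a = a := hR.fix _ (F.inv_mem hx)
  have h1 := hr ((t : H)⁻¹ * (x * s * x⁻¹)) (N.mul_mem (N.inv_mem t.2) (hN.conj_mem _ s.2 x))
    (by rw [mul_smul, mul_smul, mul_smul, hxa, e, inv_smul_smul])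
  rw [inv_mul_eq_one] at h1
  have h2 : orderOf (t : H) = orderOf (s : H) := by
    rw [h1]; exact (MulAut.conj x).orderOf_eq s
  rw [orderOf_coe, orderOf_coe, hs, ht] at h2
  omega

theorem sharp3 [FaithfulSMul H Ω] (hR : RegOn F a) (hF : Nat.card F = 17) :
    ∀ g : H, ∀ x y z : Ω, x ≠ y → x ≠ z → y ≠ z → g • x = x → g • y = y → g • z = z → g = 1 := by
  refine hR.sharp fun g u hu y hu1 hy h1 h2 h3 => ?_
  haveI : Fact (Nat.Prime 17) := ⟨by norm_num⟩
  have hz : zpowers u = F := by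
    refine eq_of_le_of_card_ge (zpowers_le_of_mem hu) ?_
    have h4 : Nat.card (zpowers u) ∣ 17 := hF ▸ card_dvd_of_le (zpowers_le_of_mem hu)
    rcases (Nat.dvd_prime (by norm_num)).1 h4 with h5 | h5
    · exact absurd (zpowers_eq_bot.1 (card_eq_one.1 h5)) hu1
    · rw [h5, hF]
  refine FaithfulSMul.eq_of_smul_eq_smul (α := Ω) fun R => ?_
  by_cases e : R = a
  · rw [e, h1, one_smul]
  obtain ⟨v, hv, rfl⟩ := hR.trans hy e
  obtain ⟨j, rfl⟩ := mem_zpowers_iff.1 (hz ▸ hv)
  rw [one_smul, ← mul_smul, (Commute.zpow_right h3 j).eq, mul_smul, h2]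

theorem zass [FaithfulSMul H Ω] (hR : RegOn F a) (hF : Nat.card F = 17) :
    IsZassenhausGroup H Ω := by
  have hs := sharp3 hR hF
  have : Nontrivial Ω := Finite.one_lt_card_iff_nontrivial.1 (by rw [hR.card, hF]; norm_num)
  refine ⟨inferInstance, hR.two_trans, fun g a b c h1 h2 h3 => hs g a b c h1 h3 h2, ?_,
    fun N hN ht => ?_⟩
  · by_contra! h
    obtain ⟨N, hN, -, hmem, ht, -⟩ := sharp2_exists_kernel (G := H) (Ω := Ω) hR.two_trans
      fun g x y hxy h1 h2 => by
        by_contra hg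
        exact h g hg x y hxy h1 h2
    exact no_reg hR hF N hN ht fun u hu h => ((hmem u).1 hu).resolve_right fun h' => h' a h
  · by_contra! h
    refine no_reg hR hF N hN ht fun u hu h1 => ?_
    have : (⟨u, hu⟩ : N) ∈ stabilizer N a := h1
    rw [h a] at this
    exact congrArg Subtype.val (mem_bot.1 this)

theorem classify [FaithfulSMul H Ω] (hR : RegOn F a) (hF : Nat.card F = 17) {b : Ω} (hb : b ≠ a)
    {K : Type*} [Field K] [Fintype K] (hK : Fintype.card K = 17) :
    Nat.card (stabilizer H a ⊓ stabilizer H b : Subgroup H) = 8 ∧ Nonempty (H ≃* PSL(2, K)) ∨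
    Nat.card (stabilizer H a ⊓ stabilizer H b : Subgroup H) = 16 ∧ Nonempty (H ≃* PGL(Fin 2, K)) := by
  have hZ := zass hR hF
  have hΩ : Nat.card Ω = 18 := by rw [hR.card, hF]
  haveI : Fact (Nat.Prime 17) := ⟨by norm_num⟩
  haveI := isCyclic_of_prime_card hF
  have hreg : ∀ y z : Ω, y ≠ a → z ≠ a → ∃! u : F, (u : H) • y = z := by
    intro y z hy hz
    obtain ⟨u, hu, e⟩ := hR.trans hy hz
    refine ⟨⟨u, hu⟩, e, fun v hv => Subtype.ext ?_⟩
    have := hR.semi (u⁻¹ * v) (F.mul_mem (F.inv_mem hu) v.2) y hy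
      (by rw [mul_smul, hv, ← e, inv_smul_smul])
    exact (inv_mul_eq_one.1 this).symm
  have hc : ⁅F, F⁆ = ⊥ := commutator_eq_bot_iff_le_centralizer.2 F.le_centralizer
  rcases Zass.classify_of_comm hZ hb.symm (Zass.mem_kernel_iff hZ hb.symm hR.fix hreg) hc with
    h | ⟨h, L, _, _, hL, -, ⟨e⟩⟩
  · right
    refine ⟨by omega, ?_⟩
    have h3 := Zass.three_of_card hZ hb.symm h.ge
    haveI := Fintype.ofFinite Ω
    obtain ⟨x, y, z, hab, hac, hbc⟩ := (Fintype.two_lt_card_iff (α := Ω)).mp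
      (by rw [← Nat.card_eq_fintype_card]; omega)
    obtain ⟨s, hsa, hsb, hsc⟩ := exists_smul_three h3 hab hac hbc hab.symm hbc hac
    obtain ⟨L, _, _, hL, ⟨e⟩⟩ := Sharp3.equiv_PGL_of_odd h3 (Zass.sharp hZ) hab hac hbc hsa hsb hsc
      (p := 17) (f := 1) (by norm_num) (by norm_num) odd_one (by rw [hΩ]; norm_num)
    obtain ⟨f⟩ := Classical.nonempty_ringEquiv_of_card_eq (K := L) (F := K)
      (by rw [Nat.card_eq_fintype_card, Nat.card_eq_fintype_card]; omega)
    exact ⟨e.trans (Classical.pglCongr f)⟩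
  · left
    refine ⟨by omega, ?_⟩
    obtain ⟨f⟩ := Classical.nonempty_ringEquiv_of_card_eq (K := L) (F := K)
      (by rw [Nat.card_eq_fintype_card, Nat.card_eq_fintype_card]; omega)
    exact ⟨e.trans (Classical.pslCongr f)⟩

theorem card_mul_rel {G : Type*} [Group G] {A B : Subgroup G} (h : A ≤ B) :
    Nat.card A * A.relIndex B = Nat.card B := by
  rw [← relIndex_bot_left, ← relIndex_bot_left, relIndex_mul_relIndex ⊥ A B bot_le h]

theorem n_two [FaithfulSMul H Ω] (hR : RegOn F a) (hF : Nat.card F = 17) {b : Ω} (hb : b ≠ a)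
    {k : ℕ} (hd : Nat.card (stabilizer H a ⊓ stabilizer H b : Subgroup H) = 2 ^ (k + 2)) :
    Nat.card (Sylow 2 H) = 153 := by
  haveI : Fact (Nat.Prime 2) := ⟨Nat.prime_two⟩
  have hs := sharp3 hR hF
  have hH := hR.card_eq hb
  rw [hF, hd] at hH
  set E : Subgroup H := stabilizer H a ⊓ stabilizer H b with hE
  have hp : IsPGroup 2 E := IsPGroup.of_card hd
  obtain ⟨T, hT⟩ := hp.exists_le_sylow
  have hTc : Nat.card T = 2 ^ (k + 3) :=
    Classical.card_sylow_of_card T (m := 153) (by rw [hH]; ring) (by norm_num)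
  have hidx : ∀ A : Subgroup H, A ≤ T → Nat.card A = 2 ^ (k + 2) → A.relIndex T = 2 := by
    intro A hA hc
    have := card_mul_rel hA
    rw [hc, hTc, pow_succ 2 (k + 2)] at this
    exact Nat.eq_of_mul_eq_mul_left (by positivity) this
  have hN : IsPGroup 2 (normalizer (T : Set H)) := by
    intro g
    have hle : E.map (MulAut.conj (g : H)).toMonoidHom ≤ T := by
      rintro _ ⟨t, ht, rfl⟩
      exact (mem_normalizer_iff.1 g.2 t).1 (hT ht)
    have hc : Nat.card (E.map (MulAut.conj (g : H)).toMonoidHom) = 2 ^ (k + 2) := by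
      rw [card_map_of_injective (MulAut.conj (g : H)).injective, hd]
    have hne : E ⊓ E.map (MulAut.conj (g : H)).toMonoidHom ≠ ⊥ := by
      intro h
      have h1 := relIndex_inf_le (H := E) (K := E.map (MulAut.conj (g : H)).toMonoidHom)
        (L := (T : Subgroup H))
      rw [h, relIndex_bot_left, hTc, hidx _ hT hd, hidx _ hle hc, pow_add] at h1
      have : 0 < 2 ^ k := by positivity
      omega
    obtain ⟨⟨u, hu, t, ht, e⟩, hu1⟩ := (ne_bot_iff_exists_ne_one).1 hne
    have hu1 : u ≠ 1 := fun h => hu1 (Subtype.ext h)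
    have e : (g : H) * t * (g : H)⁻¹ = u := e
    have key : ∀ c : Ω, t • c = c → (g : H) • c = a ∨ (g : H) • c = b := by
      intro c hc
      by_contra! h
      refine hu1 (hs u a b _ hb.symm h.1.symm h.2.symm hu.1 hu.2 ?_)
      rw [← e, mul_smul, mul_smul, inv_smul_smul, hc]
    have hab : (g : H) • a ≠ (g : H) • b := fun h => hb (smul_left_cancel _ h).symm
    have h2 : (g : H) ^ 2 ∈ E := by
      rcases key a ht.1 with h1 | h1 <;> rcases key b ht.2 with h2 | h2
      · exact absurd (h1.trans h2.symm) hab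
      · exact ⟨show _ • a = a by rw [sq, mul_smul, h1, h1], show _ • b = b by rw [sq, mul_smul, h2, h2]⟩
      · exact ⟨show _ • a = a by rw [sq, mul_smul, h1, h2], show _ • b = b by rw [sq, mul_smul, h2, h1]⟩
      · exact absurd (h1.trans h2.symm) hab
    obtain ⟨j, hj⟩ := hp ⟨_, h2⟩
    refine ⟨j + 1, Subtype.ext ?_⟩
    have hj' : ((g : H) ^ 2) ^ 2 ^ j = 1 := congrArg Subtype.val hj
    rw [← pow_mul, ← pow_succ'] at hj'
    exact hj'
  have h3 : normalizer (T : Set H) = T := T.3 hN le_normalizer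
  rw [T.card_eq_index_normalizer, h3]
  have := (T : Subgroup H).card_mul_index
  rw [hTc, hH] at this
  refine Nat.eq_of_mul_eq_mul_left (show 0 < 2 ^ (k + 3) by positivity) ?_
  rw [this]; ring

theorem n_three [FaithfulSMul H Ω] (hR : RegOn F a) (hF : Nat.card F = 17) {b : Ω} (hb : b ≠ a)
    {k : ℕ} (hd : Nat.card (stabilizer H a ⊓ stabilizer H b : Subgroup H) = 2 ^ (k + 3))
    {x : H} (hx : orderOf x = 9) : 68 ≤ Nat.card (Sylow 3 H) := by
  haveI : Fact (Nat.Prime 3) := ⟨Nat.prime_three⟩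
  have hs := sharp3 hR hF
  have hH := hR.card_eq hb
  rw [hF, hd] at hH
  have hΩ : Nat.card Ω = 18 := by rw [hR.card, hF]
  have hi : (stabilizer H a).index = 18 := by rw [index_stabilizer_of_transitive, hΩ]
  have hst : Nat.card (stabilizer H a) = 17 * 2 ^ (k + 3) := by
    have := (stabilizer H a).card_mul_index
    rw [hi, hH] at this
    refine Nat.eq_of_mul_eq_mul_right (show 0 < 18 by norm_num) ?_
    rw [this]; ring
  have hcop : Nat.Coprime 3 (17 * 2 ^ (k + 3)) :=
    Nat.Coprime.mul_right (by norm_num) (Nat.Coprime.pow_right _ (by norm_num))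
  have hfree : ∀ y : H, y ^ 9 = 1 → y • a = a → y = 1 := by
    intro y h1 h2
    have h3 : orderOf y ∣ 17 * 2 ^ (k + 3) := hst ▸ orderOf_dvd_natCard (stabilizer H a) h2
    exact orderOf_eq_one_iff.1 (Nat.eq_one_of_dvd_coprimes (hcop.pow_left 2)
      (orderOf_dvd_of_pow_eq_one h1) h3)
  have hp : IsPGroup 3 (zpowers x) := IsPGroup.of_card (n := 2) (by rw [Nat.card_zpowers, hx]; norm_num)
  obtain ⟨S, hS⟩ := hp.exists_le_sylow
  have hSc : Nat.card S = 3 ^ 2 :=
    Classical.card_sylow_of_card S (m := 2 * (17 * 2 ^ (k + 3))) (by rw [hH]; ring)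
      ((Nat.Prime.coprime_iff_not_dvd Nat.prime_three).1 (Nat.Coprime.mul_right (by norm_num) hcop))
  have hSx : zpowers x = S := eq_of_le_of_card_ge hS (by rw [hSc, Nat.card_zpowers, hx]; norm_num)
  haveI hcyc : IsCyclic S := by
    have : IsCyclic (zpowers x) := inferInstance
    exact hSx ▸ this
  set N : Subgroup H := normalizer ((S : Subgroup H) : Set H) with hN
  let φ : (stabilizer H a ⊓ N : Subgroup H) →* MulAut S :=
    (S : Subgroup H).normalizerMonoidHom.comp (inclusion inf_le_right)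
  have hx9 : x ^ 9 = 1 := hx ▸ pow_orderOf_eq_one x
  have hx1 : x ≠ 1 := by rintro rfl; rw [orderOf_one] at hx; omega
  have hx2 : x ^ 2 ≠ 1 := fun h => by
    have := orderOf_dvd_of_pow_eq_one h
    rw [hx] at this; omega
  have hinj : Function.Injective φ := by
    rw [injective_iff_map_eq_one]
    intro g hg
    have h1 : inclusion inf_le_right g ∈ (S : Subgroup H).normalizerMonoidHom.ker := hg
    rw [normalizerMonoidHom_ker, mem_subgroupOf] at h1
    have h2 : x * (g : H) = g * x := mem_centralizer_iff.1 h1 x (hS (mem_zpowers x))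
    have ha : (g : H) • a = a := g.2.1
    have e1 : x • a ≠ a := fun h => hx1 (hfree x hx9 h)
    have e2 : x • x • a ≠ a := fun h => hx2 (hfree _ (by rw [← pow_mul, mul_comm, pow_mul, hx9, one_pow])
      (by rw [sq, mul_smul, h]))
    have e3 : x • x • a ≠ x • a := fun h => e1 (smul_left_cancel _ h)
    refine Subtype.ext (hs g a (x • a) (x • x • a) e1.symm e2.symm e3.symm ha ?_ ?_)
    · rw [← mul_smul, ← h2, mul_smul, ha]
    · rw [← mul_smul, ← h2, mul_smul, ← mul_smul (g : H), ← h2, mul_smul, ha]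
  have h6 : Nat.card (stabilizer H a ⊓ N : Subgroup H) ∣ 2 * 3 := by
    have := card_dvd_of_injective φ hinj
    rw [hcyc.card_mulAut, hSc] at this
    exact this
  have h7 : Nat.card (stabilizer H a ⊓ N : Subgroup H) ∣ 2 :=
    (Nat.Coprime.coprime_dvd_left (hst ▸ card_dvd_of_le inf_le_left) hcop.symm).dvd_of_dvd_mul_right h6
  have h8 := card_mul_rel (inf_le_right : stabilizer H a ⊓ N ≤ N)
  rw [inf_relIndex_right] at h8
  have h9 : (stabilizer H a).relIndex N ≤ 18 := by
    have := relIndex_le_of_le_right (H := stabilizer H a) (le_top : N ≤ ⊤)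
      (by rw [relIndex_top_right, hi]; norm_num)
    rwa [relIndex_top_right, hi] at this
  have h10 : Nat.card N ≤ 36 := by
    rw [← h8]
    exact Nat.mul_le_mul (Nat.le_of_dvd (by norm_num) h7) h9
  rw [S.card_eq_index_normalizer]
  have h11 := N.card_mul_index
  rw [hH, pow_add] at h11
  have : 0 < 2 ^ k := by positivity
  by_contra! h
  have := Nat.mul_le_mul h10 (Nat.lt_succ_iff.1 h)
  change Nat.card N * N.index ≤ _ at this
  omega

end Z

instance fact17 : Fact (Nat.Prime 17) := ⟨by norm_num⟩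

def mA : SL(2, ZMod 17) := ⟨!![0, -1; 1, 7], by decide⟩
def mB : SL(2, ZMod 17) := ⟨!![1, 1; 0, 1], by decide⟩

theorem nine_psl : ∃ x : PSL(2, ZMod 17), orderOf x = 9 := by
  haveI : Fact (Nat.Prime 3) := ⟨Nat.prime_three⟩
  refine ⟨QuotientGroup.mk mA, orderOf_eq_prime_pow (p := 3) (n := 1) ?_ ?_⟩
  · rw [← QuotientGroup.mk_pow, QuotientGroup.eq_one_iff, mem_center_iff]
    intro h
    have := congrArg Subtype.val (h mB)
    revert this
    decide +kernel
  · rw [← QuotientGroup.mk_pow]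
    have : mA ^ 3 ^ (1 + 1) = 1 := Subtype.ext (by decide +kernel)
    rw [this, QuotientGroup.mk_one]

section G
variable {G : Type*} [Group G] [Finite G]

theorem mem_of_norm {p : ℕ} [Fact p.Prime] (S : Sylow p G) {z : G} (hz : z ∈ normalizer (S : Set G))
    (h : IsPGroup p (zpowers z)) : z ∈ (S : Subgroup G) := by
  have h1 := h.inf_normalizer_sylow S
  have : z ∈ zpowers z ⊓ normalizer (S : Set G) := ⟨mem_zpowers z, hz⟩
  rw [h1] at this
  exact this.2

theorem pz {p : ℕ} [Fact p.Prime] {A : Subgroup G} (hA : IsPGroup p A) {z : G} (hz : z ∈ A) :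
    IsPGroup p (zpowers z) := hA.to_le (zpowers_le_of_mem hz)

theorem card_sylow_dvd {H : Type*} [Group H] {f : G →* H} (hf : Function.Surjective f) (p : ℕ)
    [Fact p.Prime] : Nat.card (Sylow p H) ∣ Nat.card (Sylow p G) := by
  haveI : Finite H := Finite.of_surjective f hf
  obtain ⟨S⟩ : Nonempty (Sylow p G) := inferInstance
  rw [S.card_eq_index_normalizer, (S.mapSurjective hf).card_eq_index_normalizer]
  exact (index_dvd_of_le (le_normalizer_map (H := (S : Subgroup G)) f)).trans (index_map_dvd _ hf)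

theorem ker_le_norm {H : Type*} [Group H] {f : G →* H} (hf : Function.Surjective f) {p : ℕ}
    [Fact p.Prime] (h : Nat.card (Sylow p G) ≤ Nat.card (Sylow p H)) (S : Sylow p G) :
    f.ker ≤ normalizer (S : Set G) := by
  haveI : Finite H := Finite.of_surjective f hf
  intro k hk
  have hb := (Sylow.mapSurjective_surjective hf p).bijective_of_nat_card_le h
  refine Sylow.smul_eq_iff_mem_normalizer.1 (hb.1 (Sylow.ext ?_))
  rw [Sylow.coe_mapSurjective, Sylow.coe_mapSurjective, Sylow.coe_subgroup_smul]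
  have hk : f k = 1 := hk
  ext y
  constructor
  · rintro ⟨_, ⟨s, hs, rfl⟩, rfl⟩
    exact ⟨s, hs, by simp [hk]⟩
  · rintro ⟨s, hs, rfl⟩
    exact ⟨_, ⟨s, hs, rfl⟩, by simp [hk]⟩

theorem sol_of_norm {K : Subgroup G} (T : Sylow 2 G) (hK : K ≤ normalizer (T : Set G)) :
    Group.IsSolvable K := by
  haveI : Fact (Nat.Prime 2) := ⟨Nat.prime_two⟩
  have hle : ∀ R : Sylow 2 K, (R : Subgroup K) = (T : Subgroup G).subgroupOf K := fun R =>
    (R.3 (T.2.comap_subtype) fun x hx => mem_of_norm T (hK x.2)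
      (pz (R.2.map K.subtype) ⟨x, hx, rfl⟩)).symm
  haveI : Subsingleton (Sylow 2 K) := ⟨fun R R' => Sylow.ext ((hle R).trans (hle R').symm)⟩
  obtain ⟨R⟩ : Nonempty (Sylow 2 K) := inferInstance
  haveI := R.normal_of_subsingleton
  haveI := R.2.isNilpotent
  refine FTC.solvable_of_normal_of_quotient (R : Subgroup K) inferInstance (FTC.solvable_of_odd ?_)
  exact Nat.odd_iff.2 (Nat.two_dvd_ne_zero.1 R.not_dvd_index)

theorem card_sylow_sub {K : Subgroup G} {r : ℕ} [Fact r.Prime] (h : ∀ Q : Sylow r G, (Q : Subgroup G) ≤ K) :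
    Nat.card (Sylow r G) = Nat.card (Sylow r K) := by
  refine Nat.card_congr (Equiv.ofBijective (fun Q => Q.subtype (h Q)) ⟨fun P Q e => Sylow.subtype_injective e, fun R => ?_⟩)
  obtain ⟨Q, hQ⟩ := R.exists_comap_subtype_eq
  exact ⟨Q, Sylow.ext hQ⟩

theorem fac17 {n : ℕ} (h1 : 17 ∣ n) (h2 : ¬ 17 ^ 2 ∣ n) : n.factorization 17 = 1 := by
  have hn : n ≠ 0 := by rintro rfl; simp at h2
  have hp : Nat.Prime 17 := by norm_num
  have a := (hp.pow_dvd_iff_le_factorization hn (k := 1)).1 (by simpa using h1)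
  have b := mt (hp.pow_dvd_iff_le_factorization hn (k := 2)).2 h2
  omega

theorem eq_bot_of_norm (hZ : center G = ⊥) {K : Subgroup G} [K.Normal]
    (h : ∀ r : ℕ, r.Prime → ∀ S : Sylow r G, K ≤ normalizer (S : Set G)) : K = ⊥ := by
  by_contra hK
  obtain ⟨p, hp, hpK⟩ := Nat.exists_prime_and_dvd (mt card_eq_one.1 hK)
  haveI : Fact p.Prime := ⟨hp⟩
  obtain ⟨S⟩ : Nonempty (Sylow p G) := inferInstance
  obtain ⟨y, hy⟩ := exists_prime_orderOf_dvd_card' (G := K) p hpK
  have hyS : (y : G) ∈ (S : Subgroup G) := mem_of_norm S (h p hp S y.2)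
    (IsPGroup.of_card (n := 1) (by rw [Nat.card_zpowers, orderOf_coe, hy, pow_one]))
  have hne : (S : Subgroup G) ⊓ K ≠ ⊥ := by
    intro e
    have : (y : G) ∈ (S : Subgroup G) ⊓ K := ⟨hyS, y.2⟩
    rw [e, mem_bot] at this
    have : y = 1 := Subtype.ext this
    rw [this, orderOf_one] at hy
    exact hp.one_lt.ne hy
  have hn : ((S : Subgroup G) ⊓ K) ⊴ (S : Subgroup G) := norm_normalI (by rw [normalizer_eq_top]; exact le_top)
  have h1 := BG.meet_center_nil S.2.isNilpotent hn hne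
  obtain ⟨⟨z, hzm⟩, hz1⟩ := ne_bot_iff_exists_ne_one.1 h1
  have hz1 : z ≠ 1 := fun e => hz1 (Subtype.ext e)
  have hzS : z ∈ (S : Subgroup G) := hzm.1.1
  have hzK : z ∈ K := hzm.1.2
  have hzC := hzm.2.2
  have htop : centralizer {z} = ⊤ := by
    rw [← index_eq_one]
    by_contra hi
    obtain ⟨r, hr, hri⟩ := Nat.exists_prime_and_dvd hi
    haveI : Fact r.Prime := ⟨hr⟩
    by_cases e : r = p
    · subst e
      refine S.not_dvd_index (hri.trans (index_dvd_of_le fun s hs => ?_))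
      exact mem_centralizer_singleton_iff.2 (mem_centralizer_iff.1 hzC s hs)
    obtain ⟨R⟩ : Nonempty (Sylow r G) := inferInstance
    refine R.not_dvd_index (hri.trans (index_dvd_of_le fun s hs => ?_))
    have h2 : z * s * z⁻¹ * s⁻¹ ∈ (R : Subgroup G) :=
      mul_mem ((mem_normalizer_iff.1 (h r hr R hzK) s).1 hs) (inv_mem hs)
    have h3 : s * z * s⁻¹ ∈ (S : Subgroup G) := mem_of_norm S
      (h p hp S (‹K.Normal›.conj_mem z hzK s))
      (pz (S.2.map (MulAut.conj s).toMonoidHom) ⟨z, hzS, rfl⟩)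
    have h4 : z * s * z⁻¹ * s⁻¹ ∈ (S : Subgroup G) := by
      have := (S : Subgroup G).mul_mem hzS ((S : Subgroup G).inv_mem h3)
      simpa [mul_assoc] using this
    have h5 := (IsPGroup.disjoint_of_ne r p e _ _ R.2 S.2).le_bot ⟨h2, h4⟩
    rw [mem_bot, mul_inv_eq_one, mul_inv_eq_iff_eq_mul] at h5
    exact mem_centralizer_singleton_iff.2 h5.symm
  have : z ∈ center G := mem_center_iff.2 fun g =>
    mem_centralizer_singleton_iff.1 (htop ▸ mem_top g)
  rw [hZ] at this
  exact hz1 this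

end G

theorem main {G : Type*} [Group G] [Finite G] (hZ : Subgroup.center G = ⊥) (hNS : {c : ℕ | ∃ r : ℕ, r.Prime ∧ r ∣ Nat.card G ∧ c = Nat.card (Sylow r G)} = ({18, 136, 153} : Set ℕ))
    {F : Type*} [Field F] [Fintype F] (hF : Fintype.card F = 17) :
    Nonempty (G ≃* Matrix.ProjectiveSpecialLinearGroup (Fin 2) F) ∨ Nonempty (G ≃* (GL (Fin 2) F ⧸ Subgroup.center (GL (Fin 2) F))) := by
  haveI : Fact (Nat.Prime 2) := ⟨Nat.prime_two⟩
  haveI : Fact (Nat.Prime 3) := ⟨Nat.prime_three⟩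
  have hall : ∀ r : ℕ, r.Prime → r ∣ Nat.card G → r = 17 ∧ Nat.card (Sylow r G) = 18 ∨
      (r = 3 ∨ r = 5) ∧ Nat.card (Sylow r G) = 136 ∨ (r = 2 ∨ r = 19) ∧ Nat.card (Sylow r G) = 153 := by
    intro r hr hd
    haveI : Fact r.Prime := ⟨hr⟩
    have h1 : Nat.card (Sylow r G) ∈ ({18, 136, 153} : Set ℕ) := hNS ▸ ⟨r, hr, hd, rfl⟩
    have h2 := (Nat.modEq_iff_dvd' Nat.card_pos).1 (card_sylow_modEq_one r G).symm
    rcases h1 with h | h | h <;> rw [h] at h2
    · exact Or.inl ⟨(Nat.prime_dvd_prime_iff_eq hr (by norm_num)).1 h2, h⟩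
    · refine Or.inr (Or.inl ⟨?_, h⟩)
      rcases (Nat.Prime.dvd_mul hr).1 (show r ∣ 3 ^ 3 * 5 from h2) with h3 | h3
      · exact Or.inl ((Nat.prime_dvd_prime_iff_eq hr (by norm_num)).1 (hr.dvd_of_dvd_pow h3))
      · exact Or.inr ((Nat.prime_dvd_prime_iff_eq hr (by norm_num)).1 h3)
    · refine Or.inr (Or.inr ⟨?_, h⟩)
      rcases (Nat.Prime.dvd_mul hr).1 (show r ∣ 2 ^ 3 * 19 from h2) with h3 | h3
      · exact Or.inl ((Nat.prime_dvd_prime_iff_eq hr (by norm_num)).1 (hr.dvd_of_dvd_pow h3))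
      · exact Or.inr ((Nat.prime_dvd_prime_iff_eq hr (by norm_num)).1 h3)
  have h17 : Nat.card (Sylow 17 G) = 18 := by
    have h1 : 18 ∈ {c : ℕ | ∃ r : ℕ, r.Prime ∧ r ∣ Nat.card G ∧ c = Nat.card (Sylow r G)} := by
      rw [hNS]; simp
    obtain ⟨r, hr, hd, e⟩ := h1
    rcases hall r hr hd with ⟨rfl, h⟩ | ⟨-, h⟩ | ⟨-, h⟩
    · exact h
    all_goals omega
  obtain ⟨P⟩ : Nonempty (Sylow 17 G) := inferInstance
  have h18 : 18 ∣ Nat.card G := h17 ▸ P.card_dvd_index.trans (index_dvd_card _)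
  have h2 : Nat.card (Sylow 2 G) = 153 := by
    rcases hall 2 Nat.prime_two (Dvd.dvd.trans (by norm_num) h18) with ⟨h, -⟩ | ⟨h, -⟩ | ⟨-, h⟩
    · omega
    · omega
    · exact h
  have h3 : Nat.card (Sylow 3 G) = 136 := by
    rcases hall 3 Nat.prime_three (Dvd.dvd.trans (by norm_num) h18) with ⟨h, -⟩ | ⟨-, h⟩ | ⟨h, -⟩
    · omega
    · exact h
    · omega
  let H : Subgroup (Equiv.Perm (Sylow 17 G)) := (toPermHom G (Sylow 17 G)).range
  let f : G →* H := (toPermHom G (Sylow 17 G)).rangeRestrict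
  have hf : Function.Surjective f := MonoidHom.rangeRestrict_surjective _
  have hfs : ∀ (g : G) (x : Sylow 17 G), f g • x = g • x := fun _ _ => rfl
  haveI : IsPretransitive H (Sylow 17 G) := ⟨fun x y => by
    obtain ⟨g, hg⟩ := exists_smul_eq G x y
    exact ⟨f g, hg⟩⟩
  haveI : Nontrivial (Sylow 17 G) := Finite.one_lt_card_iff_nontrivial.1 (by omega)
  obtain ⟨b, hb⟩ := exists_ne P
  have hnle : ∀ Q : Sylow 17 G, Q ≠ P → ∃ u ∈ (P : Subgroup G), u • Q ≠ Q := by
    intro Q hQ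
    by_contra! h
    exact hQ (Sylow.ext (P.3 Q.2 fun u hu => (sylow_smul_eq_iff_of_mem hu).1 (h u hu)))
  have hFc : Nat.card ((P : Subgroup G).map f) = 17 := by
    obtain ⟨k, hk⟩ := IsPGroup.iff_card.1 (P.2.map f)
    have hd : 17 ^ k ∣ Nat.factorial 18 := by
      rw [← hk, ← h17, ← Nat.card_perm]
      exact (card_subgroup_dvd_card _).trans (card_subgroup_dvd_card H)
    rcases k with _ | _ | k
    · obtain ⟨u, hu, e⟩ := hnle b hb
      have : f u ∈ (⊥ : Subgroup H) := card_eq_one.1 hk ▸ mem_map_of_mem f hu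
      rw [← hfs, mem_bot.1 this, one_smul] at e
      exact absurd rfl e
    · rw [hk]; norm_num
    · exact absurd ((pow_dvd_pow 17 (by omega : 2 ≤ k + 1 + 1)).trans hd) (by decide +kernel)
  have hR : RegOn ((P : Subgroup G).map f) P := by
    refine ⟨?_, ?_, ?_, by rw [hFc, h17]⟩
    · rintro _ ⟨u, hu, rfl⟩
      exact (sylow_smul_eq_iff_of_mem hu).2 hu
    · rintro g hg _ ⟨u, hu, rfl⟩
      obtain ⟨g, rfl⟩ := hf g
      exact ⟨g * u * g⁻¹, (mem_normalizer_iff.1 (Sylow.smul_eq_iff_mem_normalizer.1 hg) u).1 hu, by simp⟩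
    · intro u hu y hy e
      by_contra hu1
      have hz : zpowers u = (P : Subgroup G).map f := by
        refine eq_of_le_of_card_ge (zpowers_le_of_mem hu) ?_
        have h4 : Nat.card (zpowers u) ∣ 17 :=
          (card_dvd_of_le (zpowers_le_of_mem hu)).trans (dvd_of_eq hFc)
        rcases (Nat.dvd_prime (by norm_num)).1 h4 with h5 | h5
        · exact absurd (zpowers_eq_bot.1 (card_eq_one.1 h5)) hu1
        · rw [h5, hFc]
      obtain ⟨v, hv, e'⟩ := hnle y hy
      have : f v ∈ stabilizer H y := (zpowers_le_of_mem (show u ∈ stabilizer H y from e))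
        (hz ▸ mem_map_of_mem f hv)
      exact e' this
  obtain ⟨k, hk, x, hx⟩ : ∃ k, Nat.card (stabilizer H P ⊓ stabilizer H b : Subgroup H) = 2 ^ (k + 3) ∧
      ∃ x : H, orderOf x = 9 := by
    obtain ⟨y, hy⟩ := nine_psl
    rcases classify hR hFc hb (K := ZMod 17) (ZMod.card 17) with ⟨h, ⟨e⟩⟩ | ⟨h, ⟨e⟩⟩
    · exact ⟨0, h, e.symm y, by rw [MulEquiv.orderOf_eq, hy]⟩
    · refine ⟨1, h, e.symm (Matrix.ProjectiveSpecialLinearGroup.toPGL y), ?_⟩
      rw [MulEquiv.orderOf_eq, orderOf_injective _ Matrix.ProjectiveSpecialLinearGroup.toPGL_injective, hy]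
  have hn2 := n_two hR hFc hb (k := k + 1) hk
  have hn3 : Nat.card (Sylow 3 H) = 136 := by
    have a1 := n_three hR hFc hb hk hx
    have a2 := card_sylow_dvd hf 3
    have a3 := card_sylow_modEq_one 3 H
    rw [h3] at a2
    obtain ⟨m, hm⟩ := a2
    rcases m with _ | _ | _ | m
    · omega
    · omega
    · unfold Nat.ModEq at a3; omega
    · nlinarith
  have hK2 := ker_le_norm hf (p := 2) (by omega)
  have hK3 := ker_le_norm hf (p := 3) (by omega)
  have hK17 : ∀ S : Sylow 17 G, f.ker ≤ normalizer (S : Set G) := fun S g hg => by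
    refine Sylow.smul_eq_iff_mem_normalizer.1 ?_
    rw [← hfs, show f g = 1 from hg, one_smul]
  obtain ⟨T⟩ : Nonempty (Sylow 2 G) := inferInstance
  have hsol := sol_of_norm T (hK2 T)
  have hH := hR.card_eq hb
  rw [hFc, hk] at hH
  have hno : ∀ r : ℕ, r.Prime → r ≠ 2 → r ≠ 3 → r ≠ 17 → (Nat.card (Sylow r G)).factorization 17 = 1 →
      17 ≡ 1 [MOD r] := by
    intro r hr a2 a3 a17 hfac
    haveI : Fact r.Prime := ⟨hr⟩
    have hle : ∀ Q : Sylow r G, (Q : Subgroup G) ≤ f.ker := by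
      intro Q
      rw [← Subgroup.map_eq_bot_iff, ← card_eq_one]
      obtain ⟨j, hj⟩ := IsPGroup.iff_card.1 (Q.2.map f)
      have hd := card_subgroup_dvd_card ((Q : Subgroup G).map f)
      rw [hj, hH] at hd
      have hc : Nat.Coprime r ((17 + 1) * 17 * 2 ^ (k + 3)) := by
        have c2 := (Nat.coprime_primes hr Nat.prime_two).2 a2
        have c3 := (Nat.coprime_primes hr Nat.prime_three).2 a3
        have c17 := (Nat.coprime_primes hr (show Nat.Prime 17 by norm_num)).2 a17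
        exact ((c2.mul_right (c3.pow_right 2)).mul_right c17).mul_right (c2.pow_right _)
      rw [hj]
      exact Nat.eq_one_of_dvd_coprimes (hc.pow_left j) dvd_rfl hd
    have := S4345.result hsol r 17 (by norm_num)
    rwa [← card_sylow_sub hle, hfac, pow_one] at this
  have hKb : f.ker = ⊥ := eq_bot_of_norm hZ fun r hr S => by
    haveI : Fact r.Prime := ⟨hr⟩
    by_cases hd : r ∣ Nat.card G
    · rcases hall r hr hd with ⟨rfl, h⟩ | ⟨rfl | rfl, h⟩ | ⟨rfl | rfl, h⟩
      · exact hK17 S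
      · exact hK3 S
      · exact absurd (hno 5 hr (by omega) (by omega) (by omega) (fac17 (by rw [h]; norm_num)
          (by rw [h]; norm_num))) (by decide)
      · exact hK2 S
      · exact absurd (hno 19 hr (by omega) (by omega) (by omega) (fac17 (by rw [h]; norm_num)
          (by rw [h]; norm_num))) (by decide)
    · have : (S : Subgroup G) = ⊥ := by
        rw [← card_eq_one, S.card_eq_multiplicity, Nat.factorization_eq_zero_of_not_dvd hd, pow_zero]
      intro g _
      change g ∈ normalizer ((S : Subgroup G) : Set G)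
      rw [this, normalizer_eq_top]
      exact mem_top g
  let e0 : G ≃* H := MulEquiv.ofBijective f ⟨(MonoidHom.ker_eq_bot_iff f).1 hKb, hf⟩
  rcases classify hR hFc hb hF with ⟨-, ⟨e⟩⟩ | ⟨-, ⟨e⟩⟩
  · exact Or.inl ⟨e0.trans e⟩
  · exact Or.inr ⟨e0.trans e⟩

/-- Let G be a finite group with trivial centre whose set of Sylow numbers (numbers of Sylow r-subgroups, r over the prime divisors of its order) is exactly {18, 136, 153}. Then G is isomorphic to PSL(2, 17) or to PGL(2, 17). -/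
theorem result {G : Type*} [Group G] [Finite G] (hZ : Subgroup.center G = ⊥) (hNS : {c : ℕ | ∃ r : ℕ, r.Prime ∧ r ∣ Nat.card G ∧ c = Nat.card (Sylow r G)} = ({18, 136, 153} : Set ℕ))
    {F : Type*} [Field F] [Fintype F] (hF : Fintype.card F = 17) :
    Nonempty (G ≃* Matrix.ProjectiveSpecialLinearGroup (Fin 2) F) ∨ Nonempty (G ≃* (GL (Fin 2) F ⧸ Subgroup.center (GL (Fin 2) F))) := by
  exact main hZ hNS hF

end Cfsg.Agent.S3641
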