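import Cfsg.Statements.S4811
import Cfsg.Agent.Isa.I6

set_option autoImplicit false
open Cfsg

namespace Cfsg.Agent.S4811

open Cfsg.Agent.PF Cfsg.Agent.PF.CH Cfsg.Agent.BG


/-- For every finite solvable group G the character degree graph of G (vertices: the primes dividing some irreducible complex character degree; edges: distinct primes whose product divides some degree) has at most two connected components. -/
theorem result {G : Type*} [Group G] [Finite G] [Group.IsSolvable G] : Nat.card ((Cfsg.degreeGraph G).induce (Cfsg.degreePrimes G)).ConnectedComponent ≤ 2 := by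
  classical
  have hs : Group.IsSolvable (⊤ : Subgroup G) := inferInstance
  obtain ⟨f, p, hp, ⟨η, hη, hf⟩, h⟩ := manz hs
  set Γ := (Cfsg.degreeGraph G).induce (Cfsg.degreePrimes G)
  have hv {q : ℕ} {ξ : G → ℂ} (hq : q.Prime) (hξ : ξ ∈ Irr (⊤ : Subgroup G)) (h1 : q ∣ deg ξ) :
      q ∈ Cfsg.degreePrimes G := ⟨hq, _, ⟨⟨ξ, mem_Irr_top.1 hξ⟩, rfl⟩, h1⟩
  have he {q r : Cfsg.degreePrimes G} {ξ : G → ℂ} (hξ : ξ ∈ Irr (⊤ : Subgroup G)) (h1 : q.1 ∣ deg ξ)
      (h2 : r.1 ∣ deg ξ) : Γ.connectedComponentMk q = Γ.connectedComponentMk r := by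
    by_cases e : q = r
    · rw [e]
    · have e' : q.1 ≠ r.1 := fun e' => e (Subtype.ext e')
      exact SimpleGraph.ConnectedComponent.connectedComponentMk_eq_of_adj
        ⟨e', q.2.1, r.2.1, _, ⟨⟨ξ, mem_Irr_top.1 hξ⟩, rfl⟩,
          ((Nat.coprime_primes q.2.1 r.2.1).2 e').mul_dvd_of_dvd_of_dvd h1 h2⟩
  have key (c : Γ.ConnectedComponent) : (∃ hr : f.minFac ∈ Cfsg.degreePrimes G,
      c = Γ.connectedComponentMk ⟨_, hr⟩) ∨ ∃ hr : p ∈ Cfsg.degreePrimes G,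
      c = Γ.connectedComponentMk ⟨_, hr⟩ := by
    induction c using SimpleGraph.ConnectedComponent.ind with
    | _ q =>
    obtain ⟨hq, _, ⟨χ, rfl⟩, h1⟩ := q.2
    rcases h χ (mem_Irr_top.2 χ.2) with e | ⟨ξ, hξ, h2, h3 | h3⟩
    · exact (hq.one_lt.ne' (Nat.dvd_one.1 (e ▸ h1))).elim
    · obtain ⟨s, hs, h4, h5⟩ := Nat.Prime.not_coprime_iff_dvd.1 h3
      have h6 : f ≠ 1 := fun e => hs.one_lt.ne' (Nat.dvd_one.1 (e ▸ h5))
      have h7 : f.minFac ∣ deg η := hf ▸ Nat.minFac_dvd _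
      exact .inl ⟨hv (Nat.minFac_prime h6) hη h7, (he (r := ⟨s, hv hs hξ h4⟩) hξ (h1.trans h2) h4).trans
        (he hη (hf ▸ h5) h7)⟩
    · exact .inr ⟨hv hp hξ h3, he hξ (h1.trans h2) h3⟩
  refine (Nat.card_le_card_of_injective (fun c : Γ.ConnectedComponent => decide (∃ hr : f.minFac ∈
    Cfsg.degreePrimes G, c = Γ.connectedComponentMk ⟨_, hr⟩)) fun c d e => ?_).trans (by simp)
  have e' := decide_eq_decide.1 e
  by_cases h1 : ∃ hr : f.minFac ∈ Cfsg.degreePrimes G, c = Γ.connectedComponentMk ⟨_, hr⟩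
  · obtain ⟨_, h2⟩ := e'.1 h1
    obtain ⟨_, h3⟩ := h1
    rw [h2, h3]
  · obtain ⟨_, h2⟩ := (key c).resolve_left h1
    obtain ⟨_, h3⟩ := (key d).resolve_left (mt e'.2 h1)
    rw [h2, h3]

end Cfsg.Agent.S4811
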