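import Cfsg.Statements.S3669
import Cfsg.Agent.S4811
import Cfsg.Agent.Classical.SL2CharDeg
import Cfsg.Agent.Classical.PSL2Max
import Cfsg.Agent.Char.Burnside

set_option autoImplicit false
open Cfsg

namespace Cfsg.Agent.S3669

open Subgroup

theorem sol {H : Type*} [Group H] [Finite H] (h : Nat.card H ∣ 60) (h' : Nat.card H ≠ 60) :
    Group.IsSolvable H := by
  by_cases h30 : Nat.card H = 30
  · haveI : IsZGroup H := IsZGroup.of_squarefree (by rw [h30]; decide +kernel)
    infer_instance
  have hle := Nat.le_of_dvd (by norm_num) h
  by_cases h5 : 5 ∣ Nat.card H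
  · by_cases h3 : 3 ∣ Nat.card H
    · refine Char.isSolvable_of_two_primes (p := 3) (q := 5) fun r hr hd => ?_
      have : Nat.card H = 15 := by
        generalize Nat.card H = n at *
        interval_cases n <;> omega
      rw [this] at hd
      have := Nat.le_of_dvd (by norm_num) hd
      interval_cases r <;> first | omega | exact absurd hr (by decide)
    · refine Char.isSolvable_of_two_primes (p := 2) (q := 5) fun r hr hd => ?_
      have h1 := hd.trans h
      have := Nat.le_of_dvd (by norm_num) h1
      have h2 : r ≠ 3 := fun e => h3 (e ▸ hd)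
      interval_cases r <;> first | omega | exact absurd hr (by decide)
  · refine Char.isSolvable_of_two_primes (p := 2) (q := 3) fun r hr hd => ?_
    have h1 := hd.trans h
    have := Nat.le_of_dvd (by norm_num) h1
    have h2 : r ≠ 5 := fun e => h5 (e ▸ hd)
    interval_cases r <;> first | omega | exact absurd hr (by decide)

/-- The character degree graph of a finite group has as vertices the primes dividing some irreducible complex character degree, two distinct primes being joined when their product divides some irreducible character degree; two groups have the same character degree graph when they have the same vertices and the same joined pairs. A finite group of order 60 with the same character degree graph as the alternating group A₅ (whose character degrees are 1, 3, 4, 5, so the graph has vertices 2, 3, 5 and no edges) is isomorphic to A₅. -/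
theorem result {G : Type*} [Group G] [Finite G] (hcard : Nat.card G = 60)
    (hΓ : Cfsg.degreePrimes G = Cfsg.degreePrimes (alternatingGroup (Fin 5)) ∧ Cfsg.degreeGraph G = Cfsg.degreeGraph (alternatingGroup (Fin 5))) : Nonempty (G ≃* alternatingGroup (Fin 5)) := by
  classical
  letI : Fintype (GaloisField 2 2) := Fintype.ofFinite _
  have hF : Nat.card (GaloisField 2 2) = 4 := GaloisField.card 2 2 (by norm_num)
  have hF' : Fintype.card (GaloisField 2 2) = 4 := by rw [← Nat.card_eq_fintype_card, hF]
  obtain ⟨H, ⟨e⟩⟩ := Classical.exists_alt5_PSL (F := GaloisField 2 2) (by rw [hF]; norm_num)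
  have hc := Classical.card_PSL2_mul (F := GaloisField 2 2)
  rw [hF] at hc
  have hH : H = ⊤ := eq_top_of_card_eq _ (by
    rw [Nat.card_congr e.toEquiv, Classical.card_alt5]
    rw [show Nat.gcd 2 (4 - 1) = 1 by norm_num] at hc
    omega)
  subst hH
  obtain ⟨h1, h2⟩ := Classical.degreeGraph_SL2_PSL2 (F := GaloisField 2 2) (by omega) (by omega)
    (S := alternatingGroup (Fin 5)) (Or.inl ⟨e.symm.trans topEquiv⟩)
  rw [← hΓ.1, hF'] at h1
  rw [← hΓ.2, hF'] at h2
  have hns : ¬ Group.IsSolvable G := fun hs => by
    have h3 := S4811.result (G := G)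
    have h4 : (Cfsg.degreeGraph G).induce (Cfsg.degreePrimes G) = ⊥ := by
      ext r s
      simp only [SimpleGraph.bot_adj, iff_false, SimpleGraph.comap_adj, Function.Embedding.subtype_apply, h2]
      rintro ⟨a, b, c, ⟨d, f⟩ | ⟨d, f⟩⟩
      · exact a (((Nat.prime_dvd_prime_iff_eq b (by norm_num : Nat.Prime (4 + 1))).1 d).trans
          ((Nat.prime_dvd_prime_iff_eq c (by norm_num : Nat.Prime (4 + 1))).1 f).symm)
      · exact a (((Nat.prime_dvd_prime_iff_eq b (by norm_num : Nat.Prime (4 - 1))).1 d).trans
          ((Nat.prime_dvd_prime_iff_eq c (by norm_num : Nat.Prime (4 - 1))).1 f).symm)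
    have hm : ∀ i : Fin 3, ![2, 3, 5] i ∈ Cfsg.degreePrimes G := by
      intro i; rw [h1]; fin_cases i <;> simp <;> norm_num
    haveI : Finite (Cfsg.degreePrimes G) := by
      rw [h1]
      exact (Set.finite_le_nat 60).subset fun r hr => Nat.le_of_dvd (by norm_num) hr.2
    have h5 := Nat.card_le_card_of_injective (fun i : Fin 3 =>
      ((Cfsg.degreeGraph G).induce (Cfsg.degreePrimes G)).connectedComponentMk ⟨_, hm i⟩)
      (fun i j hij => by
        have := SimpleGraph.ConnectedComponent.exact hij
        rw [h4, SimpleGraph.reachable_bot, Subtype.mk.injEq] at this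
        revert this; fin_cases i <;> fin_cases j <;> simp)
    rw [Nat.card_eq_fintype_card, Fintype.card_fin] at h5
    omega
  haveI : Nontrivial G := Finite.one_lt_card_iff_nontrivial.1 (by omega)
  haveI : IsSimpleGroup G := ⟨fun N hN => by
    by_contra h
    push Not at h
    have h6 := card_eq_card_quotient_mul_card_subgroup N
    haveI := sol (H := N) (hcard ▸ card_subgroup_dvd_card N)
      (fun h7 => h.2 (eq_top_of_card_eq _ (h7.trans hcard.symm)))
    haveI := sol (H := G ⧸ N) (hcard ▸ card_quotient_dvd_card N) (fun h7 => h.1 (by
      rw [hcard, h7] at h6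
      exact eq_bot_of_card_eq _ (by omega)))
    exact hns (Solv.isSolvable_of_normal_of_quotient N)⟩
  exact Classical.nonempty_equiv_alt5_of_simple hcard

end Cfsg.Agent.S3669
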