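import Cfsg.Statements.S3670
import Cfsg.Agent.Ico.U33
import Cfsg.Agent.Small.Sweep
import Cfsg.Agent.FG.Spec
import Cfsg.Agent.MinD.G1
import Cfsg.Agent.S0283

set_option autoImplicit false
open Cfsg

namespace Cfsg.Agent.S3670

open Module Cfsg.Agent.Known Cfsg.Agent.Comp Cfsg.Agent.Char Cfsg.Agent.Small Cfsg.Agent.FG Finset

theorem eig {Γ : Type*} [Group Γ] {φ : Γ →* Equiv.Perm ℕ} {N k n : ℕ} {y : ℕ → Γ} {act : ℕ → ℕ → ℕ} {B : List ℕ}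
    (M : Mdl φ (N + 1) k n y act B) (e : ℕ → ℕ → ℤ) (c : ℤ) (d m : ℕ) (cl rp : ℕ → ℕ) (ws ts : List (List ℕ))
    (h1 : ∀ j < k, ∀ a < N + 1, ∀ b < N + 1, e (act j a) (act j b) = e a b)
    (h2 : ∀ a : Fin (N + 1), ∑ x : Fin (N + 1), e a x * e x 0 = c * e a 0)
    (h3 : ∑ a : Fin (N + 1), e a a = c * d) (h0 : c ≠ 0 ∧ e 0 0 ≠ 0 ∧ d ≠ 0)
    (h4 : ∀ a < N + 1, actW act (nthL [] ts a) 0 = a ∧ actW act (nthL [] ws a) 0 = 0 ∧ (cl a < m ∧ rp (cl a) < N + 1) ∧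
      actW act (nthL [] ws a) (rp (cl a)) = a)
    (h5 : ∀ a : Fin (N + 1), ∀ r : Fin m, ∑ x : Fin (N + 1), (if cl x = r then e 0 0 * e a x - e a 0 * e 0 x else 0) = 0) :
    ∃ χ : IrrCharacter Γ, charDegree χ.1 = d := by
  have := M.finite
  let π : Γ → Fin (N + 1) → Fin (N + 1) := fun g i => ⟨φ g i, M.lt g i.2⟩
  have πm : ∀ g h i, π (g * h) i = π g (π h i) := fun g h i => Fin.ext (by simp [π])
  have π1 : ∀ i, π 1 i = i := fun i => Fin.ext (by simp [π])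
  let ρ : Representation ℂ Γ (Fin (N + 1) → ℂ) :=
    ⟨⟨fun g => LinearMap.funLeft ℂ ℂ (π g⁻¹), by ext; simp [π1]⟩, fun g h => by ext; simp [πm]⟩
  have k1 : ∀ g, ∀ a b : Fin (N + 1), e (π g a) (π g b) = e a b := fun g => by
    let K : Subgroup Γ := ⟨⟨⟨{g | ∀ a b : Fin (N + 1), e (π g a) (π g b) = e a b}, fun {g h} hg hh a b => by
      rw [πm, πm, hg, hh]⟩, fun a b => by rw [π1, π1]⟩, fun {g} hg a b => by
      rw [← hg, ← πm, ← πm, mul_inv_cancel, π1, π1]⟩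
    exact (M.top.ge.trans (Spor.genL_le (H := K) fun j hj a b => by
      simp only [π, M.apply j a.2, M.apply j b.2, h1 j (List.mem_range.1 hj) _ a.2 _ b.2])) (Subgroup.mem_top g)
  have πb : ∀ g, Function.Bijective (π g) := fun g => Finite.injective_iff_bijective.1
    (Function.LeftInverse.injective (g := π g⁻¹) fun i => by rw [← πm, inv_mul_cancel, π1])
  have ht : ∀ i : Fin (N + 1), π (W y (nthL [] ts i)) 0 = i := fun i => Fin.ext ((M.applyW _ (by simp)).trans (h4 i i.2).1)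
  replace h2 : ∀ a b : Fin (N + 1), ∑ x : Fin (N + 1), e a x * e x b = c * e a b := fun a b => by
    obtain ⟨a, rfl⟩ := (πb (W y (nthL [] ts b))).2 a
    have k : ∀ x : Fin (N + 1), e (π (W y (nthL [] ts b)) x) b = e x 0 := fun x => by
      simpa only [ht, Fin.val_zero] using k1 (W y (nthL [] ts b)) x 0
    rw [← (πb (W y (nthL [] ts b))).sum_comp]
    simpa only [k, k1] using h2 a
  have c0 : (c : ℂ) ≠ 0 := Int.cast_ne_zero.2 h0.1
  let E : Matrix (Fin (N + 1)) (Fin (N + 1)) ℂ := .of fun a b => (c : ℂ)⁻¹ * e a b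
  have hE : E * E = E := by
    ext a b
    have := congrArg (Int.cast (R := ℂ)) (h2 a b)
    simp only [E, Matrix.mul_apply, Matrix.of_apply, mul_mul_mul_comm (c : ℂ)⁻¹ _ (c : ℂ)⁻¹, ← mul_sum]
    push_cast at this
    rw [this]; field_simp
  have hm : ∀ f, f ∈ LinearMap.range E.toLin' ↔ E.mulVec f = f := fun f => ⟨by
    rintro ⟨f, rfl⟩; rw [Matrix.toLin'_apply, Matrix.mulVec_mulVec, hE], fun h => ⟨f, h⟩⟩
  have hd : finrank ℂ (LinearMap.range E.toLin') = d := by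
    have := (show LinearMap.IsProj (LinearMap.range E.toLin') E.toLin' from
      ⟨fun f => ⟨f, rfl⟩, fun f h => (hm f).1 h⟩).trace
    rw [Matrix.trace_toLin'_eq, Matrix.trace] at this
    have h := congrArg (Int.cast (R := ℂ)) h3
    push_cast at h
    simp only [E, Matrix.diag, Matrix.of_apply, ← mul_sum, h, inv_mul_cancel_left₀ c0] at this
    exact_mod_cast this.symm
  let R : Subrepresentation ρ := ⟨LinearMap.range E.toLin', fun g f hf => (hm _).2 (funext fun a => by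
    change _ = f (π g⁻¹ a)
    rw [← (hm f).1 hf, Matrix.mulVec, Matrix.mulVec, dotProduct, dotProduct, (hm f).1 hf]
    refine Fintype.sum_bijective (π g⁻¹) (πb _) _ _ fun x => ?_
    simp only [E, Matrix.of_apply, k1]; rfl)⟩
  have fx : ∀ f ∈ R.toSubmodule, (∀ g, π g 0 = 0 → ∀ i, f (π g i) = f i) → f 0 = 0 → f = 0 := fun f hf h h' => by
    have k2 : ∀ x : Fin (N + 1), f x = f (Fin.ofNat _ (rp (cl x))) := fun x => by
      rw [← h (W y (nthL [] ws x)) (Fin.ext ((M.applyW _ (by simp)).trans (h4 x x.2).2.1)) (Fin.ofNat _ _)]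
      refine congrArg f (Fin.ext ?_)
      simp only [π, Fin.val_ofNat, Nat.mod_eq_of_lt (h4 x x.2).2.2.1.2]
      exact ((M.applyW _ (h4 x x.2).2.2.1.2).trans (h4 x x.2).2.2.2).symm
    funext a
    have k3 : ∑ x : Fin (N + 1), (e 0 0 * e a x - e a 0 * e 0 x : ℤ) * f x = 0 := by
      rw [← sum_eq_zero fun (r : Fin m) (_ : r ∈ univ) =>
        (congrArg (fun z : ℤ => z * f (Fin.ofNat _ (rp r))) (h5 a r)).trans (by simp)]
      simp only [Int.cast_sum, sum_mul]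
      rw [sum_comm]
      refine sum_congr rfl fun x _ => ?_
      rw [sum_eq_single ⟨cl x, (h4 x x.2).2.2.1.1⟩ (fun r _ hr => by rw [if_neg fun e => hr (Fin.ext e.symm)]; simp)
        (by simp), if_pos rfl, ← k2]
    have k4 := fun a => congrFun ((hm f).1 hf) a
    simp only [E, Matrix.mulVec, dotProduct, Matrix.of_apply, mul_assoc, ← mul_sum, inv_mul_eq_iff_eq_mul₀ c0] at k4
    simp only [Int.cast_sub, Int.cast_mul, sub_mul, sum_sub_distrib, mul_assoc, ← mul_sum, k4] at k3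
    have k5 := k4 0
    simp only [Fin.val_zero, h'] at k5
    simpa [k5, h0.1, h0.2.1] using k3
  have av : ∀ U : Subrepresentation R.toRepresentation, U.toSubmodule ≠ ⊥ → ∃ u ∈ U.toSubmodule, u.1 0 = 1 ∧
      ∀ g, π g 0 = 0 → ∀ i, u.1 (π g i) = u.1 i := fun U hU => by
    classical
    have := Fintype.ofFinite Γ
    obtain ⟨u, hu, hu0⟩ := Submodule.exists_mem_ne_zero_of_ne_bot hU
    obtain ⟨i, hi⟩ := Function.ne_iff.1 (mt Subtype.ext hu0)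
    have s0 : ((#{g | π g 0 = i} : ℂ) * u.1 i) ≠ 0 :=
      mul_ne_zero (Nat.cast_ne_zero.2 (card_ne_zero.2 ⟨_, mem_filter.2 ⟨mem_univ _, ht i⟩⟩)) hi
    have ev : ∀ a, (∑ g with π g 0 = i, R.toRepresentation g⁻¹ u).1 a = ∑ g with π g 0 = i, u.1 (π g a) := fun a => by
      rw [Submodule.coe_sum, Finset.sum_apply]
      exact sum_congr rfl fun g _ => congrArg (fun g => u.1 (π g a)) (inv_inv g)
    refine ⟨(#{g | π g 0 = i} * u.1 i : ℂ)⁻¹ • ∑ g with π g 0 = i, R.toRepresentation g⁻¹ u,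
      U.toSubmodule.smul_mem _ (sum_mem fun g _ => U.apply_mem_toSubmodule _ hu), ?_, fun h hh a => ?_⟩ <;>
      simp only [Submodule.coe_smul, Pi.smul_apply, ev]
    · rw [sum_congr rfl fun g hg => congrArg u.1 (mem_filter.1 hg).2, sum_const, nsmul_eq_mul]
      exact inv_mul_cancel₀ s0
    · exact congrArg _ (sum_equiv (Equiv.mulRight h) (by simp [πm, hh]) (by simp [πm]))
  have : R.toRepresentation.IsIrreducible := (isIrreducible_iff _).2 ⟨finrank_pos_iff.1 (hd ▸ Nat.pos_of_ne_zero h0.2.2),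
    fun U hU => or_iff_not_imp_left.2 fun hU0 => by
      have : NeZero (Nat.card Γ : ℂ) := ⟨Nat.cast_ne_zero.2 Nat.card_pos.ne'⟩
      obtain ⟨U', hc⟩ := exists_isCompl (⟨U, fun g v hv => hU g v hv⟩ : Subrepresentation R.toRepresentation)
      by_contra hU1
      obtain ⟨u, hu, a1, a2⟩ := av ⟨U, fun g v hv => hU g v hv⟩ hU0
      obtain ⟨v, hv, b1, b2⟩ := av U' fun h => hU1 (by
        have := congrArg Subrepresentation.toSubmodule hc.sup_eq_top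
        rwa [Subrepresentation.toSubmodule_sup, h, sup_bot_eq] at this)
      obtain rfl : u = v := Subtype.ext (sub_eq_zero.1 (fx _ (sub_mem u.2 v.2) (fun g h i => by
        simp [a2 g h, b2 g h]) (by simp [a1, b1])))
      have := (congrArg Subrepresentation.toSubmodule hc.inf_eq_bot).le ⟨hu, hv⟩
      rw [show u = 0 from this] at a1
      simp at a1⟩
  exact ⟨⟨_, isIrrCharacter_character R.toRepresentation⟩, charDegree_eq_of_apply_one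
    ((Representation.char_one _).trans (congrArg _ hd))⟩

theorem aff (R : Type) [CommRing R] [Fintype R] (ψ : AddChar R ℂ) (hψ : ψ.IsPrimitive) :
    ∃ χ : IrrCharacter (Aff Rˣ R), charDegree χ.1 = Nat.card Rˣ := by
  classical
  let ρ : Representation ℂ (Aff Rˣ R) (Rˣ → ℂ) := ⟨⟨fun g => (LinearMap.mulLeft ℂ fun u : Rˣ => ψ (u * g.v)).comp
    (LinearMap.funLeft ℂ ℂ (· * g.c)), by ext; simp⟩, fun g h => by
      ext; simp [mul_add, AddChar.map_add_eq_mul, mul_assoc, Units.smul_def]⟩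
  have : ρ.IsIrreducible := (isIrreducible_iff _).2 ⟨inferInstance, fun U hU => or_iff_not_imp_left.2 fun hU0 => by
    obtain ⟨χ, h⟩ := MinD.exists_Eg' (ρ := ρ) (x := fun b : R => ⟨b, 1⟩) (fun _ _ => by ext <;> simp)
      (fun _ => hU _) hU0
    obtain ⟨f, ⟨hf, h1⟩, h0⟩ := Submodule.exists_mem_ne_zero_of_ne_bot h
    obtain ⟨u, hu⟩ := Function.ne_iff.1 h0
    have k : ∀ v, f v ≠ 0 → ψ.mulShift v = χ := fun v hv => DFunLike.ext _ _ fun b =>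
      mul_right_cancel₀ hv (by simpa [ρ] using congrFun (h1 b) v)
    refine eq_top_iff.2 fun g _ => ?_
    rw [pi_eq_sum_univ' g]
    refine sum_mem fun v _ => U.smul_mem _ ?_
    convert U.smul_mem (f u)⁻¹ (hU ⟨0, v⁻¹ * u⟩ f hf) using 1
    funext w
    by_cases e : w = v
    · simpa [ρ, e] using (inv_mul_cancel₀ hu).symm
    · have : f (w * (v⁻¹ * u)) = 0 := by_contra fun h => e (by
        simpa [← mul_assoc, mul_inv_eq_one] using Units.ext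
          (AddChar.to_mulShift_inj_of_isPrimitive hψ ((k _ h).trans (k _ hu).symm)))
      simp [ρ, e, this]⟩
  exact ⟨⟨_, isIrrCharacter_character ρ⟩, charDegree_eq_of_apply_one (by simp)⟩

theorem gr {G : Type*} [Group G] [Finite G] (h : Nat.card G = 6048) (h1 : ∃ d ∈ charDegrees G, 6 ∣ d)
    (h2 : ∃ d ∈ charDegrees G, 14 ∣ d) (h3 : ∃ d ∈ charDegrees G, 21 ∣ d) : degreePrimes G = {2, 3, 7} ∧
    ∀ p q, (degreeGraph G).Adj p q ↔ p ≠ q ∧ p ∈ ({2, 3, 7} : Set ℕ) ∧ q ∈ ({2, 3, 7} : Set ℕ) := by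
  have k : ∀ p : ℕ, p.Prime → (∃ d ∈ charDegrees G, p ∣ d) → p ∈ ({2, 3, 7} : Set ℕ) := by
    rintro p hp ⟨_, ⟨χ, rfl⟩, hd⟩
    have := hp.dvd_mul.1 (show p ∣ 2 ^ 5 * (3 ^ 3 * 7) from (hd.trans χ.2.charDegree_dvd_card).trans h.dvd)
    rw [hp.dvd_mul, hp.prime.dvd_pow_iff_dvd (by decide), hp.prime.dvd_pow_iff_dvd (by decide)] at this
    simpa [Nat.prime_dvd_prime_iff_eq hp, Nat.prime_two, Nat.prime_three, Nat.prime_seven] using this
  have m : ∀ {a b}, a ∣ b → (∃ d ∈ charDegrees G, b ∣ d) → ∃ d ∈ charDegrees G, a ∣ d :=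
    fun h => Exists.imp fun _ => And.imp_right h.trans
  refine ⟨Set.ext fun p => ⟨fun h => k p h.1 h.2, ?_⟩, fun p q => ⟨fun h => ⟨h.1, k p h.2.1 (m (dvd_mul_right _ _) h.2.2.2),
    k q h.2.2.1 (m (dvd_mul_left _ _) h.2.2.2)⟩, ?_⟩⟩
  · rintro (rfl | rfl | rfl)
    exacts [⟨Nat.prime_two, m (by decide) h1⟩, ⟨Nat.prime_three, m (by decide) h1⟩, ⟨Nat.prime_seven, m (by decide) h2⟩]
  · rintro ⟨h, rfl | rfl | rfl, rfl | rfl | rfl⟩ <;>
      first | exact absurd rfl h | exact ⟨h, by decide, by decide, by assumption⟩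

/-- distances -/
def dt (a b : ℕ) : ℕ := get2 2 0xffffaeb7bafe9aea7be7feadbeeef6f33ffffa6beabae7b9be7eeeebdefa6ff3cfffa9edfbb9bea7fabbb6feea7fbbb3f3fe9feabeebad9fabbdfba7efae9ff3fcfeeb9eeea7fa6eeedbebee7fbaf9f3ff3dbbbaf79fabfe9aeeb9fbb9bfeeb3ffce7eaf9fea7bbae7fa9fbafbe7ebb3fff2e6fb6f6eeeebadafaf7fabdbbeb3fa68ffffeaea7bebaddbf9feeaee9ff2eb9f3ffeeeb9befe9abddfbfaafaf6f2e6fbcfff6fa7faea7beeaee7ee7febb3aeb7f3ffba9faba7fa7eef7afbaef9f29febfcfebe6eeebae7e7f6fbbbba6ff27eafff3f9ffe9a6eeebbbbabddbfbeb3a9efffcdfbbae79fabafbeae7fe7eeb1bbbbfff2f7ebadb9befaabedbfdbbbb3dabfbed8a6edebdafeff7bbfafbbebe2fbe7dabe1a7bbbbf6eff7ebbbfafbbe3bedaaf7e4abf6e7bbbff6bfeeefbeee2af7efbe5a2dafeedebff6efafeefbee2bafebafea8fbeafbea557feffbfeff93aeb7a9ef6f3ffffe9afabbae7eee6ff3fa6ae6faf7cfffbae7bbbea7eefaf9f3a9ee9febbaf3ffb9bedbdfbbba7fbeb29fea7eadfbfcffebadeeabebdfaef6f2eb9dbbbb9fff3fa7faafaeedbfba9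ff1bbbbfa6aeeffcf9fabe7ef7ee9bfebb27eaeeb9ebefff3ea7b7ef9ffabe7bbb2e6fbaeb7eafffc6eeebdf6fafbdbeeb3a9effa6b9febad3fffeeb6ffaaeef9f2e6faeb9dfbfe9acffffaaf7bbafa9ff29feae6faeeea7bf3ff7efbadbe7feeb27eafaeb6f7a7fafcffaf9fbeebae6ff1bbba9feb6fbae7ff3fbbb9fafbbaf6f3fa6a7eafba6eeeffcfbdeeee7dbfbbb2eb9fa9efea9fabfff3e7ebe7efe7beb3aeb5bbbabeb9befffcdbfeabdfdbebb36bfbb7affdefb6f6af29bebeefbbbee2fdb9eeeffdf6afbef986aeffafafeee1eeeefdbbfdabdfefb692bbbafefbbbe3b7af6bfbfdbef9abdf68abfbbeefebe3efabefa955aebfaebfaa3feffbfeff93bedb6bfbebf6afedebeeca6ff7bbbbe3dabefdbaefbef97bbbfae1aff7afbee2af7deeefbbefb6bf6eafe4aff6fbebe2fbe7b7aebfabdfdafebbda2ff6efeee2baffefabfeaebffbeaffaa8557feff93b7afdabfbbdafeefb6faffd29bbbeee1eeeefbe7ebbf6ef6afbbffd86bafebe2fdbbbedabf7bbbabdfeeffd92afbbee36bfaaf7eefedebbef9afffd68aefbbe3efaabafffefbeaaebfff955aa3feff92af7eaf7febabdfabdffafebfac6aff63dabfdabebff6aff6afafebfafd2aff62fbe6fbe7bbbef9bef9eefbbeee86ff63bedbbedaefefb6efb6bbeefbbe92ff62bafebafffeaebfaebfffbfeffaa855536bfafdbbbb7bbbedebbbebffaffd1aa3b7adeeeeefbf6edafeeefebafffd4aa1eeef6bfabfedebbf6efaeefeeffda1a2fdbbb7afebdafe7bbbaffbbbbffda4a3efabefabfefbeafbeaffbfeff955aa13fffffffea9ffffffffaa6a9aa6a9aa4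 (64 * a + b)

/-- words -/
def ws : List (List ℕ) := [[], [], [], [1, 2, 3, 2, 2, 3, 2, 1, 0], [1, 2, 3, 1, 2, 3, 2, 1, 2], [2, 1, 2, 3, 1, 2, 3, 2, 1], [3, 2, 3, 2, 2, 2, 3], [3, 1, 2, 3, 2, 0, 3, 1], [3, 2, 2, 3, 1, 2, 3, 2, 3, 0], [3, 2, 3, 2, 2, 2, 3], [2, 2, 3, 2, 3, 2, 2, 2, 3], [2, 3, 2, 3, 1, 2], [2, 2, 3, 2, 3, 1, 1, 1, 2, 3, 0], [0, 0, 0, 3, 2, 3], [2, 0, 3, 2, 3, 2, 3, 2, 3, 1, 2], [2, 3, 2, 3, 1, 2], [2, 2, 2, 3, 2, 3, 1, 2], [2, 2, 2, 3, 2, 3, 1, 2], [0, 3, 1, 2, 3, 2, 3, 2, 3], [2, 2, 0, 0, 0, 3, 2, 3], [3, 2, 3, 1, 1, 1, 2, 3, 0], [3, 2, 2, 2, 3, 0], [2, 2, 0, 3, 2, 3, 2, 3, 2], [2, 2, 3, 2, 3, 2, 3, 2, 3, 0], [3, 2, 2, 2, 3, 0], [2, 2, 2, 0, 3, 2, 3], [], [3, 2, 3, 2, 3, 2, 3, 0], [0, 3, 2, 3, 2, 3, 0, 0], [0, 3, 2, 3, 2, 2, 3, 1, 2], [2, 3, 2, 3, 1, 0, 0], [2, 0, 3, 2, 3, 2, 0, 0], [0, 3, 1, 2, 3, 2, 0], [2, 2, 2, 0, 3, 2, 3], [0, 0, 0, 3, 2, 3, 2, 0,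 0], [1, 2, 3, 2, 1, 2, 3, 2, 1, 0], [2, 2, 2, 0, 0], [2, 2, 2, 3, 2, 3, 1, 2], [3, 1, 2, 3, 2, 0, 3, 1], [0, 3, 2, 3, 2, 3, 2], [2, 2, 0, 0, 0, 3, 2, 3], [3, 2, 2, 2, 3, 0], [2, 0, 3, 2, 3], [2, 0, 3, 2, 3], [3, 2, 2, 3, 2, 3, 0], [3, 2, 3, 2, 3, 2, 3, 0], [0, 3, 2, 3, 2, 3, 2], [3, 2, 3, 1, 2, 2, 3, 2], [2, 1, 2, 3, 1, 2, 3, 2, 1], [2, 2, 0, 3, 2, 3, 2, 3, 2], [3, 2, 2, 3, 2, 3, 0], [0, 0, 0, 3, 2, 3], [2, 0, 0], [2, 3, 1, 2, 3, 1, 2, 1, 1], [2, 3, 2, 3, 1, 2], [1, 1, 1, 2, 3, 2, 2, 2, 1], [2, 2], [1, 1, 2, 3, 2, 3, 1, 1, 2], [2, 0, 3, 2, 3], [2, 2, 0, 3, 1, 2, 3, 2, 0], [2, 3, 2, 3, 1, 2, 2, 2], [2, 2, 2, 3, 2, 3, 1, 0, 0], [0, 3, 2, 3, 2, 3, 2, 2, 2]]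

/-- words -/
def ts : List (List ℕ) := [[], [2], [2, 0], [0], [3, 2, 1], [3, 2, 3, 2, 1, 2, 0], [3, 2, 1, 2], [3, 1, 1, 1], [2, 3, 1, 1], [2, 2, 3, 2], [3, 2], [1, 2, 3, 1, 0], [2, 1], [2, 2, 1, 0], [2, 0, 0, 3, 1], [0, 0, 3], [3, 1, 1], [2, 0, 3, 1], [3, 2, 2, 1], [1, 0], [2, 2, 2, 1], [2, 3, 2], [3, 1], [1, 2], [2, 2, 3, 0], [2, 1, 2, 0], [0, 3, 1], [1], [1, 1, 1], [2, 3, 2, 0], [2, 3, 2, 1, 0], [0, 3], [1, 1], [3, 2, 0], [3, 1, 2, 3, 2], [2, 1, 0], [3], [1, 1, 0], [3, 1, 1, 0], [2, 2, 2, 1, 2], [1, 2, 3, 2], [3, 2, 1, 0], [3, 1, 2], [2, 1, 1, 1], [3, 0], [2, 2, 1, 2], [2, 2, 3, 1], [2, 2, 2, 1, 0], [0, 0, 3, 1], [2, 1, 2], [3, 2, 1, 2, 0], [3, 1, 0], [2, 3, 0], [2, 3, 1, 0], [1, 1, 2, 0], [2, 2, 1], [3, 2, 3, 1, 0], [2, 3, 1], [1, 2, 3, 0], [1, 1, 2], [1, 2, 0], [2, 3, 2, 1, 2, 0], [3, 2, 3, 2]]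

theorem six {G : Type*} [Group G] [Finite G] [IsSimpleGroup G] (h : Nat.card G = 6048) :
    ∃ d ∈ charDegrees G, 6 ∣ d := by
  have : Fact (Nat.Prime 7) := ⟨by decide⟩
  obtain ⟨x, K, hx⟩ := exists_defOne_of_dvd (G := G) (p := 7) (by rw [h]; norm_num) (by rw [h]; norm_num)
  have := Fintype.ofFinite K
  obtain ⟨X, φ, δ, ε, s⟩ := hx.exists_pshape
  by_contra! hc
  have k : ∀ z ∈ _, ¬ 6 ∣ Int.natAbs z := fun z hz => let ⟨χ, _, _, e⟩ := s.exists_of_mem hz; e ▸ hc _ ⟨χ, rfl⟩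
  have := (h ▸ s.pdata fun c => by
    letI := c.commGroup; exact absurd (h ▸ IsSimpleGroup.prime_card (α := G)) (by norm_num)).ex (R := 78)
    (f := fun _ _ _ l => l.all fun z => !decide (6 ∣ z.natAbs)) (by decide) (by decide) fun l hl => by
      simpa [← hl] using k
  revert this
  decide +kernel

theorem d14 : ∃ χ : IrrCharacter Spor.MdJ2.H, charDegree χ.1 = 14 :=
  eig (N := 62) Ico.U.mdl (fun a b => nthL 0 [8, -4, 2, -1] (dt a b)) 36 14 4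
    (dt 0) (nthL 0 [0, 1, 2, 26]) ws ts (by decide +kernel) (by decide +kernel) (by decide +kernel)
    (by decide +kernel) (by decide +kernel) (by decide +kernel)

theorem d21 : ∃ χ : IrrCharacter Spor.MdJ2.H, charDegree χ.1 = 21 :=
  eig (N := 62) Ico.U.mdl (fun a b => nthL 0 [8, 4, 0, -1] (dt a b)) 24 21 4
    (dt 0) (nthL 0 [0, 1, 2, 26]) ws ts (by decide +kernel) (by decide +kernel) (by decide +kernel)
    (by decide +kernel) (by decide +kernel) (by decide +kernel)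

/-- The character degree graph of a finite group has as vertices the primes dividing some irreducible complex character degree, two distinct primes being joined when their product divides some irreducible character degree; two groups have the same character degree graph when they have the same vertices and the same joined pairs. Let F be the field with 9 elements and L = PSU(3,3) realised over F (order 6048). There is a finite solvable group of order 6048 with the same character degree graph as L; so L is not determined by its order together with its character degree graph. -/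
theorem result {F : Type*} [Field F] [Fintype F] (hF : Fintype.card F = 9) :
    ∃ (H : Type) (_ : Group H) (_ : Fintype H), Group.IsSolvable H ∧ Nat.card H = 6048 ∧ Cfsg.degreePrimes H = Cfsg.degreePrimes (Cfsg.PSU 3 F 3) ∧ Cfsg.degreeGraph H = Cfsg.degreeGraph (Cfsg.PSU 3 F 3) := by
  have := S0283.result (q := 3) hF 3 le_rfl (by decide)
  obtain ⟨e⟩ := Ico.U.equiv hF
  have hc := (Nat.card_congr e.toEquiv).trans Spor.MdJ2.cardH
  have tr : ∀ χ : IrrCharacter Spor.MdJ2.H, charDegree χ.1 ∈ charDegrees (PSU 3 F 3) := fun χ =>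
    ⟨⟨_, χ.2.comp_equiv e⟩, by simp [charDegree]⟩
  obtain ⟨a1, a2⟩ := gr hc (six hc) ⟨_, tr d14.choose, d14.choose_spec.symm.dvd⟩
    ⟨_, tr d21.choose, d21.choose_spec.symm.dvd⟩
  have := Fintype.ofFinite (GaloisField 2 3)
  obtain ⟨ψ, hψ⟩ := MinD.exists_char_ne (GaloisField 2 3)
  obtain ⟨γ, hγ⟩ := aff _ ψ (AddChar.IsPrimitive.of_ne_one hψ)
  obtain ⟨δ, hδ⟩ := aff _ _ (ZMod.isPrimitive_stdAddChar 9)
  have c1 : Nat.card (GaloisField 2 3) = 8 := GaloisField.card 2 3 (by decide)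
  have c2 : Nat.card (ZMod 9)ˣ = 6 := by rw [Nat.card_eq_fintype_card, ZMod.card_units_eq_totient]; rfl
  rw [Nat.card_units, c1] at hγ
  have k : 42 ∈ charDegrees ((Aff (GaloisField 2 3)ˣ (GaloisField 2 3) × Aff (ZMod 9)ˣ (ZMod 9)) ×
      Multiplicative (ZMod 2)) := ⟨⟨_, (γ.2.prod δ.2).comp_of_surjective (MonoidHom.fst _ _) Prod.fst_surjective⟩,
    charDegree_eq_of_apply_one (by simp [γ.2.apply_one_eq_charDegree, δ.2.apply_one_eq_charDegree, hγ, hδ, c2, -Nat.card_eq_fintype_card]; norm_num)⟩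
  have hH : Nat.card ((Aff (GaloisField 2 3)ˣ (GaloisField 2 3) × Aff (ZMod 9)ˣ (ZMod 9)) ×
      Multiplicative (ZMod 2)) = 6048 := by
    rw [Nat.card_prod, Nat.card_prod, Aff.card, Aff.card, Nat.card_units, c1, c2]; simp
  obtain ⟨b1, b2⟩ := gr hH ⟨_, k, by decide⟩ ⟨_, k, by decide⟩ ⟨_, k, by decide⟩
  have := Aff.isSolvable (C := (GaloisField 2 3)ˣ) (V := GaloisField 2 3)
  have := Aff.isSolvable (C := (ZMod 9)ˣ) (V := ZMod 9)
  exact ⟨_, inferInstance, Fintype.ofFinite _, inferInstance, hH, b1.trans a1.symm,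
    SimpleGraph.ext (funext₂ fun p q => propext ((b2 p q).trans (a2 p q).symm))⟩

end Cfsg.Agent.S3670
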