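import Cfsg.Statements.S3680
import Cfsg.Agent.S0704
import Cfsg.Agent.S0721
import Cfsg.Agent.Perm.Regular
import Cfsg.Agent.Solv.MinNormal

set_option autoImplicit false
open Cfsg

namespace Cfsg.Agent.S3680

open Subgroup MulAction Cfsg.Agent.Perm

theorem not_comm {M T : Type*} [Group M] [Group T] {m : ℕ} (e : M ≃* (Fin m → T)) (h : ¬ IsMulCommutative M) :
    ¬ IsMulCommutative T := fun _ => h ⟨⟨fun a b => e.injective (by
      rw [map_mul, map_mul]; ext i; exact mul_comm' _ _)⟩⟩

theorem two_min {G Ω : Type*} [Group G] [MulAction G Ω] [FaithfulSMul G Ω] (M N : Subgroup G) [M.Normal] [N.Normal]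
    (hM : M ≠ ⊥) (hN : N ≠ ⊥) (hMmin : ∀ L : Subgroup G, L.Normal → L ≤ M → L = ⊥ ∨ L = M)
    (hNmin : ∀ L : Subgroup G, L.Normal → L ≤ N → L = ⊥ ∨ L = N) (hMN : M ≠ N) (hMt : IsPretransitive M Ω)
    (hNt : IsPretransitive N Ω) : Nonempty (M ≃* N) ∧
      ∀ L : Subgroup G, L.Normal → L ≠ ⊥ → (∀ L' : Subgroup G, L'.Normal → L' ≤ L → L' = ⊥ ∨ L' = L) → L = M ∨ L = N := by
  let e : G ≃* (toPermHom G Ω).range := MonoidHom.ofInjective toPerm_injective
  have hmin : ∀ A : Subgroup G, (∀ L : Subgroup G, L.Normal → L ≤ A → L = ⊥ ∨ L = A) →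
      ∀ L : Subgroup (toPermHom G Ω).range, L.Normal → L ≤ A.map e.toMonoidHom → L = ⊥ ∨ L = A.map e.toMonoidHom := by
    intro A hA L hL hle
    have h1 : (L.comap e.toMonoidHom).map e.toMonoidHom = L := map_comap_eq_self_of_surjective e.surjective L
    rcases hA (L.comap e.toMonoidHom) (hL.comap _) (by
      rw [← comap_map_eq_self_of_injective (f := e.toMonoidHom) e.injective A]; exact comap_mono hle) with h | h
    · left; rw [← h1, h, Subgroup.map_bot]
    · right; rw [← h1, h]
  have hbot : ∀ A : Subgroup G, A ≠ ⊥ → A.map e.toMonoidHom ≠ ⊥ := fun A hA h =>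
    hA ((map_eq_bot_iff_of_injective _ e.injective).1 h)
  have htr : ∀ A : Subgroup G, IsPretransitive A Ω → IsPretransitive (A.map e.toMonoidHom) Ω := fun A hA =>
    ⟨fun x y => by
      obtain ⟨g, hg⟩ := hA.exists_smul_eq x y
      exact ⟨⟨e g, g, g.2, rfl⟩, hg⟩⟩
  haveI : (M.map e.toMonoidHom).Normal := Normal.map inferInstance _ e.surjective
  haveI : (N.map e.toMonoidHom).Normal := Normal.map inferInstance _ e.surjective
  obtain ⟨-, -, -, ⟨f⟩, -, -, h⟩ := Cfsg.Agent.S0704.result _ (M.map e.toMonoidHom) (N.map e.toMonoidHom) (hbot M hM) (hbot N hN)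
    (hmin M hMmin) (hmin N hNmin) (fun h => hMN (map_injective e.injective h)) (htr M hMt) (htr N hNt)
  refine ⟨⟨((M.equivMapOfInjective _ e.injective).trans f).trans (N.equivMapOfInjective _ e.injective).symm⟩,
    fun L hL h0 hm => ?_⟩
  exact (h _ (hL.map _ e.surjective) (hbot L h0) (hmin L hm)).imp (fun h => map_injective e.injective h)
    (fun h => map_injective e.injective h)

/-- The socle of a finite primitive permutation group. Let a finite group G act faithfully and primitively on a set Ω, and let N be the subgroup generated by the minimal normal subgroups of G. Then either N is an elementary abelian p-group for some prime p and acts regularly on Ω (transitively with trivial point stabilizers), or N is isomorphic to a direct product of m ≥ 1 copies of a non-abelian simple group. -/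
theorem result {G Ω : Type*} [Group G] [Finite G] [MulAction G Ω] [FaithfulSMul G Ω] [Finite Ω]
    (hprim : MulAction.IsPreprimitive G Ω) (N : Subgroup G)
    (hN : N = sSup {V : Subgroup G | V.Normal ∧ V ≠ ⊥ ∧ ∀ M : Subgroup G, M.Normal → M ≤ V → M = ⊥ ∨ M = V}) :
    (∃ p : ℕ, p.Prime ∧ IsMulCommutative N ∧ (∀ x : N, x ^ p = 1) ∧
      MulAction.IsPretransitive N Ω ∧ ∀ ω : Ω, MulAction.stabilizer N ω = ⊥) ∨
    (∃ (T : Type) (_ : Group T) (m : ℕ), 1 ≤ m ∧ IsSimpleGroup T ∧ ¬ IsMulCommutative T ∧ Nonempty (N ≃* (Fin m → T))) := by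
  rcases subsingleton_or_nontrivial G with hG | hG
  · left
    refine ⟨2, Nat.prime_two, ⟨⟨fun a b => Subsingleton.elim _ _⟩⟩, fun x => Subsingleton.elim _ _,
      ⟨fun x y => ?_⟩, fun ω => Subsingleton.elim _ _⟩
    obtain ⟨g, hg⟩ := exists_smul_eq G x y
    exact ⟨1, by rw [← hg, Subsingleton.elim g 1]; rfl⟩
  obtain ⟨M, hMn, hM0, hMmin⟩ := Cfsg.Agent.Solv.exists_minimal_normal G
  have hMt := isPretransitive_of_normal (α := Ω) M hM0
  by_cases huniq : ∀ V : Subgroup G, V.Normal → V ≠ ⊥ → (∀ L : Subgroup G, L.Normal → L ≤ V → L = ⊥ ∨ L = V) → V = M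
  · have hNM : N = M := by
      rw [hN]
      exact le_antisymm (sSup_le fun V hV => (huniq V hV.1 hV.2.1 hV.2.2).le) (le_sSup ⟨hMn, hM0, hMmin⟩)
    rw [hNM]
    by_cases hc : IsMulCommutative M
    · left
      obtain ⟨p, hp, h⟩ := exists_prime_pow_eq_one M hM0 hMmin hc
      refine ⟨p, hp, hc, fun x => Subtype.ext (h x x.2), hMt, fun ω => (stabilizer_eq_bot_iff M ω).2 fun u hu h => ?_⟩
      exact eq_one_of_commute hMt (fun k hk => mul_comm_of_isMulCommutative hc k hk u hu) h
    · right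
      obtain ⟨T, _, m, hT, hm, ⟨e⟩⟩ := Cfsg.Agent.S0721.result M hM0 hMmin
      exact ⟨T, _, m, hm, hT, not_comm e hc, ⟨e⟩⟩
  · push Not at huniq
    obtain ⟨V, hVn, hV0, hVmin, hVM⟩ := huniq
    have hVt := isPretransitive_of_normal (α := Ω) V hV0
    obtain ⟨⟨f⟩, hthird⟩ := two_min M V hM0 hV0 hMmin hVmin hVM.symm hMt hVt
    have hNM : N = M ⊔ V := by
      rw [hN]
      refine le_antisymm (sSup_le fun L hL => ?_) (sup_le (le_sSup ⟨hMn, hM0, hMmin⟩) (le_sSup ⟨hVn, hV0, hVmin⟩))
      rcases hthird L hL.1 hL.2.1 hL.2.2 with rfl | rfl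
      · exact le_sup_left
      · exact le_sup_right
    have hnle : ¬ M ≤ V := fun h => (hVmin M hMn h).elim hM0 hVM.symm
    have hcomm := commute_of_minimal_normal hMmin hnle
    have hinf : M ⊓ V = ⊥ := (hMmin _ inferInstance inf_le_left).resolve_right fun h => hnle (inf_eq_left.1 h)
    have hc : ¬ IsMulCommutative M := by
      intro hc
      obtain ⟨⟨v, hv⟩, hv1⟩ := ne_bot_iff_exists_ne_one.1 hV0
      obtain ⟨a, ha⟩ := exists_smul_ne (α := Ω) (fun h => hv1 (Subtype.ext h) : v ≠ 1)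
      obtain ⟨u, hu⟩ := hMt.exists_smul_eq a (v • a)
      have := eq_one_of_commute hMt (c := (u : G)⁻¹ * v) (a := a) (fun k hk => by
        rw [← mul_assoc, mul_comm_of_isMulCommutative hc k hk _ (inv_mem u.2), mul_assoc, hcomm k hk v hv, mul_assoc])
        (by rw [mul_smul, inv_smul_eq_iff]; exact hu.symm)
      rw [inv_mul_eq_one] at this
      have h3 : v ∈ M ⊓ V := ⟨this ▸ u.2, hv⟩
      rw [hinf, mem_bot] at h3
      exact hv1 (Subtype.ext h3)
    right
    obtain ⟨T, _, m, hT, hm, ⟨e⟩⟩ := Cfsg.Agent.S0721.result M hM0 hMmin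
    refine ⟨T, _, m + m, by omega, hT, not_comm e hc, ?_⟩
    let φ : M × V →* G := M.subtype.noncommCoprod V.subtype (fun a b => hcomm a a.2 b b.2)
    have hφ : Function.Injective φ := by
      rw [injective_iff_map_eq_one]
      rintro ⟨a, b⟩ h
      have h1 : (a : G) * b = 1 := h
      have h2 : (b : G) ∈ M ⊓ V := ⟨by rw [eq_inv_of_mul_eq_one_right h1]; exact M.inv_mem a.2, b.2⟩
      rw [hinf, mem_bot] at h2
      rw [h2, mul_one] at h1
      exact Prod.ext (Subtype.ext h1) (Subtype.ext h2)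
    have hr : φ.range = N := by
      rw [hNM]
      exact (MonoidHom.noncommCoprod_range _ _ _).trans (by rw [range_subtype, range_subtype])
    exact ⟨((MulEquiv.subgroupCongr hr.symm).trans (MonoidHom.ofInjective hφ).symm).trans
      (((e.prodCongr (f.symm.trans e)).trans (({ Equiv.sumArrowEquivProdArrow (Fin m) (Fin m) T with
        map_mul' := fun _ _ => rfl } : (Fin m ⊕ Fin m → T) ≃* (Fin m → T) × (Fin m → T))).symm).trans
        (MulEquiv.arrowCongr finSumFinEquiv (MulEquiv.refl T)))⟩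

end Cfsg.Agent.S3680
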