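import Cfsg.Statements.S3702
import Cfsg.Agent.Hig.S4T
-- import your own Cfsg.Agent.* helpers here

set_option autoImplicit false
open Cfsg

namespace Cfsg.Agent.S3702

open Cfsg.Agent.Hig Subgroup Equiv

def s4iv : List (Fin 24) :=
  [0, 4, 2, 3, 1, 15, 19, 10, 8, 11, 7, 9, 16, 13, 23, 5, 12, 17, 18, 6, 20, 21, 22, 14]

def s4W : List (List (Fin 9)) :=
  [[0, 1, 2, 3, 4, 5, 6, 7, 8], [3, 4, 5, 6, 7, 8, 0, 1, 2], [1, 0, 2, 4, 3, 5, 6, 7, 8], [3, 4,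
  5, 0, 1, 2, 7, 6, 8], [6, 7, 8, 0, 1, 2, 3, 4, 5], [4, 3, 5, 6, 7, 8, 1, 0, 2], [0, 1, 2, 7, 6,
  8, 3, 4, 5], [4, 3, 5, 7, 6, 8, 0, 1, 2], [4, 3, 5, 1, 0, 2, 7, 6, 8], [6, 7, 8, 3, 4, 5, 1, 0,
  2], [6, 7, 8, 1, 0, 2, 4, 3, 5], [7, 6, 8, 3, 4, 5, 0, 1, 2], [7, 6, 8, 0, 1, 2, 4, 3, 5], [1,
  0, 2, 7, 6, 8, 4, 3, 5], [3, 4, 5, 1, 0, 2, 6, 7, 8], [7, 6, 8, 1, 0, 2, 3, 4, 5], [3, 4, 5, 7,
  6, 8, 1, 0, 2], [1, 0, 2, 6, 7, 8, 3, 4, 5], [7, 6, 8, 4, 3, 5, 1, 0, 2], [0, 1, 2, 6, 7, 8, 4,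
  3, 5], [6, 7, 8, 4, 3, 5, 0, 1, 2], [0, 1, 2, 4, 3, 5, 7, 6, 8], [1, 0, 2, 3, 4, 5, 7, 6, 8],
  [4, 3, 5, 0, 1, 2, 6, 7, 8]]

def iv (i : Fin 24) : Fin 24 := s4iv.getD i 0

def wf (i : Fin 24) (s : Fin 9) : Fin 9 := (s4W.getD i []).getD s 0

def pf (x : K3) (s : Fin 9) : Fin 9 :=
  Fin.ofNat 9 (3 * (s.val / 3) + (s.val + ([x.1, x.2.1, x.2.2].getD (s.val / 3) 0).val) % 3)

theorem wf_inv : ∀ i, (∀ s, wf (iv i) (wf i s) = s) ∧ ∀ s, wf i (wf (iv i) s) = s := by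
  decide +kernel

theorem pf_inv : ∀ x, (∀ s, pf (-x) (pf x s) = s) ∧ ∀ s, pf x (pf (-x) s) = s := by
  decide +kernel

def w0 (i : Fin 24) : Perm (Fin 9) := ⟨wf i, wf (iv i), (wf_inv i).1, (wf_inv i).2⟩

def p0 (x : K3) : Perm (Fin 9) := ⟨pf x, pf (-x), (pf_inv x).1, (pf_inv x).2⟩

theorem p0_neg (x : K3) : p0 (-x) = (p0 x)⁻¹ := Equiv.ext fun _ => rfl

theorem w0_iv (i : Fin 24) : w0 (iv i) = (w0 i)⁻¹ := Equiv.ext fun _ => rfl

theorem p0_add : ∀ x y, p0 (x + y) = p0 x * p0 y := by decide +kernel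

theorem w0_mul : ∀ i j, w0 (mu i j) = w0 i * w0 j := by decide +kernel

theorem w0_p0 : ∀ i x, p0 (eS i x) * w0 i = w0 i * p0 x := by decide +kernel

theorem pi_one : ∀ x i, p0 x * w0 i = 1 → x = 0 ∧ i = 0 := by decide +kernel

theorem pi_inj : ∀ p q : Q4, p0 p.1 * w0 p.2 = p0 q.1 * w0 q.2 → p = q := by
  rintro ⟨x, i⟩ ⟨y, j⟩ c
  have k : ∀ i j, mu i (iv j) = 0 → i = j := by decide +kernel
  have := pi_one (-y + x) (mu i (iv j)) (by
    rw [p0_add, w0_mul, mul_assoc, ← mul_assoc (p0 x), c, p0_neg, w0_iv]; group)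
  exact Prod.ext (neg_add_eq_zero.1 this.1).symm (k _ _ this.2)

theorem gens : swap (0 : Fin 9) 1 * swap 1 2 = p0 (1, 0, 0) ∧
    swap (0 : Fin 9) 3 * swap 3 6 * (swap (1 : Fin 9) 4 * swap 4 7) *
      (swap (2 : Fin 9) 5 * swap 5 8) = w0 1 ∧ swap (0 : Fin 9) 1 * swap 3 4 = w0 2 ∧
    swap (0 : Fin 9) 3 * swap 1 4 * swap 2 5 * swap 6 7 = w0 3 ∧ w0 0 = 1 ∧ p0 0 = 1 ∧
    (∀ i, i = 0 ∨ ∃ j < i, mu 1 j = i ∨ mu 2 j = i ∨ mu 3 j = i) ∧
    (∀ x : K3, x = x.1.val • eS 0 (1, 0, 0) + x.2.1.val • eS 1 (1, 0, 0) +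
      x.2.2.val • eS 4 (1, 0, 0)) := by
  decide +kernel

theorem ord_s4 : ∀ i, (∀ x, qp (x, i) 36 = (0, 0)) ∧ ((∃ x, (qp (x, i) 9).2 = 0) → i = 0 ∨
    ∃ j, ∀ x, (qp (x, mu (mu (mu j i) (iv j)) i) 9).2 ≠ 0) ∧ qm (0, i) (0, iv i) = (0, 0) := by
  decide +kernel


/-- Let K ≤ Sym(9) be generated by (1 2 3), (1 4 7)(2 5 8)(3 6 9), (1 2)(4 5) and (1 4)(2 5)(3 6)(7 8) (the normalizer in Alt(9) of the elementary abelian group generated by (1 2 3), (4 5 6), (7 8 9)). Let G be a finite group with a subgroup H ≅ K and J = O₃(H). If C_G(j) ≤ H for every j ≠ 1 in J and J is strongly closed in H with respect to G (a G-conjugate of an element of J lying in H lies in J), then G = H. -/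
theorem result {G : Type*} [Group G] [Finite G] (H : Subgroup G)
    (hH : Nonempty (↥H ≃* ↥(Subgroup.closure ({Equiv.swap (0 : Fin 9) 1 * Equiv.swap 1 2,
        Equiv.swap (0 : Fin 9) 3 * Equiv.swap 3 6 * (Equiv.swap (1 : Fin 9) 4 * Equiv.swap 4 7) * (Equiv.swap (2 : Fin 9) 5 * Equiv.swap 5 8),
        Equiv.swap (0 : Fin 9) 1 * Equiv.swap 3 4, Equiv.swap (0 : Fin 9) 3 * Equiv.swap 1 4 * Equiv.swap 2 5 * Equiv.swap 6 7} : Set (Equiv.Perm (Fin 9))))))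
    (J : Subgroup G) (hJ : J = (Cfsg.pCore 3 ↥H).map H.subtype)
    (hC : ∀ j ∈ J, j ≠ 1 → Subgroup.centralizer ({j} : Set G) ≤ H) (hsc : Cfsg.IsStronglyClosed J H) : H = ⊤ := by
  obtain ⟨f⟩ := hH
  have := Fact.mk Nat.prime_three
  rw [gens.1, gens.2.1, gens.2.2.1, gens.2.2.2.1] at f
  set X := closure ({p0 (1, 0, 0), w0 1, w0 2, w0 3} : Set (Perm (Fin 9))) with hX
  have mw : ∀ i, w0 i ∈ X := fun i => by
    induction i using WellFoundedLT.induction with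
    | ind i ih =>
      rcases gens.2.2.2.2.2.2.1 i with rfl | ⟨j, hj, c⟩
      · exact gens.2.2.2.2.1 ▸ one_mem _
      · rcases c with c | c | c <;> rw [← c, w0_mul] <;>
          exact mul_mem (subset_closure (by simp)) (ih j hj)
  have mp : ∀ x, p0 x ∈ X := fun x => by
    have k : ∀ (n : ℕ) i, p0 (n • eS i (1, 0, 0)) ∈ X := fun n i => by
      induction n with
      | zero => exact zero_smul ℕ (eS i (1, 0, 0)) ▸ gens.2.2.2.2.2.1 ▸ one_mem _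
      | succ n ih =>
        rw [succ_nsmul, p0_add, eq_mul_inv_of_mul_eq (w0_p0 i _)]
        exact mul_mem ih (mul_mem (mul_mem (mw _) (subset_closure (by simp))) (inv_mem (mw _)))
    rw [gens.2.2.2.2.2.2.2 x, p0_add, p0_add]
    exact mul_mem (mul_mem (k _ _) (k _ _)) (k _ _)
  have pm : ∀ p q : Q4, p0 (qm p q).1 * w0 (qm p q).2 = p0 p.1 * w0 p.2 * (p0 q.1 * w0 q.2) :=
    fun p q => by
      rw [qm, p0_add, w0_mul, mul_assoc, ← mul_assoc (p0 (eS _ _)), w0_p0]; simp only [mul_assoc]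
  have f0 : ∀ g ∈ X, ∃ p : Q4, p0 p.1 * w0 p.2 = g := fun g hg => by
    induction hg using closure_induction with
    | mem g hg =>
      rcases hg with rfl | rfl | rfl | rfl
      · exact ⟨(_, 0), by rw [gens.2.2.2.2.1, mul_one]⟩
      all_goals exact ⟨(0, _), by rw [gens.2.2.2.2.2.1, one_mul]⟩
    | one => exact ⟨(0, 0), by rw [gens.2.2.2.2.1, gens.2.2.2.2.2.1, mul_one]⟩
    | mul _ _ _ _ h1 h2 =>
      obtain ⟨p, rfl⟩ := h1
      obtain ⟨q, rfl⟩ := h2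
      exact ⟨_, pm p q⟩
    | inv _ _ h1 =>
      obtain ⟨p, rfl⟩ := h1
      exact ⟨qm (0, iv p.2) (-p.1, 0), by
        rw [pm, gens.2.2.2.2.1, gens.2.2.2.2.2.1, mul_one, one_mul, mul_inv_rev, p0_neg, w0_iv]⟩
  obtain ⟨e, he⟩ : ∃ e : Q4 → H, ∀ p, e p = f.symm ⟨_, mul_mem (mp p.1) (mw p.2)⟩ :=
    ⟨_, fun _ => rfl⟩
  have mul : ∀ p q, e (qm p q) = e p * e q := fun p q => by
    rw [he, he, he, ← map_mul]; exact congrArg f.symm (Subtype.ext (pm p q))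
  have inj : Function.Injective e := fun p q c => by
    rw [he, he] at c; exact pi_inj _ _ (congrArg Subtype.val (f.symm.injective c))
  have sur : ∀ g, ∃ p, e p = g := fun g => (f0 _ (f g).2).imp fun p c => by
    rw [he, MulEquiv.symm_apply_eq]; exact Subtype.ext c
  have one : e (0, 0) = 1 := by simpa [q4_misc.2.1] using mul (0, 0) (0, 0)
  have pw : ∀ p n, e (qp p n) = e p ^ n := fun p n => by
    induction n with
    | zero => rw [pow_zero, qp, one]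
    | succ n ih => rw [qp, mul, ih, pow_succ]
  have act : ∀ r x, e r * e (x, 0) * (e r)⁻¹ = e (eS r.2 x, 0) := fun r x => by
    rw [mul_inv_eq_iff_eq_mul, ← congrArg e (q4_misc.2.2.2.1 r), mul, mul_assoc, ← mul,
      q4_misc.2.2.1, mul, ← mul_assoc, ← mul_assoc, ← mul, ← mul (_, 0) (_, 0), q4_misc.2.1,
      q4_misc.2.1, add_comm]
  have m1 : ∀ k, e (k, 0) ∈ pCore 3 H := fun k => by
    let φ : Multiplicative K3 →* H := MonoidHom.mk' (fun k => e (k.toAdd, 0)) fun x y => by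
      rw [← mul, q4_misc.2.1]; rfl
    refine (le_sSup (show φ.range ∈ {N : Subgroup H | N.Normal ∧ IsPGroup 3 N} from
      ⟨⟨?_⟩, ?_⟩) : φ.range ≤ pCore 3 H) ⟨.ofAdd k, rfl⟩
    · rintro _ ⟨x, rfl⟩ g
      obtain ⟨r, rfl⟩ := sur g
      exact ⟨.ofAdd _, (act r _).symm⟩
    · exact (IsPGroup.of_card (n := 3) (by simp)).of_surjective _ φ.rangeRestrict_surjective
  have m2 : ∀ p, e p ∈ pCore 3 H → p.2 = 0 := by
    have k : ∀ p, e p ∈ pCore 3 H → (qp p 9).2 = 0 := fun p hp => by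
      obtain ⟨n, hn⟩ := Solv.isPGroup_pCore 3 H ⟨_, hp⟩
      have h1 := orderOf_dvd_of_pow_eq_one (show e p ^ 3 ^ n = 1 from congrArg Subtype.val hn)
      have h2 := orderOf_dvd_of_pow_eq_one (show e p ^ (9 * 4) = 1 by
        rw [← pw, ← one]; exact congrArg e ((ord_s4 p.2).1 p.1))
      have h3 := orderOf_dvd_iff_pow_eq_one.1 (Nat.Coprime.dvd_of_dvd_mul_right
        (Nat.Coprime.coprime_dvd_left h1 (Nat.Coprime.pow_left _ (by norm_num))) h2)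
      rw [← pw, ← one] at h3
      exact congrArg Prod.snd (inj h3)
    intro p hp
    refine ((ord_s4 p.2).2.1 ⟨p.1, k p hp⟩).resolve_right fun ⟨j, hj⟩ => hj _ (k
      (qm (qm (qm (0, j) p) (0, iv j)) p) ?_)
    rw [mul, mul, mul, eq_inv_of_mul_eq_one_right (a := e (0, j)) (b := e (0, iv j)) (by
      rw [← mul, (ord_s4 j).2.2, one])]
    exact mul_mem (Normal.conj_mem inferInstance _ hp _) hp
  have mJ : ∀ k, (e (k, 0) : G) ∈ J := fun k => hJ ▸ mem_map_of_mem _ (m1 k)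
  have h : Sd fun p => (e p : G) := ⟨fun p q => by rw [mul, coe_mul],
    fun p q c => inj (Subtype.ext c), fun k hk g hg => by
      obtain ⟨p, hp⟩ := sur ⟨g, hC _ (mJ k) (fun c => hk (congrArg Prod.fst (inj
        (Subtype.ext (c.trans (by rw [one]; rfl)))))) (mem_centralizer_singleton_iff.2 hg)⟩
      exact ⟨p, congrArg Subtype.val hp⟩, fun k g p c => by
      have := hsc.2 _ (mJ k) g (c ▸ (e p).2)
      rw [c, hJ] at this
      obtain ⟨u, hu, c⟩ := this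
      exact m2 p ((Subtype.ext c : u = e p) ▸ hu)⟩
  exact eq_top_of_card_eq H (by
    rw [h.card, ← Nat.card_eq_of_bijective e ⟨inj, sur⟩]; simp)

end Cfsg.Agent.S3702
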