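import Cfsg.Statements.S3726
import Cfsg.Agent.Hz.T2
import Cfsg.Agent.Perm.Sharp2
import Cfsg.Agent.S0225
import Cfsg.Agent.S0205
import Cfsg.Agent.S0339
import Cfsg.Agent.S0340
import Cfsg.Agent.SzRec.Max
import Cfsg.Agent.Solv.MinNormal
-- import your own Cfsg.Agent.* helpers here

set_option autoImplicit false
open Cfsg

namespace Cfsg.Agent.S3726

open MulAction Cfsg.Agent.Perm

/-- Let a finite group G act faithfully and 2-transitively on a finite set Ω, and suppose there is an involution t of G, fixing exactly i points, such that every non-identity element of the centralizer of t also fixes exactly i points. Then G is isomorphic to PSL₂(q) for some finite field of order q, or to a Suzuki group Sz(q) (q = 2^(2m+1) ≥ 8), or G has a normal subgroup acting regularly on Ω. -/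
theorem result {G Ω : Type*} [Group G] [Finite G] [Fintype Ω] [MulAction G Ω] [FaithfulSMul G Ω]
    (h2 : MulAction.IsMultiplyPretransitive G Ω 2) (i : ℕ) (t : G) (ht : orderOf t = 2)
    (hti : Nat.card {x : Ω // t • x = x} = i)
    (hC : ∀ g : G, Commute g t → g ≠ 1 → Nat.card {x : Ω // g • x = x} = i) :
    (∃ (F : Type) (_ : Field F) (_ : Fintype F), Nonempty (G ≃* Matrix.ProjectiveSpecialLinearGroup (Fin 2) F)) ∨
    Cfsg.Lie.IsoSuzuki G ∨
    (∃ R : Subgroup G, R.Normal ∧ (∀ x y : Ω, ∃ r ∈ R, r • x = y) ∧ ∀ x : Ω, ∀ r ∈ R, r • x = x → r = 1) := by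
  by_cases hR : ∃ R : Subgroup G, R.Normal ∧ (∀ x y : Ω, ∃ r ∈ R, r • x = y) ∧ ∀ x : Ω, ∀ r ∈ R, r • x = x → r = 1
  · exact Or.inr (Or.inr hR)
  have h : HzT.Hyp Ω t i := ⟨h2, ht, fun g e g1 => by rw [← hC g e g1, ← Nat.card_coe_set_eq]; rfl⟩
  obtain ⟨a, ha⟩ := exists_smul_ne (α := Ω) h.ne
  have : Nontrivial Ω := ⟨⟨_, _, ha⟩⟩
  have : IsPretransitive G Ω := isPretransitive_of_is_two_pretransitive
  have : IsPreprimitive G Ω := isPreprimitive_of_is_two_pretransitive h2
  have reg : ∀ N : Subgroup G, N.Normal → IsPretransitive N Ω → ∃ x : Ω, ∃ r ∈ N, r • x = x ∧ r ≠ 1 :=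
    fun N hN tr => by
      by_contra! hn
      exact hR ⟨N, hN, fun x y => by
        obtain ⟨r, hr⟩ := tr.exists_smul_eq x y
        exact ⟨r, r.2, hr⟩, hn⟩
  have ab : ∀ N : Subgroup G, N.Normal → IsMulCommutative N → N = ⊥ := fun N hN hc => by
    by_contra h0
    have tr := isPretransitive_of_normal (α := Ω) N h0
    obtain ⟨x, r, hr, e, r1⟩ := reg N hN tr
    exact r1 (eq_one_of_commute tr (fun y hy => mul_comm_of_isMulCommutative hc y hy r hr) e)
  have three : ∀ g : G, ∀ a b c : Ω, a ≠ b → b ≠ c → a ≠ c → g • a = a → g • b = b → g • c = c → g = 1 := by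
    intro g a b c hab hbc hac ga gb gc
    by_contra g1
    obtain ⟨hE, hf⟩ := h.rank_one g1 hab hbc hac ga gb gc
    obtain ⟨z, hz, N, hN, ho, hc⟩ := S0225.result (even_iff_two_dvd.2 (ht ▸ orderOf_dvd_natCard t)) hE
    have h0 : N = ⊥ := by
      by_contra h0
      have := S0205.result ho
      obtain ⟨p, M, -, hM, M0, -, hc, -⟩ := Solv.exists_normal_elementary_le N h0
      exact M0 (ab M hM hc)
    obtain ⟨x, hx⟩ := hf z (by rw [← pow_two, ← hz, pow_orderOf_eq_one])
    have tr : IsPretransitive (⊤ : Subgroup G) Ω := ⟨fun x y => by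
      obtain ⟨g, hg⟩ := exists_smul_eq G x y
      exact ⟨⟨g, trivial⟩, hg⟩⟩
    have : z = 1 := eq_one_of_commute tr (fun y _ => by
      have := hc y
      rw [h0, Subgroup.mem_bot, mul_inv_eq_one, mul_inv_eq_iff_eq_mul] at this
      exact this.symm) hx
    rw [this, orderOf_one] at hz
    omega
  have two : ∃ g : G, g ≠ 1 ∧ ∃ a b : Ω, a ≠ b ∧ g • a = a ∧ g • b = b := by
    by_contra! hn
    obtain ⟨N, hN, N0, -, -, hc, -⟩ := sharp2_exists_kernel h2 fun g x y hxy gx gy => by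
      by_contra g1
      exact hn g g1 x y hxy gx gy
    exact N0 (ab N hN (isMulCommutative_of_forall hc))
  have hZ : IsZassenhausGroup G Ω := ⟨inferInstance, h2, three, two, fun N hN tr => by
    obtain ⟨x, r, hr, e, r1⟩ := reg N hN tr
    exact ⟨x, fun e0 => r1 ((stabilizer_eq_bot_iff N x).1 e0 r hr e)⟩⟩
  have : Nontrivial G := ⟨⟨t, 1, h.ne⟩⟩
  have : IsSimpleGroup G := ⟨fun N hN => by
    by_cases h0 : N = ⊥
    · exact Or.inl h0
    have h2' := (S0339.result hZ N h0).2.1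
    obtain ⟨w, w1, w2⟩ := exists_smul_two h2' ha ha.symm
    obtain ⟨y, hy⟩ := isConj_iff.1 ((h.count ha).1 w w1 w2).symm
    have tN : t ∈ N := hy ▸ hN.conj_mem _ w.2 y
    refine Or.inr (eq_top_iff.2 fun g _ => ?_)
    obtain ⟨n, n1, n2⟩ := exists_smul_two h2' ha (show g • a ≠ g • t • a from fun e => ha (smul_left_cancel g e).symm)
    obtain ⟨k, hk⟩ := isConj_iff.1 ((h.count ha).1 ((n : G)⁻¹ * g) (by rw [mul_smul, inv_smul_eq_iff]; exact n2.symm)
      (by rw [mul_smul, inv_smul_eq_iff]; exact n1.symm))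
    exact mul_inv_cancel_left (n : G) g ▸ N.mul_mem n.2 (hk ▸ hN.conj_mem _ tN k)⟩
  rcases S0340.result hZ with h1 | ⟨-, m, -, hm⟩
  · exact Or.inl h1
  refine Or.inr (Or.inl (SzRec.isoSuzuki_of_simple (fun hc => ?_) fun h3 => ?_))
  · exact top_ne_bot (ab ⊤ inferInstance (isMulCommutative_of_forall fun x _ y _ => hc.is_comm.comm x y))
  · have e : 2 ^ (2 * m + 1) % 3 = 2 := by rw [pow_succ, pow_mul, Nat.mul_mod, Nat.pow_mod]; simp
    rw [hm] at h3
    generalize 2 ^ (2 * m + 1) = q at e h3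
    obtain ⟨k, rfl⟩ : ∃ k, q = 3 * k + 2 := ⟨q / 3, by omega⟩
    rcases (Nat.Prime.dvd_mul Nat.prime_three).1 h3 with h3 | h3
    · rcases (Nat.Prime.dvd_mul Nat.prime_three).1 h3 with h3 | h3
      · have := Nat.prime_three.dvd_of_dvd_pow h3; omega
      · rw [show (3 * k + 2) ^ 2 + 1 = 3 * (3 * k ^ 2 + 4 * k + 1) + 2 by ring] at h3; omega
    · omega

end Cfsg.Agent.S3726
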