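import Cfsg.Statements.S3756
import Cfsg.Agent.S3751
import Cfsg.Agent.S2753

set_option autoImplicit false
open Cfsg

namespace Cfsg.Agent.S3756

section helpers
open Cfsg.Agent.Loc Subgroup
open scoped commutatorElement

theorem JH_map {G G' : Type*} [Group G] [Group G'] [Finite G] {f : G →* G'}
    (hf : Function.Injective f) (S : Subgroup G) : (Sig.JH S).map f = Sig.JH (S.map f) := by
  have hJ : (thompsonSubgroupOf 2 S).map f = thompsonSubgroupOf 2 (S.map f) :=
    PLocal.map_J (PLocal.inf_ker_of_injective hf S)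
  refine le_antisymm (map_le_iff_le_comap.2 (sSup_le fun U hU => map_le_iff_le_comap.1
    (le_sSup ⟨map_mono hU.1, hJ ▸ map_mono hU.2.1, (Sig.eg_map hf).2 hU.2.2⟩))) (sSup_le fun U hU => ?_)
  have e : (U.comap f).map f = U :=
    map_comap_eq_self (hU.1.trans (map_le_range f S))
  rw [← e]
  refine map_mono (le_sSup ⟨?_, ?_, (Sig.eg_map hf).1 (e.symm ▸ hU.2.2)⟩)
  · rw [← comap_map_eq_self_of_injective hf S]; exact comap_mono hU.1
  · exact map_le_iff_le_comap.1 (hJ ▸ hU.2.1)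

theorem J_le_JH {G : Type*} [Group G] [Finite G] (S : Subgroup G) :
    thompsonSubgroupOf 2 S ≤ Sig.JH S :=
  le_sSup ⟨PLocal.J_le 2 S, le_rfl, Sig.eg_J S⟩

theorem tri {G : Type*} [Group G] [Finite G] {H T : Subgroup G} (hs : Group.IsSolvable H)
    (hc : IsOfCharacteristicTwo H) (h4 : ¬ Involves (Equiv.Perm (Fin 4)) H) (hT : SylIn 2 T H) :
    (∀ g ∈ H, ∃ n ∈ normalizer (thompsonSubgroupOf 2 T : Set G),
      ∃ c ∈ centralizer ((T ⊓ centralizer (T : Set G) : Subgroup G) : Set G), g = n * c) ∧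
    (∀ g ∈ H, ∃ n ∈ normalizer (Sig.JH T : Set G),
      ∃ c ∈ centralizer ((T ⊓ centralizer (T : Set G) : Subgroup G) : Set G), g = n * c) ∧
    (∀ g ∈ H, ∃ n ∈ normalizer (thompsonSubgroupOf 2 T : Set G),
      ∃ c ∈ centralizer ((omegaOne 2 (Sig.JH T ⊓ centralizer (Sig.JH T : Set G)) : Subgroup G) : Set G),
        g = n * c) := by
  have hK : IsCompositionKGroupWith IsSuzukiOrPSL2OddPowerThree H := by
    intro K _ N _ h1 h2
    exact absurd ⟨⟨IsSimpleGroup.comm_iff_isSolvable.2 inferInstance⟩⟩ h2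
  obtain ⟨h1, h2, h3⟩ := S2753.result hc h4 hK hT.toSylow
  rw [Sig.jHat_map] at h2 h3
  have hi := H.subtype_injective
  have eT : (hT.toSylow : Subgroup H).map H.subtype = T := hT.map_toSylow
  have eJ : (thompsonSubgroupOf 2 (hT.toSylow : Subgroup H)).map H.subtype = thompsonSubgroupOf 2 T := by
    rw [PLocal.map_J (PLocal.inf_ker_of_injective hi _), eT]
  have eH : (Sig.JH (hT.toSylow : Subgroup H)).map H.subtype = Sig.JH T := by rw [JH_map hi, eT]
  have key : ∀ (A B : Subgroup H), (∀ g : H, ∃ c ∈ centralizer (A : Set H), ∃ n ∈ normalizer (B : Set H),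
      g = c * n) → ∀ g ∈ H, ∃ n ∈ normalizer ((B.map H.subtype : Subgroup G) : Set G),
        ∃ c ∈ centralizer ((A.map H.subtype : Subgroup G) : Set G), g = n * c := by
    intro A B h g hg
    obtain ⟨c, hc, n, hn, e⟩ := h ⟨g, hg⟩⁻¹
    refine ⟨(n⁻¹ : H), ((map_subtype_normalizer B).le (mem_map_of_mem _ (inv_mem hn))).1,
      (c⁻¹ : H), ((map_subtype_centralizer A).le (mem_map_of_mem _ (inv_mem hc))).1, ?_⟩
    have : (⟨g, hg⟩ : H) = n⁻¹ * c⁻¹ := by rw [← mul_inv_rev, ← e, inv_inv]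
    exact congrArg Subtype.val this
  refine ⟨?_, ?_, ?_⟩
  · have := key _ _ h1
    rwa [map_center_of_injective hi, eT, eJ] at this
  · have := key _ _ h2
    rwa [map_center_of_injective hi, eT, eH] at this
  · have := key _ _ h3
    rwa [map_omegaOne_of_injective hi, map_center_of_injective hi, eH, eJ] at this

end helpers

/-- Let G be a finite group of even order with O₂(G) = 1 such that every 2-local subgroup of G is solvable, of characteristic 2, and has no section isomorphic to the symmetric group of degree 4. Then every maximal 2-local subgroup of G is strongly embedded in G. -/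
theorem result {G : Type*} [Group G] [Finite G] (heven : Even (Nat.card G)) (hO : Cfsg.pCore 2 G = ⊥) (hloc : ∀ M : Subgroup G, Cfsg.IsTwoLocal M → Group.IsSolvable M ∧ Cfsg.IsOfCharacteristicTwo ↥M ∧ ¬ Cfsg.Involves (Equiv.Perm (Fin 4)) ↥M) (M : Subgroup G) (hM : Cfsg.IsMaximalTwoLocal M) : Cfsg.IsStronglyEmbedded M := by
  open Cfsg.Agent.Loc Subgroup in
  open scoped commutatorElement in
  haveI := Fact.mk Nat.prime_two
  have hlc : IsOfLocalCharacteristic 2 G := ⟨even_iff_two_dvd.1 heven, fun T hT h0 => (hloc _ ⟨T, hT, h0, rfl⟩).2.1⟩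
  have hM' : S3751.MaxLoc 2 M := hM
  have hprim := hM'.prim hlc hO
  have hpM : 2 ∣ Nat.card M := by
    obtain ⟨T, hT, h0, rfl⟩ := hM.1
    exact (dvd_card_of_isPGroup hT h0).trans (card_dvd_of_le le_normalizer)
  refine ⟨hprim.1, even_iff_two_dvd.2 hpM, fun g hg => ?_⟩
  by_contra hodd
  have hdvd : 2 ∣ Nat.card ↥(M ⊓ cj g M) := even_iff_two_dvd.1 (Nat.not_odd_iff_even.1 hodd)
  have hne : M ≠ cj g M := by
    intro e
    have h0 : M ≠ ⊥ := by
      intro e; rw [e] at hpM; simp at hpM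
    exact hg (hprim.2 M le_rfl le_normalizer h0 ▸ mem_normalizer_iff_cj.2 e.symm)
  obtain ⟨T₀, hT₀⟩ := exists_sylIn 2 (M ⊓ cj g M)
  obtain ⟨T, hT₀T, hT⟩ := Finite.exists_le_maximal
    (p := fun T : Subgroup G => IsPGroup 2 T ∧ ∃ X Y, S3751.MaxLoc 2 X ∧ S3751.MaxLoc 2 Y ∧ X ≠ Y ∧ T ≤ X ∧ T ≤ Y)
    ⟨hT₀.pg, M, cj g M, hM', hM'.conj g, hne, hT₀.le.trans inf_le_left,
      hT₀.le.trans inf_le_right⟩
  obtain ⟨hTp, X, Y, hX, hY, hXY, hTX, hTY⟩ := hT.prop
  have hT0 : T ≠ ⊥ := fun e => hT₀.ne_bot hdvd (eq_bot_iff.2 (hT₀T.trans e.le))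
  have tri' : ∀ H : Subgroup G, IsTwoLocal H → SylIn 2 T H → _ := fun H h1 h2 =>
    tri (hloc H h1).1 (hloc H h1).2.1 (hloc H h1).2.2 h2
  set Z : Subgroup G := T ⊓ centralizer (T : Set G) with hZ
  set J : Subgroup G := thompsonSubgroupOf 2 T with hJ
  have hZp : IsPGroup 2 Z := hTp.to_le inf_le_left
  have hZ0 : Z ≠ ⊥ := center_ne_bot hTp hT0
  have hJp : IsPGroup 2 J := hTp.to_le (PLocal.J_le 2 T)
  have hJ0 : J ≠ ⊥ := PLocal.J_ne_bot_of_isPGroup hTp hT0
  have hNZ : normalizer (T : Set G) ≤ normalizer (Z : Set G) := normalizer_le_normalizer_center T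
  have hNJ : normalizer (T : Set G) ≤ normalizer (J : Set G) := PLocal.normalizer_le_normalizer_J 2 T
  by_cases hS : SylIn 2 T ⊤
  · have hS' : ∀ H : Subgroup G, normalizer (T : Set G) ≤ H → SylIn 2 T H := fun H h =>
      hS.mono (le_normalizer.trans h) le_top
    set E : Subgroup G := omegaOne 2 (Sig.JH T ⊓ centralizer (Sig.JH T : Set G)) with hE
    have hHp : IsPGroup 2 (Sig.JH T) := hTp.to_le (Sig.JH_le T)
    have hE0 : E ≠ ⊥ := omegaOne_center_ne_bot hHp
      (fun e => hJ0 (eq_bot_iff.2 ((J_le_JH T).trans e.le)))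
    have hEp : IsPGroup 2 E := hHp.to_le (omegaOne_center_le 2 _)
    have hNE : normalizer (Sig.JH T : Set G) ≤ normalizer (E : Set G) :=
      normalizer_le_normalizer_omegaOne_center 2 _
    have comm : ∀ a ∈ centralizer (Z : Set G), ∀ b ∈ normalizer (J : Set G),
        ∃ b' ∈ normalizer (J : Set G), ∃ a' ∈ centralizer (Z : Set G), a * b = b' * a' := by
      intro a ha b hb
      obtain ⟨n, hn, c, hc, rfl⟩ := (tri' _ ⟨Z, hZp, hZ0, rfl⟩ (hS' _ hNZ)).2.2 a
        (centralizer_le_normalizer _ ha)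
      obtain ⟨d, hd, a', ha', rfl⟩ := (tri' _ ⟨J, hJp, hJ0, rfl⟩ (hS' _ hNJ)).2.1 b hb
      obtain ⟨b₂, hb₂, a₂, ha₂, e⟩ := (tri' _ ⟨E, hEp, hE0, rfl⟩
        (hS' _ ((Sig.norm_JH T).trans hNE))).1 (c * d)
        (mul_mem (centralizer_le_normalizer _ hc) (hNE hd))
      refine ⟨n * b₂, mul_mem hn hb₂, a₂ * a', mul_mem ha₂ ha', ?_⟩
      rw [mul_assoc, ← mul_assoc c, e]; simp only [mul_assoc]
    set W : Subgroup G := ⨆ b : normalizer (J : Set G), cj (b : G) (omegaOne 2 Z) with hW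
    have hZW : omegaOne 2 Z ≤ W := by
      refine le_trans ?_ (le_iSup (fun b : normalizer (J : Set G) => cj (b : G) (omegaOne 2 Z)) 1)
      rw [OneMemClass.coe_one, cj_one]
    have hWJ : W ≤ J := iSup_le fun b => cj_le_of_mem_normalizer b.2
      ((PLocal.omega_center_le_omega_ZJ 2 T).trans ((omegaOne_le _ _).trans (PLocal.ZJ_le_J 2 T)))
    have hW0 : W ≠ ⊥ := fun e => omegaOne_ne_bot hZp hZ0 (eq_bot_iff.2 (hZW.trans e.le))
    have hB : normalizer (J : Set G) ≤ normalizer (W : Set G) := by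
      refine le_normalizer_of_cj_le fun x hx => ?_
      rw [hW, cj_iSup]
      refine iSup_le fun b => ?_
      rw [cj_cj]
      exact le_iSup (fun b : normalizer (J : Set G) => cj (b : G) (omegaOne 2 Z)) ⟨_, mul_mem hx b.2⟩
    have hA : centralizer (Z : Set G) ≤ normalizer (W : Set G) := by
      refine le_normalizer_of_cj_le fun x hx => ?_
      rw [hW, cj_iSup]
      refine iSup_le fun b => ?_
      obtain ⟨b', hb', a', ha', e⟩ := comm x hx b b.2
      rw [cj_cj, e, ← cj_cj, cj_eq_of_mem_centralizer (centralizer_anti (omegaOne_le _ _) ha')]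
      exact le_iSup (fun b : normalizer (J : Set G) => cj (b : G) (omegaOne 2 Z)) ⟨_, hb'⟩
    have fin : ∀ X, S3751.MaxLoc 2 X → T ≤ X → normalizer (W : Set G) = X := by
      intro X hX hTX
      refine hX.2 _ ⟨W, hJp.to_le hWJ, hW0, rfl⟩ fun x hx => ?_
      obtain ⟨n, hn, c, hc, rfl⟩ := (tri' X hX.1 (hS.mono hTX le_top)).1 x hx
      exact mul_mem (hB hn) (hA hc)
    exact hXY ((fin X hX hTX).symm.trans (fin Y hY hTY))
  · obtain ⟨L, hL, hTL⟩ := S3751.exists_maxLoc hTp hT0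
    obtain ⟨S, hS1, hTS⟩ := exists_sylIn_ge (le_top : T ≤ ⊤) hTp
    have hlt : T < S ⊓ normalizer (T : Set G) :=
      lt_inf_normalizer hS1.pg (lt_of_le_of_ne hTS fun e => hS (e ▸ hS1))
    have huniq : ∀ Q : Subgroup G, IsPGroup 2 Q → Q ≠ ⊥ → normalizer (T : Set G) ≤ normalizer (Q : Set G) →
        normalizer (Q : Set G) ≤ L := by
      intro Q hQ hQ0 hn
      obtain ⟨L', hL', h⟩ := S3751.exists_maxLoc hQ hQ0
      by_cases e : L' = L
      · exact e ▸ h
      · exact absurd (hT.le_of_ge ⟨hS1.pg.to_le inf_le_left, L', L, hL', hL, e,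
          inf_le_right.trans (hn.trans h), inf_le_right.trans hTL⟩ hlt.le) hlt.not_ge
    have hs : ∀ X, S3751.MaxLoc 2 X → T ≤ X → X = L := by
      intro X hX hTX
      by_contra hXL
      have : SylIn 2 T X := by
        refine sylIn_of_sylIn_normalizer ⟨le_inf hTX le_normalizer, hTp, fun Q hQ hQp hTQ => ?_⟩
        exact le_antisymm (hT.le_of_ge ⟨hQp, X, L, hX, hL, hXL, hQ.trans inf_le_left,
          hQ.trans (inf_le_right.trans hTL)⟩ hTQ) hTQ
      refine hXL (hX.2 L hL.1 fun x hx => ?_).symm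
      obtain ⟨n, hn, c, hc, rfl⟩ := (tri' X hX.1 this).1 x hx
      exact mul_mem (huniq J hJp hJ0 hNJ hn) (huniq Z hZp hZ0 hNZ (centralizer_le_normalizer _ hc))
    exact hXY ((hs X hX hTX).trans (hs Y hY hTY).symm)

end Cfsg.Agent.S3756
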