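import Cfsg.Statements.S3759
import Cfsg.Agent.Loc.ZC

set_option autoImplicit false
open Cfsg

namespace Cfsg.Agent.S3759

/-- Let G be a finite group of even order in which the centralizer of every involution is solvable and C_G(Ω₁(Z(S))) ≤ N_G(S) for every Sylow 2-subgroup S, with O_{2'}(G) = 1 = O₂(G). Fix a Sylow 2-subgroup S and put Z = Ω₁(Z(S)), H = O²(G), R = S ∩ H. Then H has a strongly embedded subgroup; or Z ∩ R has order 2 and is weakly closed in R with respect to H; or Z has order 4 and equals the subgroup generated by the involutions of R; or the subgroup HZ has local characteristic 2: it has even order and every 2-local subgroup L of HZ satisfies C_L(O₂(L)) ≤ O₂(L). -/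
theorem result {G : Type*} [Group G] [Finite G] (heven : Even (Nat.card G)) (hC : ∀ t : G, orderOf t = 2 → Group.IsSolvable ↥(Subgroup.centralizer ({t} : Set G))) (hZ : ∀ S : Sylow 2 G, Subgroup.centralizer (Cfsg.omegaOne 2 ((S : Subgroup G) ⊓ Subgroup.centralizer ((S : Subgroup G) : Set G)) : Set G) ≤ Subgroup.normalizer ((S : Subgroup G) : Set G)) (hO' : Cfsg.pPrimeCore 2 G = ⊥) (hO : Cfsg.pCore 2 G = ⊥) (S : Sylow 2 G) : (∃ M : Subgroup ↥(Cfsg.pResidual 2 G), Cfsg.IsStronglyEmbedded M) ∨ (Nat.card ↥(Cfsg.omegaOne 2 ((S : Subgroup G) ⊓ Subgroup.centralizer ((S : Subgroup G) : Set G)) ⊓ Cfsg.pResidual 2 G) = 2 ∧ ∀ h ∈ Cfsg.pResidual 2 G, ∀ z ∈ Cfsg.omegaOne 2 ((S : Subgroup G) ⊓ Subgroup.centralizer ((S : Subgroup G) : Set G)) ⊓ Cfsg.pResidual 2 G, h * z * h⁻¹ ∈ (S : Subgroup G) → h * z * h⁻¹ ∈ Cfsg.omegaOne 2 ((S : Subgroup G) ⊓ Subgroup.centralizer ((S : Subgroup G) : Set G))) ∨ (Nat.card ↥(Cfsg.omegaOne 2 ((S : Subgroup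 G) ⊓ Subgroup.centralizer ((S : Subgroup G) : Set G))) = 4 ∧ Cfsg.omegaOne 2 ((S : Subgroup G) ⊓ Cfsg.pResidual 2 G) = Cfsg.omegaOne 2 ((S : Subgroup G) ⊓ Subgroup.centralizer ((S : Subgroup G) : Set G))) ∨ Cfsg.IsCharacteristicTwoType ↥(Cfsg.pResidual 2 G ⊔ Cfsg.omegaOne 2 ((S : Subgroup G) ⊓ Subgroup.centralizer ((S : Subgroup G) : Set G))) := by
  open Cfsg.Agent.Loc Subgroup in
  open scoped commutatorElement in
  set H := pResidual 2 G with hH
  set Z := omegaOne 2 ((S : Subgroup G) ⊓ centralizer ((S : Subgroup G) : Set G)) with hZd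
  have hC' : CS G := hC
  have hS := sylIn_top S
  have hHn : H.Normal := by rw [hH, ← pResidualOf_top]; exact normal_of_top_le_normalizer (le_normalizer_pResidualOf _ _)
  have sub : ∀ K : Subgroup G, H ≤ K → Sig.SubnIn K ⊤ := fun K hK =>
    subnIn_of_pResidualOf_le (p := 2) (by rwa [pResidualOf_top]) le_top
  have core : ∀ K : Subgroup G, H ≤ K → pPrimeCore 2 K = ⊥ := fun K hK =>
    Sig.ppIn_eq_bot_iff.1 (eq_bot_iff.2 ((Sig.ppIn_mono (sub K hK)).trans (by rw [Sig.ppIn_top, hO'])))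
  have hR : SylIn 2 (S ⊓ H) H := hS.inf_subnIn (sub H le_rfl)
  have hR0 : (S : Subgroup G) ⊓ H ≠ ⊥ := fun e => by
    have h1 : H = ⊥ := by
      rw [eq_bot_iff, ← hO', ← Sig.ppIn_top]
      refine Sig.le_ppIn le_top le_normalizer_of_normal ?_
      exact ((Nat.Prime.coprime_iff_not_dvd Nat.prime_two).2 fun hd => hR.ne_bot hd e).symm
    have h2 : IsPGroup 2 (⊤ : Subgroup G) := isPGroup_of_pResidualOf_eq_bot (by rwa [pResidualOf_top])
    have h3 : (⊤ : Subgroup G) = ⊥ := eq_bot_iff.2 (hO ▸ le_pCore inferInstance h2)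
    rw [← card_top, h3, card_bot] at heven
    exact absurd heven (by decide)
  have eZ : IsElementaryAbelian 2 Z := isElementaryAbelian_omegaOne_center 2 _
  have hZS : Z ≤ (S : Subgroup G) ⊓ centralizer ((S : Subgroup G) : Set G) := omegaOne_le _ _
  obtain ⟨z, hz, z1, z2⟩ := exists_pow_eq_one_of_isPGroup (hR.pg.to_le inf_le_left) (inf_centralizer_ne_bot hS.pg hR.pg
    (le_normalizer_inf le_normalizer (le_normalizer_of_normal)) hR0)
  have zZ : z ∈ Z := mem_omegaOne ⟨hz.1.1, hz.2⟩ z2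
  have oz := orderOf_eq_prime_of_pow z1 z2
  obtain ⟨n, hn⟩ := IsPGroup.iff_card.1 (isPGroup_of_isElementaryAbelian eZ)
  obtain ⟨m, hm⟩ := IsPGroup.iff_card.1 ((isPGroup_of_isElementaryAbelian eZ).to_le (inf_le_left : Z ⊓ H ≤ Z))
  have m1 : 2 ^ 1 ≤ 2 ^ m := by
    rw [← hm, pow_one, ← oz, ← Nat.card_zpowers]; exact card_le_of_le (zpowers_le.2 ⟨zZ, hz.1.2⟩)
  have mn : 2 ^ m ≤ 2 ^ n := hm ▸ hn ▸ card_le_of_le inf_le_left
  rw [Nat.pow_le_pow_iff_right (by norm_num)] at m1 mn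
  have eqm : m = n → Z ≤ H := fun e => inf_eq_left.1 (eq_of_le_of_card_ge inf_le_left (by rw [hm, hn, e]))
  by_cases h4 : 2 ≤ n
  · have hS1 : SylIn 2 (S ⊓ (H ⊔ Z)) (H ⊔ Z) := hS.inf_subnIn (sub _ le_sup_left)
    have hZ1 : Z ≤ (S : Subgroup G) ⊓ (H ⊔ Z) := le_inf (hZS.trans inf_le_left) le_sup_right
    have c4 : 2 ^ 2 ≤ Nat.card Z := hn ▸ Nat.pow_le_pow_right (by norm_num) h4
    by_cases h8 : ∃ E ≤ (S : Subgroup G) ⊓ (H ⊔ Z), IsElementaryAbelian 2 E ∧ 2 ^ 3 ≤ Nat.card E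
    · obtain ⟨E, hE, eE, cE⟩ := h8
      refine Or.inr (Or.inr (Or.inr ((hC'.sub _).charTwo_of_four (core _ le_sup_left) hS1.subgroupOf_top
        (isElementaryAbelian_comap (subtype_injective _) eZ) (le_inf (comap_mono hZ1) ?_) ?_
        (isElementaryAbelian_comap (subtype_injective _) eE) (comap_mono hE) ?_)))
      · exact fun x hx s hs => Subtype.ext ((hZS hx).2 _ hs.1)
      · exact c4.trans (card_subgroupOf le_sup_right).ge
      · exact cE.trans (card_subgroupOf (hE.trans inf_le_right)).ge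
    push Not at h8
    have inZ : ∀ t ∈ (S : Subgroup G) ⊓ H, t ^ 2 = 1 → t ∈ Z := fun t ht t2 => by
      by_contra hn'
      obtain ⟨b1, b2⟩ := Sig.E8_sup eZ c4 t2 (fun z hz => ((hZS hz).2 t ht.1).symm) hn'
      exact (h8 _ (sup_le hZ1 (zpowers_le.2 ⟨ht.1, mem_sup_left ht.2⟩)) b1).not_ge b2
    have n2 : n = 2 := by
      have := h8 Z hZ1 eZ
      rw [hn, Nat.pow_lt_pow_iff_right (by norm_num)] at this; omega
    by_cases hm2 : m = n
    · exact Or.inr (Or.inr (Or.inl ⟨by rw [hn, n2]; rfl, le_antisymm (omegaOne_le_iff.2 inZ)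
        (le_omegaOne (le_inf (hZS.trans inf_le_left) (eqm hm2)) eZ.2)⟩))
    · refine Or.inr (Or.inl ⟨by rw [hm, show m = 1 by omega]; rfl, fun h hh w hw hs => inZ _
        ⟨hs, H.mul_mem (H.mul_mem hh hw.2) (H.inv_mem hh)⟩ (by rw [conj_pow, eZ.2 _ hw.1]; simp)⟩)
  have ZH := eqm (by omega)
  have n1 : n = 1 := by omega
  have Zz : zpowers z = Z := eq_of_le_of_card_ge (zpowers_le.2 zZ) (by rw [hn, n1, Nat.card_zpowers, oz]; rfl)
  rw [sup_eq_left.2 ZH]
  refine or_iff_not_imp_left.2 fun hse => or_iff_not_imp_left.2 fun hb => Or.inr ?_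
  have hG : ∀ K : Subgroup H, K.index ≠ 2 := Invol.pResidual_two_eq_top_iff.1 (by
    rw [← pResidualOf_subgroupOf, hH, ← pResidualOf_top, pResidualOf_pResidualOf, subgroupOf_self])
  have ev : Even (Nat.card H) := even_iff_two_dvd.2 ((dvd_card_of_isPGroup hR.pg hR0).trans (card_dvd_of_le hR.le))
  by_cases hr : PRankLE 2 2 H
  swap
  · exact ((S1296.result ev (fun K _ => hG K) (core H le_rfl)).resolve_left hr).resolve_left (hC'.sub H).not_comp
  rw [inf_eq_left.2 ZH, hn, n1] at hb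
  push Not at hb
  obtain ⟨h, hh, w, hw, hs, hw'⟩ := hb rfl
  rw [← Zz] at hw hw'
  obtain rfl | rfl := (Sig.mem_zp2 z2).1 hw
  · exact absurd (by simp) hw'
  have hz' : (⟨w, hz.1.2⟩ : H) ∈ ((S : Subgroup G) ⊓ H).subgroupOf H ⊓
      centralizer ((((S : Subgroup G) ⊓ H).subgroupOf H : Subgroup H) : Set H) :=
    ⟨hz.1, fun s hs => Subtype.ext (hz.2 _ hs.1)⟩
  have oz' : orderOf (⟨w, hz.1.2⟩ : H) = 2 := by rwa [← orderOf_coe]
  refine ((hC'.sub H).charTwo_or_se (core H le_rfl) hR.subgroupOf_top hz' oz' (fun c hc => ?_) fun t ht =>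
    isConj_of_rank_two hG hr hR.subgroupOf_top hz' oz' (h := ⟨h, hh⟩) ⟨hs, H.mul_mem (H.mul_mem hh hz.1.2) (H.inv_mem hh)⟩
      (fun e => hw' ((show h * w * h⁻¹ = w from congrArg Subtype.val e).symm ▸ mem_zpowers w)) ht).resolve_left hse
  have := hZ S (x := c) (by
    rw [← hZd, ← Zz, centralizer_zpowers]
    exact mem_centralizer_singleton_iff.2 (congrArg Subtype.val (mem_centralizer_singleton_iff.1 hc)))
  exact mem_normalizer_of_cj_le (cj_le_iff_forall.2 fun x hx =>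
    ⟨conj_mem_of_mem_normalizer this hx.1, (c * x * c⁻¹).2⟩)

end Cfsg.Agent.S3759
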