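import Cfsg.Statements.S3758
import Cfsg.Agent.S3759
import Cfsg.Agent.S3224
import Cfsg.Agent.S0518
import Cfsg.Agent.ABG.Wr

set_option autoImplicit false
open Cfsg

namespace Cfsg.Agent.S3758

section helpers
open Cfsg.Agent.Loc Subgroup
open scoped commutatorElement

open Equiv in
theorem s4facts : ∃ a b s : Perm (Fin 4), a ≠ 1 ∧ b ≠ 1 ∧ a ≠ b ∧ a ^ 2 = 1 ∧ b ^ 2 = 1 ∧ b * a = a * b ∧
    s * a = a * s ∧ s * b ≠ b * s ∧ (∀ x, x * a = a * x → x ^ 2 ^ 2 = 1) ∧
    (∀ x, x * a = a * x → x * b = b * x → x = 1 ∨ x = a ∨ x = b ∨ x = a * b) ∧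
    (∀ x, x * b = b * x → x * s = s * x → x = 1 ∨ x = a) ∧
    ∀ x, (x = 1 ∨ x = a ∨ x = b ∨ x = a * b) ∨ ∃ g, (x * (g * x * g⁻¹)) ^ 3 = 1 ∧ x * (g * x * g⁻¹) ≠ 1 :=
  ⟨swap 0 1 * swap 2 3, swap 0 2 * swap 1 3, swap 0 1, by decide, by decide, by decide, by decide, by decide,
    by decide, by decide, by decide, by decide +kernel, by decide +kernel, by decide +kernel, by decide +kernel⟩

theorem dih_of_S4 {G : Type*} [Group G] [Finite G] {M S : Subgroup G} (hS : Loc.SylIn 2 S ⊤) (hM : IsTwoLocal M)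
    (e : M ≃* Equiv.Perm (Fin 4)) :
    (∃ n : ℕ, 2 ≤ n ∧ Nonempty (S ≃* DihedralGroup n)) ∨ IsQuasiDihedral S := by
  open Cfsg.Agent.Loc Subgroup in
  obtain ⟨T, hT, -, rfl⟩ := hM
  obtain ⟨a, b, s, a1, b1, ab, a2, b2, ba, sa, sb, f1, f2, f3, f4⟩ := s4facts
  set M := normalizer (T : Set G) with hM
  obtain ⟨a, rfl⟩ := e.surjective a
  obtain ⟨b, rfl⟩ := e.surjective b
  obtain ⟨s, rfl⟩ := e.surjective s
  simp only [e.surjective.forall, e.surjective.exists, ← map_mul, ← map_inv, ← map_pow, Ne,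
    EmbeddingLike.apply_eq_iff_eq, EmbeddingLike.map_eq_one_iff] at a1 b1 ab a2 b2 ba sa sb f1 f2 f3 f4
  simp only [Subtype.ext_iff, coe_mul, coe_pow, coe_inv, coe_one, Subtype.forall, Subtype.exists]
    at a1 b1 ab a2 b2 ba sa sb f1 f2 f3 f4
  obtain ⟨a, ha⟩ := a
  obtain ⟨b, hb⟩ := b
  obtain ⟨s, hs⟩ := s
  simp only at a1 b1 ab a2 b2 ba sa sb f1 f2 f3 f4
  have cM : ∀ c : G, c * a = a * c → c * b = b * c → c ∈ M := fun c h1 h2 => centralizer_le_normalizer _ fun t ht => by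
    rcases f4 t (le_normalizer ht) with (e | e | e | e) | ⟨g, hg, h3, h4⟩
    · simp [e]
    · rw [e, h1]
    · rw [e, h2]
    · rw [e, mul_assoc, ← h2, ← mul_assoc, ← h1, mul_assoc]
    · obtain ⟨k, hk⟩ := exists_orderOf_of_isPGroup hT (mul_mem ht (conj_mem_of_mem_normalizer hg ht))
      have : Fact (Nat.Prime 3) := ⟨Nat.prime_three⟩
      rw [orderOf_eq_prime_of_pow h4 h3] at hk
      exact absurd (Nat.prime_three.eq_one_or_self_of_dvd 2 (hk ▸ dvd_pow_self 2 (by
        rintro rfl; simp at hk))) (by decide)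
  obtain ⟨S', hS', hle⟩ := exists_sylIn_ge (p := 2) (le_top : M ⊓ centralizer ({a} : Set G) ≤ ⊤)
    (isPGroup_of_forall_pow fun x hx => ⟨2, f1 x hx.1 (mem_centralizer_singleton_iff.1 hx.2)⟩)
  have aS : a ∈ S' := hle ⟨ha, mem_centralizer_singleton_iff.2 rfl⟩
  have bS : b ∈ S' := hle ⟨hb, mem_centralizer_singleton_iff.2 ba⟩
  have sS : s ∈ S' := hle ⟨hs, mem_centralizer_singleton_iff.2 sa⟩
  obtain ⟨z, hz, z1⟩ := (bot_or_exists_ne_one _).resolve_left (center_ne_bot hS'.pg fun e => a1 (mem_bot.1 (e ▸ aS)))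
  obtain rfl : z = a := (f3 z (cM z (hz.2 a aS).symm (hz.2 b bS).symm) (hz.2 b bS).symm
    (hz.2 s sS).symm).resolve_left z1
  obtain ⟨V1, V2⟩ := Sig.sq_le_sup_zpowers a2 a1 b2 (mem_centralizer_singleton_iff.2 ba)
    fun e => ((Sig.mem_zp2 a2).1 e).elim b1 (Ne.symm ab)
  have e1 : (centralizer ({⟨b, bS⟩} : Set S')).map S'.subtype = zpowers z ⊔ zpowers b := by
    refine le_antisymm ?_ (sup_le (zpowers_le.2 ⟨⟨z, aS⟩, mem_centralizer_singleton_iff.2 (Subtype.ext ba.symm), rfl⟩)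
      (zpowers_le.2 ⟨⟨b, bS⟩, mem_centralizer_singleton_iff.2 rfl, rfl⟩))
    rintro _ ⟨c, hc, rfl⟩
    have h1 : (c : G) * b = b * c := congrArg Subtype.val (mem_centralizer_singleton_iff.1 hc)
    have p1 : z ∈ zpowers z ⊔ zpowers b := mem_sup_left (mem_zpowers _)
    have p2 : b ∈ zpowers z ⊔ zpowers b := mem_sup_right (mem_zpowers _)
    rcases f2 c (cM c (hz.2 c c.2) h1) (hz.2 c c.2) h1 with e | e | e | e <;> rw [coe_subtype, e]
    exacts [one_mem _, p1, p2, mul_mem p1 p2]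
  have ob := orderOf_eq_prime_of_pow b1 b2
  have c4 : Nat.card (centralizer ({⟨b, bS⟩} : Set S')) = 4 := by
    rw [← card_map_subtype, e1]
    refine le_antisymm ?_ V2
    have := Nat.le_of_dvd (Nat.mul_pos Nat.card_pos Nat.card_pos) (Solv.card_sup_dvd (N := zpowers z)
      (H := zpowers b) (zpowers_le.2 (centralizer_le_normalizer _
      (by rw [centralizer_zpowers]; exact mem_centralizer_singleton_iff.2 ba))))
    rwa [Nat.card_zpowers, Nat.card_zpowers, ob, orderOf_eq_prime_of_pow a1 a2] at this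
  have c4' : 4 ≤ Nat.card S' := c4 ▸ card_le_card_group _
  obtain ⟨g, -, rfl⟩ := hS.exists_conj hS'
  rcases S3224.result hS'.pg ⟨b, bS⟩ (by rwa [← orderOf_coe]) c4 with ⟨n, ⟨f⟩⟩ | h | h
  · refine Or.inl ⟨n, ?_, ⟨(cjEquiv g S).trans f⟩⟩
    rw [Nat.card_congr f.toEquiv, DihedralGroup.nat_card] at c4'; omega
  · exact Or.inr (ABG.isQuasiDihedral_of_equiv h (cjEquiv g S).symm)
  · have := eq_top_of_card_eq _ (c4.trans h.symm)
    exact absurd (congrArg Subtype.val (mem_centralizer_singleton_iff.1 (this.ge (mem_top ⟨s, sS⟩)))) sb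

end helpers

/-- Let G be a finite group of even order in which every 2-local subgroup is solvable and C_G(Ω₁(Z(S))) ≤ N_G(S) for every Sylow 2-subgroup S, and suppose O_{2'}(G) = 1 = O₂(G). Fix a Sylow 2-subgroup S, put Z = Ω₁(Z(S)), H = O²(G) (generated by the elements of odd order) and R = S ∩ H. Then one of the following holds: H has a strongly embedded subgroup; R is dihedral (of order at least 4) or semidihedral; Z ∩ R has order 2 and is weakly closed in R with respect to H; or Z has order 4 and is exactly the subgroup generated by the involutions of R. -/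
theorem result {G : Type*} [Group G] [Finite G] (heven : Even (Nat.card G)) (hN : ∀ L : Subgroup G, Cfsg.IsTwoLocal L → Group.IsSolvable L) (hZ : ∀ S : Sylow 2 G, Subgroup.centralizer (Cfsg.omegaOne 2 ((S : Subgroup G) ⊓ Subgroup.centralizer ((S : Subgroup G) : Set G)) : Set G) ≤ Subgroup.normalizer ((S : Subgroup G) : Set G)) (hO' : Cfsg.pPrimeCore 2 G = ⊥) (hO : Cfsg.pCore 2 G = ⊥) (S : Sylow 2 G) : (∃ M : Subgroup ↥(Cfsg.pResidual 2 G), Cfsg.IsStronglyEmbedded M) ∨ ((∃ n : ℕ, 2 ≤ n ∧ Nonempty (↥((S : Subgroup G) ⊓ Cfsg.pResidual 2 G) ≃* DihedralGroup n)) ∨ Cfsg.IsQuasiDihedral ↥((S : Subgroup G) ⊓ Cfsg.pResidual 2 G)) ∨ (Nat.card ↥(Cfsg.omegaOne 2 ((S : Subgroup G) ⊓ Subgroup.centralizer ((S : Subgroup G) : Set G)) ⊓ Cfsg.pResidual 2 G) = 2 ∧ ∀ h ∈ Cfsg.pResidual 2 G, ∀ z ∈ Cfsg.omegaOne 2 ((S : Subgroup G) ⊓ Subgroup.centralizer ((S : Subgroup G) : Set G)) ⊓ Cfsg.pResidual 2 G, h * z * h⁻¹ ∈ (S : Subgroup G) → h * z * h⁻¹ ∈ Cfsg.omegaOne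 2 ((S : Subgroup G) ⊓ Subgroup.centralizer ((S : Subgroup G) : Set G))) ∨ (Nat.card ↥(Cfsg.omegaOne 2 ((S : Subgroup G) ⊓ Subgroup.centralizer ((S : Subgroup G) : Set G))) = 4 ∧ Cfsg.omegaOne 2 ((S : Subgroup G) ⊓ Cfsg.pResidual 2 G) = Cfsg.omegaOne 2 ((S : Subgroup G) ⊓ Subgroup.centralizer ((S : Subgroup G) : Set G))) := by
  open Cfsg.Agent.Loc Subgroup in
  open scoped commutatorElement in
  set H := pResidual 2 G with hH
  set Z := omegaOne 2 ((S : Subgroup G) ⊓ centralizer ((S : Subgroup G) : Set G)) with hZd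
  have hC : CS G := fun t ht => by
    have := hN _ ⟨zpowers t, isPGroup_zpowers_of_orderOf (k := 1) (by simpa using ht),
      by rw [Ne, zpowers_eq_bot]; rintro rfl; simp at ht, rfl⟩
    exact Solv.isSolvable_of_le (K := normalizer (zpowers t : Set G))
      (centralizer_zpowers t ▸ centralizer_le_normalizer _)
  rcases S3759.result heven hC hZ hO' hO S with h | h | h | h
  · exact Or.inl h
  · exact Or.inr (Or.inr (Or.inl h))
  · exact Or.inr (Or.inr (Or.inr h))
  set K := H ⊔ Z with hK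
  have hS := sylIn_top S
  have sub : ∀ K : Subgroup G, H ≤ K → Sig.SubnIn K ⊤ := fun K hK =>
    subnIn_of_pResidualOf_le (p := 2) (by rwa [pResidualOf_top]) le_top
  have hR : SylIn 2 (S ⊓ H) H := hS.inf_subnIn (sub H le_rfl)
  have hZS : Z ≤ (S : Subgroup G) ⊓ centralizer ((S : Subgroup G) : Set G) := omegaOne_le _ _
  have nK : ⊤ ≤ normalizer (K : Set G) := by
    rw [← hS.pResidualOf_sup, pResidualOf_top]
    exact sup_le (le_normalizer_of_le le_sup_left) (le_normalizer_sup le_normalizer_of_normal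
      (le_normalizer.trans (normalizer_le_normalizer_omegaOne_center _ _)))
  have res : H.subgroupOf K = pResidual 2 K := by
    rw [← pResidualOf_subgroupOf, pResidualOf_eq_of_le (H := ⊤) (by rw [pResidualOf_top]; exact le_sup_left) le_top,
      pResidualOf_top]
  have h1 : ∀ N : Subgroup K, IsTwoLocal N → Group.IsSolvable N := by
    rintro _ ⟨T, hT, h0, rfl⟩
    have := hN _ ⟨T.map K.subtype, hT.map _, by rwa [Ne, map_eq_bot_iff_of_injective _ (subtype_injective _)], rfl⟩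
    refine (Sig.isSolvable_map_iff (subtype_injective K)).2 ?_
    rw [map_subtype_normalizer]
    exact Solv.isSolvable_of_le inf_le_left
  have h2 : ∀ P : Sylow 2 K, centralizer {z : K | z ∈ (P : Subgroup K) ∧ z ^ 2 = 1 ∧
      ∀ s ∈ (P : Subgroup K), s * z = z * s} ≤ normalizer ((P : Subgroup K) : Set K) := fun P c hc => by
    obtain ⟨g, hgK, hg⟩ := (hS.inf_normal' le_top nK).exists_conj (sylIn_map_subtype P)
    have a := cj_mono g (hZ S)
    rw [cj_centralizer, cj_normalizer] at a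
    have b : (c : G) ∈ normalizer ((cj g (S : Subgroup G) : Subgroup G) : Set G) := a fun y hy => by
      obtain ⟨⟨y', hy'⟩, hyP, rfl⟩ := hg.le (cj_mono g (le_inf (hZS.trans inf_le_left) le_sup_right) hy)
      have y1 := cj_mono g (hZS.trans inf_le_right) hy
      rw [cj_centralizer] at y1
      refine congrArg Subtype.val (hc ⟨y', hy'⟩ ⟨hyP, Subtype.ext ?_, fun s hs => Subtype.ext
        (y1 _ (cj_mono g inf_le_left (hg.ge ⟨s, hs, rfl⟩)))⟩)
      exact (isElementaryAbelian_map _ (isElementaryAbelian_omegaOne_center 2 _)).2 _ hy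
    have d : (c : G) ∈ normalizer (((P : Subgroup K).map K.subtype : Subgroup G) : Set G) := by
      rw [← hg, cj_inf, cj_eq_of_mem hgK]
      exact le_normalizer_inf (zpowers_le.2 b) (zpowers_le.2 (le_normalizer c.2)) (mem_zpowers _)
    obtain ⟨c', hc', e⟩ := (map_subtype_normalizer (P : Subgroup K)).ge ⟨d, c.2⟩
    exact Subtype.ext e ▸ hc'
  rcases S0518.result h (pCoreOf_eq_bot_iff.1 (eq_bot_iff.2 ((pCoreOf_le_of_normal le_top nK).trans
      (by rw [pCoreOf_top, hO])))) h1 h2 (H.subgroupOf K) (by simp only [res, pResidual, Nat.coprime_two_right]) with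
    ⟨M, hM⟩ | ⟨M, -, -, hM, -, ⟨e⟩, -⟩
  · have h1 := (se_map_subtype_iff.1 (Invol.spe_two_iff.2 hM)).inf_normal (le_sup_left : H ≤ K)
      le_normalizer_of_normal (by
        by_contra hd
        have h1 : H = ⊥ := by
          rw [eq_bot_iff, ← hO', ← Sig.ppIn_top]
          exact Sig.le_ppIn le_top le_normalizer_of_normal ((Nat.Prime.coprime_iff_not_dvd Nat.prime_two).2 hd).symm
        have h2 : IsPGroup 2 (⊤ : Subgroup G) := isPGroup_of_pResidualOf_eq_bot (by rwa [pResidualOf_top])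
        have h3 : (⊤ : Subgroup G) = ⊥ := eq_bot_iff.2 (hO ▸ le_pCore inferInstance h2)
        rw [← card_top, h3, card_bot] at heven
        exact absurd heven (by decide))
    exact Or.inl ⟨_, Invol.spe_two_iff.1 (se_subgroupOf_iff.2 h1)⟩
  · have f : (((S : Subgroup G) ⊓ H).subgroupOf K).subgroupOf (H.subgroupOf K) ≃* ((S : Subgroup G) ⊓ H : Subgroup G) :=
      (subgroupOfEquivOfLe (comap_mono inf_le_right)).trans (subgroupOfEquivOfLe (inf_le_right.trans le_sup_left))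
    rcases dih_of_S4 (hR.subgroupOf le_sup_left).subgroupOf_top hM.1 e with ⟨n, hn, ⟨f'⟩⟩ | h
    · exact Or.inr (Or.inl (Or.inl ⟨n, hn, ⟨f.symm.trans f'⟩⟩))
    · exact Or.inr (Or.inl (Or.inr (ABG.isQuasiDihedral_of_equiv h f)))

end Cfsg.Agent.S3758
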