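import Cfsg.Statements.S3806
import Cfsg.Agent.Fus.Mxc
-- import your own Cfsg.Agent.* helpers here

set_option autoImplicit false
open Cfsg

namespace Cfsg.Agent.S3806

/-- Let p be a prime and S a finite p-group of order pⁿ (n ≥ 2) of maximal nilpotency class n − 1 whose sectional p-rank is exactly k (every section has p-rank at most k, and some section has p-rank k). If p ≥ k + 2 then the order of S is at most p^(2k). -/
theorem result {S : Type*} [Group S] [Finite S] (p : ℕ) [Fact p.Prime] (hS : IsPGroup p S) [Group.IsNilpotent S]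
    (n : ℕ) (hn : 2 ≤ n) (hcard : Nat.card S = p ^ n) (hmax : Group.nilpotencyClass S = n - 1)
    (k : ℕ) (hk : 1 ≤ k) (hsr : Cfsg.SectionalPRankLE p k S ∧ ¬ Cfsg.SectionalPRankLE p (k - 1) S)
    (hpk : k + 2 ≤ p) : Nat.card S ≤ p ^ (2 * k) :=
  open Subgroup Cfsg.Agent.Fus Cfsg.Agent.Loc Equiv in by
  have h := mx_of_class hn hcard hmax
  obtain ⟨x, hx⟩ := h.exists_unif
  have hp : p.Prime := Fact.out
  rw [hcard, Nat.pow_le_pow_iff_right hp.one_lt]
  by_contra! hc
  have key : ∀ i m, ⁅γ S i, γ S i⁆ ≤ γ S m → (∀ y ∈ γ S i, y ^ p ∈ γ S m) →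
      (γ S m).relIndex (γ S i) ≤ p ^ k := fun i m h1 h2 => by
    have := hsr.1 (γ S i) ((γ S m).subgroupOf (γ S i)) ⊤ ⟨⟨fun a b => Subtype.ext ?_⟩⟩ fun a _ => ?_
    · rwa [Subgroup.card_top] at this
    · obtain ⟨a, -⟩ := a
      obtain ⟨b, -⟩ := b
      obtain ⟨a, rfl⟩ := QuotientGroup.mk_surjective a
      obtain ⟨b, rfl⟩ := QuotientGroup.mk_surjective b
      exact commutatorElement_eq_one_iff_mul_comm.1 ((QuotientGroup.eq_one_iff (a * b * a⁻¹ * b⁻¹)).2
        (h1 (commutator_mem_commutator a.2 b.2)))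
    · obtain ⟨a, rfl⟩ := QuotientGroup.mk_surjective a
      exact (QuotientGroup.eq_one_iff (a ^ p)).2 (h2 a a.2)
  rcases hk.eq_or_lt with rfl | hk
  · have := key 0 1 le_rfl fun y _ => h.pow_mem_one (by omega) y
    rw [γ, γ, Subgroup.lowerCentralSeries_zero, relIndex_top_right, h.index_γ (i := 0) (by omega),
      Nat.pow_le_pow_iff_right hp.one_lt] at this
    omega
  · obtain ⟨j, rfl⟩ : ∃ j, k = j + 2 := ⟨k - 2, by omega⟩
    have := key (j + 1) (j + j + 3 + 1) ((h.der_γ (by omega)).trans (γ_anti (by omega))) fun y hy =>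
      γ_anti (by omega) (h.pow_mem_γ hx (by omega) hy)
    rw [h.relIndex_γ (by omega) (by omega), Nat.pow_le_pow_iff_right hp.one_lt] at this
    omega

end Cfsg.Agent.S3806
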