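import Cfsg.Statements.S3807
import Cfsg.Agent.Fus.AbI
import Cfsg.Agent.Gen2.Uniserial
import Cfsg.Agent.PGrp.MaxClassP

set_option autoImplicit false
open Cfsg

namespace Cfsg.Agent.S3807

open Subgroup Cfsg.Agent.Fus

theorem cen_eq {S : Type*} [Group S] : Cfsg.FusionSystem.centralizerIn (⊤ : Subgroup S) ⊤ = center S := by
  rw [Cfsg.FusionSystem.centralizerIn, top_inf_eq, coe_top, centralizer_univ]

theorem ai {S : Type*} [Group S] [Finite S] {p : ℕ} (hS : IsPGroup p S) (hna : ¬ IsMulCommutative S)
    {A : Subgroup S} (hA : IsMulCommutative ↥A) (hAi : A.index = p) : AI p ⊤ A :=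
  ⟨hS.to_subgroup _, le_top, le_centralizer_iff_isMulCommutative.2 hA, by rwa [relIndex_top_right], fun h =>
    hna ⟨⟨fun a b => h (mem_top b) a (mem_top a)⟩⟩⟩

theorem ab_of_cyc {S : Type*} [Group S] (B : Subgroup S) (h : IsCyclic (B.map (QuotientGroup.mk' (center S)))) :
    IsMulCommutative B := by
  let f : B →* B.map (QuotientGroup.mk' (center S)) := (QuotientGroup.mk' (center S)).subgroupMap B
  refine ⟨⟨commutative_of_cyclic_center_quotient f fun x hx => ?_⟩⟩
  have : (x : S) ∈ center S := (QuotientGroup.eq_one_iff _).mp (congrArg Subtype.val hx)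
  exact mem_center_iff.mpr fun y => Subtype.ext (mem_center_iff.mp this y)

/-- Let S be a non-abelian finite p-group with an abelian subgroup A of index p. Then [S : Z(S)] = p·#[S,S], and either [S,S] has order p, S/Z(S) is elementary abelian of order p², and S has exactly p + 1 abelian subgroups of index p; or [S,S] has order at least p² and A is the only abelian subgroup of index p in S. -/
theorem result {S : Type*} [Group S] [Finite S] (p : ℕ) [Fact p.Prime] (hS : IsPGroup p S) (hna : ¬ IsMulCommutative S)
    (A : Subgroup S) (hA : IsMulCommutative ↥A) (hAi : A.index = p) :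
    (Subgroup.center S).index = p * Nat.card (commutator S) ∧
      ((Nat.card (commutator S) = p ∧ Cfsg.IsElementaryAbelian p (⊤ : Subgroup (S ⧸ Subgroup.center S)) ∧
          Nat.card (S ⧸ Subgroup.center S) = p ^ 2 ∧
          Nat.card {B : Subgroup S // IsMulCommutative ↥B ∧ B.index = p} = p + 1) ∨
        (p ^ 2 ≤ Nat.card (commutator S) ∧ ∀ B : Subgroup S, IsMulCommutative ↥B → B.index = p → B = A)) := by
  have hp : p.Prime := Fact.out
  have hZ : ∀ B : Subgroup S, IsMulCommutative B → B.index = p → center S ≤ B := fun B h1 h2 =>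
    cen_eq (S := S) ▸ (ai hS hna h1 h2).Z_le
  have h1 : (center S).index = p * Nat.card (commutator S) := by
    have e1 := (ai hS hna hA hAi).card_A
    rw [cen_eq] at e1
    have e2 := A.index_mul_card
    rw [hAi, e1, ← (center S).index_mul_card, ← mul_assoc] at e2
    exact (Nat.eq_of_mul_eq_mul_right Nat.card_pos e2).symm
  refine ⟨h1, ?_⟩
  have hnc : ¬ IsCyclic (S ⧸ center S) := fun h => hna ⟨⟨commutative_of_cyclic_center_quotient
    (QuotientGroup.mk' (center S)) (by rw [QuotientGroup.ker_mk'])⟩⟩
  obtain ⟨k, hk⟩ := IsPGroup.iff_card.mp (hS.to_subgroup (commutator S))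
  have hk0 : k ≠ 0 := by
    rintro rfl
    rw [pow_zero, card_eq_one, commutator_eq_bot_iff_center_eq_top] at hk
    exact hna ⟨⟨fun a b => (mem_center_iff.mp (hk ▸ mem_top b : b ∈ center S) a)⟩⟩
  by_cases hk1 : k = 1
  · left
    rw [hk1, pow_one] at hk
    have hQ : Nat.card (S ⧸ center S) = p ^ 2 := by rw [pow_two, ← hk, ← index_eq_card, h1, hk]
    have hord : ∀ x : S ⧸ center S, x ≠ 1 → orderOf x = p := fun x h => by
      have h3 := orderOf_dvd_natCard x
      rw [hQ] at h3
      obtain ⟨k, hk, he⟩ := (Nat.dvd_prime_pow hp).1 h3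
      interval_cases k
      · exact absurd (orderOf_eq_one_iff.1 he) h
      · simpa using he
      · exact absurd (isCyclic_of_orderOf_eq_card x (he.trans hQ.symm)) hnc
    refine ⟨hk, ⟨BG.p2group_abelian (p := p) (by rw [Subgroup.card_top, hQ]), fun a _ => ?_⟩, hQ, ?_⟩
    · by_cases h : a = 1
      · rw [h, one_pow]
      · rw [← hord a h, pow_orderOf_eq_one]
    let π := QuotientGroup.mk' (center S)
    have hπ : Function.Surjective π := QuotientGroup.mk'_surjective _
    have hidx : ∀ H : Subgroup (S ⧸ center S), Nat.card H = p ↔ H.index = p := fun H => by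
      have := H.card_mul_index
      rw [hQ, pow_two] at this
      exact ⟨fun h => Nat.eq_of_mul_eq_mul_left hp.pos (h ▸ this),
        fun h => Nat.eq_of_mul_eq_mul_right hp.pos (h ▸ this)⟩
    have e : {H : Subgroup (S ⧸ center S) // Nat.card H = p} ≃ {B : Subgroup S // IsMulCommutative ↥B ∧ B.index = p} :=
      { toFun := fun H => ⟨H.1.comap π, ab_of_cyc _ (by
          rw [map_comap_eq_self_of_surjective hπ]; exact isCyclic_of_prime_card H.2), by
          rw [index_comap_of_surjective _ hπ]; exact (hidx _).1 H.2⟩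
        invFun := fun N => ⟨N.1.map π, (hidx _).2 (by
          rw [index_map_eq _ hπ (by rw [QuotientGroup.ker_mk']; exact hZ _ N.2.1 N.2.2), N.2.2])⟩
        left_inv := fun H => Subtype.ext (map_comap_eq_self_of_surjective hπ _)
        right_inv := fun N => Subtype.ext (comap_map_eq_self (by rw [QuotientGroup.ker_mk']; exact hZ _ N.2.1 N.2.2)) }
    rw [← Nat.card_congr e]
    have h1 := Gen2.card_subgroups_prime_mul (L := S ⧸ center S) (p := p)
    have h2 : Nat.card {x : S ⧸ center S // orderOf x = p} = p ^ 2 - 1 := by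
      classical
      have e2 : {x : S ⧸ center S // orderOf x = p} ≃ {x : S ⧸ center S // x ≠ 1} :=
        Equiv.subtypeEquivRight fun x => ⟨fun h h1 => by
          rw [h1, orderOf_one] at h; exact hp.one_lt.ne h, hord x⟩
      have := Fintype.ofFinite (S ⧸ center S)
      rw [Nat.card_congr e2, ← hQ]
      simp [Nat.card_eq_fintype_card]
    rw [h2, show p ^ 2 - 1 = (p + 1) * (p - 1) by rw [← Nat.sq_sub_sq]] at h1
    exact Nat.eq_of_mul_eq_mul_right (by have := hp.two_le; omega) h1
  · right
    have h2 : p ^ 2 ≤ Nat.card (commutator S) := by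
      rw [hk]; exact Nat.pow_le_pow_right hp.pos (by omega)
    refine ⟨h2, fun B hB hBi => ?_⟩
    by_contra hne
    obtain ⟨x, hxB, hxA⟩ : ∃ x ∈ B, x ∉ A := by
      by_contra hh
      push Not at hh
      have e := relIndex_mul_index (show B ≤ A from hh)
      rw [hAi, hBi] at e
      have e' : B.relIndex A = 1 := Nat.eq_of_mul_eq_mul_right hp.pos (by rw [e, one_mul])
      exact hne (le_antisymm hh (relIndex_eq_one.mp e'))
    have h3 : A ⊓ B ≤ center S := fun a ha => cen_eq (S := S) ▸ (ai hS hna hA hAi).mem_Z (mem_top x) hxA ha.1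
      (setLike_mul_comm (s := B) hxB ha.2)
    have h4 := (index_antitone h3).trans (index_inf_le (H := A) (K := B))
    rw [h1, hAi, hBi] at h4
    have h5 := Nat.le_of_mul_le_mul_left h4 hp.pos
    have h6 := hp.one_lt
    nlinarith

end Cfsg.Agent.S3807
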