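import Cfsg.Statements.S3808
import Cfsg.Agent.BG4.Tools
import Mathlib.Tactic.Group

set_option autoImplicit false
open Cfsg

namespace Cfsg.Agent.S3808
open scoped commutatorElement

open BG

/-- Let S be a finite p-group with an extraspecial subgroup Q of index p. Then either Z(S) = Z(Q), or S = Q·Z(S) and Z(S) has order p². -/
theorem result {S : Type*} [Group S] [Finite S] (p : ℕ) [Fact p.Prime] (hS : IsPGroup p S) (Q : Subgroup S) (hQ : Cfsg.IsExtraspecial p ↥Q) (hQi : Q.index = p) :
    Subgroup.center S = (Subgroup.center ↥Q).map Q.subtype ∨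
      (Q ⊔ Subgroup.center S = ⊤ ∧ Nat.card (Subgroup.center S) = p ^ 2) := by
  have hN := PGrp.normal_of_index_eq hS hQi
  have hc : #Z[Q] = p := (BG4.extraspecial_iff.1 hQ).2.2.2
  have hZ : Z[Q] ≤ Subgroup.center S := by
    rw [← cent_top]
    exact cents_symm (pgroup_cent_prime (hS.to_subgroup ⊤) hc (normal_top Q).center.norm)
  have e : Q ⊓ Subgroup.center S = Z[Q] :=
    le_antisymm (inf_le_inf_left _ (Subgroup.center_le_centralizer _)) (le_inf inf_le_left hZ)
  rw [map_subtype_center]
  by_cases h : Subgroup.center S ≤ Q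
  · exact .inl (by rw [← e, inf_eq_right.2 h])
  have hs : Q ⊔ Subgroup.center S = ⊤ := (PGrp.isCoatom_of_index_eq hQi).2 _ (left_lt_sup.2 h)
  refine .inr ⟨hs, ?_⟩
  have := card_sup_mul_inf (A := Q) (B := Subgroup.center S) (.inl (norm_of_normal _ _))
  rw [hs, e, hc, Subgroup.card_top, ← Q.card_mul_index, hQi, mul_assoc, Nat.mul_right_inj (cardG_ne_zero Q)] at this
  rw [← this, sq]

end Cfsg.Agent.S3808
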