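import Cfsg.Statements.S3809
import Cfsg.Agent.PGrp.ES
import Mathlib.Tactic.Group

set_option autoImplicit false
open Cfsg

namespace Cfsg.Agent.S3809
open scoped commutatorElement

open PGrp

/-- Let S be a finite p-group with an extraspecial subgroup of index p. Then S has order p^(2+2n) for some n ≥ 1, derived length at most 3, and exponent dividing p³. -/
theorem result {S : Type*} [Group S] [Finite S] (p : ℕ) [Fact p.Prime] (hS : IsPGroup p S) (Q : Subgroup S) (hQ : Cfsg.IsExtraspecial p ↥Q) (hQi : Q.index = p) :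
    (∃ n : ℕ, 1 ≤ n ∧ Nat.card S = p ^ (2 + 2 * n)) ∧ derivedSeries S 3 = ⊥ ∧ ∀ x : S, x ^ (p ^ 3) = 1 := by
  obtain ⟨z, hz, hZ⟩ := exists_isES hQ
  obtain ⟨n, hn⟩ := ES_card hQ
  have := normal_of_index_eq hS hQi
  refine ⟨⟨n + 1, by omega, by rw [← Q.card_mul_index, hn, hQi]; ring⟩, ?_, fun x => ?_⟩
  · have h1 : derivedSeries S 1 ≤ Q := Solv.commutator_le_of_prime_index (hQi ▸ Fact.out)
    have h2 : derivedSeries S 2 ≤ (Subgroup.zpowers z).map Q.subtype :=
      Subgroup.commutator_le.2 fun a ha b hb => ⟨_, hz.comm ⟨a, h1 ha⟩ ⟨b, h1 hb⟩, rfl⟩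
    refine eq_bot_iff.2 (Subgroup.commutator_le.2 fun a ha b hb => ?_)
    obtain ⟨a, ha', rfl⟩ := h2 ha
    obtain ⟨b, -, rfl⟩ := h2 hb
    exact ((hz.commute_of_mem ha' b).map Q.subtype).commutator_eq
  · have := congrArg Subtype.val (hz.pow_eq_one (hz.pow ⟨_, pow_mem_of_index_eq hQi x⟩))
    rw [pow_succ, sq, pow_mul, pow_mul]
    exact this

end Cfsg.Agent.S3809
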