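import Cfsg.Statements.S3810
import Cfsg.Agent.BG4.Tools
import Cfsg.Agent.PGrp.ES
import Mathlib.Tactic.Group

set_option autoImplicit false
open Cfsg

namespace Cfsg.Agent.S3810
open scoped commutatorElement

open BG Subgroup

/-- Let S be a finite p-group with an extraspecial subgroup of index p. Then S has an abelian subgroup of index p if and only if S has order p⁴. -/
theorem result {S : Type*} [Group S] [Finite S] (p : ℕ) [Fact p.Prime] (hS : IsPGroup p S) (Q : Subgroup S) (hQ : Cfsg.IsExtraspecial p ↥Q) (hQi : Q.index = p) :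
    (∃ A : Subgroup S, IsMulCommutative ↥A ∧ A.index = p) ↔ Nat.card S = p ^ 4 := by
  have hp : p.Prime := Fact.out
  obtain ⟨z, hz, hZ⟩ := PGrp.exists_isES hQ
  obtain ⟨n, hn⟩ := PGrp.ES_card hQ
  have hc : Nat.card S = #Q * p := by rw [← Q.card_mul_index, hQi]
  constructor
  · rintro ⟨A, hA, hAi⟩
    have := PGrp.normal_of_index_eq hS hAi
    have h1 : IsMulCommutative (A.subgroupOf Q) := ⟨⟨fun a b => Subtype.ext (Subtype.ext (hA.comm a.2 b.2))⟩⟩
    have h2 := PGrp.isMulCommutative_sup_zpowers (A := A.subgroupOf Q) (center_le_centralizer _ hz.cen)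
    have h3 := hz.card_mul_card_centralizer hZ (A := A.subgroupOf Q ⊔ zpowers z) (mem_sup_right (mem_zpowers z))
    have h4 := card_le_card h2.cent
    have h5 := card_le_card (le_sup_left : A.subgroupOf Q ≤ A.subgroupOf Q ⊔ zpowers z)
    have h6 : p ^ (2 * (n + 1)) * p ≤ #(A.subgroupOf Q) * p := by
      rw [← pow_succ, ← hn, ← (A.subgroupOf Q).card_mul_index]
      exact Nat.mul_le_mul_left _ (Nat.le_of_dvd hp.pos (hAi ▸ relIndex_dvd_index_of_normal A Q))
    have h7 := (Nat.le_of_mul_le_mul_right h6 hp.pos).trans h5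
    have := (Nat.mul_le_mul h7 (h7.trans h4)).trans_eq h3
    rw [hn, ← pow_add, ← pow_succ', Nat.pow_le_pow_iff_right hp.one_lt] at this
    rw [hc, hn, ← pow_succ, show n = 0 by omega]
  · intro h4
    obtain ⟨N, hN, -, hNc⟩ := PGrp.exists_normal_card_eq hS (N := ⊤) 2 (by
      rw [card_top, h4]; exact Nat.pow_le_pow_right hp.pos (by omega))
    have h1 := BG4.card_le_cent_p2 (hS.to_subgroup ⊤) (hS.to_subgroup N) (norm_of_normal N ⊤) hNc.le
    rw [top_inf_eq, card_top, h4, pow_succ] at h1
    obtain ⟨A, hA, hNA, hAC, hAc⟩ := PGrp.exists_normal_between hS (M := N) (N := C[N])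
      (p2group_abelian (p := p) hNc.dvd).cent 1 (by rw [hNc, ← pow_add]; exact Nat.le_of_mul_le_mul_right h1 hp.pos)
    refine ⟨A, cyclic_factor_abelian (le_inf hNA (cents_symm hAC)) (prime_cyclic ?_), ?_⟩
    · have := card_mul_relIndex hNA
      rw [hAc, pow_one, Nat.mul_right_inj (cardG_ne_zero N)] at this
      rwa [card_quotient (norm_of_normal N A), this]
    · have := A.card_mul_index
      rwa [hAc, hNc, h4, ← pow_add, pow_succ p 3, Nat.mul_right_inj (pow_ne_zero _ hp.ne_zero)] at this

end Cfsg.Agent.S3810
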