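import Cfsg.Statements.S3811
import Mathlib
import Cfsg.Agent.Loc.PGrp

set_option autoImplicit false
open Cfsg

namespace Cfsg.Agent.S3811
open Subgroup
open scoped commutatorElement

universe u
local notation "N[" A "]" => normalizer (SetLike.coe A)

variable {G : Type u} [Group G] [Finite G] {p : ℕ} [hp : Fact p.Prime] {A K : Subgroup G}

structure Soft (p : ℕ) (A : Subgroup G) : Prop where
  ab : ∀ x ∈ A, ∀ y ∈ A, x * y = y * x
  sc : centralizer (A : Set G) ≤ A
  ix : A.relIndex N[A] = p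

theorem up (hG : IsPGroup p G) (h : A.relIndex N[A] = p) (h1 : A ≤ K) (h2 : ¬ K ≤ A) : N[A] ≤ K := by
  have h3 := Loc.lt_inf_normalizer (hG.to_subgroup K) (lt_of_le_not_ge h1 h2)
  have h4 := relIndex_mul_relIndex A _ _ h3.le (inf_le_right : K ⊓ N[A] ≤ _)
  rw [h] at h4
  rcases (Nat.dvd_prime hp.out).1 (Dvd.intro _ h4) with h5 | h5
  · exact absurd (relIndex_eq_one.1 h5) h3.not_ge
  · rw [h5] at h4
    exact (relIndex_eq_one.1 ((mul_eq_left₀ hp.out.ne_zero).1 h4)).trans inf_le_left

theorem wm (hG : IsPGroup p G) (h : Soft p A) {H : Type*} [Group H] (f : G →* H) {w : G} (hw : w ∉ A)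
    (hc : ∀ a ∈ A, f a * f w = f w * f a) : ∀ x ∈ N[A], ∀ y ∈ N[A], f x * f y = f y * f x := by
  have s : ∀ x, (∀ a ∈ A, f a * f x = f x * f a) → f w * f x = f x * f w →
      ∀ y ∈ N[A], f y * f x = f x * f y := fun x h1 h2 y hy =>
    mem_centralizer_singleton_iff.1 (up hG h.ix (K := (centralizer {f x}).comap f)
      (fun a ha => mem_centralizer_singleton_iff.2 (h1 a ha))
      (fun e => hw (e (mem_centralizer_singleton_iff.2 h2))) hy)
  intro x hx y hy
  exact s y (fun a ha => (s a (fun b hb => by rw [← map_mul, h.ab b hb a ha, map_mul])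
    (hc a ha).symm y hy).symm) (s w hc rfl y hy).symm x hx

theorem two (hG : IsPGroup p G) (h : Soft p A) (h1 : N[A] ≠ ⊤) : N[A].relIndex N[N[A]] = p := by
  classical
  set K := N[A] with hK
  have hlt : K < N[K] := by
    simpa using Loc.lt_inf_normalizer (hG.to_subgroup ⊤) (lt_top_iff_ne_top.2 h1)
  have AK : A ≤ K := le_normalizer
  set Z := K ⊓ centralizer (K : Set G) with hZ
  have ZA : Z ≤ A := fun z hz => h.sc (centralizer_le AK hz.2)
  have ca : ∀ a ∈ A, a ∉ Z → centralizer {a} = A := fun a ha hz => by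
    have h2 : A ≤ centralizer {a} := fun b hb => mem_centralizer_singleton_iff.2 (h.ab b hb a ha)
    by_contra h3
    exact hz ⟨AK ha, fun k hk => mem_centralizer_singleton_iff.1
      (up hG h.ix h2 (fun e => h3 (le_antisymm e h2)) hk)⟩
  have Zn : N[K] ≤ N[Z] := Loc.le_normalizer_inf le_rfl (Loc.normalizer_le_normalizer_centralizer K)
  have nz : ∀ x ∈ N[K], ∀ a ∈ A, a ∉ Z → x * a * x⁻¹ ∈ A → x ∈ K := fun x hx a ha hz h2 =>
    mem_normalizer_fintype fun b hb => by
      rw [← ca _ h2 (fun e => hz ((mem_normalizer_iff.1 (Zn hx) a).2 e)), SetLike.mem_coe,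
        mem_centralizer_singleton_iff]
      calc _ = x * (b * a) * x⁻¹ := by group
        _ = _ := by rw [h.ab b hb a ha]; group
  obtain ⟨g, hg, gK⟩ := SetLike.exists_of_lt hlt
  have hi : Z.relIndex K ≤ p * p := by
    have hB : (A.comap (MulAut.conj g).toMonoidHom).relIndex K = p := by
      rw [relIndex_comap, show K.map (MulAut.conj g).toMonoidHom = K from
        mem_normalizer_iff_map_conj_eq.1 hg, h.ix]
    refine le_trans (relIndex_le_of_le_left (H := A ⊓ A.comap (MulAut.conj g).toMonoidHom)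
      (fun y hy => ?_) index_ne_zero_of_finite) (relIndex_inf_le.trans (by rw [hB, h.ix]))
    by_contra hz
    exact gK (nz g hg y hy.1 hz hy.2)
  obtain ⟨a, ha, aZ⟩ : ∃ a ∈ A, a ∉ Z := by
    by_contra h2; push Not at h2
    rw [le_antisymm ZA h2] at Zn
    exact gK (Zn hg)
  let f : Option (N[K] ⧸ K.subgroupOf N[K]) → K ⧸ Z.subgroupOf K := fun o => o.elim ((1 : K) : _) fun q =>
    ((⟨_, (mem_normalizer_iff.1 q.out.2 a).1 (AK ha)⟩ : K) : _)
  have ne : ∀ q, f (some q) ≠ f none := fun q e =>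
    aZ ((mem_normalizer_iff.1 (Zn q.out.2) a).2 (by simpa [mem_subgroupOf] using QuotientGroup.eq.1 e.symm))
  have hc := Nat.card_le_card_of_injective f (by
    rintro (_ | q) (_ | q') e
    · rfl
    · exact absurd e.symm (ne q')
    · exact absurd e (ne q)
    · congr 1
      rw [← q.out_eq, ← q'.out_eq]
      refine Quotient.sound (QuotientGroup.leftRel_apply.2 (nz _ (q.out⁻¹ * q'.out).2 a ha aZ ?_))
      have := mul_mem ha (ZA ((mem_normalizer_iff''.1 (Zn q.out.2) _).1
        (mem_subgroupOf.1 (QuotientGroup.eq.1 e))))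
      simpa [mul_assoc] using this)
  rw [Finite.card_option] at hc
  obtain ⟨j, hj⟩ := (hG.to_subgroup N[K]).index (K.subgroupOf N[K])
  change K.relIndex N[K] = _ at hj
  have h2 : p ^ j < p ^ 2 := by rw [← hj, sq]; exact lt_of_lt_of_le hc hi
  have h3 : j ≠ 0 := by rintro rfl; exact hlt.not_ge (relIndex_eq_one.1 hj)
  rw [hj, show j = 1 by have := (Nat.pow_lt_pow_iff_right hp.out.one_lt).1 h2; omega, pow_one]

section
variable {H : Type u} [Group H] [Finite H] {f : G →* H}

theorem nmap (hf : Function.Surjective f) (h : f.ker ≤ K) : N[K.map f] = N[K].map f := by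
  conv_rhs => rw [← comap_map_eq_self h, ← comap_normalizer_eq_of_surjective _ hf,
    map_comap_eq_self_of_surjective hf]

theorem rmap {L : Subgroup G} (h : f.ker ≤ K) : (K.map f).relIndex (L.map f) = K.relIndex L := by
  rw [← relIndex_comap, comap_map_eq_self h]

theorem map_ne (h : f.ker ≤ K) (h1 : K ≠ ⊤) : K.map f ≠ ⊤ := fun e =>
  h1 (by rw [← comap_map_eq_self h, e, comap_top])

theorem cn (hf : Function.Surjective f) (hk : f.ker ≤ A) {w : G} (hc : ∀ a ∈ A, f a * f w = f w * f a) :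
    w ∈ N[A] := by
  rw [← comap_map_eq_self hk, ← comap_normalizer_eq_of_surjective _ hf]
  refine centralizer_le_normalizer _ ?_
  rintro _ ⟨a, ha, rfl⟩; exact hc a ha

theorem q1 (h : Soft p A) (hf : Function.Surjective f) (hk : f.ker ≤ A)
    (hc : ∀ x ∈ N[A], ∀ y ∈ N[A], f x * f y = f y * f x) (h2 : N[A].relIndex N[N[A]] = p) :
    Soft p (N[A].map f) where
  ab := by rintro _ ⟨x, hx, rfl⟩ _ ⟨y, hy, rfl⟩; exact hc x hx y hy
  sc := fun w hw => by
    obtain ⟨w, rfl⟩ := hf w
    exact ⟨w, cn hf hk fun a ha => hw _ ⟨a, le_normalizer ha, rfl⟩, rfl⟩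
  ix := by rw [nmap hf (hk.trans le_normalizer), rmap (hk.trans le_normalizer), h2]

theorem q2 (hG : IsPGroup p G) (h : Soft p A) (hf : Function.Surjective f) (hk : f.ker ≤ A)
    (hc : ¬ ∀ x ∈ N[A], ∀ y ∈ N[A], f x * f y = f y * f x) : Soft p (A.map f) where
  ab := by rintro _ ⟨x, hx, rfl⟩ _ ⟨y, hy, rfl⟩; rw [← map_mul, h.ab x hx y hy, map_mul]
  sc := fun w hw => by
    obtain ⟨w, rfl⟩ := hf w
    by_contra h1
    exact hc (wm hG h f (fun e => h1 ⟨w, e, rfl⟩) fun a ha => hw _ ⟨a, ha, rfl⟩)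
  ix := by rw [nmap hf hk, rmap hk, h.ix]

end

theorem lt_z (hG : IsPGroup p G) (h : K ≠ ⊤) : Nat.card (G ⧸ center G) < Nat.card G := by
  have : Nontrivial G := by
    by_contra e; rw [not_nontrivial_iff_subsingleton] at e; exact h (Subsingleton.elim _ _)
  rw [← (center G).card_mul_index]
  exact lt_mul_of_one_lt_left Nat.card_pos ((center G).one_lt_card_iff_ne_bot.2 hG.bot_lt_center.ne')

theorem Soft.z (h : Soft p A) : (QuotientGroup.mk' (center G)).ker ≤ A := by
  rw [QuotientGroup.ker_mk']; exact (center_le_centralizer _).trans h.sc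

theorem t2a (n : ℕ) : ∀ (G : Type u) [Group G] [Finite G], Nat.card G < n → IsPGroup p G →
    ∀ A K : Subgroup G, Soft p A → A ≤ K → K ≠ ⊤ → K.relIndex N[K] = p := by
  induction n with
  | zero => intro G _ _ h; omega
  | succ n ih =>
  intro G _ _ hn hG A K h h1 h2
  have sj := QuotientGroup.mk'_surjective (center G)
  have hk := h.z.trans h1
  have hl := lt_z hG h2
  by_cases h3 : K ≤ A
  · rw [le_antisymm h3 h1, h.ix]
  have h4 := up hG h.ix h1 h3
  rw [← rmap hk, ← nmap sj hk]
  by_cases hc : ∀ x ∈ N[A], ∀ y ∈ N[A], QuotientGroup.mk' (center G) x * QuotientGroup.mk' (center G) y =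
    QuotientGroup.mk' (center G) y * QuotientGroup.mk' (center G) x
  · exact ih _ (by omega) (hG.to_quotient _) _ _ (q1 h sj h.z hc (two hG h fun e => h2 (top_le_iff.1
      (e ▸ h4)))) (map_mono h4) (map_ne hk h2)
  · exact ih _ (by omega) (hG.to_quotient _) _ _ (q2 hG h sj h.z hc) (map_mono h1) (map_ne hk h2)

theorem t2 (hG : IsPGroup p G) (h : Soft p A) (h1 : A ≤ K) (h2 : K ≠ ⊤) : K.relIndex N[K] = p :=
  t2a _ G (Nat.lt_succ_self _) hG A K h h1 h2

theorem t4a (n : ℕ) : ∀ (G : Type u) [Group G] [Finite G], Nat.card G < n → IsPGroup p G →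
    ∀ A K : Subgroup G, Soft p A → N[A] ≤ K → K ≠ ⊤ → ∀ x ∈ N[A], ∀ y ∈ N[A], ∀ k ∈ K,
      k * ⁅x, y⁆ = ⁅x, y⁆ * k := by
  induction n with
  | zero => intro G _ _ h; omega
  | succ n ih =>
  intro G _ _ hn hG A K h h4 h2 x hx y hy
  have sj := QuotientGroup.mk'_surjective (center G)
  have h1 := le_normalizer.trans h4
  have hl := lt_z hG h2
  set f := QuotientGroup.mk' (center G) with hf
  by_cases hc : ∀ x ∈ N[A], ∀ y ∈ N[A], f x * f y = f y * f x
  · intro k _
    refine mem_center_iff.1 ((QuotientGroup.eq_one_iff _).1 ?_) k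
    change f ⁅x, y⁆ = 1
    rw [map_commutatorElement, commutatorElement_eq_one_iff_mul_comm, hc x hx y hy]
  have h5 := ih _ (by omega) (hG.to_quotient _) _ _ (q2 hG h sj h.z hc)
    (by rw [nmap sj h.z]; exact map_mono h4) (map_ne (h.z.trans h1) h2) (f x)
    (by rw [nmap sj h.z]; exact ⟨x, hx, rfl⟩) (f y) (by rw [nmap sj h.z]; exact ⟨y, hy, rfl⟩)
  rw [← map_commutatorElement] at h5
  set z := ⁅x, y⁆
  have h6 : ∀ g ∈ N[K], g * z * g⁻¹ ∈ A := fun g hg => by
    by_contra h6
    refine hc (wm hG h f h6 fun a ha => ?_)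
    have : f (g⁻¹ * a * g) * f z = f z * f (g⁻¹ * a * g) :=
      h5 _ ⟨_, (mem_normalizer_iff''.1 hg a).1 (h1 ha), rfl⟩
    simp only [map_mul, map_inv] at this ⊢
    calc _ = f g * ((f g)⁻¹ * f a * f g * f z) * (f g)⁻¹ := by simp [mul_assoc]
      _ = _ := by rw [this]; simp [mul_assoc]
  let D : Subgroup G := K ⊓ centralizer {w | ∃ g ∈ N[K], g * z * g⁻¹ = w}
  have AD : A ≤ D := fun a ha => ⟨h1 ha, by rintro _ ⟨g, hg, rfl⟩; exact h.ab _ (h6 g hg) a ha⟩
  by_cases h7 : K ≤ D
  · intro k hk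
    simpa using ((h7 hk).2 _ ⟨1, one_mem _, rfl⟩).symm
  have h8 := up hG (t2 hG h AD fun e => h7 (e ▸ le_top)) inf_le_left h7
  have h9 : N[K] ≤ N[D] := fun g hg => mem_normalizer_fintype fun d hd =>
    ⟨(mem_normalizer_iff.1 hg d).1 hd.1, by
      rintro _ ⟨t, ht, rfl⟩
      have := hd.2 _ ⟨_, mul_mem (inv_mem hg) ht, rfl⟩
      calc _ = g * (g⁻¹ * t * z * (g⁻¹ * t)⁻¹ * d) * g⁻¹ := by group
        _ = _ := by rw [this]; group⟩
  have := t2 hG h h1 h2
  rw [relIndex_eq_one.2 (h9.trans h8)] at this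
  exact absurd this hp.out.one_lt.ne

theorem t3 (i : ℕ) : ∀ (G : Type u) [Group G] [Finite G], IsPGroup p G → ∀ A K : Subgroup G, Soft p A →
    A ≤ K → K ≠ ⊤ → K.Normal → A.relIndex K = p ^ i → Group.nilpotencyClass K ≤ i + 1 := by
  induction i with
  | zero =>
    intro G _ _ hG A K h h1 h2 h3 h4
    have := (hG.to_subgroup K).isNilpotent
    have h5 := relIndex_eq_one.1 (h4.trans (pow_zero p))
    refine (Group.nilpotencyClass_le_of_ker_le_center (1 : K →* Unit) fun x _ => mem_center_iff.2 fun y =>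
      Subtype.ext (h.ab _ (h5 y.2) _ (h5 x.2))).trans ?_
    rw [Group.nilpotencyClass_zero_iff_subsingleton.2 inferInstance]
  | succ i ih =>
    intro G _ _ hG A K h h1 h2 h3 h4
    have h5 := up hG h.ix h1 fun e => by
      rw [relIndex_eq_one.2 e] at h4
      exact (Nat.one_lt_pow i.succ_ne_zero hp.out.one_lt).ne h4
    let Y := K ⊓ centralizer (K : Set G)
    have sj := QuotientGroup.mk'_surjective Y
    have hk : (QuotientGroup.mk' Y).ker ≤ A := by
      rw [QuotientGroup.ker_mk']; exact fun y hy => h.sc (centralizer_le h1 hy.2)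
    have := ih _ (hG.to_quotient Y) _ _ (q1 h sj hk (fun x hx y hy => by
      rw [← commutatorElement_eq_one_iff_mul_comm, ← map_commutatorElement]
      exact (QuotientGroup.eq_one_iff _).2 ⟨h5 (mul_mem (mul_mem (mul_mem hx hy) (inv_mem hx)) (inv_mem hy)),
        t4a _ G (Nat.lt_succ_self _) hG A K h h5 h2 x hx y hy⟩)
      (t2 hG h le_normalizer fun e => h2 (top_le_iff.1 (e ▸ h5)))) (map_mono h5) (map_ne (hk.trans h1) h2)
      (h3.map _ sj) (by
        rw [rmap (hk.trans le_normalizer)]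
        have := relIndex_mul_relIndex A _ K le_normalizer h5
        rw [h.ix, h4, pow_succ'] at this
        exact Nat.eq_of_mul_eq_mul_left hp.out.pos this)
    have := ((hG.to_quotient Y).to_subgroup (K.map (QuotientGroup.mk' Y))).isNilpotent
    refine (Group.nilpotencyClass_le_of_ker_le_center ((QuotientGroup.mk' Y).subgroupMap K) fun x hx =>
      mem_center_iff.2 fun y => Subtype.ext ?_).trans (by omega)
    exact ((QuotientGroup.eq_one_iff _).1 (congrArg Subtype.val hx) : (x : G) ∈ Y).2 y y.2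

theorem low (hG : IsPGroup p G) (h : Soft p A) (h1 : A ≤ K) (j : ℕ) : ∃ T : Subgroup G, A ≤ T ∧ T ≤ K ∧
    A.relIndex T ≤ p ^ j ∧ ∀ x ∈ Subgroup.upperCentralSeries K (j + 1), (x : G) ∈ T := by
  induction j with
  | zero =>
    refine ⟨A, le_rfl, h1, by simp, fun x hx => h.sc fun a ha => ?_⟩
    rw [zero_add, Subgroup.upperCentralSeries_one] at hx
    exact congrArg Subtype.val (mem_center_iff.1 hx ⟨a, h1 ha⟩)
  | succ j ih =>
    obtain ⟨T, h2, h3, h4, h5⟩ := ih
    by_cases e : K ≤ T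
    · exact ⟨T, h2, h3, h4.trans (Nat.pow_le_pow_right hp.out.pos j.le_succ), fun x _ => e x.2⟩
    have h6 := t2 hG h h2 fun e' => e (e' ▸ le_top)
    refine ⟨N[T], h2.trans le_normalizer, up hG h6 h3 e, ?_, fun x hx => mem_normalizer_fintype
      fun t ht => ?_⟩
    · rw [← relIndex_mul_relIndex A T _ h2 le_normalizer, h6, pow_succ]
      exact Nat.mul_le_mul_right _ h4
    · simpa [commutatorElement_def] using mul_mem (h5 _ (hx ⟨t, h3 ht⟩)) ht

/-- Let P be a finite p-group and E an abelian subgroup of P that contains its centralizer, has index p in its normalizer, and has index at least p² in P. Then the subgroups of P containing E are totally ordered by inclusion, each proper one has index p in its normalizer (so they form the normalizer tower of E, with all steps of index p), and the i-th member of the tower above E has nilpotency class i + 1 whenever it is a proper subgroup of P. -/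
theorem result {P : Type*} [Group P] [Finite P] (p : ℕ) [Fact p.Prime] (hP : IsPGroup p P)
    (E : Subgroup P) (hEab : IsMulCommutative ↥E) (hC : Subgroup.centralizer (E : Set P) ≤ E)
    (hN : (E.subgroupOf (Subgroup.normalizer (E : Set P))).index = p) (hidx : p ^ 2 ≤ E.index) :
    (∀ K L : Subgroup P, E ≤ K → E ≤ L → K ≤ L ∨ L ≤ K) ∧
      (∀ K : Subgroup P, E ≤ K → K ≠ ⊤ → (K.subgroupOf (Subgroup.normalizer (K : Set P))).index = p) ∧
      ∀ (i : ℕ) (K : Subgroup P) [Group.IsNilpotent ↥K], E ≤ K → K ≠ ⊤ → K.index * p ^ i = E.index →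
        Group.nilpotencyClass ↥K = i + 1 := by
  have h : Soft p E := ⟨fun x hx y hy => setLike_mul_comm hx hy, hC, hN⟩
  refine ⟨fun K L h1 h2 => ?_, fun K => t2 hP h, fun i K _ h1 h2 h3 => ?_⟩
  · by_contra hn
    push Not at hn
    have h3 := t2 hP h (le_inf h1 h2) fun e => hn.1 (le_top.trans (e.ge.trans inf_le_right))
    rw [relIndex_eq_one.2 (le_inf (up hP h3 inf_le_left fun e => hn.1 (e.trans inf_le_right))
      (up hP h3 inf_le_right fun e => hn.2 (e.trans inf_le_left)))] at h3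
    exact (Fact.out : p.Prime).one_lt.ne h3
  have h4 : E.relIndex K = p ^ i := by
    rw [← relIndex_mul_index h1, mul_comm] at h3
    exact (Nat.eq_of_mul_eq_mul_right (Nat.pos_of_ne_zero index_ne_zero_of_finite) h3).symm
  refine le_antisymm ?_ ?_
  · have h5 : E ≤ N[K] := h1.trans le_normalizer
    have h6 : N[E] ≤ N[K] := by
      by_cases e : K ≤ E
      · rw [le_antisymm e h1]
      · exact (up hP h.ix h1 e).trans le_normalizer
    refine (Group.nilpotencyClass_le_of_surjective 
      (subgroupOfEquivOfLe (le_normalizer : K ≤ N[K])).toMonoidHom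
      (subgroupOfEquivOfLe (le_normalizer : K ≤ N[K])).surjective
      (h := ((hP.to_subgroup _).to_subgroup _).isNilpotent)).trans
      (t3 i N[K] (hP.to_subgroup _) (E.subgroupOf N[K]) (K.subgroupOf N[K]) ⟨fun x hx y hy => Subtype.ext (h.ab _ hx _ hy),
        fun x hx => hC fun a ha => congrArg Subtype.val (hx ⟨a, h5 ha⟩ ha), ?_⟩ (fun x hx => h1 hx)
        (fun e => ?_) inferInstance ?_)
    · rw [← subgroupOf_normalizer_eq h5, relIndex_subgroupOf h6, h.ix]
    · have := t2 hP h h1 h2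
      rw [relIndex_eq_one.2 (subgroupOf_eq_top.1 e)] at this
      exact (Fact.out : p.Prime).one_lt.ne this
    · rw [relIndex_subgroupOf le_normalizer, h4]
  · rcases e : Group.nilpotencyClass K with _ | j
    · have := Group.nilpotencyClass_zero_iff_subsingleton.1 e
      refine absurd (top_le_iff.1 fun x _ => h1 (hC fun a ha => ?_)) h2
      rw [show a = 1 from congrArg Subtype.val (Subsingleton.elim (⟨a, h1 ha⟩ : K) 1)]; simp
    obtain ⟨T, h5, h6, h7, h8⟩ := low hP h h1 j
    rw [← e, Subgroup.upperCentralSeries_nilpotencyClass] at h8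
    rw [le_antisymm h6 fun x hx => h8 ⟨x, hx⟩ trivial, h4] at h7
    have := (Nat.pow_le_pow_iff_right (Fact.out : p.Prime).one_lt).1 h7
    omega

end Cfsg.Agent.S3811
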