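import Cfsg.Statements.S3824
import Cfsg.Agent.S0564
import Cfsg.Agent.Gen2.CopClass
import Mathlib.Tactic.Group

set_option autoImplicit false
open Cfsg

namespace Cfsg.Agent.S3824
open scoped commutatorElement

open Subgroup Cfsg.Agent.BG
open scoped IsMulCommutative

/-- Every finite group having an abelian subgroup whose index is a power of 2 is solvable. -/
theorem result {G : Type*} [Group G] [Finite G]
    (A : Subgroup G) (hA : IsMulCommutative A) (hidx : ∃ k : ℕ, A.index = 2 ^ k) : Group.IsSolvable G := by
  haveI : Fact (Nat.Prime 2) := ⟨Nat.prime_two⟩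
  obtain ⟨k, hk⟩ := hidx
  obtain ⟨P⟩ : Nonempty (Sylow 2 G) := inferInstance
  exact S0564.result A P inferInstance P.2.isNilpotent
    (Gen2.exists_mul_of_coprime (hk ▸ ((Nat.prime_two.coprime_iff_not_dvd.2 P.not_dvd_index).pow_left k)))

end Cfsg.Agent.S3824
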