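import Cfsg.Statements.S3841
import Cfsg.Agent.SE.Mod2

set_option autoImplicit false
open Cfsg

namespace Cfsg.Agent.S3841

open Subgroup BG SE Suz Invol

def N (m : ℕ) : ℕ := ∏ i ∈ Finset.range m, (2 ^ m - 2 ^ i)

theorem num1 : ∀ m < 10, N m ∣ N 9 ∧ N m < 2 ^ 81 ∧ 0 < N m := by decide +kernel

set_option synthInstance.maxSize 1000 in
theorem num2 : ∀ p < 512, p % 2 = 1 → p ^ 2 ∣ N 9 → ∀ k < 6, ∀ m < 2 * k, ∀ d < 81, p ^ (d + 2) ∣ N m →
    2 ^ k ∣ p ^ (d + 1) - 1 → p = 1 := by decide +kernel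

theorem ord2 : orderOf ((2 : ℕ) : ZMod 2) = 0 :=
  orderOf_eq_zero_iff'.2 fun k hk => by rw [show ((2 : ℕ) : ZMod 2) = 0 from rfl, zero_pow hk.ne']; decide

variable {G V : Type*} [Group G] [Finite G] {H : Subgroup G} [AddCommGroup V] [Module (ZMod 2) V]
  [Module.Finite (ZMod 2) V] {ρ : Representation (ZMod 2) G V}

theorem lift (hH : IsStronglyEmbedded H) (hρ : Function.Injective ρ) {x j : G ⧸ pPrimeCore 2 G} {r n : ℕ}
    (hr : r.Prime) (hn : orderOf ((2 : ℕ) : ZMod r) = n) (h0 : 1 < n) (hx : orderOf x = r) (hj : orderOf j = 2)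
    (hi : j * x * j⁻¹ = x⁻¹) {z : G} (hz : orderOf z = 2) : ∃ d, 0 < d ∧ 2 ∣ d ∧ n ∣ d ∧ d ≤ 2 * dm ρ z := by
  have h2 : Odd r := hr.odd_of_ne_two (by rintro rfl; rw [ord2] at hn; omega)
  have hjx : orderOf (j * x) = 2 := orderOf_two_iff.2 ⟨by
    rw [← mul_assoc, mul_inv_eq_iff_eq_mul.1 hi, mul_assoc x⁻¹, mul_self_of hj, mul_one, inv_mul_cancel], fun e => by
    rw [eq_inv_of_mul_eq_one_right e, orderOf_inv, hj] at hx; exact absurd (hx ▸ h2) (by decide)⟩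
  obtain ⟨a, rfl⟩ := QuotientGroup.mk'_surjective _ j
  obtain ⟨b, hb⟩ := QuotientGroup.mk'_surjective _ (mkO G a * x)
  obtain ⟨k, ha, ea⟩ := exists_lift_two (mkO G) odd_ker_mkO hj
  obtain ⟨l, hb', eb⟩ := exists_lift_two (mkO G) odd_ker_mkO (g := b) (hb ▸ hjx)
  have e : mkO G (a ^ k * b ^ l) = x := by
    rw [map_mul, ea, eb]; erw [hb]; rw [← mul_assoc]; erw [mul_self_of hj]; rw [one_mul]
  have h3 : r ∣ orderOf (a ^ k * b ^ l) := hx ▸ e ▸ orderOf_map_dvd _ _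
  have h4 := orderOf_pow_orderOf_div (orderOf_pos _).ne' h3
  have h6 := orderOf_dvd_iff_pow_eq_one.1 h4.dvd
  have h5 : a ^ k * (a ^ k * b ^ l) * (a ^ k)⁻¹ = (a ^ k * b ^ l)⁻¹ := by
    rw [← mul_assoc, mul_self_of ha, one_mul, mul_inv_rev, inv_eq_of_mul_eq_one_right (mul_self_of hb')]
  refine ⟨_, dm_pos hρ fun e => hr.one_lt.ne' (h4.symm.trans (orderOf_eq_one_iff.2 e)),
    (even_dm ρ h2 h6 (mul_self_of ha) (by rw [← conj_pow, h5, inv_pow])).two_dvd,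
    hn ▸ (Num.dvd_pow_sub_one_iff_orderOf one_lt_two _).1 (dvd_dm ρ hr h2 h6),
    (dm_pow ρ _ _).trans ((dm_mul ρ _ _).trans ?_)⟩
  have := dm_conj ρ (SE.isConj hH hz ha)
  have := dm_conj ρ (SE.isConj hH hz hb')
  omega

theorem le_dm (hH : IsStronglyEmbedded H) (hρ : Function.Injective ρ) {Ω : Type*} [MulAction (G ⧸ pPrimeCore 2 G) Ω]
    [FaithfulSMul (G ⧸ pPrimeCore 2 G) Ω] {a : Ω} {t Q} (h : Hyp (G ⧸ pPrimeCore 2 G) Ω a t Q) {n : ℕ} (h2 : 2 ≤ n)
    (hn : #(Q0 Q) = 2 ^ n) {z : G} (hz : orderOf z = 2) : n ≤ dm ρ z := by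
  have hK : #(Kg a t) = 2 ^ n - 1 := by rw [← hn, ← h.card_K]; rfl
  obtain he | ho := n.even_or_odd
  · have h3 : O3 t Q := by_contra fun h3 => by
      obtain ⟨h4, ⟨h5, -⟩ | ⟨-, h5, h6⟩ | ⟨h5, -⟩⟩ := h.tri
      · exact h3 h5
      · obtain ⟨_, _, _, m, -, -, e, -⟩ := h.idB h4 h3 h5 h6
        have := Nat.pow_right_injective le_rfl (hn.symm.trans e)
        obtain ⟨k, rfl⟩ := he; omega
      · exact h3 h5
    obtain ⟨r, hr, h4, h5⟩ := Num.exists_prime_orderOf_eq (a := 2) (n := 2 * n) one_lt_two (by omega)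
      (by obtain ⟨k, rfl⟩ := he; omega) (by omega)
    obtain ⟨g, hg, hgr⟩ := Cauchy hr (A := L0 t Q) (by
      rw [h.card_L0 h3, hn, ← pow_mul']; exact (h4.trans (Num.Phi_dvd one_lt_two _)).mul_left _)
    obtain ⟨⟨j, -, hj, hi⟩, -⟩ := h.inverted_of_fpf h3 hg fun b hb e => by
      obtain ⟨l, hl, rfl⟩ := (h.mem_B0 h3).1 hb
      obtain ⟨u, hu, k, hk, e⟩ := h.mem_L0_of_fix h3 (g := l⁻¹ * g * l) (mul_mem (mul_mem (inv_mem hl) hg) hl)
        (by rw [mul_smul, mul_smul, e, inv_smul_smul])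
      have h6 := (orderOf_dvd_natCard (⟨_, mul_mem_sup hu hk⟩ : ↥(Q0 Q ⊔ Kg a t))).trans (card_sup_dvd (Or.inr
        fun k hk => mem_normalizer_fintype fun x hx => h.conj_mem_Q0 (h.K_smul_a hk) hx))
      rw [orderOf_mk, ← e, show l⁻¹ * g * l = l⁻¹ * g * l⁻¹⁻¹ by simp, BG.orderOf_conj', hgr, hn, hK, hr.dvd_mul,
        Num.dvd_pow_sub_one_iff_orderOf one_lt_two, h5] at h6
      obtain h6 | h6 := h6
      · obtain rfl := (Nat.prime_dvd_prime_iff_eq hr Nat.prime_two).1 (hr.dvd_of_dvd_pow h6)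
        rw [ord2] at h5; omega
      · have := Nat.le_of_dvd (by omega) h6; omega
    obtain ⟨d, h6, -, h7, h8⟩ := lift hH hρ hr h5 (by omega) hgr hj hi hz
    have := Nat.le_of_dvd h6 h7; omega
  · obtain ⟨r, hr, h4, h5⟩ := Num.exists_prime_orderOf_eq (a := 2) (n := n) one_lt_two (by omega)
      (by obtain ⟨k, rfl⟩ := ho; omega) (by obtain ⟨k, rfl⟩ := ho; omega)
    obtain ⟨g, hg, hgr⟩ := Cauchy hr (A := Kg a t) (hK ▸ h4.trans (Num.Phi_dvd one_lt_two _))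
    obtain ⟨d, h6, h7, h8, h9⟩ := lift hH hρ hr h5 h2 hgr (orderOf_two_iff.2 ⟨h.setup.mul_self, h.setup.ne_one⟩)
      (h.K_inv hg) hz
    have := Nat.le_of_dvd h6 ((Nat.coprime_two_left.2 ho).mul_dvd_of_dvd_of_dvd h7 h8); omega

theorem rank1 (hH : IsStronglyEmbedded H) (hρ : Function.Injective ρ) (hr : ¬ Rank2 (⊤ : Subgroup G))
    {S : Subgroup G} (hS : SylowIn 2 S ⊤) {k : ℕ} (hk : #S = 2 ^ k) : 2 * k ≤ Module.finrank (ZMod 2) V := by
  by_contra! hl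
  have hr' : ¬ Rank2 S := fun ⟨x, _, y, _, h⟩ => hr ⟨x, mem_top _, y, mem_top _, h⟩
  have hk6 : k < 6 := by
    obtain ⟨s, hs⟩ : ∃ s : S, 2 ^ (k - 1) ∣ orderOf s := by
      obtain hc | ⟨m, -, ⟨e⟩⟩ := cyclic_or_quaternion hS.pg hr'
      · obtain ⟨s, hs⟩ := isCyclic_iff_exists_orderOf_eq_natCard.1 hc
        exact ⟨s, hs ▸ hk ▸ pow_dvd_pow 2 (by omega)⟩
      · refine ⟨e.symm (.a 1), ?_⟩
        rw [Nat.card_congr e.toEquiv, Nat.card_eq_fintype_card, QuaternionGroup.card, show 4 = 2 ^ 2 from rfl,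
          ← pow_add] at hk
        rw [MulEquiv.orderOf_eq, QuaternionGroup.orderOf_a_one, ← Nat.pow_right_injective le_rfl hk, ← pow_succ']
        exact pow_dvd_pow 2 (by omega)
    by_contra! h6
    have := lt_of_pow hρ (s := s) (a := k - 2) (b := k) (congrArg Subtype.val (hk ▸ pow_card_eq_one' (x := s)))
      fun e => by
        have := (Nat.pow_dvd_pow_iff_le_right one_lt_two).1
          (hs.trans (orderOf_dvd_of_pow_eq_one (x := s) (Subtype.ext e)))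
        omega
    obtain ⟨c, rfl⟩ := Nat.exists_eq_add_of_le h6
    have := c.lt_two_pow_self
    rw [show 6 + c - 2 = c + 4 by omega, pow_add] at *
    omega
  obtain ⟨z, hz, hz2⟩ := exists_invol_mem_of_isPGroup hS.pg (by
    rintro rfl; rw [card_bot, eq_comm, Nat.pow_eq_one] at hk; omega)
  have hu : ∀ s ∈ S, s ≠ 1 → z ∈ zpowers s := fun s hs h1 => by
    obtain ⟨y, hy, hy2⟩ := exists_invol_mem_of_isPGroup (IsPGroup.sub hS.pg (zpowers_le.2 hs)) (zpowers_ne_bot.2 h1)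
    obtain ⟨c, hc, hc1⟩ := trivgPn.1 (center_nil_ne_bot (pgroup_nil hS.pg) fun e => h1 (mem_bot.1 (e ▸ hs)))
    obtain ⟨w, hw, hw2⟩ := exists_invol_mem_of_isPGroup (IsPGroup.sub hS.pg (zpowers_le.2 hc.1)) (zpowers_ne_bot.2 hc1)
    have H : ∀ y ∈ S, orderOf y = 2 → y = w := fun y hy h2 => by_contra fun e =>
      hr ⟨y, mem_top _, w, mem_top _, h2, hw2, e, mem_cent.1 (zpowers_le.2 hc hw).2 y hy⟩
    rwa [H z hz hz2, ← H y (zpowers_le.2 hs hy) hy2]
  have hc : ∀ s ∈ S, Commute s z := fun s hs => by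
    by_cases h1 : s = 1
    · simp [h1]
    · obtain ⟨i, rfl⟩ := hu s hs h1; exact Commute.self_zpow s i
  have hO := Block.odd_card_pPrimeCore (G := G)
  obtain ⟨p, hp, P, hP, hn, hz0⟩ : ∃ p, p.Prime ∧ ∃ P, SylowIn p P (pPrimeCore 2 G) ∧ S ≤ N[P] ∧ ¬ P ≤ C1[z] := by
    by_contra! h
    have := le_of_coprime_Sylow_le (norm_of_normal _ S) (hk ▸ (Nat.coprime_two_right.2 hO).pow_right _)
      (Or.inl (pgroup_sol hS.pg)) h
    obtain ⟨y, hy, hy2⟩ := SE.exists_invol_mem hH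
    obtain ⟨g, rfl⟩ := isConj_iff.1 (SE.isConj hH hz2 hy2)
    refine hH.1 (rank1_sup hH hr ▸ (sup_eq_right.2 fun o ho => SE.mem_of_commute hH hy hy2 ?_).symm)
    simpa [mul_assoc] using Commute.map (mem_cent1.1 (this (Normal.conj_mem' inferInstance o ho g))) (MulAut.conj g)
  have := Fact.mk hp
  have hPo : Odd #P := hO.of_dvd_nat (card_dvd_of_le hP.le)
  have hf : ∀ s ∈ S, s ≠ 1 → ∀ x, z * x * z⁻¹ = x⁻¹ → x ∈ P → Commute x s → x = 1 := fun s hs h1 x hx hP h => by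
    obtain ⟨i, rfl⟩ := hu s hs h1
    rw [← (h.zpow_right i).eq, mul_inv_cancel_right, eq_inv_iff_mul_eq_one] at hx
    exact by_contra fun e => odd_card_iff.1 hPo x hP (orderOf_two_iff.2 ⟨hx, e⟩)
  have hI := card_inverted (mul_self_of hz2) hPo (hn hz)
  by_cases h0 : C1[z] ⊓ P = ⊥
  · have := card_le_of_frob hρ hS.pg hPo (by rintro rfl; exact hz0 bot_le) hn fun s hs h1 x hx h => by
      obtain ⟨i, rfl⟩ := hu s hs h1
      exact mem_bot.1 (h0 ▸ mem_inf.2 ⟨mem_cent1.2 (h.zpow_right i), hx⟩)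
    rw [hk] at this
    interval_cases k <;> omega
  letI := MulAction.compHom G ((MulAut.conj (G := G)).comp S.subtype)
  have h1 := Classical.card_dvd_ncard_of_free (G := S) ({x : G | x ∈ P ∧ z * x * z⁻¹ = x⁻¹} \ {1}) (Set.toFinite _)
    (fun s y hy => ⟨⟨conj_mem_of_norm (hn s.2) hy.1.1, by
      show z * (s * y * (s : G)⁻¹) * z⁻¹ = (s * y * (s : G)⁻¹)⁻¹
      rw [conj_inv, ← hy.1.2, ← mul_assoc, ← mul_assoc, ← (hc s s.2).eq, mul_assoc _ _ z⁻¹, ← mul_inv_rev,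
        ← (hc s s.2).eq]; group⟩, fun e => hy.2 (conj_eq_one_iff.1 e)⟩)
    fun s y hy e => by_contra fun h1 => hy.2 (hf s s.2 (fun e => h1 (Subtype.ext e)) y hy.1.2 hy.1.1
      (Commute.symm (mul_inv_eq_iff_eq_mul.1 e)))
  rw [Set.ncard_sdiff_singleton_of_mem (by exact ⟨one_mem _, by simp⟩), ← Nat.card_coe_set_eq, hk] at h1
  erw [hI] at h1
  obtain ⟨a, ha⟩ := (p_natP hp).1 (pgroupS inf_le_right hP.pi : PiGrp {p} (C1[z] ⊓ P))
  obtain ⟨b, hb⟩ := (p_natP hp).1 (PiNat.of_dvd hP.pi (relIndex_dvd_card C1[z] P))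
  have h2 : p ^ (b + a) ∣ N (Module.finrank (ZMod 2) V) := by
    rw [pow_add, ← ha, ← hb, ← inf_relIndex_right, mul_comm, card_mul_relIndex inf_le_right]
    exact (card_subgroup_dvd_card P).trans (card_dvd_GL hρ)
  obtain _ | a := a
  · exact h0 (card_eq_one.1 ha)
  obtain _ | b := b
  · exact hz0 (relIndex_eq_one.1 hb)
  replace h2 := (pow_dvd_pow p (show b + 2 ≤ _ by omega)).trans h2
  obtain ⟨h3, h4, h5⟩ := num1 (Module.finrank (ZMod 2) V) (by omega)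
  obtain ⟨i, hi, h6⟩ := (Prime.dvd_finsetProd_iff hp.prime _).1 ((dvd_pow_self p (by omega)).trans h2)
  refine hp.one_lt.ne' (num2 p ((Nat.le_of_dvd (Nat.sub_pos_of_lt (Nat.pow_lt_pow_right one_lt_two
    (Finset.mem_range.1 hi))) h6).trans_lt ?_) (Nat.odd_iff.1 (hPo.of_dvd_nat (pgroup_pdiv hP.pg ?_)))
    (((pow_dvd_pow p (by omega)).trans h2).trans h3) k hk6 _ hl b ?_ h2 (hb ▸ h1))
  · have := Nat.pow_le_pow_right two_pos (show Module.finrank (ZMod 2) V ≤ 9 by omega)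
    have := Nat.two_pow_pos i
    omega
  · rintro rfl; exact hz0 bot_le
  · have := (Nat.pow_lt_pow_iff_right one_lt_two).1
      (((Nat.pow_le_pow_left hp.two_le _).trans (Nat.le_of_dvd h5 h2)).trans_lt h4)
    omega

/-- Let G be a finite group with a strongly embedded subgroup (a proper subgroup of even order meeting each of its conjugates by outside elements in a group of odd order), S a Sylow 2-subgroup of G, and V a finite-dimensional vector space over the field with two elements on which G acts linearly and faithfully through ρ. If S has order 2ᵏ then dim V ≥ 2k; and if Z(S) is elementary abelian of order 2ⁿ then for every nonidentity s ∈ S the image of ρ(s) − 1 has dimension at least n. -/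
theorem result {G : Type*} [Group G] [Finite G] (H : Subgroup G) (hH : Cfsg.IsStronglyEmbedded H) (S : Sylow 2 G) {V : Type*} [AddCommGroup V] [Module (ZMod 2) V] [Module.Finite (ZMod 2) V] (ρ : Representation (ZMod 2) G V) (hρ : Function.Injective ρ) : (∀ k : ℕ, Nat.card ↥(S : Subgroup G) = 2 ^ k → 2 * k ≤ Module.finrank (ZMod 2) V) ∧ ∀ n : ℕ, (∀ z ∈ (S : Subgroup G) ⊓ Subgroup.centralizer ((S : Subgroup G) : Set G), z ^ 2 = 1) → Nat.card ↥((S : Subgroup G) ⊓ Subgroup.centralizer ((S : Subgroup G) : Set G)) = 2 ^ n → ∀ s ∈ (S : Subgroup G), s ≠ 1 → n ≤ Module.finrank (ZMod 2) ↥(LinearMap.range (ρ s - 1)) := by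
  have hS := sylowIn_top S
  by_cases hr : Rank2 (⊤ : Subgroup G)
  swap
  · refine ⟨fun k hk => rank1 hH hρ hr hS hk, fun n h1 h2 s _ hs => (show n ≤ 1 from ?_).trans (dm_pos hρ hs)⟩
    by_contra! hn
    obtain ⟨x, hx, hx1⟩ := (trivgPn (A := Z[(S : Subgroup G)])).1 fun e => by
      rw [e, card_bot, eq_comm, Nat.pow_eq_one] at h2; omega
    have H : ∀ x ∈ Z[(S : Subgroup G)], x ≠ 1 → orderOf x = 2 := fun x hx h => orderOf_eq_prime (h1 x hx) h
    have := card_le_of_le (show Z[(S : Subgroup G)] ≤ zpowers x from fun y hy => by_contra fun e =>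
      hr ⟨x, mem_top _, y, mem_top _, H x hx hx1, H y hy (by rintro rfl; exact e (one_mem _)),
        by rintro rfl; exact e (mem_zpowers _), mem_cent.1 hy.2 x hx.1⟩)
    rw [h2, Nat.card_zpowers, H x hx hx1] at this
    exact absurd (Nat.pow_le_pow_right two_pos hn) (by omega)
  obtain ⟨_, t, Q, h⟩ := bender_quot hH hr
  obtain ⟨n, h2, hn⟩ := h.card_Q0
  obtain ⟨P, rfl⟩ := h.exists_sylow
  have hinj : ∀ x ∈ (S : Subgroup G), mkO G x = 1 → x = 1 := fun x hx e =>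
    mem_bot.1 (pgroup_TI hS.pi (pnat_odd.2 (odd_ker_mkO (G := G))) ▸ mem_inf.2 ⟨hx, e⟩)
  have hS' := pHall_map (mkO G) hS
  rw [map_top_of_surjective _ (QuotientGroup.mk'_surjective _)] at hS'
  obtain ⟨g, -, hg⟩ := Sylow_trans hS' (sylowIn_top P)
  refine ⟨fun k hk => ?_, fun m h1 hm s hs hs1 => ?_⟩
  · have hQ : #(P : Subgroup (G ⧸ pPrimeCore 2 G)) = 2 ^ k := by
      rw [hg, card_cj, ← hk]
      exact (Nat.card_congr (Equiv.ofBijective ((mkO G).subgroupMap S) ⟨(injective_iff_map_eq_one _).2 fun x e =>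
        Subtype.ext (hinj x x.2 (congrArg Subtype.val e)), (mkO G).subgroupMap_surjective _⟩)).symm
    have hnk := (Nat.pow_le_pow_iff_right one_lt_two).1 (hn ▸ hQ ▸ card_le_of_le (Q0_le _))
    by_cases h3 : k = 3
    · obtain ⟨z, hz⟩ := exists_invol_of_even (se_even hH)
      have h4 := le_dm hH hρ h h2 hn hz
      have h5 : 2 * dm ρ z ≤ _ := (two_range_le (J := ρ z) (by rw [← map_mul, mul_self_of hz, map_one])).1
      obtain ⟨-, ⟨-, h6⟩ | ⟨-, -, h6⟩ | ⟨-, h6, -⟩⟩ := h.tri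
      · have := (Nat.pow_le_pow_iff_right one_lt_two).1 (hn ▸ hQ ▸ card_le_of_le fun x hx => mem_Q0_of hx (h6 x hx))
        omega
      all_goals rw [hQ, hn, ← pow_mul] at h6; have := Nat.pow_right_injective le_rfl h6; omega
    obtain ⟨r, hr, h4, h5⟩ := Num.exists_prime_orderOf_eq (a := 2) (n := 2 * k) one_lt_two (by omega)
      (by omega) (by omega)
    have h6 : r ∣ 2 ^ k + 1 := by
      have := h4.trans (Num.Phi_dvd one_lt_two _)
      rw [pow_mul', show (2 ^ k) ^ 2 - 1 = _ from Nat.sq_sub_sq (2 ^ k) 1, hr.dvd_mul, Num.dvd_pow_sub_one_iff_orderOf one_lt_two,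
        h5] at this
      exact this.resolve_right fun h => by have := Nat.le_of_dvd (by omega) h; omega
    obtain ⟨x, -, hx⟩ := Cauchy hr (A := (⊤ : Subgroup G)) (by
      rw [card_top]
      refine (h6.trans ?_).trans (card_quotient_dvd_card (pPrimeCore 2 G))
      rw [Rank1.Setup.card_G h.setup, hQ]; exact dvd_mul_left _ _)
    have h7 := dvd_dm ρ hr (hr.odd_of_ne_two (by rintro rfl; rw [show k = k - 1 + 1 by omega, pow_succ] at h6; omega))
      (hx ▸ pow_orderOf_eq_one x)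
    rw [Num.dvd_pow_sub_one_iff_orderOf one_lt_two, h5] at h7
    exact (Nat.le_of_dvd (dm_pos hρ fun e => hr.one_lt.ne' (hx.symm.trans (orderOf_eq_one_iff.2 e))) h7).trans
      (dm_le ρ x)
  obtain ⟨z, hz, hz2⟩ := exists_invol_mem_of_isPGroup (IsPGroup.sub hS.pg (zpowers_le.2 hs)) (zpowers_ne_bot.2 hs1)
  obtain ⟨i, rfl⟩ := (mem_powers_iff_mem_zpowers.2 hz : ∃ i : ℕ, s ^ i = z)
  refine le_trans ?_ ((le_dm hH hρ h h2 hn hz2).trans (dm_pow ρ s i))
  rw [← Nat.pow_le_pow_iff_right one_lt_two, ← hm, ← hn]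
  refine Nat.card_le_card_of_injective (fun x => ⟨g * mkO G x * g⁻¹, mem_Q0_of (hg ▸ conj_mem_cj g
    (mem_map_of_mem _ x.2.1)) (by rw [conj_mul, ← map_mul, ← sq, h1 x x.2]; simp)⟩) fun x y e => Subtype.ext
      (inv_mul_eq_one.1 (hinj _ (mul_mem (inv_mem x.2.1) y.2.1) ?_))
  rw [map_mul, map_inv, inv_mul_eq_one]
  simpa using e

end Cfsg.Agent.S3841
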