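import Cfsg.Statements.S3868
import Cfsg.Agent.FG.PClosed

set_option autoImplicit false
open Cfsg

namespace Cfsg.Agent.S3868

open Subgroup Cfsg.Agent.FG

/-- Structure of the non-simple minimal non-p-closed groups. Call a finite group p-closed when its Sylow p-subgroups are normal, and minimal non-p-closed when it is not p-closed but every proper subgroup and every proper quotient is. If such a group G is not simple, then there is a prime q ≠ p such that G has order p · q^e, where e is the multiplicative order of q modulo p, and G has a normal subgroup A of order q^e that is elementary abelian and is a minimal normal subgroup of G (so G is the semidirect product of A by a group of order p acting irreducibly). -/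
theorem result {G : Type*} [Group G] [Finite G] {p : ℕ} [Fact p.Prime]
    (hnc : ¬ Cfsg.IsPClosed p G) (hsub : ∀ H : Subgroup G, H ≠ ⊤ → Cfsg.IsPClosed p ↥H)
    (hquo : ∀ (N : Subgroup G) [N.Normal], N ≠ ⊥ → Cfsg.IsPClosed p (G ⧸ N)) (hns : ¬ IsSimpleGroup G) :
    ∃ q : ℕ, q.Prime ∧ q ≠ p ∧ Nat.card G = p * q ^ orderOf (q : ZMod p) ∧
      ∃ A : Subgroup G, A.Normal ∧ Nat.card ↥A = q ^ orderOf (q : ZMod p) ∧ Cfsg.IsElementaryAbelian q A ∧
        ∀ B : Subgroup G, B.Normal → B ≤ A → B = ⊥ ∨ B = A := by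
  haveI : Nontrivial G := by
    by_contra h
    rw [not_nontrivial_iff_subsingleton] at h
    exact hnc (isPClosed_of_isPGroup fun g => ⟨0, Subsingleton.elim _ _⟩)
  have hO : ∀ N : Subgroup G, N.Normal → IsPGroup p N → N = ⊥ := fun N hN h => by
    by_contra h0
    exact hnc (isPClosed_of_quot N h (hquo N h0))
  have hM : ∀ M : Subgroup G, M.Normal → M ≠ ⊤ → ∀ g ∈ M, g ^ p = 1 → g = 1 := fun M hM h g hg hgp => by
    have := hO (peSub p M (isPClosed_sub_iff.1 (hsub M h))) ⟨fun x hx g => ⟨hM.conj_mem x hx.1 g, hx.2.conj g⟩⟩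
      fun x => PE.coe.1 x.2.2
    exact mem_bot.1 (this ▸ (⟨hg, PE.of_pow_eq hgp⟩ : g ∈ peSub p M _))
  obtain ⟨A, hAn, h0, h1, hmin⟩ := exists_min_proper hns
  refine min_core hO hM (fun K hK u hu v hv h1 h2 => isPClosed_sub_iff.1 (hsub K hK) u hu v hv (PE.of_pow_eq h1)
    (PE.of_pow_eq h2)) A h0 h1 hmin ?_
  have hq := isPClosed_iff_pe.1 (hquo A h0)
  let S := (peSub p (⊤ : Subgroup (G ⧸ A)) fun x _ y _ => hq x y).comap (QuotientGroup.mk' A)
  have hS : S = ⊤ := by
    by_contra h
    refine hnc (isPClosed_iff_pe.2 fun x y hx hy => ?_)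
    have key : ∀ z : G, PE p z → z = 1 := fun z hz => by
      by_contra hz1
      obtain ⟨k, hk, hk'⟩ := hz.exists_pow hz1
      refine hk (hM S ⟨fun a ha g => ⟨mem_top _, ?_⟩⟩ h _ ⟨mem_top _, (PE.of_pow_eq hk').map _⟩ hk')
      simpa using ha.2.conj (g : G ⧸ A)
    rw [key x hx, key y hy, one_mul]; exact PE.one
  intro g
  obtain ⟨g, rfl⟩ := QuotientGroup.mk_surjective g
  exact (hS ▸ mem_top g : g ∈ S).2

end Cfsg.Agent.S3868
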