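import Cfsg.Statements.S3870
import Cfsg.Agent.BG.Base6

set_option autoImplicit false
open Cfsg

namespace Cfsg.Agent.S3870

open Cfsg.Agent.BG

theorem norm_of_closed {G : Type*} [Group G] [Finite G] {p : ℕ} [Fact p.Prime] {H P : Subgroup G}
    (h : IsPClosed p H) (hP : SylowIn p P H) : H ≤ N[P] := by
  obtain ⟨Q, rfl⟩ := sylow_of_sylowIn hP
  exact (normal_map_subtype (h Q)).2

/-- Let G be a finite simple group whose Sylow p-subgroups are not normal but such that every proper subgroup of G has a normal Sylow p-subgroup. Then any two distinct Sylow p-subgroups of G intersect trivially, and for every Sylow p-subgroup P the normalizer of every non-identity subgroup of P lies in the normalizer of P. -/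
theorem result {G : Type*} [Group G] [Finite G] [IsSimpleGroup G] {p : ℕ} [Fact p.Prime]
    (hnc : ¬ Cfsg.IsPClosed p G) (hsub : ∀ H : Subgroup G, H ≠ ⊤ → Cfsg.IsPClosed p ↥H) :
    (∀ P Q : Sylow p G, P ≠ Q → (P : Subgroup G) ⊓ (Q : Subgroup G) = ⊥) ∧
      ∀ (P : Sylow p G) (R : Subgroup G), R ≤ P → R ≠ ⊥ →
        Subgroup.normalizer (R : Set G) ≤ Subgroup.normalizer ((P : Subgroup G) : Set G) := by
  have hnorm : ∀ R : Subgroup G, IsPGroup p R → R ≠ ⊥ → N[R] ≠ ⊤ := fun R hR hne h => by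
    have : R.Normal := NormalIn.normal ⟨le_top, h.ge⟩
    rcases this.eq_bot_or_eq_top with e | e
    · exact hne e
    · exact hnc fun P => by
        have : (P : Subgroup G) = ⊤ := P.3 (e ▸ hR) le_top |>.symm
        rw [this]; infer_instance
  have hTI : ∀ P Q : Subgroup G, SylowIn p P ⊤ → SylowIn p Q ⊤ → P ⊓ Q ≠ ⊥ → P = Q := by
    by_contra hc
    push Not at hc
    obtain ⟨P, Q, hP, hQ, hne, hPQ⟩ := hc
    obtain ⟨D, ⟨P, Q, hP, hQ, rfl, hPQ⟩, hmax⟩ := arg_max_exists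
      (P := fun D => ∃ P Q : Subgroup G, SylowIn p P ⊤ ∧ SylowIn p Q ⊤ ∧ D = P ⊓ Q ∧ P ≠ Q)
      (fun D => #D) ⟨P, Q, hP, hQ, rfl, hPQ⟩ |>.imp fun D h => (⟨h.1, h.2, h.2 _ ⟨P, Q, hP, hQ, rfl, hPQ⟩⟩ :
        _ ∧ _ ∧ #(P ⊓ Q : Subgroup G) ≤ #D)
    obtain ⟨hmax, hle⟩ := hmax
    have hD : P ⊓ Q ≠ ⊥ := fun e => by
      rw [e, Subgroup.card_bot] at hle
      exact absurd (cardG_gt1 hne) (not_lt_of_ge hle)
    have hcl := hsub _ (hnorm _ (BG.IsPGroup.sub hP.pg inf_le_left) hD)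
    obtain ⟨S, hS⟩ := Sylow_exists p N[P ⊓ Q]
    obtain ⟨U, hU, hSU⟩ := Sylow_superset (M := ⊤) le_top hS.pg
    have hSn : S ⊴ N[P ⊓ Q] := ⟨hS.le, norm_of_closed hcl hS⟩
    have key : ∀ X : Subgroup G, SylowIn p X ⊤ → P ⊓ Q < X → X = U := fun X hX hlt => by
      by_contra hXU
      have h1 := nilpotent_proper_norm (pgroup_nil hX.pg) hlt
      have h2 : X ⊓ N[P ⊓ Q] ≤ X ⊓ U := le_inf inf_le_left
        ((sub_normal_Hall hS hSn inf_le_right (pgroupS inf_le_left hX.pi)).trans hSU)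
      exact absurd (proper_card (h1.trans_le h2)) (not_lt_of_ge (hmax _ ⟨X, U, hX, hU, rfl, hXU⟩))
    exact hPQ ((key P hP (lt_of_le_of_ne inf_le_left fun e =>
      hPQ (Hall_eq_of_le hP hQ (inf_eq_left.1 e)))).trans (key Q hQ (lt_of_le_of_ne inf_le_right
        fun e => hPQ (Hall_eq_of_le hQ hP (inf_eq_right.1 e)).symm)).symm)
  refine ⟨fun P Q hne => by_contra fun h => hne (Sylow.ext (hTI _ _ (sylowIn_top P) (sylowIn_top Q) h)),
    fun P R hR hne g hg => ?_⟩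
  refine mem_norm.2 (hTI _ _ (pHallJsub trivial (sylowIn_top P)) (sylowIn_top P) fun e => hne ?_)
  exact le_bot_iff.1 (e ▸ le_inf (cj_of_norm hg ▸ cj_mono g hR) hR)

end Cfsg.Agent.S3870
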