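import Cfsg.Statements.S3872
import Cfsg.Agent.FG.ExpCl
import Cfsg.Agent.Gen2.Regular
import Cfsg.Agent.PGrp.MaxClassP
import Cfsg.Agent.PGrp.Basic

set_option autoImplicit false
open Cfsg

namespace Cfsg.Agent.S3872

open Subgroup Cfsg.Agent.FG

/-- Say that a finite group is p-exponent closed when its elements of order dividing p form a subgroup. Let G be a finite p-group that is not p-exponent closed, but all of whose proper subgroups and proper quotients are. Then G is generated by two elements, has nilpotency class at least p, has exponent p², has cyclic center, and has order at least p^(p+1). -/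
theorem result {G : Type*} [Group G] [Finite G] {p : ℕ} [Fact p.Prime] (hG : IsPGroup p G)
    (hnc : ¬ (∃ H : Subgroup G, (H : Set G) = {g : G | g ^ p = 1})) (hsub : ∀ K : Subgroup G, K ≠ ⊤ → (∃ H : Subgroup ↥K, (H : Set ↥K) = {g : ↥K | g ^ p = 1}))
    (hquo : ∀ (N : Subgroup G) [N.Normal], N ≠ ⊥ → (∃ H : Subgroup (G ⧸ N), (H : Set (G ⧸ N)) = {g : (G ⧸ N) | g ^ p = 1})) :
    (∃ x y : G, Subgroup.closure ({x, y} : Set G) = ⊤) ∧ (⊤ : Subgroup G).lowerCentralSeries (p - 1) ≠ ⊥ ∧
      Monoid.exponent G = p ^ 2 ∧ IsCyclic ↥(Subgroup.center G) ∧ p ^ (p + 1) ≤ Nat.card G := by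
  have hp : p.Prime := Fact.out
  obtain ⟨x, y, hx, hy, hne, hxy⟩ := expCl_gen hnc hsub
  have hq : ∀ (N : Subgroup G) [N.Normal], N ≠ ⊥ → ∀ g : G, g ^ p ∈ N := fun N _ h =>
    expCl_pow_mem hx hy hxy N (hquo N h)
  have hz : ∀ z ∈ center G, z ≠ 1 → ∀ g : G, g ^ p ∈ zpowers z := fun z hz h1 g =>
    haveI := Cfsg.Agent.PGrp.normal_of_le_center' (zpowers_le.2 hz)
    hq _ (by rwa [Ne, zpowers_eq_bot]) g
  haveI : Nontrivial G := ⟨x * y, 1, fun h => hne (by rw [h, one_pow])⟩
  have hl : (⊤ : Subgroup G).lowerCentralSeries (p - 1) ≠ ⊥ := fun h => by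
    have hr := Cfsg.Agent.Gen2.reg_of_class hG h
    refine hne ?_
    have := (hr.pow_eq_iff_one x y⁻¹).1 (by rw [hx, inv_pow, hy, inv_one])
    rwa [inv_inv] at this
  refine ⟨⟨x, y, hxy⟩, hl, ?_, ?_, ?_⟩
  · haveI := hG.center_nontrivial
    obtain ⟨z, hz1⟩ := exists_ne (1 : center G)
    obtain ⟨k, hk, hk'⟩ := PE.exists_pow (PE.coe.2 (hG.to_subgroup _ z)) (fun h => hz1 (Subtype.ext h))
    have h1 : Monoid.exponent G ∣ p ^ 2 := Monoid.exponent_dvd_of_forall_pow_eq_one fun g => by
      obtain ⟨n, hn⟩ := hz _ (pow_mem z.2 _) hk g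
      rw [pow_two, pow_mul, ← hn, ← zpow_natCast, ← zpow_mul, mul_comm, zpow_mul, zpow_natCast, hk', one_zpow]
    obtain ⟨i, hi, e⟩ := (Nat.dvd_prime_pow hp).1 h1
    rw [e]
    by_contra h
    have hi1 : i ≤ 1 := by
      by_contra h2
      exact h (by rw [show i = 2 by omega])
    exact hne (Monoid.exponent_dvd_iff_forall_pow_eq_one.1 (e ▸ (pow_dvd_pow p hi1).trans (by rw [pow_one])) _)
  · refine Cfsg.Agent.PGrp.isCyclic_of_unique (hG.to_subgroup _) fun H K hH hK => ?_
    have key : ∀ H : Subgroup (center G), Nat.card H = p → H.map (center G).subtype = zpowers ((x * y) ^ p) := by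
      intro H hH
      have hc : Nat.card (H.map (center G).subtype) = p := by rw [card_map_of_injective (center G).subtype_injective, hH]
      haveI := Cfsg.Agent.PGrp.normal_of_le_center' (map_subtype_le H)
      have hm := hq (H.map (center G).subtype) (fun h => hp.one_lt.ne (by rw [← hc, h, card_bot])) (x * y)
      refine (eq_of_le_of_card_ge (zpowers_le.2 hm) ?_).symm
      rw [hc, Nat.card_zpowers]
      have h2 : orderOf ((x * y) ^ p) ∣ p := (Subgroup.orderOf_dvd_natCard _ hm).trans hc.dvd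
      rcases (Nat.dvd_prime hp).1 h2 with h | h
      · exact absurd (orderOf_eq_one_iff.1 h) hne
      · exact h.ge
    exact map_injective (center G).subtype_injective ((key H hH).trans (key K hK).symm)
  · haveI := hG.isNilpotent
    have hc : 1 + (p - 1) ≤ Group.nilpotencyClass G := by
      by_contra h
      exact hl (Subgroup.lowerCentralSeries_eq_bot_iff_nilpotencyClass_le.2 (by omega))
    have h1 := Cfsg.Agent.PGrp.pow_le_card_lcs hG (p - 1) 1 hc
    have h2 := Cfsg.Agent.PGrp.sq_dvd_index_commutator hG fun h => by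
      have := Group.IsNilpotent.nilpotencyClass_le_one_iff.2 h.isMulCommutative
      have := hp.two_le
      omega
    have h3 := (commutator G).card_mul_index
    have h4 := Nat.le_of_dvd (Nat.pos_of_ne_zero index_ne_zero_of_finite) h2
    rw [← h3, show p + 1 = p - 1 + 2 by have := hp.two_le; omega, pow_add]
    exact Nat.mul_le_mul h1 h4

end Cfsg.Agent.S3872
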