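import Cfsg.Statements.S3873
import Cfsg.Agent.FG.ExpCl

set_option autoImplicit false
open Cfsg

namespace Cfsg.Agent.S3873

open Subgroup Cfsg.Agent.FG

/-- Say that a finite group is p-exponent closed when its elements of order dividing p form a subgroup. Let G be a finite group that is not p-exponent closed, but all of whose proper subgroups and proper quotients are, and suppose G is neither simple nor a p-group. Then there is a prime q ≠ p such that G has order p · q^e, where e is the multiplicative order of q modulo p, and G has a normal elementary abelian subgroup of order q^e that is a minimal normal subgroup of G. -/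
theorem result {G : Type*} [Group G] [Finite G] {p : ℕ} [Fact p.Prime]
    (hnc : ¬ (∃ H : Subgroup G, (H : Set G) = {g : G | g ^ p = 1})) (hsub : ∀ K : Subgroup G, K ≠ ⊤ → (∃ H : Subgroup ↥K, (H : Set ↥K) = {g : ↥K | g ^ p = 1}))
    (hquo : ∀ (N : Subgroup G) [N.Normal], N ≠ ⊥ → (∃ H : Subgroup (G ⧸ N), (H : Set (G ⧸ N)) = {g : (G ⧸ N) | g ^ p = 1}))
    (hns : ¬ IsSimpleGroup G) (hnp : ¬ IsPGroup p G) :
    ∃ q : ℕ, q.Prime ∧ q ≠ p ∧ Nat.card G = p * q ^ orderOf (q : ZMod p) ∧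
      ∃ A : Subgroup G, A.Normal ∧ Nat.card ↥A = q ^ orderOf (q : ZMod p) ∧ Cfsg.IsElementaryAbelian q A ∧
        ∀ B : Subgroup G, B.Normal → B ≤ A → B = ⊥ ∨ B = A := by
  haveI : Nontrivial G := by
    by_contra h
    rw [not_nontrivial_iff_subsingleton] at h
    exact hnp fun g => ⟨0, Subsingleton.elim _ _⟩
  obtain ⟨x, y, hx, hy, -, hxy⟩ := expCl_gen hnc hsub
  have hq : ∀ (N : Subgroup G) [N.Normal], N ≠ ⊥ → ∀ g : G, g ^ p ∈ N := fun N _ h =>
    expCl_pow_mem hx hy hxy N (hquo N h)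
  have hO : ∀ N : Subgroup G, N.Normal → IsPGroup p N → N = ⊥ := fun N hN h => by
    by_contra h0
    exact hnp fun g => PE.of_pow (k := 1) (PE.coe.2 (h ⟨g ^ p ^ 1, by rw [pow_one]; exact hq N h0 g⟩))
  have hM : ∀ M : Subgroup G, M.Normal → M ≠ ⊤ → ∀ g ∈ M, g ^ p = 1 → g = 1 := fun M hM h g hg hgp => by
    let S : Subgroup G :=
      { carrier := {z | z ∈ M ∧ z ^ p = 1}
        mul_mem' := fun ha hb => ⟨M.mul_mem ha.1 hb.1, expCl_sub (hsub M h) ha.1 hb.1 ha.2 hb.2⟩
        one_mem' := ⟨M.one_mem, one_pow p⟩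
        inv_mem' := fun ha => ⟨M.inv_mem ha.1, by rw [inv_pow, ha.2, inv_one]⟩ }
    have := hO S ⟨fun x hx g => ⟨hM.conj_mem x hx.1 g, by rw [conj_pow, hx.2]; simp⟩⟩
      fun x => PE.coe.1 (PE.of_pow_eq x.2.2)
    exact mem_bot.1 (this ▸ (⟨hg, hgp⟩ : g ∈ S))
  obtain ⟨A, hAn, h0, h1, hmin⟩ := exists_min_proper hns
  refine min_core hO hM (fun K hK u hu v hv h1 h2 => PE.of_pow_eq (expCl_sub (hsub K hK) hu hv h1 h2)) A h0 h1 hmin ?_
  intro g
  obtain ⟨g, rfl⟩ := QuotientGroup.mk_surjective g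
  exact ⟨1, by rw [pow_one, ← QuotientGroup.mk_pow, QuotientGroup.eq_one_iff]; exact hq A h0 g⟩

end Cfsg.Agent.S3873
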