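import Cfsg.Statements.S3875
import Cfsg.Agent.FG.PClosed
import Cfsg.Agent.S0999
import Cfsg.Agent.Classical.SLCard
import Mathlib.LinearAlgebra.Projectivization.PSL.PSL2
import Mathlib.FieldTheory.Finite.GaloisField

set_option autoImplicit false
open Cfsg

namespace Cfsg.Agent.S3875

open Subgroup Cfsg.Agent.FG

theorem lower {H : Type*} [Group H] [Finite H] {p : ℕ} [hp : Fact p.Prime] (hs : ∀ K : Subgroup H, K ≠ ⊤ → IsPClosed p K)
    (hq : ∀ (N : Subgroup H) [N.Normal], N ≠ ⊥ → IsPClosed p (H ⧸ N)) (hns : ¬ IsSimpleGroup H) (hH : ¬ IsPClosed p H) :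
    ∃ k, IsPrimePow k ∧ k % p = 1 ∧ p * k ≤ Nat.card H := by
  haveI : Nontrivial H := not_subsingleton_iff_nontrivial.1 fun _ => hH (isPClosed_of_isPGroup (IsPGroup.of_subsingleton p H))
  obtain ⟨N, hN, h1, h2, -⟩ := exists_min_proper hns
  have h3 : ¬ p ∣ Nat.card N := fun h => by
    obtain ⟨x, hx⟩ := exists_prime_orderOf_dvd_card' p h
    let R := peSub p N (isPClosed_sub_iff.1 (hs N h2))
    haveI : R.Normal := ⟨fun x hx g => ⟨hN.conj_mem _ hx.1 g, hx.2.conj g⟩⟩
    refine hH (isPClosed_of_quot R (fun x => PE.coe.1 x.2.2) (hq R fun e => hp.out.one_lt.ne ?_))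
    have : (x : H) ∈ R := ⟨x.2, PE.coe.2 (PE.of_pow_eq (hx ▸ pow_orderOf_eq_one x))⟩
    rw [e, mem_bot, OneMemClass.coe_eq_one] at this
    rw [← hx, this, orderOf_one]
  obtain ⟨a, ha⟩ : ∃ a, N.index = p ^ a := by
    let K := (peSub p ⊤ fun x _ y _ => isPClosed_iff_pe.1 (hq N h1) x y).comap (QuotientGroup.mk' N)
    have : K = ⊤ := by_contra fun e => hH (isPClosed_iff_pe.2 fun x y hx hy =>
      isPClosed_sub_iff.1 (hs K e) x ⟨mem_top _, hx.map _⟩ y ⟨mem_top _, hy.map _⟩ hx hy)
    refine IsPGroup.iff_card.1 fun u => ?_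
    obtain ⟨x, rfl⟩ := QuotientGroup.mk_surjective u
    exact (this.ge (mem_top x)).2
  obtain ⟨P, hP⟩ := not_forall.1 hH
  have h4 : Nat.card (Sylow p H) ≠ 1 := fun e => hP (normalizer_eq_top_iff.1 (index_eq_one.1 (P.card_eq_index_normalizer ▸ e)))
  obtain ⟨q, hq1, hq2⟩ := Nat.exists_prime_and_dvd h4
  haveI := Fact.mk hq1
  obtain ⟨b, hb⟩ := IsPGroup.iff_card.1 P.isPGroup'
  haveI := P.isPGroup'.isNilpotent
  obtain ⟨Q, hQ, hPQ⟩ := Solv.exists_invariant_sylIn (A := (P : Subgroup H)) (K := N) le_normalizer_of_normal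
    (hb ▸ ((Nat.Prime.coprime_iff_not_dvd hp.out).2 h3).pow_left b) (Or.inl inferInstance) q
  have h5 : (P : Subgroup H) ⊔ Q = ⊤ := by_contra fun e => by
    have h6 := (normal_subgroupOf_iff_le_normalizer le_sup_left).1 (hs _ e (Loc.sylIn_of_sylow_le P le_sup_left).toSylow)
    have h7 := hq2.trans (P.card_eq_index_normalizer ▸ index_dvd_of_le (le_sup_right.trans h6))
    rw [← relIndex_mul_index hQ.le, ha] at h7
    rcases (Nat.Prime.dvd_mul hq1).1 h7 with h | h
    · exact hQ.not_dvd_relIndex h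
    · exact not_dvd_card_sylow p H ((Nat.prime_dvd_prime_iff_eq hq1 hp.out).1 (hq1.dvd_of_dvd_pow h) ▸ hq2)
  haveI : Q.Normal := normalizer_eq_top_iff.1 (eq_top_iff.2 (h5 ▸ sup_le hPQ le_normalizer))
  obtain ⟨c, hc⟩ := IsPGroup.iff_card.1 hQ.pg
  have h6 : (P : Subgroup H).index ∣ q ^ c := by
    refine Nat.dvd_of_mul_dvd_mul_left (Nat.card_pos (α := P)) ?_
    rw [card_mul_index, ← hc, ← Q.index_mul_card, ← relIndex_top_right, ← h5, relIndex_sup_right]
    exact mul_dvd_mul_right (relIndex_dvd_card _ _) _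
  obtain ⟨i, -, hi⟩ := (Nat.dvd_prime_pow hq1).1 (P.card_dvd_index.trans h6)
  refine ⟨_, ⟨q, i, hq1.prime, Nat.pos_of_ne_zero fun e => h4 (by rw [hi, e, pow_zero]), hi.symm⟩,
    Eq.trans (card_sylow_modEq_one p H) (Nat.mod_eq_of_lt hp.out.one_lt), Nat.le_of_dvd Nat.card_pos ?_⟩
  rw [← (P : Subgroup H).card_mul_index]
  refine mul_dvd_mul (hb ▸ dvd_pow_self p fun e => hP ?_) P.card_dvd_index
  rw [card_eq_one.1 (by rw [hb, e, pow_zero] : Nat.card (P : Subgroup H) = 1)]
  infer_instance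

theorem card_psl {F : Type} [Field F] [Fintype F] {p : ℕ} (hp : p.Prime) (h2 : p ≠ 2) (h : Nat.card F = p) :
    Nat.card (Matrix.ProjectiveSpecialLinearGroup (Fin 2) F) = p * (p ^ 2 - 1) / 2 := by
  have := Classical.card_PSL2_mul (F := F)
  obtain ⟨k, rfl⟩ := hp.odd_of_ne_two h2
  rw [h, Nat.add_sub_cancel, Nat.gcd_eq_left (dvd_mul_right 2 k)] at this
  rw [show (2 * k + 1) ^ 2 - 1 = 2 * k * (2 * k + 1 + 1) from Nat.sub_eq_of_eq_add (by ring), ← mul_assoc, ← this,
    Nat.mul_div_cancel_left _ two_pos]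

theorem aff {p : ℕ} [hp : Fact p.Prime] {m : ℕ} (hm : IsPrimePow m) (hm1 : m % p = 1) :
    ∃ (H : Type) (_ : Group H) (_ : Finite H), Nat.card H = p * m ∧ ¬ IsPClosed p H := by
  obtain ⟨r, k, hr, hk, rfl⟩ := (isPrimePow_nat_iff m).1 hm
  haveI := Fact.mk hr
  have hF := GaloisField.card r k hk.ne'
  have h1 : p ∣ r ^ k - 1 := (Nat.modEq_iff_dvd' (Nat.one_le_pow _ _ hr.pos)).1
    ((Nat.mod_eq_of_lt hp.out.one_lt).trans hm1.symm)
  obtain ⟨u, hu⟩ := exists_prime_orderOf_dvd_card' (G := (GaloisField r k)ˣ) p (by rwa [Nat.card_units, hF])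
  let φ : zpowers u →* MulAut (Multiplicative (GaloisField r k)) :=
    { toFun := fun h => AddEquiv.toMultiplicative (DistribMulAction.toAddEquiv _ h)
      map_one' := MulEquiv.ext fun x => one_smul (zpowers u) (Multiplicative.toAdd x)
      map_mul' := fun a b => MulEquiv.ext fun x => mul_smul a b (Multiplicative.toAdd x) }
  haveI : Finite (Multiplicative (GaloisField r k) ⋊[φ] zpowers u) := .of_equiv _ SemidirectProduct.equivProd.symm
  refine ⟨Multiplicative (GaloisField r k) ⋊[φ] zpowers u, inferInstance, inferInstance, by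
    rw [SemidirectProduct.card, Nat.card_zpowers, hu, Nat.card_congr Multiplicative.toAdd, hF, mul_comm], fun h => ?_⟩
  let v : zpowers u := ⟨u, mem_zpowers u⟩
  have hv : PE p (SemidirectProduct.inr v : Multiplicative (GaloisField r k) ⋊[φ] zpowers u) :=
    (PE.of_pow_eq (x := v) (Subtype.ext (orderOf_dvd_iff_pow_eq_one.1 hu.dvd))).map _
  have h2 := isPClosed_iff_pe.1 h _ _ (hv.conj (SemidirectProduct.inl (Multiplicative.ofAdd 1))) hv.inv
  rw [mul_assoc, mul_assoc, ← mul_assoc (SemidirectProduct.inr v), ← map_inv, ← map_inv SemidirectProduct.inr,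
    ← SemidirectProduct.inl_aut, ← map_mul] at h2
  have h3 := h2.eq_one_of_pow (n := r ^ k) (fun e => by
    have := (Nat.dvd_iff_mod_eq_zero).1 e; omega) (by
    rw [← map_pow, ← hF, ← Nat.card_congr Multiplicative.toAdd, pow_card_eq_one', map_one])
  rw [map_eq_one_iff _ SemidirectProduct.inl_injective, map_inv, mul_inv_eq_one] at h3
  have h4 : (1 : GaloisField r k) = u * 1 := h3
  exact hp.out.one_lt.ne (by rw [← hu, show u = 1 from Units.ext (by simpa using h4.symm), orderOf_one])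

/-- Let p be an odd prime and let m be the least prime power congruent to 1 modulo p. Then the least order of a finite group whose Sylow p-subgroups are not normal is the smaller of p · m and p(p² − 1)/2: every finite group whose Sylow p-subgroups are not normal has at least that order, and some group of exactly that order has non-normal Sylow p-subgroups. -/
theorem result (p : ℕ) [Fact p.Prime] (hp : p ≠ 2) (m : ℕ) (hm : IsPrimePow m) (hm1 : m % p = 1)
    (hleast : ∀ k : ℕ, IsPrimePow k → k % p = 1 → m ≤ k) :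
    (∀ (H : Type) [Group H] [Finite H], ¬ Cfsg.IsPClosed p H → min (p * m) (p * (p ^ 2 - 1) / 2) ≤ Nat.card H) ∧
      ∃ (H : Type) (_ : Group H) (_ : Finite H), Nat.card H = min (p * m) (p * (p ^ 2 - 1) / 2) ∧ ¬ Cfsg.IsPClosed p H := by
  have hp' : p.Prime := Fact.out
  have h3 : 3 ≤ p := by have := hp'.two_le; omega
  refine ⟨fun H _ _ hH => ?_, ?_⟩
  · suffices h : ∀ n, ∀ (H : Type) [Group H] [Finite H], ¬ IsPClosed p H → Nat.card H = n →
        min (p * m) (p * (p ^ 2 - 1) / 2) ≤ n from h _ H hH rfl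
    intro n
    induction n using Nat.strong_induction_on with
    | _ n ih =>
    intro H _ _ hH hn
    subst hn
    by_contra hlt
    rw [not_le] at hlt
    have hc : ∀ (K : Type) [Group K] [Finite K], Nat.card K < Nat.card H → IsPClosed p K := fun K _ _ h =>
      by_contra fun e => (ih _ h K e rfl).not_gt (h.trans hlt)
    rw [lt_min_iff] at hlt
    by_cases hs : IsSimpleGroup H
    · obtain ⟨P, hP⟩ := not_forall.1 hH
      have h1 : p ∣ Nat.card H := by_contra fun e => hP (by
        rw [card_eq_one.1 ((P.isPGroup'.card_eq_or_dvd).resolve_right fun h => e (h.trans (card_subgroup_dvd_card _)))]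
        infer_instance)
      have h2 : p * (p ^ 2 - 1) / 2 ≤ p ^ 3 := (Nat.div_le_self _ _).trans (by
        rw [pow_succ' p 2]; exact Nat.mul_le_mul_left _ (Nat.sub_le _ _))
      rcases S0999.result (G := H) (fun h => hP (by haveI := h.isMulCommutative; infer_instance)) p hp' h1
        (hlt.2.trans_le h2) with ⟨F, _, _, h4, -, ⟨e⟩⟩ | ⟨k, F, _, _, h4, h5, h6, ⟨e⟩⟩
      · rw [Nat.card_congr e.toEquiv, card_psl hp' hp (Nat.card_eq_fintype_card.trans h4)] at hlt
        exact hlt.2.false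
      · have h7 := Classical.card_PSL2_mul (F := F)
        have h8 : p ≠ 4 := by rintro rfl; exact absurd hp' (by decide)
        obtain ⟨j, rfl⟩ : ∃ j, k = j + 1 := ⟨k - 1, by rcases k with _ | k <;> simp at h5 ⊢; omega⟩
        obtain ⟨t, ht⟩ : ∃ t, 2 ^ j = t + 2 := ⟨2 ^ j - 2, by rw [pow_succ] at h5; omega⟩
        rw [Nat.card_eq_fintype_card (α := F), h4, pow_succ, ht, show (t + 2) * 2 - 1 = 1 + 2 * (t + 1) by omega,
          Nat.gcd_add_mul_left_right, Nat.gcd_one_right, one_mul, ← Nat.card_congr e.toEquiv] at h7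
        have h9 := (Nat.lt_div_iff_mul_lt' (by
          obtain ⟨s, rfl⟩ := hp'.odd_of_ne_two hp
          exact Dvd.dvd.mul_left ⟨2 * s * (s + 1), Nat.sub_eq_of_eq_add (by ring)⟩ _) _).1 hlt.2
        rw [h7, h5, pow_succ 2 j, ht, show ((t + 2) * 2 + 1) ^ 2 - 1 = (t + 2) * 2 * ((t + 2) * 2 + 2) from
          Nat.sub_eq_of_eq_add (by ring)] at h9
        nlinarith [Nat.zero_le t, Nat.zero_le (t ^ 2), Nat.zero_le (t ^ 3)]
    · obtain ⟨k, h1, h2, h4⟩ := lower (fun K h => hc K (by
        rw [← K.card_mul_index]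
        exact lt_mul_of_one_lt_right Nat.card_pos (one_lt_index_of_ne_top h))) (fun N _ h => hc _ (by
        rw [← N.index_mul_card]
        exact lt_mul_of_one_lt_right Nat.card_pos ((one_lt_card_iff_ne_bot N).2 h))) hs hH
      exact hlt.1.not_ge ((Nat.mul_le_mul_left p (hleast k h1 h2)).trans h4)
  · rcases le_total (p * m) (p * (p ^ 2 - 1) / 2) with h | h
    · rw [min_eq_left h]; exact aff hm hm1
    · by_cases h4 : p = 3
      · subst h4
        have := hleast 4 ⟨2, 2, Nat.prime_two.prime, two_pos, rfl⟩ rfl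
        rw [min_eq_left (by omega)]; exact aff hm hm1
      · rw [min_eq_right h]
        have h5 := card_psl hp' hp (Nat.card_zmod p)
        haveI := Matrix.ProjectiveSpecialLinearGroup.rank_two_simple (F := ZMod p) (by rw [Nat.card_zmod]; omega)
        refine ⟨Matrix.ProjectiveSpecialLinearGroup (Fin 2) (ZMod p), inferInstance, inferInstance, h5, fun hc => ?_⟩
        obtain ⟨s, rfl⟩ := hp'.odd_of_ne_two hp
        rw [show (2 * s + 1) ^ 2 - 1 = 2 * s * (s + 1) * 2 from Nat.sub_eq_of_eq_add (by ring), ← mul_assoc,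
          Nat.mul_div_cancel _ two_pos] at h5
        obtain ⟨P⟩ : Nonempty (Sylow (2 * s + 1) (Matrix.ProjectiveSpecialLinearGroup (Fin 2) (ZMod (2 * s + 1)))) :=
          inferInstance
        rcases (hc P).eq_bot_or_eq_top with e | e
        · exact P.ne_bot_of_dvd_card (h5 ▸ dvd_mul_right _ _) e
        · obtain ⟨a, ha⟩ := IsPGroup.iff_card.1 P.isPGroup'
          rw [e, card_top, h5] at ha
          have := Nat.prime_two.dvd_of_dvd_pow (ha ▸ ((dvd_mul_right 2 s).mul_right _).mul_left _)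
          omega

end Cfsg.Agent.S3875
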