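import Cfsg.Statements.S3889

set_option autoImplicit false
open Cfsg

namespace Cfsg.Agent.S3889

/-- A finite abelian group that is the union of a family of proper subgroups any two of which intersect trivially is elementary abelian: its exponent is a prime. -/
theorem result {G : Type*} [CommGroup G] [Finite G] (𝓑 : Set (Subgroup G)) (hprop : ∀ B ∈ 𝓑, B ≠ ⊤)
    (hcov : ∀ g : G, ∃ B ∈ 𝓑, g ∈ B) (hdisj : ∀ B ∈ 𝓑, ∀ C ∈ 𝓑, B ≠ C → B ⊓ C = ⊥) :
    (Monoid.exponent G).Prime := by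
  have key : ∀ B ∈ 𝓑, ∀ x ∈ B, ∀ y, y ∉ B → orderOf x ∣ orderOf y := by
    intro B hB x hx y hy
    obtain ⟨D, hD, h⟩ := hcov (x * y)
    have hne : D ≠ B := fun e => hy ((B.mul_mem_cancel_left hx).1 (e ▸ h))
    have h1 : x ^ orderOf y ∈ D ⊓ B := ⟨by simpa [mul_pow] using D.pow_mem h (orderOf y), B.pow_mem hx _⟩
    rw [hdisj D hD B hB hne, Subgroup.mem_bot] at h1
    exact orderOf_dvd_of_pow_eq_one h1
  have key2 : ∀ B ∈ 𝓑, ∀ x ∈ B, x ≠ 1 → ∀ y, y ∉ B → orderOf x = orderOf y := by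
    intro B hB x hx h1 y hy
    obtain ⟨C, hC, h⟩ := hcov y
    refine Nat.dvd_antisymm (key B hB x hx y hy) (key C hC y h x fun hx' => h1 ?_)
    have : x ∈ B ⊓ C := ⟨hx, hx'⟩
    rwa [hdisj B hB C hC (fun e => hy (e ▸ h)), Subgroup.mem_bot] at this
  obtain ⟨B, hB, -⟩ := hcov 1
  obtain ⟨y, -, hy⟩ := SetLike.exists_of_lt (lt_top_iff_ne_top.2 (hprop B hB))
  have hy1 : y ≠ 1 := fun e => hy (e ▸ B.one_mem)
  have key3 : ∀ x : G, x ≠ 1 → orderOf x = orderOf y := by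
    intro x hx
    obtain ⟨C, hC, h⟩ := hcov x
    by_cases h2 : y ∈ C
    · obtain ⟨z, -, hz⟩ := SetLike.exists_of_lt (lt_top_iff_ne_top.2 (hprop C hC))
      rw [key2 C hC x h hx z hz, key2 C hC y h2 hy1 z hz]
    · exact key2 C hC x h hx y h2
  obtain ⟨p, hp, hd⟩ := Nat.exists_prime_and_dvd (n := orderOf y) (by rwa [Ne, orderOf_eq_one_iff])
  have h1 : orderOf (y ^ (orderOf y / p)) = p := orderOf_pow_orderOf_div (orderOf_pos y).ne' hd
  have h2 : orderOf y = p := by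
    rw [← key3 (y ^ (orderOf y / p)) (fun e => hp.one_lt.ne' (by rw [← h1, e, orderOf_one])), h1]
  have h3 : Monoid.exponent G = p := by
    refine Nat.dvd_antisymm (Monoid.exponent_dvd_of_forall_pow_eq_one fun x => ?_) (h2 ▸ Monoid.order_dvd_exponent y)
    by_cases hx : x = 1
    · simp [hx]
    · rw [← h2, ← key3 x hx, pow_orderOf_eq_one]
  rwa [h3]

end Cfsg.Agent.S3889
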