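import Cfsg.Statements.S3890
import Cfsg.Agent.FG.Cover

set_option autoImplicit false
open Cfsg

namespace Cfsg.Agent.S3890

open Subgroup Cfsg.Agent.FG Cfsg.Agent.Loc

/-- A cover of a group is a finite set of proper subgroups whose union is the whole group; it is minimal when no cover has fewer members, and nilpotent when all its members are nilpotent. Let G be a finite group with trivial center admitting a nilpotent minimal cover 𝓐, and let P be an abelian Sylow p-subgroup of G that is not normal. Then either P is elementary abelian of order greater than p, or P is a Sylow p-subgroup of some member A of 𝓐, the normalizer N of P is a maximal subgroup of G, N meets each of its conjugates by elements outside N in a subgroup of order prime to p, and the centralizer of P equals A. -/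
theorem result {G : Type*} [Group G] [Finite G] (hZ : Subgroup.center G = ⊥) (𝓐 : Finset (Subgroup G))
    (h𝓐 : ((∀ A ∈ 𝓐, A ≠ ⊤) ∧ (∀ g : G, ∃ A ∈ 𝓐, g ∈ A)) ∧ (∀ 𝓑 : Finset (Subgroup G), (∀ A ∈ 𝓑, A ≠ ⊤) ∧ (∀ g : G, ∃ A ∈ 𝓑, g ∈ A) → 𝓐.card ≤ 𝓑.card) ∧ (∀ A ∈ 𝓐, Group.IsNilpotent ↥A)) {p : ℕ} [Fact p.Prime] (P : Sylow p G) (hab : IsMulCommutative ↥(P : Subgroup G))
    (hnn : ¬ (P : Subgroup G).Normal) :
    (Cfsg.IsElementaryAbelian p (P : Subgroup G) ∧ p < Nat.card ↥(P : Subgroup G)) ∨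
    (∃ A ∈ 𝓐, (P : Subgroup G) ≤ A ∧ ¬ p ∣ ((P : Subgroup G).subgroupOf A).index ∧
      IsCoatom (Subgroup.normalizer ((P : Subgroup G) : Set G)) ∧
      (∀ g : G, g ∉ Subgroup.normalizer ((P : Subgroup G) : Set G) →
        ¬ p ∣ Nat.card ↥(Subgroup.normalizer ((P : Subgroup G) : Set G) ⊓
          (Subgroup.normalizer ((P : Subgroup G) : Set G)).map (MulAut.conj g).toMonoidHom)) ∧
      Subgroup.centralizer ((P : Subgroup G) : Set G) = A) := by
  have hp : p.Prime := Fact.out
  have h0 : (P : Subgroup G) ≠ ⊥ := fun e => hnn (e ▸ inferInstance)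
  by_cases hc : IsCyclic (P : Subgroup G) ∨ ∃ y ∈ (P : Subgroup G), y ^ p ≠ 1
  · right
    obtain ⟨A, hA, h1, h2, h3, h4⟩ := NCov.main h𝓐 hZ (sylIn_top P) hab h0 hc
    refine ⟨A, hA, h1, (sylIn_of_sylow_le P h1).not_dvd_relIndex, coatom_of_main hnn h2 h3, fun g hg hd => hg ?_, h2⟩
    obtain ⟨x, hx⟩ := exists_prime_orderOf_dvd_card' p hd
    have hx' : orderOf (x : G) = p := by rw [orderOf_coe, hx]
    have hpe : IsPGroup p (zpowers (x : G)) := (PE.of_pow_eq (orderOf_dvd_iff_pow_eq_one.1 hx'.dvd)).isPGroup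
    refine h4 g x ((sylIn_top P).le_of_normalizes le_top hpe (zpowers_le.2 x.2.1) (mem_zpowers _))
      (((sylIn_top P).conj_of_mem (mem_top g)).le_of_normalizes le_top hpe (zpowers_le.2 ?_) (mem_zpowers _)) ?_
    · rw [← cj_normalizer]; exact x.2.2
    · intro e
      rw [e, orderOf_one] at hx'
      exact hp.one_lt.ne hx'
  · left
    push Not at hc
    refine ⟨⟨hab, hc.2⟩, ?_⟩
    by_contra hle
    obtain ⟨k, hk⟩ := IsPGroup.iff_card.1 P.isPGroup'
    refine hc.1 (isCyclic_of_card_dvd_prime (p := p) (hk.dvd.trans ?_))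
    rw [hk, not_lt] at hle
    have : k ≤ 1 := by
      by_contra h
      exact absurd hle (not_le.2 (by simpa using Nat.pow_lt_pow_right hp.one_lt (not_le.1 h)))
    simpa using pow_dvd_pow p this

end Cfsg.Agent.S3890
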