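import Cfsg.Statements.S3892
import Cfsg.Agent.FG.Cover
import Mathlib.GroupTheory.SpecificGroups.Alternating

set_option autoImplicit false
open Cfsg

namespace Cfsg.Agent.S3892

open Subgroup Cfsg.Agent.FG Cfsg.Agent.Loc Equiv Equiv.Perm
open scoped Pointwise

theorem comm23 {G : Type*} [Group G] [Finite G] (A : Subgroup G) [Group.IsNilpotent A] {x y : G} (hx : x ∈ A) (hy : y ∈ A)
    (h3 : x ^ 3 = 1) (h2 : y ^ 2 = 1) : x * y = y * x := by
  refine (Cfsg.Agent.Solv.le_centralizer_of_coprime_of_isNilpotent (H := A) (zpowers_le.2 hx) (zpowers_le.2 hy) ?_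
    (mem_zpowers x) y (mem_zpowers y)).symm
  rw [Nat.card_zpowers, Nat.card_zpowers]
  exact Nat.Coprime.coprime_dvd_left (orderOf_dvd_of_pow_eq_one h3)
    (Nat.Coprime.coprime_dvd_right (orderOf_dvd_of_pow_eq_one h2) (by norm_num))

/-- The permutations mapping `Δ` into itself. -/
def stab {α : Type*} [Fintype α] [DecidableEq α] (Δ : Finset α) : Subgroup (Perm α) := MulAction.stabilizer (Perm α) Δ

theorem mem_stab {α : Type*} [Fintype α] [DecidableEq α] {Δ : Finset α} {g : Perm α} : g ∈ stab Δ ↔ ∀ a ∈ Δ, g a ∈ Δ := by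
  rw [stab, MulAction.mem_stabilizer_iff]
  refine ⟨fun h a ha => h ▸ Finset.smul_mem_smul_finset ha, fun h => Finset.eq_of_subset_of_card_le ?_ (by simp)⟩
  intro b hb
  obtain ⟨a, ha, rfl⟩ := Finset.mem_smul_finset.1 hb
  exact h a ha

theorem le_stab {α : Type*} [Fintype α] [DecidableEq α] (A : Subgroup (Perm α)) [Group.IsNilpotent A] {Δ : Finset α}
    (hΔ : Fintype.card α < 2 * Δ.card) {x : Perm α} (hx : x ∈ A) (hc : x.IsCycleOn Δ) : A ≤ stab Δ := by
  by_contra hn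
  have h1 : A ⊓ stab Δ < A := inf_lt_left.2 hn
  obtain ⟨g, hg, hg'⟩ := SetLike.exists_of_lt (Cfsg.Agent.Solv.lt_inf_normalizer_of_isNilpotent h1)
  refine hg' ⟨hg.1, mem_stab.2 fun b hb => ?_⟩
  obtain ⟨a, ha, hga⟩ : ∃ a ∈ Δ, g a ∈ Δ := by
    by_contra hc
    push Not at hc
    have h2 : Disjoint (Δ.image g) Δ := Finset.disjoint_left.2 fun y hy => by
      obtain ⟨a, ha, rfl⟩ := Finset.mem_image.1 hy
      exact hc a ha
    have h3 := Finset.card_le_univ (Δ.image g ∪ Δ)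
    rw [Finset.card_union_of_disjoint h2, Finset.card_image_of_injective _ g.injective] at h3
    omega
  obtain ⟨k, -, rfl⟩ := hc.exists_pow_eq ha hb
  have hk : x ^ k ∈ A ⊓ stab Δ := pow_mem (mem_inf.2 ⟨hx, mem_stab.2 fun a ha => hc.apply_mem_iff.2 ha⟩) k
  have := mem_stab.1 (conj_mem_of_mem_normalizer hg.2 hk).2 _ hga
  simpa using this

theorem big {α G : Type*} [Fintype α] [DecidableEq α] [Group G] [Finite G] (φ : G →* Perm α) (hφ : Function.Injective φ)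
    [hn : φ.range.Normal] {Δ : Finset α} (hΔ : Fintype.card α < 2 * Δ.card) (h4 : 4 ≤ Δ.card) {x : Perm α}
    (hx : x ∈ φ.range) (hc : x.IsCycleOn Δ) (hM : (stab Δ).comap φ ≠ ⊤) {𝓐 : Finset (Subgroup G)} (h : NCov 𝓐) : False := by
  have key : ∀ y ∈ φ.range, y.IsCycleOn Δ → ∃ A ∈ 𝓐, y ∈ A.map φ ∧ A ≤ (stab Δ).comap φ := by
    rintro _ ⟨g, rfl⟩ hy
    obtain ⟨A, hA, hg⟩ := h.1.2 g
    haveI := h.2.2 A hA
    haveI := Cfsg.Agent.Solv.isNilpotent_map φ A
    exact ⟨A, hA, mem_map_of_mem φ hg, map_le_iff_le_comap.1 (le_stab _ hΔ (mem_map_of_mem φ hg) hy)⟩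
  obtain ⟨A, hA, hxA, hAM⟩ := key x hx hc
  haveI := h.2.2 A hA
  haveI := Cfsg.Agent.Solv.isNilpotent_map φ A
  have h1 : ∀ u ∈ Δ, ∀ v ∈ Δ, swap u v * swap (x u) (x v) ∈ A.map φ := by
    intro u hu v hv
    have hu' : x u ∈ Δ := hc.apply_mem_iff.2 hu
    have hv' : x v ∈ Δ := hc.apply_mem_iff.2 hv
    have hs : swap (x u) (x v) ∈ stab Δ := mem_stab.2 fun a ha => by
      rw [swap_apply_def]; split_ifs <;> assumption
    have hc' := hc.conj (g := swap (x u) (x v))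
    have e : (swap (x u) (x v) : Perm α) '' (Δ : Set α) = Δ := by
      rw [← Finset.coe_image]
      exact congrArg _ hs
    rw [e] at hc'
    obtain ⟨B, hB, hyB, hBM⟩ := key _ (hn.conj_mem x hx _) hc'
    rw [← h.eq_of_le hA hB hAM hBM hM] at hyB
    have := mul_mem (inv_mem hxA) hyB
    convert this using 1
    rw [swap_inv, ← mul_assoc, ← mul_assoc]
    congr 1
    rw [swap_apply_apply]
    group
  obtain ⟨a, ha⟩ : Δ.Nonempty := Finset.card_pos.1 (by omega)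
  have hne : ∀ i j : ℕ, i < 4 → j < 4 → i ≠ j → (x ^ i) a ≠ (x ^ j) a := fun i j hi hj hij e =>
    hij (Nat.ModEq.eq_of_lt_of_lt ((hc.pow_apply_eq_pow_apply ha).1 e) (by omega) (by omega))
  have h01 : a ≠ x a := by simpa using hne 0 1 (by omega) (by omega) (by omega)
  have h02 : a ≠ x (x a) := by simpa [pow_succ] using hne 0 2 (by omega) (by omega) (by omega)
  have h03 : a ≠ x (x (x a)) := by simpa [pow_succ] using hne 0 3 (by omega) (by omega) (by omega)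
  have h12 : x a ≠ x (x a) := x.injective.ne h01
  have h13 : x a ≠ x (x (x a)) := x.injective.ne h02
  have h23 : x (x a) ≠ x (x (x a)) := x.injective.ne h12
  have hb : x a ∈ Δ := hc.apply_mem_iff.2 ha
  have ht := h1 a ha _ hb
  have hs := h1 a ha _ (hc.apply_mem_iff.2 hb)
  generalize x (x (x a)) = d at *
  generalize x (x a) = c at *
  generalize x a = b at *
  have := comm23 _ ht hs (by
    rw [swap_comm a b, ← (isThreeCycle_swap_mul_swap_same h01.symm h12 h02).orderOf]; exact pow_orderOf_eq_one _) (by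
    have hd : Commute (swap a c) (swap b d) := (disjoint_swap_swap (by simp [*, h01.symm, h12.symm])).commute
    rw [hd.mul_pow]; simp [pow_two])
  have h5 := DFunLike.congr_fun this d
  simp [swap_apply_def, h01.symm, h02.symm, h03.symm, h12.symm, h13.symm, h23.symm, h01, h02, h12] at h5

theorem exists_cyc {α : Type*} [Fintype α] [DecidableEq α] {m : ℕ} (hm : m < Fintype.card α) (h2 : 2 ≤ m) :
    ∃ (Δ : Finset α) (x : Perm α), Δ.card = m ∧ x.IsCycleOn Δ ∧ sign x = -(-1) ^ m ∧ ∃ g : Perm α, sign g = 1 ∧ g ∉ stab Δ := by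
  obtain ⟨Δ, -, hΔ⟩ := Finset.exists_subset_card_eq (s := (Finset.univ : Finset α)) (n := m) (by simpa using hm.le)
  obtain ⟨x, hc, hs⟩ := Δ.exists_cycleOn
  have hnt : (Δ : Set α).Nontrivial := by
    rw [Finset.nontrivial_coe, ← Finset.one_lt_card_iff_nontrivial]; omega
  have hsup : x.support = Δ := Finset.Subset.antisymm hs fun a ha => mem_support.2 (hc.apply_ne hnt ha)
  have hcyc : x.IsCycle := isCycle_iff_exists_isCycleOn.2 ⟨Δ, hnt, hc, fun a ha => hs (mem_support.2 ha)⟩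
  refine ⟨Δ, x, hΔ, hc, by rw [hcyc.sign, hsup, hΔ], ?_⟩
  obtain ⟨a, ha, b, hb, hab⟩ := hnt
  obtain ⟨c, hc⟩ : ∃ c, c ∉ Δ := by
    by_contra h
    push Not at h
    have : Δ = Finset.univ := Finset.eq_univ_iff_forall.2 h
    rw [this, Finset.card_univ] at hΔ
    omega
  have hac : a ≠ c := fun e => hc (e ▸ ha)
  have hbc : b ≠ c := fun e => hc (e ▸ hb)
  refine ⟨swap b c * swap a b, by simp [hab, hbc], fun h => hc ?_⟩
  simpa using mem_stab.1 h a ha

theorem small {α G : Type*} [Fintype α] [DecidableEq α] [Group G] [Finite G] (φ : G →* Perm α) (hφ : Function.Injective φ)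
    {Δ Δ' : Finset α} (hΔ : Fintype.card α < 2 * Δ.card) (hΔ' : Fintype.card α < 2 * Δ'.card) {x y : G}
    (hx : (φ x).IsCycleOn Δ) (hy : (φ y).IsCycleOn Δ') (hx3 : φ x ^ 3 = 1) (hy3 : φ y ^ 3 = 1) (M : Subgroup G) (hM : M ≠ ⊤)
    (h1 : ∀ g, φ g ∈ stab Δ → g ∈ M ∨ (φ g ^ 2 = 1 ∧ φ x * φ g ≠ φ g * φ x))
    (h2 : ∀ g, φ g ∈ stab Δ' → g ∈ M ∨ (φ g ^ 2 = 1 ∧ φ y * φ g ≠ φ g * φ y)) (h3 : φ y ∉ stab Δ)
    {𝓐 : Finset (Subgroup G)} (h : NCov 𝓐) : False := by
  have key : ∀ (Δ : Finset α) (x : G), Fintype.card α < 2 * Δ.card → (φ x).IsCycleOn Δ → φ x ^ 3 = 1 →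
      (∀ g, φ g ∈ stab Δ → g ∈ M ∨ (φ g ^ 2 = 1 ∧ φ x * φ g ≠ φ g * φ x)) →
      ∃ A ∈ 𝓐, x ∈ A ∧ A.map φ ≤ stab Δ ∧ A ≤ M := by
    intro Δ x hΔ hx hx3 h1
    obtain ⟨A, hA, hg⟩ := h.1.2 x
    haveI := h.2.2 A hA
    haveI := Cfsg.Agent.Solv.isNilpotent_map φ A
    have h4 := le_stab _ hΔ (mem_map_of_mem φ hg) hx
    exact ⟨A, hA, hg, h4, fun g hgA => (h1 g (h4 (mem_map_of_mem φ hgA))).resolve_right fun h5 =>
      h5.2 (comm23 _ (mem_map_of_mem φ hg) (mem_map_of_mem φ hgA) hx3 h5.1)⟩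
  obtain ⟨A, hA, -, h4, h5⟩ := key Δ x hΔ hx hx3 h1
  obtain ⟨B, hB, h6, -, h7⟩ := key Δ' y hΔ' hy hy3 h2
  exact h3 (h4 (mem_map_of_mem φ (h.eq_of_le hA hB h5 h7 hM ▸ h6)))

theorem cyc3 {α : Type*} [Fintype α] [DecidableEq α] {a b c : α} (hab : a ≠ b) (hac : a ≠ c) (hbc : b ≠ c) :
    (swap a b * swap a c).IsCycleOn ({a, b, c} : Finset α) := by
  have h := (isThreeCycle_swap_mul_swap_same hab hac hbc).isCycle.isCycleOn
  convert h using 1
  ext z
  rw [← support_swap_mul_swap (by simp [*, hab.symm]) |>.trans (Finset.insert_comm b a {c}), swap_comm b a]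
  simp

theorem a5 {𝓐 : Finset (Subgroup (alternatingGroup (Fin 5)))} (h : NCov 𝓐) : False := by
  refine small (alternatingGroup (Fin 5)).subtype (subtype_injective _) (Δ := {0, 1, 2}) (Δ' := {0, 1, 3}) (by decide) (by decide)
    (x := ⟨swap 0 1 * swap 0 2, mem_alternatingGroup.2 (by decide)⟩) (y := ⟨swap 0 1 * swap 0 3, mem_alternatingGroup.2 (by decide)⟩)
    (by exact cyc3 (a := (0 : Fin 5)) (b := 1) (c := 2) (by decide) (by decide) (by decide))
    (by exact cyc3 (a := (0 : Fin 5)) (b := 1) (c := 3) (by decide) (by decide) (by decide)) (by decide) (by decide)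
    (MulAction.stabilizer _ (4 : Fin 5)) (fun e => ?_) ?_ ?_ (by rw [mem_stab]; decide) h
  · have : (⟨swap 4 1 * swap 4 2, mem_alternatingGroup.2 (by decide)⟩ : alternatingGroup (Fin 5)) ∈ MulAction.stabilizer _ (4 : Fin 5) :=
      e ▸ mem_top _
    revert this
    rw [MulAction.mem_stabilizer_iff]
    decide
  · rintro ⟨g, hg⟩
    rw [mem_stab, MulAction.mem_stabilizer_iff]
    exact (by decide +kernel : ∀ g : Perm (Fin 5), sign g = 1 → (∀ a ∈ ({0, 1, 2} : Finset (Fin 5)), g a ∈ ({0, 1, 2} : Finset (Fin 5))) →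
      g 4 = 4 ∨ g ^ 2 = 1 ∧ swap 0 1 * swap 0 2 * g ≠ g * (swap 0 1 * swap 0 2)) g (mem_alternatingGroup.1 hg)
  · rintro ⟨g, hg⟩
    rw [mem_stab, MulAction.mem_stabilizer_iff]
    exact (by decide +kernel : ∀ g : Perm (Fin 5), sign g = 1 → (∀ a ∈ ({0, 1, 3} : Finset (Fin 5)), g a ∈ ({0, 1, 3} : Finset (Fin 5))) →
      g 4 = 4 ∨ g ^ 2 = 1 ∧ swap 0 1 * swap 0 3 * g ≠ g * (swap 0 1 * swap 0 3)) g (mem_alternatingGroup.1 hg)

theorem s4 {𝓐 : Finset (Subgroup (Perm (Fin 4)))} (h : NCov 𝓐) : False := by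
  refine small (MonoidHom.id _) Function.injective_id (Δ := {0, 1, 2}) (Δ' := {0, 1, 3}) (by decide) (by decide)
    (x := swap 0 1 * swap 0 2) (y := swap 0 1 * swap 0 3)
    (cyc3 (by decide) (by decide) (by decide)) (cyc3 (by decide) (by decide) (by decide)) (by decide) (by decide)
    (alternatingGroup _) (fun e => ?_) ?_ ?_ (by rw [mem_stab]; decide) h
  · have : swap (0 : Fin 4) 1 ∈ alternatingGroup _ := e ▸ mem_top _
    rw [mem_alternatingGroup] at this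
    revert this
    decide
  · simp only [mem_stab, mem_alternatingGroup, MonoidHom.id_apply]
    decide +kernel
  · simp only [mem_stab, mem_alternatingGroup, MonoidHom.id_apply]
    decide +kernel

/-- A cover of a group is a finite set of proper subgroups whose union is the whole group; it is minimal when no cover has fewer members, and nilpotent when all its members are nilpotent. The alternating groups of degree at least 5 and the symmetric groups of degree at least 4 have no nilpotent minimal cover. -/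
theorem result (n : ℕ) :
    (5 ≤ n → ¬ ∃ 𝓐 : Finset (Subgroup ↥(alternatingGroup (Fin n))), ((∀ A ∈ 𝓐, A ≠ ⊤) ∧ (∀ g : ↥(alternatingGroup (Fin n)), ∃ A ∈ 𝓐, g ∈ A)) ∧ (∀ 𝓑 : Finset (Subgroup ↥(alternatingGroup (Fin n))), (∀ A ∈ 𝓑, A ≠ ⊤) ∧ (∀ g : ↥(alternatingGroup (Fin n)), ∃ A ∈ 𝓑, g ∈ A) → 𝓐.card ≤ 𝓑.card) ∧ (∀ A ∈ 𝓐, Group.IsNilpotent ↥A)) ∧
    (4 ≤ n → ¬ ∃ 𝓐 : Finset (Subgroup (Equiv.Perm (Fin n))), ((∀ A ∈ 𝓐, A ≠ ⊤) ∧ (∀ g : (Equiv.Perm (Fin n)), ∃ A ∈ 𝓐, g ∈ A)) ∧ (∀ 𝓑 : Finset (Subgroup (Equiv.Perm (Fin n))), (∀ A ∈ 𝓑, A ≠ ⊤) ∧ (∀ g : (Equiv.Perm (Fin n)), ∃ A ∈ 𝓑, g ∈ A) → 𝓐.card ≤ 𝓑.card) ∧ (∀ A ∈ 𝓐, Group.IsNilpotent ↥A)) := by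
  refine ⟨fun hn ⟨𝓐, h⟩ => ?_, fun hn ⟨𝓐, h⟩ => ?_⟩
  · rcases hn.eq_or_lt with rfl | hn
    · exact a5 h
    obtain ⟨m, h1, h2, h3, h4⟩ : ∃ m, m < n ∧ n < 2 * m ∧ 4 ≤ m ∧ Odd m := by
      rcases Nat.even_or_odd' n with ⟨k, rfl | rfl⟩
      · exact ⟨2 * k - 1, by omega, by omega, by omega, k - 1, by omega⟩
      · exact ⟨2 * k - 1, by omega, by omega, by omega, k - 1, by omega⟩
    obtain ⟨Δ, x, h5, h6, h7, g, h8, h9⟩ := exists_cyc (α := Fin n) (m := m) (by simpa using h1) (by omega)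
    haveI : (alternatingGroup (Fin n)).subtype.range.Normal := by rw [range_subtype]; infer_instance
    refine big (alternatingGroup (Fin n)).subtype (subtype_injective _) (Δ := Δ) (by simpa [h5] using h2) (by omega)
      (by rw [range_subtype, mem_alternatingGroup, h7, h4.neg_one_pow, neg_neg]) h6 (fun e => h9 ?_) h
    exact (e ▸ mem_top _ : (⟨g, h8⟩ : alternatingGroup (Fin n)) ∈ (stab Δ).comap _)
  · rcases hn.eq_or_lt with rfl | hn
    · exact s4 h
    obtain ⟨Δ, x, h5, h6, h7, g, h8, h9⟩ := exists_cyc (α := Fin n) (m := n - 1) (by simp; omega) (by omega)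
    haveI : (MonoidHom.id (Perm (Fin n))).range.Normal := by
      rw [MonoidHom.range_eq_top.2 Function.surjective_id]; infer_instance
    refine big (MonoidHom.id _) Function.injective_id (Δ := Δ) (by simp [h5]; omega) (by omega)
      ⟨x, rfl⟩ h6 (fun e => h9 ?_) h
    exact (e ▸ mem_top _ : g ∈ (stab Δ).comap (MonoidHom.id _))

end Cfsg.Agent.S3892
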