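import Cfsg.Statements.S3893
import Cfsg.Agent.Sz.Part

set_option autoImplicit false
open Cfsg

namespace Cfsg.Agent.S3893

open Sz in
theorem aux (F : Type*) [Field F] [Finite F] [Tits F] (G : Type*) [Group G] [SzRep F G] :
    ¬ ∃ 𝓐 : Finset (Subgroup G), ((∀ A ∈ 𝓐, A ≠ ⊤) ∧ (∀ g : G, ∃ A ∈ 𝓐, g ∈ A)) ∧
    (∀ 𝓑 : Finset (Subgroup G), (∀ A ∈ 𝓑, A ≠ ⊤) ∧ (∀ g : G, ∃ A ∈ 𝓑, g ∈ A) → 𝓐.card ≤ 𝓑.card) ∧
    (∀ A ∈ 𝓐, Group.IsNilpotent A) := by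
  classical
  rintro ⟨𝓐, ⟨h1, h2⟩, h3, h4⟩
  haveI := finite_G F G
  haveI : Finite (Subgroup G) := Finite.of_injective _ SetLike.coe_injective
  have hB : B F G ≠ ⊤ := fun h => T_not_mem_B (F := F) (h ▸ Subgroup.mem_top (T F G))
  -- the partition has at most as many members as `𝓐`
  let P : Set (Subgroup G) := {A | IsPart F A}
  have hP : P.ncard ≤ 𝓐.card := by
    have : ∀ A : P, ∃ C ∈ 𝓐, C ≠ ⊥ ∧ C ≤ A := by
      rintro ⟨A, hA⟩
      obtain ⟨g, hg, hg1⟩ := IsPart.exists_ne_one hA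
      obtain ⟨C, hC, hgC⟩ := h2 g
      haveI := h4 C hC
      exact ⟨C, hC, fun h => hg1 (by rwa [h] at hgC), IsPart.le_of_nilpotent hA hg hgC hg1⟩
    choose f hf1 hf2 hf3 using this
    rw [← Nat.card_coe_set_eq, ← Nat.card_eq_finsetCard]
    refine Nat.card_le_card_of_injective (fun A => (⟨f A, hf1 A⟩ : 𝓐)) fun A A' h => ?_
    have h : f A = f A' := congrArg Subtype.val h
    obtain ⟨g, hg, hg1⟩ := (f A).bot_or_exists_ne_one.resolve_left (hf2 A)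
    exact Subtype.ext (IsPart.eq_of_mem A.2 A'.2 (hf3 A hg) (hf3 A' (h ▸ hg)) hg1)
  -- a smaller cover
  let Q : Set (Subgroup G) := {A | IsPart F A ∧ ¬ ∃ x, A = cj x (H F G)}
  have hQ : Q.ncard < P.ncard :=
    Set.ncard_lt_ncard ⟨fun A hA => hA.1, fun h => (h (isPart_H (F := F) (G := G))).2 ⟨1, (cj_one _).symm⟩⟩
  have hQ' : ((fun A : Subgroup G => Subgroup.normalizer (A : Set G)) '' Q).ncard ≤ Q.ncard :=
    Set.ncard_image_le
  have := h3 ((fun A : Subgroup G => Subgroup.normalizer (A : Set G)) '' Q).toFinite.toFinset ⟨?_, ?_⟩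
  · rw [← Set.ncard_eq_toFinset_card] at this
    omega
  · intro A hA
    rw [Set.Finite.mem_toFinset] at hA
    obtain ⟨C, ⟨hC, hC'⟩, rfl⟩ := hA
    intro h
    haveI := isSimpleGroup F G
    rcases (Subgroup.normalizer_eq_top_iff.1 h).eq_bot_or_eq_top with h | h
    · exact hC.ne_bot h
    · have h5 := hC.eq_of_mem isPart_U (g := S G (0 : F) 1) (h ▸ Subgroup.mem_top _) (S_mem_Z 1 |> Z_le_U)
        (by simp [S_eq_one])
      exact hB (top_le_iff.1 (h ▸ h5 ▸ U_le_B))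
  · intro g
    have hU : ∀ x : G, ¬ ∃ y, cj x (U F G) = cj y (H F G) := by
      rintro x ⟨y, h⟩
      have := card_cj x (U F G)
      rw [h, card_cj, card_U, card_H] at this
      have := four_le_card F
      have : Nat.card F ≤ Nat.card F ^ 2 := Nat.le_self_pow two_ne_zero _
      omega
    obtain ⟨A, hA, hg⟩ := exists_part F g
    by_cases h : ∃ x, A = cj x (H F G)
    · obtain ⟨x, rfl⟩ := h
      refine ⟨_, (Set.Finite.mem_toFinset _).2 ⟨_, ⟨isPart_U.conj x, hU x⟩, rfl⟩, ?_⟩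
      show g ∈ Subgroup.normalizer _
      rw [normalizer_cj, normalizer_U]
      exact cj_le_cj.2 H_le_B hg
    · exact ⟨_, (Set.Finite.mem_toFinset _).2 ⟨A, ⟨hA, h⟩, rfl⟩, Subgroup.le_normalizer hg⟩

/-- A cover of a group is a finite set of proper subgroups whose union is the whole group; it is minimal when no cover has fewer members, and nilpotent when all its members are nilpotent. The Suzuki groups Sz(q), q = 2^(2m+1) with m ≥ 1, have no nilpotent minimal cover. -/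
theorem result {F : Type*} [Field F] [Fintype F] (m : ℕ) (hm : 1 ≤ m) (hF : Fintype.card F = 2 ^ (2 * m + 1)) :
    ¬ ∃ 𝓐 : Finset (Subgroup ↥(Cfsg.Lie.Sz F (2 ^ (m + 1)))), ((∀ A ∈ 𝓐, A ≠ ⊤) ∧ (∀ g : ↥(Cfsg.Lie.Sz F (2 ^ (m + 1))), ∃ A ∈ 𝓐, g ∈ A)) ∧ (∀ 𝓑 : Finset (Subgroup ↥(Cfsg.Lie.Sz F (2 ^ (m + 1)))), (∀ A ∈ 𝓑, A ≠ ⊤) ∧ (∀ g : ↥(Cfsg.Lie.Sz F (2 ^ (m + 1))), ∃ A ∈ 𝓑, g ∈ A) → 𝓐.card ≤ 𝓑.card) ∧ (∀ A ∈ 𝓐, Group.IsNilpotent ↥A) := by
  let := Sz.titsOfCard hm hF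
  let := Sz.lieRep (Sz.titsOfCard_θ hm hF)
  exact aux F _

end Cfsg.Agent.S3893
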