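import Cfsg.Statements.S3894
import Cfsg.Agent.Classical.NilCov

set_option autoImplicit false
open Cfsg

namespace Cfsg.Agent.S3894

open Cfsg.Agent.Classical

/-- A cover of a group is a finite set of proper subgroups whose union is the whole group; it is minimal when no cover has fewer members, and nilpotent when all its members are nilpotent. Let F be a finite field with q elements and n ≥ 3, or n = 2 and q ≥ 4. Then no subgroup of PGL_n(F) = GL_n(F)/Z(GL_n(F)) containing the image of SL_n(F) has a nilpotent minimal cover. -/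
theorem result {F : Type*} [Field F] [Fintype F] (n : ℕ) (hn : 3 ≤ n ∨ (n = 2 ∧ 4 ≤ Fintype.card F))
    (G : Subgroup (GL (Fin n) F ⧸ Subgroup.center (GL (Fin n) F)))
    (hG : ((Matrix.SpecialLinearGroup.toGL : Matrix.SpecialLinearGroup (Fin n) F →* GL (Fin n) F).range).map
      (QuotientGroup.mk' (Subgroup.center (GL (Fin n) F))) ≤ G) :
    ¬ ∃ 𝓐 : Finset (Subgroup ↥G), ((∀ A ∈ 𝓐, A ≠ ⊤) ∧ (∀ g : ↥G, ∃ A ∈ 𝓐, g ∈ A)) ∧ (∀ 𝓑 : Finset (Subgroup ↥G), (∀ A ∈ 𝓑, A ≠ ⊤) ∧ (∀ g : ↥G, ∃ A ∈ 𝓑, g ∈ A) → 𝓐.card ≤ 𝓑.card) ∧ (∀ A ∈ 𝓐, Group.IsNilpotent ↥A) := by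
  rintro ⟨𝓐, h⟩
  have h1 : ∀ g, Matrix.SpecialLinearGroup.toPGL g ∈ (G : Subgroup (Matrix.ProjGenLinGroup (Fin n) F)) :=
    fun g => hG ⟨_, ⟨g, rfl⟩, rfl⟩
  obtain h2 | ⟨rfl, h2⟩ := hn
  · obtain ⟨m, rfl⟩ := Nat.exists_eq_add_of_le' h2
    exact ncov_pgl m h1 h
  · exact ncov_pgl2 (Nat.card_eq_fintype_card (α := F) ▸ h2) (by
      rintro _ ⟨g, rfl⟩
      obtain ⟨g, rfl⟩ := pslMk_surjective g
      exact h1 g) h

end Cfsg.Agent.S3894
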