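import Cfsg.Statements.S3896
import Cfsg.Agent.HalfCl.A

set_option autoImplicit false
open Cfsg

namespace Cfsg.Agent.S3896

open Subgroup Cfsg.Agent.BG Cfsg.Agent.Invol Cfsg.Agent.HalfCl
section
variable {G : Type*} [Group G] [Finite G]

theorem one_of {p q k j : ℕ} (h : Nat.Coprime p q) {w : G} (h1 : w ^ p ^ k = 1) (h2 : w ^ (q ^ j) = 1) : w = 1 :=
  orderOf_eq_one_iff.1 (Nat.eq_one_of_dvd_coprimes (h.pow k j) (orderOf_dvd_of_pow_eq_one h1)
    (orderOf_dvd_of_pow_eq_one h2))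

theorem mv (P : Sylow 2 G) (hO : pPrimeCore 2 G = ⊥) {g x : G} (hg : Odd (orderOf g))
    (h : x⁻¹ * (g * x * g⁻¹) ∈ center G) : g * x * g⁻¹ = x := by
  obtain ⟨w, hw, e⟩ : ∃ w ∈ center G, g * x * g⁻¹ = x * w := ⟨_, h, by group⟩
  have k : ∀ j : ℕ, g ^ j * x * (g ^ j)⁻¹ = x * w ^ j := fun j => by
    induction j with
    | zero => simp
    | succ j ih =>
      rw [show g ^ (j + 1) * x * (g ^ (j + 1))⁻¹ = g * (g ^ j * x * (g ^ j)⁻¹) * g⁻¹ by group, ih, ← conj_mul, e,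
        mem_center_iff.1 (pow_mem hw j) g, mul_inv_cancel_right, mul_assoc, ← pow_succ']
  have h1 := k (orderOf g)
  rw [pow_orderOf_eq_one, one_mul, inv_one, mul_one, left_eq_mul] at h1
  obtain ⟨n, hn⟩ := P.isPGroup' ⟨w, center_le P hO hw⟩
  rw [e, one_of (j := 1) (w := w) ((Nat.coprime_two_left).2 hg) (congrArg Subtype.val hn) (by rwa [pow_one]), mul_one]

theorem cfg (P : Sylow 2 G) (hO : pPrimeCore 2 G = ⊥)
    (hk : 2 * Nat.card {c : ConjClasses G // ∀ x ∈ c.carrier, ∃ k : ℕ, orderOf x = 2 ^ k} = Nat.card (P : Subgroup G))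
    {D : Subgroup G} (hD : D ≤ P) {g : G} (hg : g ∈ N[D]) (ho : Odd (orderOf g)) {a b c : G} (ha : a ∈ D)
    (hb : g * a * g⁻¹ = b) (hc : g * b * g⁻¹ = c) (n : b ≠ a) :
    (b ∈ D ∧ c ∈ D) ∧ (a⁻¹ * b ∉ center G ∧ a⁻¹ * c ∉ center G ∧ b⁻¹ * c ∉ center G) ∧ g * c * g⁻¹ = a ∧
      (cl P a).card = 3 ∧ (∀ y ∈ (P : Subgroup G), IsConj a y → y = a ∨ y = b ∨ y = c) ∧
      ∀ x ∈ D, x ∈ center G ∨ a⁻¹ * x ∈ center G ∨ b⁻¹ * x ∈ center G ∨ c⁻¹ * x ∈ center G := by
  classical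
  have cD : ∀ x ∈ D, g * x * g⁻¹ ∈ D := fun x hx => (mem_normalizer_iff.1 hg x).1 hx
  have two : ∀ x, g * (g * x * g⁻¹) * g⁻¹ = x → g * x * g⁻¹ = x := fun x e => by
    obtain ⟨k, hk⟩ := exists_sq_pow_eq_of_odd ho
    have : Commute (g * g) x := mul_inv_eq_iff_eq_mul.1 (by
      rw [show g * g * x * (g * g)⁻¹ = g * (g * x * g⁻¹) * g⁻¹ by group, e])
    rw [mul_inv_eq_iff_eq_mul, ← hk]; exact this.pow_left k
  have o2 : Odd (orderOf (g * g)) := ho.of_dvd_nat (by rw [← pow_two]; exact orderOf_pow_dvd 2)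
  have dist : ∀ x, g * x * g⁻¹ ≠ x → x⁻¹ * (g * x * g⁻¹) ∉ center G ∧ x⁻¹ * (g * (g * x * g⁻¹) * g⁻¹) ∉ center G ∧
      (g * x * g⁻¹)⁻¹ * (g * (g * x * g⁻¹) * g⁻¹) ∉ center G := fun x hx =>
    ⟨fun m => hx (mv P hO ho m), fun m => hx (two x (by
      have := mv P hO o2 (x := x) (by rwa [show g * g * x * (g * g)⁻¹ = g * (g * x * g⁻¹) * g⁻¹ by group])
      rwa [show g * g * x * (g * g)⁻¹ = g * (g * x * g⁻¹) * g⁻¹ by group] at this)),
      fun m => hx (by simpa using mv P hO ho m)⟩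
  have ne : ∀ {u v : G}, u⁻¹ * v ∉ center G → u ≠ v := fun h e => h (by rw [e, inv_mul_cancel]; exact one_mem _)
  subst hb hc
  have bD := cD a ha
  have cD' := cD _ bD
  obtain ⟨h1, h2, h3⟩ := dist a n
  have cj1 : ∀ x : G, IsConj x (g * x * g⁻¹) := fun x => isConj_iff.2 ⟨g, rfl⟩
  obtain ⟨k3, kT⟩ := key P hO hk (hD ha) (hD bD) (hD cD') (cj1 a) ((cj1 a).trans (cj1 _)) h1 h2 h3
  have cls : ∀ y ∈ (P : Subgroup G), IsConj a y → y = a ∨ y = g * a * g⁻¹ ∨ y = g * (g * a * g⁻¹) * g⁻¹ :=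
    fun y hy h => by
      have : ({a, g * a * g⁻¹, g * (g * a * g⁻¹) * g⁻¹} : Finset G) = cl P a :=
        Finset.eq_of_subset_of_card_le (by
          simp only [Finset.insert_subset_iff, Finset.singleton_subset_iff, mem_cl]
          exact ⟨⟨hD ha, IsConj.refl a⟩, ⟨hD bD, cj1 a⟩, hD cD', (cj1 a).trans (cj1 _)⟩)
          (by rw [k3, Finset.card_eq_three.2 ⟨_, _, _, ne h1, ne h2, ne h3, rfl⟩])
      simpa only [← this, Finset.mem_insert, Finset.mem_singleton] using mem_cl.2 ⟨hy, h⟩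
  have e3 : g * (g * (g * a * g⁻¹) * g⁻¹) * g⁻¹ = a := by
    rcases cls _ (hD (cD _ cD')) (((cj1 a).trans (cj1 _)).trans (cj1 _)) with e | e | e
    · exact e
    · exact absurd (mul_left_cancel (mul_right_cancel e)).symm (ne h2)
    · exact absurd (mul_left_cancel (mul_right_cancel e)).symm (ne h3)
  have mT : ∀ x ∈ D, g * x * g⁻¹ ≠ x → _ := fun x hx m => kT x (hD hx) (three_le (mem_cl.2 ⟨hD hx, IsConj.refl x⟩)
    (mem_cl.2 ⟨hD (cD x hx), cj1 x⟩) (mem_cl.2 ⟨hD (cD _ (cD x hx)), (cj1 x).trans (cj1 _)⟩) (ne (dist x m).1)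
    (ne (dist x m).2.1) (ne (dist x m).2.2))
  refine ⟨⟨bD, cD'⟩, ⟨h1, h2, h3⟩, e3, k3, cls, fun r hr => ?_⟩
  by_cases f : g * r * g⁻¹ = r
  swap
  · exact .inr (mT r hr f)
  left
  have cube : r ^ 3 ∈ center G → r ∈ center G := fun m => by
    obtain ⟨n, hn⟩ := P.isPGroup' ⟨r, hD hr⟩
    refine (QuotientGroup.eq_one_iff r).1 (one_of (p := 2) (q := 3) (k := n) (j := 1) (by decide) ?_ ?_)
    · rw [← QuotientGroup.mk_pow, show r ^ 2 ^ n = 1 from congrArg Subtype.val hn, QuotientGroup.mk_one]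
    · rw [← QuotientGroup.mk_pow, pow_one, QuotientGroup.eq_one_iff]; exact m
  have step : ∀ {u v w : G}, w ∈ center G → r * u = v * w → r * (g * u * g⁻¹) = g * v * g⁻¹ * w := fun {u v w} hw e => by
    rw [← f, conj_mul, e, ← conj_mul, mem_center_iff.1 hw g, mul_inv_cancel_right]
  have fin3 : ∀ {u v t w : G}, w ∈ center G → r * u = v * w → r * v = t * w → r * t = u * w → r ∈ center G :=
    fun {u v t w} hw e1 e2 e3 => cube (by
      have : r ^ 3 * u = u * w ^ 3 := by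
        rw [pow_three, mul_assoc, mul_assoc, e1, ← mul_assoc r v, e2, ← mul_assoc, ← mul_assoc, e3, pow_three]; group
      rw [mem_center_iff.1 (pow_mem hw 3) u, mul_left_inj] at this
      exact this ▸ pow_mem hw 3)
  rcases mT (r * a) (mul_mem hr ha) (by rw [← conj_mul, f]; exact fun e => n (mul_left_cancel e)) with m | m | m
  · have := (inferInstance : (center G).Normal).conj_mem _ m a
    rwa [show a * (a⁻¹ * (r * a)) * a⁻¹ = r by group] at this
  · have e1 : r * a = g * a * g⁻¹ * ((g * a * g⁻¹)⁻¹ * (r * a)) := by group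
    have e2 := step m e1
    have e4 := step m e2
    rw [e3] at e4
    exact fin3 m e1 e2 e4
  · have e1 : r * a = g * (g * a * g⁻¹) * g⁻¹ * ((g * (g * a * g⁻¹) * g⁻¹)⁻¹ * (r * a)) := by group
    have e2 := step m e1
    rw [e3] at e2
    exact fin3 m e1 (step m e2) e2
end

/-- Let G be a finite group whose largest normal subgroup of odd order is trivial, let P be a Sylow 2-subgroup of G, and suppose the number of conjugacy classes of G consisting of 2-elements (elements of 2-power order, the identity included) is exactly |P|/2. Then G/Z(G) is isomorphic to the alternating or the symmetric group of degree 4, or G/Z(G) has a normal non-abelian simple subgroup with trivial centralizer that is isomorphic to PSL₂(q) for some prime power q > 3 with q ≡ 3 or 5 (mod 8). -/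
theorem result {G : Type*} [Group G] [Finite G] (P : Sylow 2 G) (hO : Cfsg.pPrimeCore 2 G = ⊥)
    (hk : 2 * Nat.card {c : ConjClasses G // ∀ x ∈ c.carrier, ∃ k : ℕ, orderOf x = 2 ^ k} = Nat.card ↥(P : Subgroup G)) :
    Nonempty (G ⧸ Subgroup.center G ≃* ↥(alternatingGroup (Fin 4))) ∨ Nonempty (G ⧸ Subgroup.center G ≃* Equiv.Perm (Fin 4)) ∨
    ∃ S : Subgroup (G ⧸ Subgroup.center G), S.Normal ∧ IsSimpleGroup ↥S ∧ ¬ IsMulCommutative ↥S ∧
      Subgroup.centralizer (S : Set (G ⧸ Subgroup.center G)) = ⊥ ∧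
      ∃ (F : Type) (_ : Field F) (_ : Fintype F), 3 < Fintype.card F ∧ (Fintype.card F % 8 = 3 ∨ Fintype.card F % 8 = 5) ∧
        Nonempty (↥S ≃* Matrix.ProjectiveSpecialLinearGroup (Fin 2) F) := by
  have := Fact.mk Nat.prime_two
  have nT : ¬ ∀ D : Subgroup G, D ≤ P → (P : Subgroup G) ⊓ centralizer (D : Set G) ≤ D → Triv D := fun h => by
    obtain ⟨Q, N, hN, hc⟩ := complement_of_triv P h
    have oN : Odd (Nat.card N) := by
      rw [← hc.index_eq_card]; exact Nat.odd_iff.2 (by have := Q.not_dvd_index; omega)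
    obtain rfl : N = ⊥ := eq_bot_iff.2 (hO ▸ le_oddCore oN)
    have hG : IsPGroup 2 G := by
      have := Q.isPGroup'
      rw [isComplement'_bot_left.1 hc] at this
      exact this.of_equiv topEquiv
    refine not_half hG ?_
    rw [← Subgroup.card_top (G := G), P.is_maximal' (hG.to_subgroup ⊤) le_top, ← hk]
    exact congrArg (2 * ·) (Nat.card_congr (Equiv.subtypeUnivEquiv fun c x _ => IsPGroup.iff_orderOf.1 hG x).symm)
  push Not at nT
  obtain ⟨D, hD, hC, nT⟩ := nT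
  simp only [Triv, not_forall, not_exists, not_and] at nT
  obtain ⟨g, hg, ho, nT⟩ := nT
  obtain ⟨a0, ha0, n0⟩ := nT 1 (one_mem D)
  rw [one_mul, inv_one, mul_one] at n0
  obtain ⟨a, ha, n, ca⟩ : ∃ a ∈ D, g * a * g⁻¹ ≠ a ∧ ∀ s ∈ (P : Subgroup G), s * a * s⁻¹ = a := by
    obtain ⟨⟨bD, cD⟩, ⟨h1, h2, h3⟩, e3, k3, cls, -⟩ := cfg P hO hk hD hg ho ha0 rfl rfl n0
    letI : MulAction (P : Subgroup G) (cl (P : Subgroup G) a0) :=
      { smul := fun s y => ⟨s * y * (s : G)⁻¹, mem_cl.2 ⟨mul_mem (mul_mem s.2 (mem_cl.1 y.2).1) (inv_mem s.2),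
          (mem_cl.1 y.2).2.trans (isConj_iff.2 ⟨s, rfl⟩)⟩⟩
        one_smul := fun y => Subtype.ext (by change (1 : G) * y * 1⁻¹ = y; simp)
        mul_smul := fun s t y => Subtype.ext (by
          change (s : G) * t * y * ((s : G) * t)⁻¹ = s * (t * y * (t : G)⁻¹) * (s : G)⁻¹; group) }
    obtain ⟨⟨u, hu⟩, fu⟩ := P.isPGroup'.nonempty_fixed_point_of_prime_not_dvd_card (cl (P : Subgroup G) a0)
      (by rw [Nat.card_eq_fintype_card, Fintype.card_coe, k3]; decide)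
    have ne : ∀ {u v : G}, u⁻¹ * v ∉ center G → v ≠ u := fun h e => h (by rw [e, inv_mul_cancel]; exact one_mem _)
    refine ⟨u, ?_, ?_, fun s hs => congrArg Subtype.val (fu ⟨s, hs⟩)⟩ <;>
      rcases cls u (mem_cl.1 hu).1 (mem_cl.1 hu).2 with rfl | rfl | rfl
    exacts [ha0, bD, cD, n0, ne h3, e3.symm ▸ (ne h2).symm]
  obtain ⟨b, hb⟩ : ∃ b, g * a * g⁻¹ = b := ⟨_, rfl⟩
  obtain ⟨c, hc⟩ : ∃ c, g * b * g⁻¹ = c := ⟨_, rfl⟩
  obtain ⟨⟨bD, cD⟩, ⟨h1, h2, h3⟩, e3, -, cls, dec⟩ := cfg P hO hk hD hg ho ha hb hc (hb ▸ n)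
  have ab : IsConj a b := isConj_iff.2 ⟨g, hb⟩
  have ac : IsConj a c := ab.trans (isConj_iff.2 ⟨g, hc⟩)
  have ZP := center_le P hO
  have ZD : center G ≤ D := fun z hz => hC ⟨ZP hz, mem_cent.2 fun x _ => mem_center_iff.1 hz x⟩
  let π := QuotientGroup.mk' (center G)
  have eq : ∀ u v : G, π u = π v ↔ u⁻¹ * v ∈ center G := fun u v => QuotientGroup.eq
  have ne : ∀ {u v : G}, u⁻¹ * v ∉ center G → u ≠ v := fun h e => h (by rw [e, inv_mul_cancel]; exact one_mem _)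
  have cπ : ∀ {u v : G}, IsConj u v → IsConj (π u) (π v) := fun h => π.map_isConj h
  refine fin (pPrimeCore_quotient_central hO _ le_rfl (P.isPGroup'.to_le ZP))
    (P.mapSurjective (QuotientGroup.mk'_surjective _)) (V := D.map π) (map_mono hD) (a := π a) (b := π b) (c := π c)
    (fun x => ⟨?_, ?_⟩) (fun e => n ?_) (mt (eq _ _).1 h1) (mt (eq _ _).1 h2) (mt (eq _ _).1 h3) (cπ ab) (cπ ac) ?_ ?_
  · rintro ⟨x, hx, rfl⟩
    rcases dec x hx with m | m | m | m
    exacts [.inl ((QuotientGroup.eq_one_iff x).2 m), .inr (.inl ((eq _ _).2 m).symm),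
      .inr (.inr (.inl ((eq _ _).2 m).symm)), .inr (.inr (.inr ((eq _ _).2 m).symm))]
  · rintro (rfl | rfl | rfl | rfl)
    exacts [one_mem _, mem_map_of_mem π ha, mem_map_of_mem π bD, mem_map_of_mem π cD]
  · rw [mem_center_iff.1 ((QuotientGroup.eq_one_iff a).1 e) g, mul_inv_cancel_right]
  · rintro _ ⟨y, hy, rfl⟩ h
    obtain ⟨h, e⟩ := isConj_iff.1 h
    obtain ⟨h, rfl⟩ := QuotientGroup.mk'_surjective _ h
    have m := (eq y (h * a * h⁻¹)).1 (by rw [map_mul, map_mul, map_inv]; exact e.symm)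
    have : h * a * h⁻¹ ∈ D := by
      rcases cls _ ((mul_mem_cancel_left (inv_mem hy)).1 (ZP m)) (isConj_iff.2 ⟨h, rfl⟩) with f | f | f <;> rw [f]
      exacts [ha, bD, cD]
    exact mem_map_of_mem π (inv_mem_iff.1 ((mul_mem_cancel_right this).1 (ZD m)))
  · rintro _ ⟨s, hs, rfl⟩
    by_cases sD : s ∈ D
    · exact .inl (mem_map_of_mem π sD)
    have k : ∀ y ∈ D, IsConj a y → s * y * s⁻¹ = a ∨ s * y * s⁻¹ = b ∨ s * y * s⁻¹ = c := fun y hy h =>
      cls _ (mul_mem (mul_mem hs (hD hy)) (inv_mem hs)) (h.trans (isConj_iff.2 ⟨s, rfl⟩))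
    have inj : ∀ {u v : G}, s * u * s⁻¹ = s * v * s⁻¹ → u = v := fun e => mul_left_cancel (mul_right_cancel e)
    have : s * b * s⁻¹ = c := by
      rcases k b bD ab with e | e | e
      · exact absurd (inj ((ca s hs).trans e.symm)) (ne h1)
      · have e' : s * c * s⁻¹ = c := by
          rcases k c cD ac with f | f | f
          exacts [absurd (inj ((ca s hs).trans f.symm)) (ne h2), absurd (inj (e.trans f.symm)) (ne h3), f]
        have z : ∀ u x, s * u * s⁻¹ = u → u⁻¹ * x ∈ center G → x * s = s * x := fun u x hu m => by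
          rw [← mul_inv_cancel_left u x, mul_assoc, ← mem_center_iff.1 m s, ← mul_assoc, ← mul_inv_eq_iff_eq_mul.1 hu,
            mul_assoc]
        refine absurd (hC ⟨hs, mem_cent.2 fun x hx => ?_⟩) sD
        rcases dec x hx with m | m | m | m
        exacts [(mem_center_iff.1 m s).symm, z a x (ca s hs) m, z b x e m, z c x e' m]
      · exact e
    refine .inr ⟨?_, ?_⟩ <;> rw [← map_inv, ← map_mul, ← map_mul]
    exacts [congrArg π (ca s hs), congrArg π this]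

end Cfsg.Agent.S3896
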