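import Cfsg.Statements.S4040
import Cfsg.Agent.FG.NilMax
import Cfsg.Agent.S0117
import Cfsg.Agent.PLocal.Thompson

set_option autoImplicit false
open Cfsg

namespace Cfsg.Agent.S4040

open Cfsg.Agent.BG Cfsg.Agent.FG Subgroup

/-- A finite group possessing a maximal subgroup that is nilpotent of odd order is solvable. -/
theorem result {G : Type*} [Group G] [Finite G]
    (M : Subgroup G) (hmax : IsCoatom M) (hnil : Group.IsNilpotent M) (hodd : Odd (Nat.card M)) :
    Group.IsSolvable G := by
  refine sol_of_core hmax (nilpotent_sol hnil) fun h1 h2 => ?_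
  have h3 := nilpotent_map (QuotientGroup.mk' M.normalCore) hnil
  have h4 := hodd.of_dvd_nat (card_map_dvd M (QuotientGroup.mk' M.normalCore))
  generalize M.map (QuotientGroup.mk' M.normalCore) = L at h1 h2 h3 h4
  refine sol_of_corefree h1 h2 h3 fun p hp P h5 e => (S0117.result ?_ P).2 ?_
  · rintro rfl
    exact (Nat.not_even_iff_odd.2 h4) (even_iff_two_dvd.2 h5)
  have h6 : L ≤ N[(P : Subgroup _)] := e ▸ (pcore_normal _ _).norm
  have h7 := e.trans_ne (Sylow_ne_bot (nilpotent_pcore_Hall _ h3) h5)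
  rw [norm_eq_of_corefree h1 h2 ⟨(PLocal.ZJ_le _ _).trans (e.trans_le (pcore_sub _ _)),
    h6.trans (PLocal.normalizer_le_normalizer_ZJ _ _)⟩ (PLocal.ZJ_ne_bot P.isPGroup' h7)]
  exact Transfer.hasNormalPComplement_of_isNilpotent

end Cfsg.Agent.S4040
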