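import Cfsg.Statements.S3903
import Cfsg.Agent.S4040
import Cfsg.Agent.Transfer.Frobenius
import Cfsg.Agent.Loc.PGrp
import Cfsg.Agent.BG.Base6
import Cfsg.Agent.FTC.Aniso

set_option autoImplicit false
open Cfsg

namespace Cfsg.Agent.S3903

section helpers
open Cfsg.Agent.Loc Subgroup
open scoped commutatorElement

theorem pg_of {G : Type*} [Group G] [Finite G] {p : ℕ} (hp : p.Prime) {A : Subgroup G}
    (h : ∀ a ∈ A, (orderOf a).Coprime p → a = 1) : IsPGroup p A :=
  IsPGroup.of_card (Nat.eq_prime_pow_of_unique_prime_dvd Nat.card_pos.ne' fun {q} hq hd => by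
    have := Fact.mk hq
    obtain ⟨x, hx⟩ := exists_prime_orderOf_dvd_card' q hd
    by_contra e
    have := h x x.2 (by rw [orderOf_coe, hx]; exact (Nat.coprime_primes hq hp).2 e)
    exact hq.ne_one (by rw [← hx, ← orderOf_coe, this, orderOf_one]))

end helpers

/-- Let N be a proper normal subgroup of the finite group G such that every element x of G outside N has prime power order and has centralizer C_G(x) a maximal subgroup of G. Then N is solvable. -/
theorem result {G : Type*} [Group G] [Finite G] (N : Subgroup G) [N.Normal] (hN : N ≠ ⊤)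
    (h : ∀ x : G, x ∉ N → IsPrimePow (orderOf x) ∧ IsCoatom (Subgroup.centralizer ({x} : Set G))) : Group.IsSolvable ↥N := by
  open Cfsg.Agent.Loc Subgroup in
  open scoped commutatorElement in
  have key : ∀ x ∉ N, ∀ p k : ℕ, orderOf x = p ^ k → ∀ y : G, Commute x y → (orderOf y).Coprime p → y = 1 := by
    intro x hx p k hk y c hy
    have co : (orderOf x).Coprime (orderOf y) := hk ▸ hy.symm.pow_left k
    by_cases hxy : x * y ∈ N
    · obtain ⟨m, hm⟩ := exists_pow_eq_self_of_coprime co.symm
      have := pow_mem (pow_mem hxy (orderOf y)) m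
      rw [c.mul_pow, pow_orderOf_eq_one, mul_one, hm] at this
      exact absurd this hx
    have h1 := (h _ hxy).1
    rw [c.orderOf_mul_eq_mul_orderOf_of_coprime co] at h1
    rcases (co.isPrimePow_dvd_mul h1).1 dvd_rfl with e | e
    · exact orderOf_eq_one_iff.1 (Nat.dvd_one.1 ((Nat.mul_dvd_mul_iff_left (orderOf_pos x)).1 (by rwa [mul_one])))
    · have : orderOf x = 1 := Nat.dvd_one.1 ((Nat.mul_dvd_mul_iff_right (orderOf_pos y)).1 (by rwa [one_mul]))
      exact absurd (orderOf_eq_one_iff.1 this ▸ one_mem N) hx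
  suffices Group.IsSolvable G from inferInstance
  have pc : ∀ x ∉ N, ∀ p k : ℕ, p.Prime → orderOf x = p ^ k → IsPGroup p (centralizer ({x} : Set G)) :=
    fun x hx p k hp hk => pg_of hp fun a ha =>
      key x hx p k hk a (mem_centralizer_singleton_iff.1 ha).symm
  by_cases h2 : ∀ x ∉ N, ∃ k, orderOf x = 2 ^ k
  swap
  · push Not at h2
    obtain ⟨x, hx, h2⟩ := h2
    obtain ⟨p, k, hp, -, hk⟩ := (isPrimePow_nat_iff _).1 (h x hx).1
    have := Fact.mk hp
    have pg := pc x hx p k hp hk.symm
    obtain ⟨n, hn⟩ := pg.exists_card_eq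
    exact S4040.result _ (h x hx).2 pg.isNilpotent (hn ▸ (hp.odd_of_ne_two fun e => h2 k (e ▸ hk.symm)).pow)
  have nT : ∀ T : Subgroup G, IsPGroup 2 T → ¬ T ≤ N → IsPGroup 2 (normalizer (T : Set G)) := fun T pT hT =>
    pg_of Nat.prime_two fun u hu co => by
      by_contra u1
      have uN : u ∈ N := by
        by_contra e
        obtain ⟨k, hk⟩ := h2 u e
        exact u1 (key u e 2 k hk u (Commute.refl _) co)
      obtain ⟨n, hn⟩ := pT.exists_card_eq
      have := pT.isNilpotent
      refine hT (BG.coprime_cent_prod (zpowers_le.2 hu) (by rw [hn, Nat.card_zpowers]; exact co.symm.pow_left n)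
        inferInstance ▸ sup_le ((commutator_mono le_rfl (zpowers_le.2 uN)).trans (Subgroup.commutator_le_right _ _))
        fun y hy => ?_)
      by_contra e
      obtain ⟨k, hk⟩ := h2 y e
      exact u1 (key y e 2 k hk u (hy.2 u (mem_zpowers u)).symm co)
  obtain ⟨x, hx⟩ : ∃ x, x ∉ N := by
    by_contra hcon
    push Not at hcon
    exact hN (eq_top_iff.2 fun x _ => hcon x)
  obtain ⟨k, hk⟩ := h2 x hx
  have pS := pc x hx 2 k Nat.prime_two hk
  obtain ⟨S, hS, hle⟩ := exists_sylIn_ge le_top pS
  rcases (h x hx).2.le_iff.1 hle with e | e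
  · have := (hS.pg.of_equiv ((MulEquiv.subgroupCongr e).trans topEquiv)).isNilpotent
    infer_instance
  subst e
  obtain ⟨P, K, nK, hK⟩ : HasNormalPComplement 2 G := Transfer.hasNormalPComplement_of_forall_isPGroup fun D pD _ u hu co => by
    obtain ⟨g, -, hg⟩ := hS.exists_le_conj le_top pD
    rw [cj_centralizer_singleton] at hg
    obtain ⟨T, hT, hxT⟩ := exists_sylIn_ge (H := centralizer (D : Set G)) (zpowers_le.2 fun d hd =>
      mem_centralizer_singleton_iff.1 (hg hd)) (isPGroup_zpowers_of_orderOf (k := k) (hk ▸ (MulAut.conj g).orderOf_eq x))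
    have pN := nT T hT.pg fun e => hx (by
      simpa [mul_assoc] using (inferInstance : N.Normal).conj_mem _ (e (hxT (mem_zpowers _))) g⁻¹)
    obtain ⟨c, hc, n, hn, rfl⟩ := hT.frattini (normalizer_le_normalizer_centralizer D hu)
    obtain ⟨j, hj⟩ := exists_pow_of_isPGroup pN hn
    have nD : n ∈ normalizer (D : Set G) := by
      simpa using mul_mem (inv_mem (le_normalizer_of_le_centralizer le_rfl hc)) hu
    have : ∀ i : ℕ, (c * n) ^ i * (n ^ i)⁻¹ ∈ centralizer (D : Set G) := fun i => by
      induction i with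
      | zero => simp
      | succ i ih =>
        have := mul_mem hc (conj_mem_of_mem_normalizer (normalizer_le_normalizer_centralizer D nD) ih)
        convert this using 1
        rw [pow_succ', pow_succ']; group
    obtain ⟨m, hm⟩ := exists_pow_eq_self_of_coprime (co.symm.pow_left j)
    have := pow_mem (this (2 ^ j)) m
    rwa [hj, inv_one, mul_one, hm] at this
  have : Group.IsSolvable K := FTC.solvable_of_odd (by
    rw [← hK.index_eq_card, ← Nat.not_even_iff_odd, even_iff_two_dvd]; exact P.not_dvd_index)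
  have := (P.isPGroup'.of_equiv hK.symm.QuotientMulEquiv.symm).isNilpotent
  exact Group.isSolvable_of_ker_le_range K.subtype (QuotientGroup.mk' K) (by simp)

end Cfsg.Agent.S3903
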