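import Cfsg.Statements.S3914
import Cfsg.Agent.Gen2.EqO3

set_option autoImplicit false
open Cfsg

namespace Cfsg.Agent.S3914

/-- Let G be a finite group in which any two abelian subgroups of the same order are conjugate. If M is a non-abelian simple normal subgroup of G, then M is isomorphic to SL₂(2^f) with f ∈ {2, 3, 5}, or to PSL₂(q) for a prime power q ≥ 5 with q ≡ 3 or 5 (mod 8), or to the first Janko group J₁. -/
theorem result {G : Type*} [Group G] [Finite G] (hB : ∀ A B : Subgroup G, IsMulCommutative ↥A → IsMulCommutative ↥B → Nat.card ↥A = Nat.card ↥B → ∃ g : G, B = A.map (MulAut.conj g).toMonoidHom) (M : Subgroup G) [M.Normal] (hs : IsSimpleGroup ↥M) (hna : ¬ IsMulCommutative ↥M) :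
    (∃ (F : Type) (_ : Field F) (_ : Fintype F), (Fintype.card F = 2 ^ 2 ∨ Fintype.card F = 2 ^ 3 ∨ Fintype.card F = 2 ^ 5) ∧
        Nonempty (↥M ≃* Matrix.SpecialLinearGroup (Fin 2) F)) ∨
    (∃ (F : Type) (_ : Field F) (_ : Fintype F), 5 ≤ Fintype.card F ∧ (Fintype.card F % 8 = 3 ∨ Fintype.card F % 8 = 5) ∧
        Nonempty (↥M ≃* Matrix.ProjectiveSpecialLinearGroup (Fin 2) F)) ∨
    Cfsg.Spor.IsoJ1 ↥M := by
  obtain ⟨S⟩ : Nonempty (Sylow 2 G) := inferInstance
  rcases (Gen2.EqO.AD.simple (fun H K _ => hB H K) (fun H K _ => hB H K) hs hna S).2.2 with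
    ⟨F, i1, i2, n, hF, ⟨e⟩, -, h⟩ | ⟨F, _, _, h1, h2, e, -⟩ | h
  · have h3 : n = 2 ∨ n = 3 ∨ n = 5 := h.imp_right fun h => h.imp (·.1) (·.1)
    have h2 : (2 : F) = 0 := by
      by_contra h
      have := Classical.two_ne_zero_iff_odd.1 h
      rw [Nat.card_eq_fintype_card, hF, Nat.odd_pow_iff (by omega)] at this
      exact absurd this (by decide)
    exact .inl ⟨F, i1, i2, by rcases h3 with rfl | rfl | rfl <;> simp [hF],
      ⟨e.trans (by convert (Classical.slEquivPSL h2).symm)⟩⟩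
  · exact .inr (.inl ⟨F, _, _, h2, h1, e⟩)
  · exact .inr (.inr h)

end Cfsg.Agent.S3914
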