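import Cfsg.Statements.S3940
import Cfsg.Agent.S2754
import Cfsg.Agent.S2755
import Cfsg.Agent.LieM.PiCl
import Mathlib.Tactic.Group

set_option autoImplicit false
open Cfsg

namespace Cfsg.Agent.S3940
open scoped commutatorElement

open Subgroup Cfsg.Agent.BG Cfsg.Agent.LieM Cfsg.Agent.FG

/-- Let p > 3 be a prime and G a finite group in which every subgroup of order prime to p is nilpotent. Then G is solvable. -/
theorem result {G : Type*} [Group G] [Finite G] (p : ℕ) (hp : p.Prime) (hp3 : 3 < p)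
    (h : ∀ H : Subgroup G, (Nat.card ↥H).Coprime p → Group.IsNilpotent ↥H) : Group.IsSolvable G := by
  haveI := Fact.mk hp
  refine solvable_induction (fun G _ _ => ∀ H : Subgroup G, PiGrp {p}ᶜ H → Group.IsNilpotent H) (fun G _ _ K h H hH => ?_)
    (fun G _ _ N _ _ h H hH => ?_) (fun G _ _ _ hna _ h => ?_) G fun H hH => h H ((hp.coprime_iff_not_dvd.2 ((p'natE hp).1 hH)).symm)
  · haveI := h _ (pgroup_map K.subtype hH)
    exact Group.nilpotent_of_mulEquiv (H.equivMapOfInjective _ K.subtype_injective).symm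
  · rw [← map_comap_eq_self_of_surjective (QuotientGroup.mk'_surjective N) H] at hH ⊢
    obtain ⟨K, -, h1, h2⟩ := exists_lift_piGrp _ hH
    exact h2 ▸ nilpotent_map _ (h K h1)
  have key : ∀ x y : G, PiElt {2} x → PiElt {p}ᶜ y → Odd (orderOf y) → x * y * x⁻¹ = y⁻¹ → y = 1 := fun x y hx hy ho e => by
    exact eq_one_of_inv ho e (mem_cent.1 (sub_nilpotent_cent2 (h _ (pi_inv e (pi_pnat hx (fun h : 2 = p => by omega)) hy)) le_sup_right le_sup_left
      (pnat_coprime' (p_elt_zpowers.2 (pnat_odd.2 ho)) (p_elt_zpowers.2 hx)) (mem_zpowers y)) x (mem_zpowers x))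
  have h3 : ({3} : Set ℕ) ⊆ {p}ᶜ := by rintro _ rfl (h : 3 = p); omega
  rcases sz_or_l2 @Cfsg.Agent.S2754.result @S2755.result hna (not_S3_of_inv fun x y ⟨_, hx⟩ ⟨k, hy⟩ =>
    key x y (piElt_of_pow hx) (PiNat.mono (hy ▸ pnat_pow_self Nat.prime_three k) h3) (hy ▸ Odd.pow (by decide))) with
    hs | ⟨F, _, _, n, -, hF, ⟨e⟩⟩
  · refine hna ⟨⟨IsSimpleGroup.comm_iff_isSolvable.2 (Char.isSolvable_of_two_primes (p := 2) (q := p) fun r h1 h2 => ?_)⟩⟩
    by_contra! h4
    haveI := Fact.mk h1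
    obtain ⟨y, hy⟩ := exists_prime_orderOf_dvd_card' r h2
    have y1 : y ≠ 1 := by rintro rfl; rw [orderOf_one] at hy; exact h1.one_lt.ne hy
    obtain ⟨t, t2, e⟩ := sz_real hs (hy ▸ h1.odd_of_ne_two h4.1) y1
    exact y1 (key t y (piElt_of_pow (k := 1) t2) (by rw [PiElt, hy, pnat_prime h1]; exact h4.2) (hy ▸ h1.odd_of_ne_two h4.1) e)
  obtain ⟨T, hT, y, h1, h2, h4⟩ := three_of_four hna (Nat.card_congr e.toEquiv ▸ not_eight_dvd_psl (Or.inl (by
    rw [hF, pow_succ, pow_mul, Nat.mul_mod, Nat.pow_mod]; simp)))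
  refine h4 (sub_nilpotent_cent2 (h _ (pgroupY (.inl (zpowers_le.2 h1)) (p_elt_zpowers.2 (h2.mono h3)) (pi_pgroup hT ?_)))
    le_sup_left le_sup_right (pnat_coprime (p_elt_zpowers.2 h2) (pi_pgroup hT (by decide))) (mem_zpowers y))
  rintro (h : 2 = p); omega

end Cfsg.Agent.S3940
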