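import Cfsg.Statements.S4015
import Cfsg.Agent.Pool10.DLRep

set_option autoImplicit false
open Cfsg

namespace Cfsg.Agent.S4015

open Equiv Matrix Cfsg.Agent.Syl2 Cfsg.Agent.Pool10

/-- The block-monomial wreath datum. -/
def glW (α κ ρ : Type) [Fintype α] [DecidableEq α] [Fintype κ] [DecidableEq κ] [Fintype ρ] [DecidableEq ρ]
    (F : Type*) [Field F] [Nonempty α] : WD (GL ((α × κ) ⊕ ρ) F) (GL α F) Unit κ where
  b := (bdiag α κ ρ F).toHomUnits.comp ((MonoidHom.id _).prodMap 1)
  s := (pm F _).comp (bperm α κ ρ)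
  conj π f e := by
    refine Units.ext (ext_iff_mulVec.2 fun v => ?_)
    simp only [Units.val_mul, ← mulVec_mulVec, MonoidHom.comp_apply, pm_mulVec, MonoidHom.coe_toHomUnits]
    funext x
    rcases x with ⟨a, i⟩ | j
    · exact (bdiag_inl f 1 v a (π⁻¹ i)).trans (bdiag_inl (fun i => f (π⁻¹ i)) 1 (v ∘ ⇑(bperm α κ ρ π)⁻¹) a i).symm
    · exact (bdiag_inr f 1 v j).trans (bdiag_inr (fun i => f (π⁻¹ i)) 1 (v ∘ ⇑(bperm α κ ρ π)⁻¹) j).symm
  inj f e π h := by
    have key : ∀ v, bdiag α κ ρ F (f, 1) *ᵥ (v ∘ ⇑(bperm α κ ρ π)⁻¹) = v := fun v => by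
      have := congrArg (fun g : GL ((α × κ) ⊕ ρ) F => g.1 *ᵥ v) h
      simpa only [Units.val_mul, ← mulVec_mulVec, MonoidHom.comp_apply, pm_mulVec, MonoidHom.coe_toHomUnits,
        Units.val_one, one_mulVec] using! this
    have hπ : π = 1 := by
      refine inv_eq_one.1 (Equiv.ext fun i => ?_)
      by_contra hi
      obtain ⟨a⟩ : Nonempty α := inferInstance
      have := congrFun (key (Pi.single (.inl (a, i)) 1)) (.inl (a, i))
      rw [bdiag_inl] at this
      have h0 : (fun a' => (Pi.single (Sum.inl (a, i)) (1 : F) ∘ ⇑(bperm α κ ρ π)⁻¹ : (α × κ) ⊕ ρ → F)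
          (.inl (a', i))) = 0 := by
        funext a'
        change (Pi.single (Sum.inl (a, i)) (1 : F) : (α × κ) ⊕ ρ → F) (.inl (a', π⁻¹ i)) = 0
        rw [Pi.single_eq_of_ne]
        intro h'
        exact hi (congrArg Prod.snd (Sum.inl_injective h'))
      rw [h0] at this
      simp at this
    subst hπ
    simp only [map_one, inv_one, Perm.coe_one, Function.comp_id] at key
    refine ⟨funext fun i => Units.ext (ext_iff_mulVec.2 fun w => funext fun a => ?_), rfl, rfl⟩
    have := congrFun (key (Sum.elim (fun x => w x.1) 0)) (.inl (a, i))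
    rw [bdiag_inl] at this
    simpa using this

/-- Let p be an odd prime, F a finite field with q elements where p does not divide q, and e the multiplicative order of q modulo p. Let n ≥ e and write w = ⌊n/e⌋ and k = ⌊log_p w⌋. Then a Sylow p-subgroup of GL(n, F) has derived length exactly k + 1: its (k+1)-st derived subgroup is trivial and its k-th is not. -/
theorem result (p : ℕ) [Fact p.Prime] (hp : p ≠ 2) (F : Type*) [Field F] [Fintype F] (q : ℕ) (hq : Fintype.card F = q) (hpq : ¬ p ∣ q) (n : ℕ) (hn : orderOf (q : ZMod p) ≤ n) (P : Sylow p (Matrix.GeneralLinearGroup (Fin n) F)) : derivedSeries ↥(P : Subgroup (Matrix.GeneralLinearGroup (Fin n) F)) (Nat.log p (n / orderOf (q : ZMod p)) + 1) = ⊥ ∧ derivedSeries ↥(P : Subgroup (Matrix.GeneralLinearGroup (Fin n) F)) (Nat.log p (n / orderOf (q : ZMod p))) ≠ ⊥ := by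
  subst hq
  have hp' : p.Prime := Fact.out
  set e := orderOf (Fintype.card F : ZMod p) with he
  have h0 : ((Fintype.card F : ℕ) : ZMod p) ≠ 0 := by rwa [ne_eq, ZMod.natCast_eq_zero_iff]
  have he0 : 0 < e := he ▸ Nat.pos_of_dvd_of_pos (ZMod.orderOf_dvd_card_sub_one h0) (by have := hp'.one_lt; omega)
  refine ⟨ds_GL_odd hp hpq P.isPGroup' ?_ (Subgroup.subtype _) (Subgroup.subtype_injective _), fun h => ?_⟩
  · rw [← he, mul_comm, ← Nat.div_lt_iff_lt_mul he0]
    exact Nat.lt_pow_succ_log_self hp'.one_lt _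
  have : Nonempty (Fin e) := ⟨⟨0, he0⟩⟩
  obtain ⟨g, hg⟩ := exists_prime_orderOf_dvd_card' (G := GL (Fin e) F) p (by
    rw [Matrix.card_GL_field]
    refine Dvd.dvd.trans ?_ (Finset.dvd_prod_of_mem _ (Finset.mem_univ ⟨0, he0⟩))
    rw [← ZMod.natCast_eq_zero_iff, Nat.cast_sub (Nat.pow_le_pow_right Fintype.card_pos e.zero_le)]
    simp [he, pow_orderOf_eq_one])
  have hc : Nat.card (Subgroup.zpowers g) = p := by rw [Nat.card_zpowers, hg]
  let ε : (Fin e × Fin (n / e)) ⊕ Fin (n % e) ≃ Fin n := Fintype.equivFinOfCardEq (by simp [Nat.div_add_mod])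
  obtain ⟨K, hK, h1⟩ := ds_low (p := p) (d := 0) (Nat.log p (n / e))
    (((glW (Fin e) (Fin (n / e)) (Fin (n % e)) F).pull _ (Subgroup.zpowers g).subtype_injective).map
      (Units.mapEquiv (reindexAlgEquiv F F ε).toMulEquiv).toMonoidHom (MulEquiv.injective _))
    (IsPGroup.of_card (n := 1) (by rw [hc, pow_one])) (by
      have := Finite.one_lt_card_iff_nontrivial.1 (hc ▸ hp'.one_lt)
      exact top_ne_bot) (by simpa using Nat.pow_log_le_self p (Nat.div_pos hn he0).ne')
  exact h1 (ds_sylow P hK (by rwa [zero_add]))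

end Cfsg.Agent.S4015
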