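import Cfsg.Statements.S4016
import Cfsg.Agent.S3188
import Cfsg.Agent.Classical.PGL2Dih
import Cfsg.Agent.Classical.GL2Class
import Cfsg.Agent.BG.S1

set_option autoImplicit false
open Cfsg

namespace Cfsg.Agent.S4016

open Subgroup Cfsg.Agent.Transfer Cfsg.Agent.Classical Cfsg.Agent.Solv
open scoped MatrixGroups

universe u

variable {p : ℕ} [hp : Fact p.Prime]

/-- cyclic `p`-subgroups, abelian `p'`-subgroups -/
def Hy (p : ℕ) (G : Type*) [Group G] : Prop :=
  (∀ Q : Subgroup G, IsPGroup p Q → IsCyclic Q) ∧ ∀ H : Subgroup G, ¬ p ∣ Nat.card H → IsMulCommutative H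

section
variable {G G' : Type*} [Group G] [Finite G] [Group G']

theorem comm_of_surj {f : G →* G'} (hf : Function.Surjective f) (h : IsMulCommutative G) : IsMulCommutative G' :=
  ⟨⟨fun a b => by
    obtain ⟨a, rfl⟩ := hf a
    obtain ⟨b, rfl⟩ := hf b
    rw [← map_mul, h.1.1, map_mul]⟩⟩

theorem Hy.inj (h : Hy p G) (f : G' →* G) (hf : Function.Injective f) : Hy p G' :=
  ⟨fun Q hQ => have := h.1 _ (hQ.map f); isCyclic_of_surjective _ (Q.equivMapOfInjective f hf).symm.surjective,
    fun H hH => comm_of_surj (f := (H.equivMapOfInjective f hf).symm.toMonoidHom) (MulEquiv.surjective _)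
      (h.2 _ (by rwa [card_map_of_injective hf]))⟩

theorem Hy.quo (h : Hy p G) {l : ℕ} (hl : l.Prime) (M : Subgroup G) [M.Normal] (hM : IsPGroup l M) : Hy p (G ⧸ M) := by
  have hs := QuotientGroup.mk'_surjective M
  haveI := Fact.mk hl
  refine ⟨fun Q hQ => ?_, fun H hH => ?_⟩
  · obtain ⟨P⟩ : Nonempty (Sylow p G) := inferInstance
    obtain ⟨R, hR⟩ := hQ.exists_le_sylow
    obtain ⟨g, rfl⟩ := MulAction.exists_smul_eq (G ⧸ M) (P.mapSurjective hs) R
    haveI := h.1 _ P.isPGroup'
    haveI : IsCyclic (P.mapSurjective hs : Subgroup (G ⧸ M)) :=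
      isCyclic_of_surjective _ ((QuotientGroup.mk' M).subgroupMap_surjective P)
    haveI := isCyclic_of_surjective _ (Sylow.equivSMul (P.mapSurjective hs) g).surjective
    exact Subgroup.isCyclic_of_le hR
  · have hs' := (QuotientGroup.mk' M).subgroupComap_surjective_of_surjective H hs
    obtain ⟨k, hk⟩ := IsPGroup.iff_card.1 hM
    by_cases e : p = l
    · subst e
      have hO : M ≤ H.comap (QuotientGroup.mk' M) := (QuotientGroup.ker_mk' _).ge.trans (ker_le_comap _ _)
      have hO' := Nat.card_congr (subgroupOfEquivOfLe hO).toEquiv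
      have hi : (M.subgroupOf (H.comap (QuotientGroup.mk' M))).index = Nat.card H :=
        Nat.eq_of_mul_eq_mul_left Nat.card_pos ((hO' ▸ card_mul_index _).trans (card_comap_mk' M H))
      obtain ⟨K, hK⟩ := exists_right_complement'_of_coprime (N := M.subgroupOf (H.comap (QuotientGroup.mk' M))) (by
        rw [hi, hO', hk]
        exact (hl.coprime_iff_not_dvd.2 hH).pow_left k)
      have hc := comm_of_surj (f := (K.equivMapOfInjective _ (subtype_injective _)).symm.toMonoidHom) (MulEquiv.surjective _)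
        (h.2 _ (by rwa [card_map_of_injective (subtype_injective _), ← hK.symm.index_eq_card, hi]))
      refine comm_of_surj (f := ((QuotientGroup.mk' M).subgroupComap H).comp K.subtype) (fun y => ?_) hc
      obtain ⟨x, rfl⟩ := hs' y
      obtain ⟨⟨m, k⟩, rfl⟩ := hK.2 x
      refine ⟨k, ?_⟩
      have : (QuotientGroup.mk' M).subgroupComap H m = 1 := Subtype.ext ((QuotientGroup.eq_one_iff _).2 m.2)
      simp [this]
    · refine comm_of_surj hs' (h.2 _ fun r => ?_)
      rw [card_comap_mk', hk] at r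
      exact (hp.out.dvd_mul.1 r).elim (fun r => e ((Nat.prime_dvd_prime_iff_eq hp.out hl).1 (hp.out.dvd_of_dvd_pow r))) hH

theorem Hy.real (h : Hy p G) (h2 : p ≠ 2) {x : G} (hx : ¬ p ∣ orderOf x) (hr : IsConj x x⁻¹) : orderOf x ∣ 2 := by
  obtain ⟨g, hg⟩ := isConj_iff.1 hr
  obtain ⟨k, m, hm, e⟩ := Nat.exists_eq_two_pow_mul_odd (orderOf_pos g).ne'
  have h1 : g ^ m * x * (g ^ m)⁻¹ = x⁻¹ := by
    obtain ⟨j, rfl⟩ := hm
    have : Commute (g ^ 2) x := by
      rw [Commute, SemiconjBy, ← mul_inv_eq_iff_eq_mul]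
      calc g ^ 2 * x * (g ^ 2)⁻¹ = g * (g * x * g⁻¹) * g⁻¹ := by simp [sq, mul_assoc]
        _ = (g * x * g⁻¹)⁻¹ := by nth_rw 1 [hg]; simp [mul_assoc]
        _ = x := by rw [hg, inv_inv]
    calc g ^ (2 * j + 1) * x * (g ^ (2 * j + 1))⁻¹ = g * ((g ^ 2) ^ j * x * ((g ^ 2) ^ j)⁻¹) * g⁻¹ := by group
      _ = x⁻¹ := by rw [(this.pow_left j).mul_inv_cancel, hg]
  have h3 : zpowers (g ^ m) ≤ normalizer (zpowers x : Set G) := zpowers_le.2 (mem_normalizer_fintype fun y hy => by
    obtain ⟨n, rfl⟩ := hy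
    simp only [← conj_zpow, h1]
    exact zpow_mem (inv_mem (mem_zpowers x)) n)
  have h4 := h.2 (zpowers x ⊔ zpowers (g ^ m)) fun r => by
    have := r.trans (card_sup_dvd h3)
    rw [Nat.card_zpowers, Nat.card_zpowers] at this
    refine (hp.out.dvd_mul.1 this).elim hx fun r => h2 ((Nat.prime_dvd_prime_iff_eq hp.out Nat.prime_two).1
      (hp.out.dvd_of_dvd_pow (n := k) (r.trans (orderOf_dvd_of_pow_eq_one ?_))))
    rw [← pow_mul, mul_comm, ← e, pow_orderOf_eq_one]
  have h5 := congrArg Subtype.val (h4.1.1 ⟨g ^ m, mem_sup_right (mem_zpowers _)⟩ ⟨x, mem_sup_left (mem_zpowers _)⟩)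
  change g ^ m * x = x * g ^ m at h5
  rw [h5, mul_inv_cancel_right] at h1
  exact orderOf_dvd_of_pow_eq_one (by rw [sq, ← eq_inv_iff_mul_eq_one, ← h1])

end

theorem psl_real {F : Type*} [Field F] [Finite F] (x : PSL(2, F)) (h : IsSquare (-1 : F) ∨ (orderOf x : F) ≠ 0) :
    IsConj x x⁻¹ := by
  by_cases h1 : x = 1
  · simp [h1]
  obtain ⟨a, rfl, -, ha | ha⟩ := exists_lift_disc h1
  · exact (pslMk F).map_isConj (isConj_iff.2 (sl_isConj_of_trace (h := a⁻¹) ha (by
      simp [Matrix.SpecialLinearGroup.coe_inv, Matrix.adjugate_fin_two, Matrix.trace_fin_two, add_comm])))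
  · obtain ⟨g, b, e⟩ := sl_exists_conj_uSL ha
    have b0 : b ≠ 0 := by
      rintro rfl; rw [uSL_zero, mul_inv_eq_one, mul_eq_left] at e; simp [e] at h1
    rcases h with ⟨i, hi⟩ | h
    · refine (pslMk F).map_isConj (((isConj_iff.2 ⟨g, e⟩).trans ((uSL_isConj_iff (c := -b) b0 (neg_ne_zero.2 b0)).2
        ⟨i * b, by linear_combination b ^ 2 * hi⟩)).trans (isConj_iff.2 ⟨g⁻¹, ?_⟩))
      rw [← uSL_inv, ← e]; group
    · obtain ⟨r, _⟩ := CharP.exists F
      haveI := Fact.mk (CharP.char_is_prime F r)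
      have h2 : a ^ r = 1 := by
        rw [← conj_eq_one_iff (a := g), ← conj_pow, e, uSL_pow, CharP.cast_eq_zero, zero_mul, uSL_zero]
      rw [orderOf_eq_prime (by rw [← map_pow, h2, map_one]) h1] at h
      exact absurd (CharP.cast_eq_zero F r) h

theorem not_psl {F : Type*} [Field F] [Fintype F] (h4 : 4 ≤ Nat.card F) (h2 : p ≠ 2) (h : Hy p PSL(2, F)) : False := by
  obtain ⟨x, hx⟩ := psl_exists_orderOf_succ (F := F)
  obtain ⟨y, hy⟩ := psl_exists_orderOf_pred (F := F)
  have h0 : (Nat.card F : F) = 0 := by rw [Nat.card_eq_fintype_card]; exact FiniteField.cast_card_eq_zero F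
  have d1 : orderOf x ∣ Nat.card F + 1 := hx ▸ Nat.div_dvd_of_dvd (by
    rw [show Nat.card F + 1 = 2 + (Nat.card F - 1) by omega]; exact dvd_add (Nat.gcd_dvd_left _ _) (Nat.gcd_dvd_right _ _))
  have d2 : orderOf y ∣ Nat.card F - 1 := hy ▸ Nat.div_dvd_of_dvd (Nat.gcd_dvd_right _ _)
  have rx := psl_real x (.inr fun e => by
    have := (Nat.cast_dvd_cast (α := F) d1)
    rw [e, zero_dvd_iff] at this
    simp [h0] at this)
  have ry := psl_real y (.inr fun e => by
    have := (Nat.cast_dvd_cast (α := F) d2)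
    rw [e, zero_dvd_iff, Nat.cast_sub (by omega)] at this
    simp [h0] at this)
  have g : Nat.gcd 2 (Nat.card F - 1) = 1 ∧ Nat.card F % 2 = 0 ∨ Nat.gcd 2 (Nat.card F - 1) = 2 := by
    rcases Nat.mod_two_eq_zero_or_one (Nat.card F) with e | e
    · exact .inl ⟨Nat.coprime_two_left.2 (Nat.odd_iff.2 (by omega)), e⟩
    · exact .inr (Nat.gcd_eq_left (by omega))
  have a1 : p ∣ orderOf x := by
    by_contra r
    have := Nat.le_of_dvd two_pos (h.real h2 r rx)
    have := Nat.gcd_dvd_right 2 (Nat.card F - 1)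
    rcases g with ⟨g, -⟩ | g <;> rw [g] at hx this <;> omega
  have a2 : ¬ p ∣ orderOf y := fun r => h2 ((Nat.prime_dvd_prime_iff_eq hp.out Nat.prime_two).1 (by
    have := Nat.dvd_sub (a1.trans d1) (r.trans d2)
    rwa [show Nat.card F + 1 - (Nat.card F - 1) = 2 by omega] at this))
  have a3 := Nat.le_of_dvd two_pos (h.real h2 a2 ry)
  have h5 : Nat.card F = 5 := by
    have := Nat.gcd_dvd_right 2 (Nat.card F - 1)
    rcases g with ⟨g, -⟩ | g <;> rw [g] at hy this <;> omega
  have hN := card_PSL2_mul (F := F)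
  rw [h5] at hN d1
  haveI := Fact.mk Nat.prime_five
  obtain ⟨z, hz⟩ := exists_prime_orderOf_dvd_card' (G := PSL(2, F)) 5 (by norm_num at hN; omega)
  have := h.real h2 (x := z) (fun r => by
    rw [hz, Nat.prime_dvd_prime_iff_eq hp.out Nat.prime_five] at r
    have := a1.trans d1
    rw [r] at this
    omega) (psl_real z (.inl (FiniteField.isSquare_neg_one_iff.2 (by rw [← Nat.card_eq_fintype_card, h5]; norm_num))))
  rw [hz] at this
  omega

theorem sol (h2 : p ≠ 2) (n : ℕ) : ∀ (G : Type u) [Group G] [Finite G], Nat.card G = n → Hy p G → Group.IsSolvable G := by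
  induction n using Nat.strong_induction_on with
  | _ n ih =>
  intro G _ _ hn h
  have key : ∀ (l : ℕ) (M : Subgroup G) [M.Normal], l.Prime → M ≠ ⊥ → IsPGroup l M → Group.IsSolvable G := by
    intro l M _ hl h0 hM
    haveI := Fact.mk hl
    haveI := hM.isNilpotent
    haveI := ih _ (hn ▸ (card_eq_card_quotient_mul_card_subgroup M).symm ▸
      lt_mul_of_one_lt_right Nat.card_pos ((one_lt_card_iff_ne_bot M).2 h0)) (G ⧸ M) rfl (h.quo hl M hM)
    exact Group.isSolvable_of_ker_le_range M.subtype (QuotientGroup.mk' M) (by simp)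
  by_contra hs
  obtain ⟨S⟩ : Nonempty (Sylow 2 G) := inferInstance
  have hS := h.2 S fun r => by
    obtain ⟨k, hk⟩ := IsPGroup.iff_card.1 S.isPGroup'
    exact h2 ((Nat.prime_dvd_prime_iff_eq hp.out Nat.prime_two).1 (hp.out.dvd_of_dvd_pow (hk ▸ r)))
  obtain ⟨F, _, _, hF, N, -, ⟨e⟩, -⟩ := (S3188.result S hS fun t ht => by
    by_cases r : centralizer ({t} : Set G) = ⊤
    · have hz : zpowers t ≤ center G := zpowers_le.2 (mem_center_iff.2 fun g =>
        mem_centralizer_singleton_iff.1 (r.ge (mem_top g)))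
      haveI : (zpowers t).Normal := ⟨fun a ha g => by rwa [mem_center_iff.1 (hz ha) g, mul_inv_cancel_right]⟩
      exact absurd (key 2 (zpowers t) Nat.prime_two (fun e => by
        rw [zpowers_eq_bot] at e; simp [e] at ht) (.of_card (by rw [Nat.card_zpowers, ht, pow_one]))) hs
    · exact ih _ (hn ▸ (lt_mul_of_one_lt_right Nat.card_pos (one_lt_index_of_ne_top r)).trans_eq (card_mul_index _)) _ rfl
        (h.inj _ (subtype_injective _))).resolve_left hs
  have hO : oddCore G = ⊥ := by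
    by_contra r
    haveI : Group.IsSolvable (oddCore G) :=
      FTC.solvable_of_odd (Nat.coprime_two_right.1 (Solv.coprime_card_pPrimeCore 2 G))
    obtain ⟨l, M, hl, _, h0, -, -, -, hM, -⟩ := exists_normal_elementary_le (oddCore G) r
    exact hs (key l M hl h0 hM)
  let e' : G ⧸ oddCore G ≃* G := (QuotientGroup.quotientMulEquivOfEq hO).trans QuotientGroup.quotientBot
  refine not_psl (F := F) ?_ h2 (h.inj ((e'.toMonoidHom.comp N.subtype).comp e.symm.toMonoidHom)
    ((e'.injective.comp N.subtype_injective).comp e.symm.injective))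
  rw [Nat.card_eq_fintype_card]
  rcases hF with ⟨-, r⟩ | ⟨k, hk, r⟩
  · omega
  · exact r ▸ Nat.pow_le_pow_right two_pos hk

/-- Let G be a finite group and p a prime such that a Sylow p-subgroup P of G is cyclic and every subgroup of G of order prime to p is abelian. Then G has a normal p-complement or P is normal in G. -/
theorem result {G : Type*} [Group G] [Finite G] {p : ℕ}
    [Fact p.Prime] (P : Sylow p G) (hcyc : IsCyclic P)
    (hab : ∀ H : Subgroup G, ¬ p ∣ Nat.card H → IsMulCommutative H) :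
    Cfsg.HasNormalPComplement p G ∨ (P : Subgroup G).Normal := by
  have hp : p.Prime := Fact.out
  have hPc : ∀ x ∈ (P : Subgroup G), ∀ y ∈ (P : Subgroup G), x * y = y * x := fun x hx y hy =>
    congrArg Subtype.val (hcyc.isMulCommutative.1.1 ⟨x, hx⟩ ⟨y, hy⟩)
  rcases BG.cyclic_Sylow_tiVsub_der1 (BG.sylowIn_top P) hcyc with h | h
  · haveI : IsMulCommutative (G ⧸ commutator G) := inferInstanceAs (IsMulCommutative (Abelianization G))
    haveI := isNilpotent_of_isMulCommutative (G ⧸ commutator G)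
    exact .inl (hasNormalPComplement_of_quotient_coprime (commutator G) ((inf_sylow_eq_bot_iff _ P).1
      (inf_comm _ _ |>.trans h)) hasNormalPComplement_of_isNilpotent)
  by_cases h2 : p = 2
  · subst h2
    by_cases h3 : 2 ∣ Nat.card G
    · exact .inl (hasNormalPComplement_of_normalizer_le_centralizer P
        (IsCyclic.normalizer_le_centralizer ((Nat.minFac_eq_two_iff _).2 h3) hcyc))
    · exact .inl (hasNormalPComplement_of_not_dvd h3)
  right
  haveI : Group.IsSolvable G := sol h2 _ G rfl ⟨fun Q hQ => by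
    obtain ⟨R, hR⟩ := hQ.exists_le_sylow
    haveI := isCyclic_of_surjective _ (P.equiv R).surjective
    exact Subgroup.isCyclic_of_le hR, hab⟩
  obtain ⟨H, hH, hK⟩ := (HallOK.of_isSolvable {p}ᶜ G).exists_hall_ge (K := pPrimeCore p G)
    ((isPiNum_compl_singleton_iff hp).2 (Solv.coprime_card_pPrimeCore p G))
  obtain ⟨h3, k, hk⟩ := (isPiHall_compl_singleton_iff hp).1 hH
  have h4 : H ≤ centralizer (pPrimeCore p G : Set G) := fun x hx y hy =>
    congrArg Subtype.val ((hab H (hp.coprime_iff_not_dvd.1 h3.symm)).1.1 ⟨y, hK hy⟩ ⟨x, hx⟩)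
  set C := centralizer (pPrimeCore p G : Set G)
  have h5 : (P : Subgroup G) ⊔ C = ⊤ := by
    rw [← index_eq_one]
    exact Nat.eq_one_of_dvd_coprimes ((hp.coprime_iff_not_dvd.2 P.not_dvd_index).pow_left k)
      (hk ▸ index_dvd_of_le (h4.trans le_sup_right)) (index_dvd_of_le le_sup_left)
  have h6 : (P : Subgroup G) ≤ C := h.trans (commutator_le.2 fun x _ y _ => by
    obtain ⟨a, ha, c, hc, rfl⟩ := mem_sup_of_normal_right.1 (h5.ge (mem_top x))
    obtain ⟨b, hb, d, hd, rfl⟩ := mem_sup_of_normal_right.1 (h5.ge (mem_top y))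
    rw [← QuotientGroup.eq_one_iff, ← QuotientGroup.mk'_apply, map_commutatorElement, commutatorElement_eq_one_iff_mul_comm]
    simp only [map_mul, QuotientGroup.mk'_apply, (QuotientGroup.eq_one_iff _).2 hc, (QuotientGroup.eq_one_iff _).2 hd, mul_one]
    rw [← QuotientGroup.mk_mul, hPc a ha b hb, QuotientGroup.mk_mul])
  have h7 : (P : Subgroup G) ≤ centralizer (fittingSubgroup G : Set G) := by
    rw [le_centralizer_iff]
    exact fitting_le_sup.trans (sup_le (fun x hx y hy => hPc y hy x (pCore_le_sylow P hx)) (le_centralizer_iff.1 h6))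
  rw [le_antisymm (le_pCore_of_le_fitting P.isPGroup' (h7.trans centralizer_fitting_le)) (pCore_le_sylow P)]
  infer_instance

end Cfsg.Agent.S4016
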