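import Cfsg.Statements.S4018
import Cfsg.Agent.Gen.ClassCount
import Mathlib.LinearAlgebra.Matrix.Charpoly.FiniteField

set_option autoImplicit false
open Cfsg

namespace Cfsg.Agent.S4018

open Subgroup Gen

/-- the regular case of the friendship theorem -/
theorem friendship {V : Type*} [Finite V] [Nonempty V] (R : V → V → Prop) (hs : ∀ v w, R v w → R w v)
    (hi : ∀ v, ¬ R v v) (d : ℕ) (hd : ∀ v, Nat.card {w // R v w} = d)
    (h : ∀ v w, v ≠ w → ∃! u, R v u ∧ R w u) : d ≤ 2 := by
  classical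
  by_contra h3
  have := Fintype.ofFinite V
  obtain ⟨p, hp, hpd⟩ := Nat.exists_prime_and_dvd (n := d - 1) (by omega)
  have := Fact.mk hp
  have hd1 : (d : ZMod p) = 1 := by
    have := (ZMod.natCast_eq_zero_iff _ _).2 hpd
    rwa [Nat.cast_sub (by omega), sub_eq_zero, Nat.cast_one] at this
  let A : Matrix V V (ZMod p) := Matrix.of fun v w => if R v w then 1 else 0
  let J : Matrix V V (ZMod p) := Matrix.of fun _ _ => 1
  have hd2 : ∀ v, ∑ w, A v w = 1 := fun v => by
    simp only [A, Matrix.of_apply, Finset.sum_boole]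
    rw [← hd1, ← hd v, Nat.card_eq_fintype_card, Fintype.card_subtype]
  have h1 : A * A = J := by
    ext v w
    have e : ∀ u, A v u * A u w = if R v u ∧ R w u then 1 else 0 := fun u => by
      have : R u w ↔ R w u := ⟨hs _ _, hs _ _⟩
      by_cases h1 : R v u <;> by_cases h2 : R w u <;> simp [A, h1, h2, this]
    rw [Matrix.mul_apply, Finset.sum_congr rfl fun u _ => e u]
    by_cases hvw : v = w
    · subst hvw
      simpa [A, J] using hd2 v
    · obtain ⟨u, hu, hu'⟩ := h v w hvw
      rw [Finset.sum_eq_single u (fun b _ hb => if_neg fun h => hb (hu' b h)) (by simp), if_pos hu]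
      rfl
  have h2 : A * J = J := by
    ext v w
    simpa [Matrix.mul_apply, J] using hd2 v
  have h4 : ∀ k, A ^ (k + 2) = J := fun k => by
    induction k with
    | zero => rw [zero_add, sq, h1]
    | succ k ih => rw [add_right_comm, pow_succ', ih, h2]
  have h5 : (Fintype.card V : ZMod p) = 1 := by
    obtain ⟨v⟩ := ‹Nonempty V›
    have e : J * J = J := by rw [← h1, mul_assoc, h1, h2, h2, ← h1]
    simpa [Matrix.mul_apply, J] using congrFun (congrFun e v) v
  have h6 := ZMod.trace_pow_card A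
  obtain ⟨k, hk⟩ := Nat.exists_eq_add_of_le' hp.two_le
  have h7 : A.trace = 0 := by simp [Matrix.trace, A, hi]
  rw [h7, zero_pow hp.ne_zero, show A ^ p = J from hk ▸ h4 k] at h6
  simp [Matrix.trace, J, h5] at h6

theorem five {G : Type*} [Group G] [Finite G] {H : Subgroup G} (hH : Nat.card H ≤ 4) {a b c d : G}
    (ha : a ∈ H) (hb : b ∈ H) (hc : c ∈ H) (hd : d ∈ H) (h1 : a ≠ 1) (h2 : b ≠ 1) (h3 : c ≠ 1) (h4 : d ≠ 1)
    (h5 : a ≠ b) (h6 : a ≠ c) (h7 : a ≠ d) (h8 : b ≠ c) (h9 : b ≠ d) : c = d := by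
  classical
  by_contra h10
  have e : ({a, b, c, d, 1} : Finset G).card = 5 := by
    rw [Finset.card_insert_of_notMem (by simp [*]), Finset.card_insert_of_notMem (by simp [*]),
      Finset.card_insert_of_notMem (by simp [*]), Finset.card_pair h4]
  have : (({a, b, c, d, 1} : Finset G) : Set G) ⊆ H := by
    simp [Set.insert_subset_iff, *]
  have := Set.ncard_le_ncard this
  rw [Set.ncard_coe_finset, e, ← Nat.card_coe_set_eq] at this
  exact absurd (this.trans hH) (by norm_num)

/-- Let G be a finite group with an abelian Sylow 3-subgroup P such that the normalizer of P has order 4·#P, the centralizer C of P has order 2·#P, C meets each of its conjugates by elements outside its normalizer trivially, and every proper subgroup of G of even order has order dividing 4·#P. Then G is not simple. -/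
theorem result {G : Type*} [Group G] [Finite G]
    (P : Sylow 3 G) (hab : IsMulCommutative P)
    (hN : Nat.card (Subgroup.normalizer ((P : Subgroup G) : Set G)) = 4 * Nat.card P)
    (hC : Nat.card (Subgroup.centralizer (P : Set G)) = 2 * Nat.card P)
    (hTI : Cfsg.IsTISubset (Subgroup.centralizer (P : Set G) : Set G))
    (heven : ∀ H : Subgroup G, H ≠ ⊤ → 2 ∣ Nat.card H → Nat.card H ∣ 4 * Nat.card P) :
    ¬ IsSimpleGroup G := by
  intro hG
  classical
  obtain ⟨a, ha⟩ := IsPGroup.iff_card.1 P.isPGroup'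
  have h4G : 4 ∣ Nat.card G := (Dvd.intro _ hN.symm).trans (card_subgroup_dvd_card _)
  have hncyc : ∀ x : G, x ≠ 1 → normalizer (zpowers x : Set G) ≠ ⊤ := fun x hx h => by
    have := normalizer_eq_top_iff.1 h
    have h1 := (this.eq_bot_or_eq_top).resolve_left (by simpa using hx)
    have : IsCyclic G := isCyclic_iff_exists_zpowers_eq_top.2 ⟨x, h1⟩
    have h2 : (Nat.card G).Prime := @IsSimpleGroup.prime_card G IsCyclic.commGroup _
    exact absurd (h2.eq_one_or_self_of_dvd 2 ((by norm_num : 2 ∣ 4).trans h4G)) (by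
      rintro (h3 | h3)
      · omega
      · rw [← h3] at h4G; omega)
  have hPC : (P : Subgroup G) ≤ centralizer (P : Set G) := le_centralizer_iff_isMulCommutative.2 hab
  have hodd : ∀ z ∈ (P : Subgroup G), Odd (orderOf z) := fun z hz =>
    (ha ▸ (by decide : Odd 3).pow : Odd (Nat.card P)).of_dvd_nat ((P : Subgroup G).orderOf_dvd_natCard hz)
  obtain ⟨⟨t, htC⟩, ht⟩ := exists_prime_orderOf_dvd_card' (G := centralizer (P : Set G)) 2 (Dvd.intro _ hC.symm)
  rw [orderOf_mk] at ht
  have hidx : (P : Subgroup G).relIndex (centralizer (P : Set G)) = 2 := by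
    have := Solv.card_mul_relIndex hPC
    rw [hC, mul_comm] at this
    exact Nat.eq_of_mul_eq_mul_right Nat.card_pos this
  have hsq : ∀ s : G, orderOf s = 2 → s * s = 1 := fun s hs => by rw [← sq, ← hs, pow_orderOf_eq_one]
  have hne : ∀ s : G, orderOf s = 2 → s ≠ 1 := fun s hs e => by simp [e] at hs
  have huniq : ∀ s ∈ centralizer (P : Set G), orderOf s = 2 → s = t := fun s hsC hs => by
    have h1 : ∀ s ∈ (P : Subgroup G), orderOf s ≠ 2 := fun s hs e => absurd (e ▸ hodd s hs) (by decide)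
    have h2 : t * s ∈ (P : Subgroup G) :=
      (mul_mem_iff_of_index_two hidx (a := ⟨t, htC⟩) (b := ⟨s, hsC⟩)).2
        ⟨fun h => absurd ht (h1 _ h), fun h => absurd hs (h1 _ h)⟩
    have h3 : (t * s) ^ 2 = 1 := by
      rw [sq, ← mul_assoc, htC _ h2, ← mul_assoc, hsq t ht, one_mul, hsq s hs]
    have h4 := orderOf_eq_one_iff.1 (Nat.eq_one_of_dvd_coprimes (Nat.coprime_two_left.2 (hodd _ h2))
      (orderOf_dvd_of_pow_eq_one h3) dvd_rfl)
    exact mul_left_cancel (h4.trans (hsq t ht).symm)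
  have hNC : ∀ g ∈ normalizer (centralizer (P : Set G) : Set G), g * t * g⁻¹ = t := fun g hg =>
    huniq _ ((mem_normalizer_iff.1 hg t).1 htC) ((orderOf_conj g t).trans ht)
  have hle : ∀ s : G, orderOf s = 2 → Nat.card (centralizer ({s} : Set G)) ∣ 4 * Nat.card P := fun s hs =>
    heven _ (fun h => hncyc s (hne s hs) (top_le_iff.1 (h ▸ by
      rw [← centralizer_closure, ← zpowers_eq_closure]; exact centralizer_le_normalizer _)))
      (hs ▸ orderOf_dvd_natCard _ (mem_centralizer_singleton_iff.2 rfl))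
  have hCt : normalizer ((P : Subgroup G) : Set G) = centralizer {t} :=
    eq_of_le_of_card_ge (fun g hg => mem_centralizer_singleton_iff.2 (mul_inv_eq_iff_eq_mul.1
      (hNC g (Solv.normalizer_le_normalizer_centralizer _ hg))))
      (hN ▸ Nat.le_of_dvd (Nat.mul_pos (by norm_num) Nat.card_pos) (hle t ht))
  have hconj : ∀ s : G, orderOf s = 2 → IsConj t s := fun s hs => by
    obtain ⟨S⟩ := (inferInstance : Nonempty (Sylow 2 G))
    obtain ⟨k, hk⟩ := IsPGroup.iff_card.1 S.isPGroup'
    have h0 : (S : Subgroup G) ≠ ⊤ := fun h => by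
      have h1 : IsPGroup 2 G := (h ▸ S.isPGroup' : IsPGroup 2 (⊤ : Subgroup G)).of_equiv topEquiv
      have := h1.center_nontrivial
      obtain ⟨z, hz⟩ := exists_ne (1 : center G)
      refine hncyc z (fun e => hz (Subtype.ext e)) (normalizer_eq_top_iff.2 ⟨fun x hx g => ?_⟩)
      rwa [mem_center_iff.1 (zpowers_le.2 z.2 hx) g, mul_inv_cancel_right]
    have h1 : Nat.card S ∣ 4 := by
      have := heven _ h0 (S.dvd_card_of_dvd_card ((by norm_num : 2 ∣ 4).trans h4G))
      rw [hk, ha] at *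
      exact Nat.Coprime.dvd_of_dvd_mul_right (Nat.Coprime.pow _ _ (by norm_num)) this
    have h2 : ¬ HasNormalPComplement 2 G := fun h => by
      obtain ⟨K, hK, h3⟩ := (Transfer.hasNormalPComplement_iff_sylow S).1 h
      rcases hK.eq_bot_or_eq_top with rfl | rfl
      · exact h0 (isComplement'_bot_left.1 h3)
      · have := S.dvd_card_of_dvd_card ((by norm_num : 2 ∣ 4).trans h4G)
        simp [isComplement'_top_left.1 h3] at this
    have h3 : kc (· = 2) G ≤ 2 := by
      have := mt (hasNormalPComplement_two_of_lt_kc S) h2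
      have := Nat.le_of_dvd (by norm_num) h1
      omega
    by_contra h4
    have h5 : ∀ s : G, orderOf s = 2 → IsPi (· = 2) (orderOf s) := fun s hs => by
      rw [hs]; exact isPi_prime Nat.prime_two rfl
    have h6 : ∀ s : G, orderOf s = 2 → ConjClasses.mk s ≠ ConjClasses.mk 1 := fun s hs e =>
      hne s hs (isConj_one_left.1 (ConjClasses.mk_eq_mk_iff_isConj.1 e))
    have := Fintype.ofFinite {c : ConjClasses G // ∀ x ∈ c.carrier, IsPi (· = 2) (orderOf x)}
    rw [kc, Nat.card_eq_fintype_card] at h3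
    refine absurd h3 (not_le.2 (Fintype.two_lt_card_iff.2 ⟨⟨.mk t, forall_carrier_mk.2 (h5 t ht)⟩,
      ⟨.mk s, forall_carrier_mk.2 (h5 s hs)⟩, ⟨.mk 1, forall_carrier_mk.2 (by simpa using isPi_one _)⟩,
      fun e => h4 (ConjClasses.mk_eq_mk_iff_isConj.1 (congrArg Subtype.val e)),
      fun e => h6 t ht (congrArg Subtype.val e), fun e => h6 s hs (congrArg Subtype.val e)⟩))
  have hTI' : ∀ z ∈ (P : Subgroup G), z ≠ 1 → ∀ g : G, g * z * g⁻¹ ∈ (P : Subgroup G) → g * t * g⁻¹ = t :=
    fun z hz hz1 g hg => hNC g (by_contra fun h => hz1 (hTI g h z (hPC hz) (hPC hg)))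
  have hF : ∀ z : G, z ≠ 1 → IsPi (· = 3) (orderOf z) → ∃ u : G, orderOf u = 2 ∧ Commute u z ∧
      (∀ g : G, g * z * g⁻¹ = z⁻¹ → Commute g u) ∧ ∀ v : G, orderOf v = 2 → Commute v z → v = u := by
    intro z hz1 hz
    obtain ⟨y, hy, hzy⟩ := exists_isConj_mem_sylow P hz
    obtain ⟨c, rfl⟩ := isConj_iff.1 hzy.symm
    have hy1 : y ≠ 1 := by rintro rfl; simp at hz1
    refine ⟨c * t * c⁻¹, (orderOf_conj c t).trans ht, ?_, fun g hg => ?_, fun v hv hc => ?_⟩
    · exact Commute.map (show Commute t y from (htC y hy).symm) (MulAut.conj c)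
    · have := hTI' y hy hy1 (c⁻¹ * g * c) (by
        rw [show c⁻¹ * g * c * y * (c⁻¹ * g * c)⁻¹ = c⁻¹ * (g * (c * y * c⁻¹) * g⁻¹) * c by group, hg]
        simpa [mul_assoc] using hy)
      refine mul_inv_eq_iff_eq_mul.1 ?_
      rw [← this]; nth_rewrite 1 [this]; group
    · obtain ⟨g, rfl⟩ := isConj_iff.1 (hconj v hv)
      have h1 : g⁻¹ * c * y * (g⁻¹ * c)⁻¹ ∈ normalizer ((P : Subgroup G) : Set G) := by
        rw [hCt, mem_centralizer_singleton_iff]
        have := Commute.map hc (MulAut.conj g⁻¹)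
        simp only [MulAut.conj_apply] at this
        calc _ = g⁻¹ * (c * y * c⁻¹) * g⁻¹⁻¹ * (g⁻¹ * (g * t * g⁻¹) * g⁻¹⁻¹) := by group
          _ = _ := by rw [← this.eq]; group
      have h2 : g⁻¹ * c * y * (g⁻¹ * c)⁻¹ ∈ (P : Subgroup G) := by
        obtain ⟨k, hk⟩ := IsPGroup.iff_orderOf.1 P.2 ⟨y, hy⟩
        rw [orderOf_mk] at hk
        have h3 := P.3 (IsPGroup.to_sup_of_normal_left' P.2 (IsPGroup.of_card
          ((Nat.card_zpowers _).trans ((orderOf_conj _ _).trans hk))) (zpowers_le.2 h1)) le_sup_left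
        rw [← h3]
        exact mem_sup_right (mem_zpowers _)
      have h3 := hTI' y hy hy1 _ h2
      rw [← h3]; nth_rewrite 2 [h3]; group
  have h4 : ∀ s u : G, orderOf s = 2 → orderOf u = 2 → s ≠ u →
      Nat.card (centralizer ({s} : Set G) ⊓ centralizer {u} : Subgroup G) ≤ 4 := fun s u hs hu hsu => by
    refine Nat.le_of_dvd (by norm_num) (Nat.Coprime.dvd_of_dvd_mul_right ?_
      ((card_dvd_of_le inf_le_left).trans (hle s hs)))
    rw [ha]
    refine Nat.Coprime.pow_right _ ((Nat.prime_three.coprime_iff_not_dvd.2 fun hd => ?_).symm)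
    obtain ⟨⟨z, hz1⟩, hz⟩ := exists_prime_orderOf_dvd_card' 3 hd
    rw [orderOf_mk] at hz
    obtain ⟨hz1, hz2⟩ := hz1
    obtain ⟨w, -, -, -, hw⟩ := hF z (by rintro rfl; simp at hz) (by rw [hz]; exact isPi_prime Nat.prime_three rfl)
    exact hsu ((hw s hs (mem_centralizer_singleton_iff.1 hz1).symm).trans
      (hw u hu (mem_centralizer_singleton_iff.1 hz2).symm).symm)
  let V := {s : G // orderOf s = 2}
  have : Nonempty V := ⟨⟨t, ht⟩⟩
  let R : V → V → Prop := fun v w => v ≠ w ∧ Commute v.1 w.1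
  have hex : ∀ v w : V, v ≠ w → ∃! u, R v u ∧ R w u := ?_
  have hd := friendship R (fun v w h => ⟨h.1.symm, h.2.symm⟩) (fun v h => h.1 rfl)
    (Nat.card {w // R ⟨t, ht⟩ w}) ?_ hex
  · have h5 : ¬ Nat.card P = 1 := fun e => by
      have e1 : (P : Subgroup G) = ⊥ := card_eq_one.1 e
      have e2 : centralizer (P : Set G) = ⊤ := by
        rw [eq_top_iff]; intro x _ y hy
        rw [(mem_bot.1 (e1 ▸ hy : y ∈ (⊥ : Subgroup G)))]; simp
      rw [e2, card_top, e] at hC
      omega
    obtain ⟨s, hs, hst, hs2⟩ : ∃ s : G, orderOf s = 2 ∧ s ≠ t ∧ s ∈ centralizer ({t} : Set G) := by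
      obtain ⟨g, hg⟩ : ∃ g : G, g * t * g⁻¹ ≠ t := by
        by_contra h6
        push Not at h6
        refine hncyc t (hne t ht) (normalizer_eq_top_iff.2 ⟨?_⟩)
        rintro _ ⟨k, rfl⟩ g
        rw [← conj_zpow, h6]
        exact ⟨k, rfl⟩
      obtain ⟨u, ⟨h6, -⟩, -⟩ := hex ⟨t, ht⟩ ⟨_, (orderOf_conj g t).trans ht⟩ fun e => hg (congrArg Subtype.val e).symm
      exact ⟨u.1, u.2, fun e => h6.1 (Subtype.ext e.symm), mem_centralizer_singleton_iff.2 h6.2.symm⟩
    obtain ⟨z, hz, hzs⟩ : ∃ z ∈ (P : Subgroup G), ¬ Commute z s := by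
      by_contra h6
      push Not at h6
      exact hst (huniq s h6 hs)
    obtain ⟨T, h6, h7⟩ := exists_three_conj (G := centralizer ({t} : Set G)) (Q := ⊤)
      (x := ⟨z, hCt ▸ le_normalizer hz⟩) (y := ⟨s, hs2⟩) (le_normalizer (mem_top _))
      (by rw [orderOf_mk]; exact hodd z hz) (mem_top _) fun h => hzs (congrArg Subtype.val h)
    have h8 : T.card ≤ Nat.card {w // R ⟨t, ht⟩ w} := by
      rw [← Nat.card_eq_finsetCard]
      refine Nat.card_le_card_of_injective (fun x => ⟨⟨x.1.1, by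
        rw [orderOf_coe, ← orderOf_eq_of_isConj (h7 x.1 x.2).2, orderOf_mk, hs]⟩,
        fun e => ?_, (mem_centralizer_singleton_iff.1 x.1.2).symm⟩) fun x y e =>
          Subtype.ext (Subtype.ext (congrArg (fun w => w.1.1) e))
      obtain ⟨c, hc⟩ := isConj_iff.1 (h7 x.1 x.2).2
      have e1 : (c : G) * s * (c : G)⁻¹ = t := (congrArg Subtype.val hc).trans (congrArg Subtype.val e).symm
      rw [mul_inv_eq_iff_eq_mul, ← mem_centralizer_singleton_iff.1 c.2] at e1
      exact hst (mul_left_cancel e1)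
    omega
  · rintro ⟨v, hv⟩
    obtain ⟨g, rfl⟩ := isConj_iff.1 (hconj v hv)
    let e : V ≃ V := (MulAut.conj g).toEquiv.subtypeEquiv fun x => by
      rw [show (MulAut.conj g).toEquiv x = g * x * g⁻¹ from rfl, orderOf_conj]
    refine (Nat.card_congr (e.subtypeEquiv fun w => and_congr (e.injective.ne_iff.symm) ?_)).symm
    exact (commute_map_iff (f := MulAut.conj g) (MulAut.conj g).injective).symm
  · rintro ⟨s, hs⟩ ⟨v, hv⟩ hsv
    have hsv : s ≠ v := fun e => hsv (Subtype.ext e)
    refine existsUnique_of_exists_of_unique ?_ ?_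
    · have h5 : s * v ≠ 1 := fun e => hsv (mul_left_cancel (e.trans (hsq s hs).symm)).symm
      have h6 : s * (s * v) * s⁻¹ = (s * v)⁻¹ := by
        rw [← mul_assoc, hsq s hs, one_mul, mul_inv_rev, inv_eq_of_mul_eq_one_left (hsq v hv)]
      have h7 : v * (s * v) * v⁻¹ = (s * v)⁻¹ := by
        rw [mul_inv_rev, inv_eq_of_mul_eq_one_left (hsq v hv), inv_eq_of_mul_eq_one_left (hsq s hs),
          mul_assoc, mul_assoc, hsq v hv, mul_one]
      have h8 : orderOf (s * v) ∣ 4 * Nat.card P := by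
        refine (orderOf_dvd_natCard _ (le_normalizer (mem_zpowers _))).trans (heven _ (hncyc _ h5) ?_)
        refine hs ▸ orderOf_dvd_natCard _ (mem_normalizer_fintype ?_)
        rintro _ ⟨k, rfl⟩
        show s * (s * v) ^ k * s⁻¹ ∈ zpowers _
        rw [← conj_zpow, h6]
        exact zpow_mem (inv_mem (mem_zpowers _)) _
      obtain ⟨u, e1, e2, e3, e4⟩ : ∃ u : G, orderOf u = 2 ∧ Commute u (s * v) ∧
          (∀ g : G, g * (s * v) * g⁻¹ = (s * v)⁻¹ → Commute g u) ∧ ((s * v) ^ 2 = 1 → u = s * v) := by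
        by_cases h9 : 2 ∣ orderOf (s * v)
        · have e1 := orderOf_pow_orderOf_div (orderOf_pos (s * v)).ne' h9
          refine ⟨_, e1, (Commute.refl _).pow_left _, fun g hg => mul_inv_eq_iff_eq_mul.1 ?_, fun h => ?_⟩
          · rw [← conj_pow, hg, inv_pow, inv_eq_of_mul_eq_one_left (hsq _ e1)]
          · rw [orderOf_eq_prime h h5]; simp
        · obtain ⟨u, e1, e2, e3, -⟩ := hF _ h5 fun q hq hd => by
            rcases (hq.dvd_mul.1 (hd.trans h8)) with h | h
            · have : q = 2 := (Nat.prime_dvd_prime_iff_eq hq Nat.prime_two).1 (hq.dvd_of_dvd_pow (n := 2) h)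
              exact absurd (this ▸ hd) h9
            · exact (Nat.prime_dvd_prime_iff_eq hq Nat.prime_three).1 (hq.dvd_of_dvd_pow (ha ▸ h))
          exact ⟨u, e1, e2, e3, fun h => absurd (orderOf_eq_prime h h5).symm.dvd h9⟩
      have e5 : ∀ g : G, g * (s * v) * g⁻¹ = (s * v)⁻¹ → g = u → g = s * v := fun g hg e => by
        subst e
        rw [e2.eq, mul_inv_cancel_right] at hg
        exact e4 (by rw [sq]; exact eq_inv_iff_mul_eq_one.1 hg)
      refine ⟨⟨u, e1⟩, ⟨fun e => ?_, e3 s h6⟩, fun e => ?_, e3 v h7⟩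
      · exact hne v hv (by simpa using e5 s h6 (congrArg Subtype.val e))
      · exact hne s hs (by simpa using e5 v h7 (congrArg Subtype.val e))
    · rintro ⟨u, hu⟩ ⟨w, hw⟩ ⟨⟨e1, e2⟩, e3, e4⟩ ⟨⟨e5, e6⟩, e7, e8⟩
      by_contra h5
      have h5 : u ≠ w := fun e => h5 (Subtype.ext e)
      have m1 : u ∈ centralizer ({s} : Set G) ⊓ centralizer {v} :=
        ⟨mem_centralizer_singleton_iff.2 e2.symm, mem_centralizer_singleton_iff.2 e4.symm⟩
      have m2 : w ∈ centralizer ({s} : Set G) ⊓ centralizer {v} :=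
        ⟨mem_centralizer_singleton_iff.2 e6.symm, mem_centralizer_singleton_iff.2 e8.symm⟩
      have h6 : u * w = w * u := five (h4 s v hs hv hsv) m1 m2 (mul_mem m1 m2) (mul_mem m2 m1) (hne u hu) (hne w hw)
        (fun e => h5 (mul_left_cancel (e.trans (hsq u hu).symm)).symm)
        (fun e => h5 (mul_left_cancel (e.trans (hsq w hw).symm))) h5 (by simpa using hne w hw)
        (by simpa using hne w hw) (by simpa using hne u hu) (by simpa using hne u hu)
      exact hsv (five (h4 u w hu hw h5)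
        ⟨mem_centralizer_singleton_iff.2 rfl, mem_centralizer_singleton_iff.2 h6⟩
        ⟨mem_centralizer_singleton_iff.2 h6.symm, mem_centralizer_singleton_iff.2 rfl⟩
        ⟨mem_centralizer_singleton_iff.2 e2, mem_centralizer_singleton_iff.2 e6⟩
        ⟨mem_centralizer_singleton_iff.2 e4, mem_centralizer_singleton_iff.2 e8⟩
        (hne u hu) (hne w hw) (hne s hs) (hne v hv) h5 (fun e => e1 (Subtype.ext e.symm))
        (fun e => e3 (Subtype.ext e.symm)) (fun e => e5 (Subtype.ext e.symm)) (fun e => e7 (Subtype.ext e.symm)))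

end Cfsg.Agent.S4018
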