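import Cfsg.Statements.S4021
import Cfsg.Agent.Gen2.EqO5

set_option autoImplicit false
open Cfsg

namespace Cfsg.Agent.S4021

open Subgroup Cfsg.Agent.BG Cfsg.Agent.Gen2.EqO
open scoped MatrixGroups

/-- Subgroups of equal order are conjugate. -/
def CC (G : Type*) [Group G] : Prop :=
  ∀ H K : Subgroup G, Nat.card H = Nat.card K → ∃ g : G, K = H.map (MulAut.conj g).toMonoidHom

variable {G : Type*} [Group G] [Finite G]

theorem CC.map {G' : Type*} [Group G'] [Finite G'] (h : CC G) {f : G →* G'} (hf : Function.Surjective f) : CC G' := by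
  intro H K e
  obtain ⟨g, hg⟩ := h _ _ (card_comap_eq hf e)
  refine ⟨f g, ?_⟩
  rw [← map_comap_eq_self_of_surjective hf H, ← map_comap_eq_self_of_surjective hf K, hg, map_map, map_map]
  congr 1
  ext x
  simp

theorem CC.no (h : CC G) {x t s : G} (hx : Odd (orderOf x)) (ht : orderOf t = 2) (hs : s * s = 1) (hc : Commute x t)
    (hi : s * x * s⁻¹ = x⁻¹) : x = 1 := by
  have k : s * x = x * s → x = 1 := fun h1 => by
    rw [h1, mul_inv_cancel_right, eq_inv_iff_mul_eq_one, ← pow_two] at hi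
    exact orderOf_eq_one_iff.1 (Nat.Coprime.eq_one_of_dvd hx.coprime_two_right (orderOf_dvd_of_pow_eq_one hi))
  by_cases s1 : s = 1
  · exact k (by simp [s1])
  have s2 : orderOf s = 2 := orderOf_eq_prime ((pow_two s).trans hs) s1
  obtain ⟨g, hg⟩ := h (zpowers (x * t)) (zpowers x ⊔ zpowers s) (by
    rw [card_sup_TI (.inr (zpowers_le.2 (mem_norm_of_cj_le fun z hz => by
      obtain ⟨_, ⟨j, rfl⟩, rfl⟩ := mem_cj'.1 hz
      exact ⟨-j, by simp only [← conj_zpow, hi, inv_zpow']⟩))) (disjoint_iff.1 <| disjoint_of_coprime_natCard (by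
        rw [Nat.card_zpowers, Nat.card_zpowers, s2]; exact hx.coprime_two_right)), Nat.card_zpowers, Nat.card_zpowers,
      Nat.card_zpowers, hc.orderOf_mul_eq_mul_orderOf_of_coprime (ht ▸ hx.coprime_two_right), ht, s2])
  rw [MonoidHom.map_zpowers] at hg
  exact k (setLike_mul_comm (s := zpowers _) (hg ▸ mem_sup_right (mem_zpowers s)) (hg ▸ mem_sup_left (mem_zpowers x)))

theorem CC.psl (h : CC G) {F : Type*} [Field F] [Finite F] (e : G ≃* PSL(2, F))
    (h8 : Nat.card F % 8 = 3 ∨ Nat.card F % 8 = 5) : Nat.card F ≤ 5 := by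
  replace h := h.map (f := e.toMonoidHom) e.surjective
  by_contra h5
  have h2 : (2 : F) ≠ 0 := Classical.two_ne_zero_iff_odd.2 (Nat.odd_iff.2 (by omega))
  have hg : Nat.gcd 2 (Nat.card F - 1) = 2 := Nat.gcd_eq_left (by omega)
  obtain ⟨g, m, hm, m1, mo⟩ : ∃ (g : PSL(2, F)) (m : ℕ), orderOf g = 2 * m ∧ 1 < m ∧ Odd m := by
    rcases h8 with h8 | h8
    · obtain ⟨g, h1⟩ := Classical.psl_exists_orderOf_succ (F := F)
      exact ⟨g, (Nat.card F + 1) / 4, by rw [h1, hg]; omega, by omega, Nat.odd_iff.2 (by omega)⟩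
    · obtain ⟨g, h1⟩ := Classical.psl_exists_orderOf_pred (F := F)
      exact ⟨g, (Nat.card F - 1) / 4, by rw [h1, hg]; omega, by omega, Nat.odd_iff.2 (by omega)⟩
  obtain ⟨u, s, K, b⟩ := AB.psl_bsw h2
  obtain ⟨c, hc⟩ := isConj_iff.1 (b.cls (g ^ m) (by
    rw [orderOf_pow_of_dvd (by omega) (hm ▸ dvd_mul_left _ _), hm, Nat.mul_div_cancel _ (by omega)])).symm
  have o1 : orderOf (c * g * c⁻¹) = 2 * m := hm ▸ (MulAut.conj c).orderOf_eq g
  have o2 : orderOf ((c * g * c⁻¹) ^ 2) = m := by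
    rw [orderOf_pow_of_dvd two_ne_zero (o1 ▸ dvd_mul_right _ _), o1, Nat.mul_div_cancel_left _ two_pos]
  have cm : Commute (c * g * c⁻¹) u := by
    rw [← hc, ← conj_pow]
    exact Commute.self_pow _ _
  have ss : s * s = 1 := by rw [← pow_two, ← orderOf_dvd_iff_pow_eq_one, b.hs]
  have x1 : (c * g * c⁻¹) ^ 2 = 1 := by
    rcases (b.mem _).1 (mem_cent1.2 cm) with h1 | h1
    · exact h.no (o2 ▸ mo) b.ht ss (cm.pow_left 2) (b.inv _ (pow_mem h1 2))
    · have := b.inv _ h1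
      rw [← mul_assoc, mul_inv_cancel_right, mul_inv_rev, inv_eq_of_mul_eq_one_right ss, mul_right_inj,
        eq_inv_iff_mul_eq_one] at this
      rwa [pow_two]
  rw [x1, orderOf_one] at o2
  omega

theorem CC.L2 (h : CC G) {p : ℕ} [hp : Fact p.Prime] (h8 : p % 8 = 3 ∨ p % 8 = 5) (hL : L2 G p) :
    (p = 3 ∨ p = 5) ∧ Nonempty (G ≃* PSL(2, ZMod p)) := by
  rcases hL with ⟨⟨e⟩⟩ | ⟨⟨e⟩⟩
  · have := h.psl e (by rwa [Nat.card_zmod])
    rw [Nat.card_zmod] at this
    exact ⟨by omega, ⟨e⟩⟩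
  · have := h.psl e (by
      rw [GaloisField.card p 3 (by decide), Nat.pow_mod]
      rcases h8 with h | h <;> rw [h] <;> decide)
    rw [GaloisField.card p 3 (by decide)] at this
    have := Nat.pow_le_pow_left hp.out.two_le 3
    omega

/-- Let G be a finite group in which any two subgroups of the same order are conjugate. Then G/O(G), O(G) the largest normal subgroup of odd order, is one of: a cyclic 2-group; the one-dimensional affine group over the field with 8 elements; the one-dimensional semi-affine group over the field with 8 or with 32 elements; PSL₂(8); the full automorphism group of PSL₂(32); the alternating group of degree 4 or 5; SL₂(3); or SL₂(5). -/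
theorem result {G : Type*} [Group G] [Finite G]
    (hC : ∀ H K : Subgroup G, Nat.card H = Nat.card K → ∃ g : G, K = H.map (MulAut.conj g).toMonoidHom) :
    (IsCyclic (G ⧸ Cfsg.oddCore G) ∧ IsPGroup 2 (G ⧸ Cfsg.oddCore G)) ∨
    Nonempty (G ⧸ Cfsg.oddCore G ≃* Cfsg.affineGroup (GaloisField 2 3)) ∨
    Nonempty (G ⧸ Cfsg.oddCore G ≃* Cfsg.semiaffineGroup (GaloisField 2 3)) ∨
    Nonempty (G ⧸ Cfsg.oddCore G ≃* Cfsg.semiaffineGroup (GaloisField 2 5)) ∨
    Nonempty (G ⧸ Cfsg.oddCore G ≃* Matrix.ProjectiveSpecialLinearGroup (Fin 2) (GaloisField 2 3)) ∨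
    Nonempty (G ⧸ Cfsg.oddCore G ≃* MulAut (Matrix.ProjectiveSpecialLinearGroup (Fin 2) (GaloisField 2 5))) ∨
    Nonempty (G ⧸ Cfsg.oddCore G ≃* alternatingGroup (Fin 4)) ∨
    Nonempty (G ⧸ Cfsg.oddCore G ≃* alternatingGroup (Fin 5)) ∨
    Nonempty (G ⧸ Cfsg.oddCore G ≃* Matrix.SpecialLinearGroup (Fin 2) (ZMod 3)) ∨
    Nonempty (G ⧸ Cfsg.oddCore G ≃* Matrix.SpecialLinearGroup (Fin 2) (ZMod 5)) := by
  have hC' := CC.map hC (QuotientGroup.mk'_surjective (oddCore G))
  rcases PD.core (fun p _ H K _ _ => hC' H K) (Solv.pPrimeCore_quotient_pPrimeCore 2 G) with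
    h | (h | h | h | h | h | h) | ⟨p, i, h8, h | ⟨h1, h2⟩⟩
  · exact .inl h
  · exact .inr (.inl h)
  · exact .inr (.inr (.inl h))
  · exact .inr (.inr (.inr (.inl h)))
  · obtain ⟨t, K, j⟩ := LieM.jt_of_j1 h
    obtain ⟨e⟩ := j.iso
    obtain ⟨s, y, ss, y3, sy, y1⟩ : ∃ s y : PSL(2, ZMod 5), s * s = 1 ∧ y ^ 3 = 1 ∧ s * y * s⁻¹ = y⁻¹ ∧ y ≠ 1 := by
      simpa [Sig.NoS3] using Sig.psl_S3 (F := ZMod 5) (by decide)
    have := Fact.mk Nat.prime_three
    refine (y1 (e.symm.map_eq_one_iff.1 (Subtype.ext (hC'.no (x := e.symm y) (s := e.symm s) ?_ j.ht ?_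
      (j.dp.2.2.1 t (mem_zpowers t) _ (e.symm y).2).symm ?_)))).elim
    · rw [orderOf_coe, e.symm.orderOf_eq, orderOf_eq_prime y3 y1]
      decide
    · rw [← coe_mul, ← map_mul, ss, map_one, coe_one]
    · rw [← coe_inv, ← coe_mul, ← coe_mul, ← map_inv, ← map_mul, ← map_mul, sy, map_inv, coe_inv]
  · exact .inr (.inr (.inr (.inr (.inl h))))
  · exact .inr (.inr (.inr (.inr (.inr (.inl h)))))
  · obtain ⟨rfl | rfl, ⟨e⟩⟩ := hC'.L2 h8 h
    · exact .inr (.inr (.inr (.inr (.inr (.inr (.inl (alt4_equiv.map fun f => e.trans f.symm)))))))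
    · exact .inr (.inr (.inr (.inr (.inr (.inr (.inr (.inl (AB.alt5_equiv_psl.map fun f => e.trans f.symm))))))))
  · obtain ⟨h3, ⟨e⟩⟩ := (hC'.map (QuotientGroup.mk'_surjective _)).L2 h8 h1
    rcases h2 with h2 | ⟨⟨e'⟩⟩
    · rcases h3 with rfl | rfl
      · exact .inr (.inr (.inr (.inr (.inr (.inr (.inr (.inr (.inl h2))))))))
      · exact .inr (.inr (.inr (.inr (.inr (.inr (.inr (.inr (.inr h2))))))))
    · have := (hC'.map (f := (Classical.pslMk _).comp e'.toMonoidHom) (Classical.pslMk_surjective.comp e'.surjective)).psl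
        (.refl _) (by
          rw [GaloisField.card p 3 (by decide), Nat.pow_mod]
          rcases h8 with h | h <;> rw [h] <;> decide)
      rw [GaloisField.card p 3 (by decide)] at this
      have := Nat.pow_le_pow_left i.out.two_le 3
      omega

end Cfsg.Agent.S4021
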