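import Cfsg.Statements.S4031
import Cfsg.Agent.S2754
import Cfsg.Agent.S2755
import Cfsg.Agent.LieM.Gold5
import Cfsg.Agent.SZ.Main
import Mathlib.Tactic.Group

set_option autoImplicit false
open Cfsg

namespace Cfsg.Agent.S4031
open scoped commutatorElement

open Subgroup Cfsg.Agent.BG Cfsg.Agent.LieM

/-- Let G be a finite non-abelian simple group in which N_G(⟨x⟩) = C_G(x) for every 3-element x. Then either G is isomorphic to PSL₂(q) with q an odd power of 3, q ≥ 27, or G is simple of the order of a Suzuki group (so 3 does not divide its order). -/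
theorem result {G : Type*} [Group G] [Finite G] [IsSimpleGroup G] (hna : ¬ IsMulCommutative G)
    (hirr : ∀ x : G, (∀ r : ℕ, r.Prime → r ∣ orderOf x → r = 3) →
      Subgroup.normalizer ((Subgroup.zpowers x : Subgroup G) : Set G) ≤ Subgroup.centralizer {x}) :
    (∃ f : ℕ, 1 ≤ f ∧ Nonempty (G ≃* Matrix.ProjectiveSpecialLinearGroup (Fin 2) (GaloisField 3 (2 * f + 1)))) ∨
    Cfsg.IsSuzuki G := by
  have h3 : ¬ Cfsg.Involves (Equiv.Perm (Fin 3)) G := not_S3_of_inv fun x y _ ⟨k, hk⟩ e => by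
    have h1 : x ∈ C1[y] := hirr y (fun r hr h => by
      rw [hk] at h
      exact (Nat.prime_dvd_prime_iff_eq hr Nat.prime_three).1 (hr.dvd_of_dvd_pow h)) (mem_norm_of_cj_le (by
        rw [cj_zpowers, e]; exact zpowers_le.2 (inv_mem (mem_zpowers y))))
    rw [mem_cent1.1 h1, mul_inv_cancel_right] at e
    have h2 : orderOf y ∣ 2 := orderOf_dvd_of_pow_eq_one (by rw [sq]; exact mul_eq_one_iff_eq_inv.2 e)
    exact orderOf_eq_one_iff.1 (Nat.eq_one_of_dvd_coprimes ((by norm_num : Nat.Coprime 2 3).pow_right k) h2 hk.dvd)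
  rcases sz_or_l2 @Cfsg.Agent.S2754.result @Cfsg.Agent.S2755.result hna h3 with h | ⟨F, _, _, n, hn, hF, ⟨e⟩⟩
  · exact Or.inr (Suz.isSuzuki_of_iso inferInstance h)
  obtain ⟨f⟩ := Classical.nonempty_ringEquiv_of_card_eq (K := F) (F := GaloisField 3 (2 * n + 1))
    (by rw [GaloisField.card 3 _ (by omega), Nat.card_eq_fintype_card, hF])
  exact Or.inl ⟨n, hn, ⟨e.trans (Classical.pslCongr f)⟩⟩

end Cfsg.Agent.S4031
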