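import Cfsg.Statements.S4035
import Cfsg.Agent.FG.Basic
import Cfsg.Agent.Gen2.Basic

set_option autoImplicit false
open Cfsg

namespace Cfsg.Agent.S4035

open Cfsg.Agent.BG Cfsg.Agent.FG Subgroup
open scoped commutatorElement

/-- Let G be a finite group and p a prime such that p divides the size of no conjugacy class of p-regular elements (elements of order prime to p). Then G is the internal direct product of a Sylow p-subgroup P and a normal subgroup H of order prime to p: P is normal, P ⊓ H = 1 and PH = G. -/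
theorem result {G : Type*} [Group G] [Finite G] {p : ℕ} [Fact p.Prime]
    (h : ∀ x : G, (orderOf x).Coprime p → ¬ p ∣ (ConjClasses.mk x).carrier.ncard) (P : Sylow p G) :
    (P : Subgroup G).Normal ∧ ∃ H : Subgroup G, H.Normal ∧ ¬ p ∣ Nat.card H ∧
      (P : Subgroup G) ⊓ H = ⊥ ∧ (P : Subgroup G) ⊔ H = ⊤ := by
  have hp : p.Prime := Fact.out
  have h' : ∀ x : G, PiElt {p}ᶜ x → ∀ Q ≤ C1[x], IsPGroup p Q → ∃ g : G, Q ≤ cj g P ∧ cj g P ≤ C1[x] :=
    fun x hx Q hQ hpQ => by
      have := h x ((p'nat_coprime hp).1 hx)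
      rw [← Nat.card_coe_set_eq, Gen2.card_carrier_mk] at this
      obtain ⟨S, hS, hQS⟩ := Sylow_superset hQ hpQ
      obtain ⟨g, -, rfl⟩ := Sylow_trans (sylowIn_top P)
        (pHall_trans_idx hS le_top (by rwa [relIndex_top_right, p'natE hp]))
      exact ⟨g, hQS, hS.le⟩
  have h1 : (P : Subgroup G) ⊔ C[(P : Subgroup G)] = ⊤ := Gen2.eq_top_of_forall_exists_conj_mem _ fun y => by
    obtain ⟨g, h1, h2⟩ := h' _ (p_elt_constt {p}ᶜ y) (zpowers (constt {p} y))
      (zpowers_le.2 (mem_cent1.2 (commute_constt_constt _ _ (Commute.refl y)).eq))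
      (PiNat.pg (p_elt_zpowers.2 (p_elt_constt _ _)))
    refine ⟨g⁻¹, ?_⟩
    rw [inv_inv, ← mem_cj, cj_sup, ← C_cj, ← consttC {p} y]
    exact mul_mem_sup' (h1 (mem_zpowers _)) (le_cent1_iff.1 h2)
  have hn : (P : Subgroup G) ⊴ ⊤ := ⟨le_top, h1 ▸ sup_le (normG _) (cent_sub _)⟩
  have hd := dprod_of_commute (sylowIn_top P) fun q hq hqp Q _ hQ y hy => by
    haveI := Fact.mk hq
    obtain ⟨g, -, h2⟩ := h' y (mem_p_elt (p'group_of_ne hQ hqp) hy) ⊥ bot_le IsPGroup.of_bot
    rwa [hn.cj_eq (mem_top g), le_cent1_iff] at h2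
  exact ⟨hn.normal, _, hd.normalr.normal, (p'natE hp).1 (pcore_pgroup _ _), hd.inf, hd.sup⟩

end Cfsg.Agent.S4035
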