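import Cfsg.Statements.S4041
import Cfsg.Agent.LieM.FpfOp
import Cfsg.Agent.LieM.ReeT1
import Cfsg.Agent.LieM.Gold5
import Cfsg.Agent.S2754
import Cfsg.Agent.S2755
import Cfsg.Agent.Sz.Partition
import Cfsg.Agent.Sz.Models
import Cfsg.Agent.Transfer.Hol
import Mathlib.Tactic.Group

set_option autoImplicit false
open Cfsg

namespace Cfsg.Agent.S4041
open scoped commutatorElement

open Subgroup Cfsg.Agent.BG Cfsg.Agent.LieM
open scoped MatrixGroups

universe u

theorem facts {G : Type*} [Group G] [Finite G] [IsSimpleGroup G] (hna : ¬ IsMulCommutative G)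
    (h3 : ¬ Involves (Equiv.Perm (Fin 3)) G) {q : ℕ} [hq : Fact q.Prime] (Q : Sylow q G) :
    IsCyclic Q ∨ ∃ r, r.Prime ∧ r ∣ #N[(Q : Subgroup G)] ∧ q < r ∧ q ≤ 3 := by
  rcases (S2755.result ((S2754.result hna).1 (not_S4_of_not_S3 h3))).2.1 h3 with
    ⟨F, _, _, m, hm, hF, ⟨e⟩⟩ | ⟨F, _, _, n, hF, ⟨e⟩⟩
  · let _ := Sz.titsOfCard hm hF
    let _ := Sz.lieRep (Sz.titsOfCard_θ hm hF)
    let _ := Sz.repOfEquiv (F := F) e
    obtain rfl | q2 := eq_or_ne q 2
    · obtain ⟨g, hg⟩ := Sz.exists_conj_U (F := F) Q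
      have h1 : 8 ≤ 2 ^ (2 * m + 1) := Nat.pow_le_pow_right (n := 2) (i := 3) two_pos (by omega)
      obtain ⟨r, hr, hd⟩ := Nat.exists_prime_and_dvd (show 2 ^ (2 * m + 1) - 1 ≠ 1 by omega)
      refine .inr ⟨r, hr, ?_, hr.two_le.lt_of_ne ?_, by decide⟩
      · rw [hg, ← cj_def, N_cj, card_cj, Sz.normalizer_U, Sz.card_B, Nat.card_eq_fintype_card, hF]
        exact hd.mul_left _
      · rintro rfl
        rw [pow_succ] at hd h1; omega
    · exact .inl (Sz.isCyclic_of_isPGroup F hq.out q2 Q.isPGroup')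
  have hQ := sylowIn_top Q
  obtain ⟨U, τ, w, b⟩ := exists_bq (L := ⊤) (topEquiv.trans e) (by rw [Nat.card_eq_fintype_card, hF])
  haveI := Fact.mk Nat.prime_three
  obtain ⟨k, hk⟩ : ∃ k, 3 ^ (2 * n + 1) = 8 * k + 3 := ⟨3 ^ (2 * n + 1) / 8, by
    have : 3 ^ (2 * n + 1) % 8 = 3 := by rw [pow_succ, pow_mul, Nat.mul_mod, Nat.pow_mod]; simp
    omega⟩
  have d3 : 3 ∣ 3 ^ (2 * n + 1) := dvd_pow_self _ (by omega)
  obtain rfl | q3 := eq_or_ne q 3
  · have hU : SylowIn 3 U ⊤ := sylow_mk le_top (pgroup_of_card b.cU) fun h => by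
      have h1 := card_mul_relIndex (le_top : U ≤ ⊤)
      have h2 := b.cL
      rw [← h1, b.cU, mul_left_comm, mul_assoc, Nat.mul_right_inj (by omega)] at h2
      rcases (Nat.Prime.dvd_mul Nat.prime_three).1 (h2 ▸ h.mul_left 2) with r | r <;> omega
    obtain rfl | n0 := eq_or_ne n 0
    · exact .inl (isCyclic_of_prime_card (p := 3) ((card_Hall_eq hQ hU).trans b.cU))
    have h27 : 27 ≤ 3 ^ (2 * n + 1) := Nat.pow_le_pow_right (n := 3) (i := 3) (by decide) (by omega)
    obtain ⟨g, -, hg⟩ := Sylow_trans hU hQ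
    have h1 := b.oτ
    obtain ⟨r, hr, hd⟩ := Nat.exists_prime_and_dvd (show orderOf τ ≠ 1 by omega)
    refine .inr ⟨r, hr, ?_, ?_, le_rfl⟩
    · rw [hg, N_cj, card_cj]; exact hd.trans (orderOf_dvd_cardG b.τU)
    · have := hr.two_le
      have : r ≠ 2 := by rintro rfl; omega
      have : r ≠ 3 := by rintro rfl; omega
      omega
  obtain rfl | q2 := eq_or_ne q 2
  · refine .inr (by_contra fun h => AB.not_compl_simple hna ?_)
    have h1 : N[(Q : Subgroup G)] = Q := Hall_max hQ (normG _) le_top fun r hr hd => by_contra fun r2 =>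
      h ⟨r, hr, hd, hr.two_le.lt_of_ne (Ne.symm r2), by decide⟩
    have h2 : IsMulCommutative (Q : Subgroup G) := p2group_abelian (p := 2) (by
      obtain ⟨j, hj⟩ := IsPGroup.iff_card.1 Q.isPGroup'
      have h4 : ¬ 2 ^ 3 ∣ #(⊤ : Subgroup G) := fun ⟨c, h4⟩ => by
        have h5 := b.cL
        rw [hk, show 8 * k + 3 - 1 = 2 * (4 * k + 1) by omega, h4] at h5
        have h6 : 2 * c = 2 * (32 * k ^ 3 + 36 * k ^ 2 + 13 * k + 1) + 1 := by nlinarith
        omega
      exact hj ▸ pow_dvd_pow 2 (not_lt.1 fun r => h4 ((pow_dvd_pow 2 r).trans (hj ▸ cardSg le_top))))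
    exact (Transfer.hasNormalPComplement_iff_sylow Q).2 ⟨_, inferInstance,
      MonoidHom.ker_transferSylow_isComplement' Q (h1.le.trans (abelian_iff.1 h2))⟩
  · have h4 : (3 : F) = 0 := by
      have := FiniteField.cast_card_eq_zero F
      rw [hF] at this
      exact pow_eq_zero_iff (n := 2 * n + 1) (by omega) |>.1 (by exact_mod_cast this)
    have : CharP F 3 := (CharP.charP_iff_prime_eq_zero Nat.prime_three).2 (by exact_mod_cast h4)
    obtain ⟨P, rfl⟩ := Sylow.mapSurjective_surjective (f := e.symm.toMonoidHom.comp (Classical.pslMk F))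
      (e.symm.surjective.comp Classical.pslMk_surjective) q Q
    exact .inl (cyclic_map _ (Classical.sl_isCyclic_of_isPGroup 3 q2 q3 P.isPGroup'))

theorem simple_case {G : Type u} [Group G] [Finite G] {X A : Subgroup G} (h : FP X A) (hX : MinNormal X X)
    (ns : ¬ Group.IsSolvable X) (h3 : ¬ PLocal.Involves X (Equiv.Perm (Fin 3)))
    (ih : ∀ Y < X, A ≤ N[Y] → Group.IsSolvable Y) {q : ℕ} (hq : q.Prime) {Q : Subgroup G} (Q0 : Q ≠ ⊥)
    (hQ : SylowIn q Q X) (nQ : A ≤ N[Q]) : False := by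
  have hs : ∀ (p : ℕ) [Fact p.Prime] (D : Subgroup G), D ≠ ⊥ → D ≤ X → IsPGroup p D → A ≤ N[D] →
      Group.IsSolvable (X ⊓ N[D] : Subgroup G) := fun p _ D D0 DX pD nD =>
    ih _ (inf_le_left.lt_of_ne fun e => ns (((hX.min D DX (e.ge.trans inf_le_right)).resolve_left D0) ▸ pgroup_sol pD))
      (normsI h.n (norms_norm nD))
  haveI : IsSimpleGroup X := { (nontrivial_iff_ne_bot X).2 hX.ne with
    eq_bot_or_eq_top_of_normal := fun N hN => (hX.min _ (map_subtype_le N) (normal_map_subtype hN).norm).imp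
      (fun e => (map_eq_bot_iff_of_injective _ X.subtype_injective).1 e) fun e =>
        map_injective X.subtype_injective (e.trans (map_subtype_top X).symm) }
  induction hn : 4 - q using Nat.strong_induction_on generalizing q Q with | _ n ih' => ?_
  subst hn
  haveI := Fact.mk hq
  have s1 := hs q Q Q0 hQ.le hQ.pg nQ
  obtain ⟨P, rfl⟩ := sylow_of_sylowIn hQ
  rcases facts (fun r => ns (abelian_sol r)) (fun r => h3 (PLocal.involves_iff_sub.1 r)) P with hc | ⟨r, hr, hd, lt, le⟩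
  · have h1 := Burnside_normal_complement hQ (h.cyc (cyclic_map _ hc) nQ s1)
    rcases hX.min _ h1.lel h1.normal.norm with e | e
    · exact ns (by rw [← h1.sup, e, bot_sup_eq]; exact pgroup_sol hQ.pg)
    · exact Q0 (by rw [← h1.inf, e, inf_eq_right.2 hQ.le])
  · haveI := Fact.mk hr
    have d1 : r ∣ #(X ⊓ N[(P : Subgroup X).map X.subtype] : Subgroup G) :=
      (hd.trans (card_map_subtype _).symm.dvd).trans (cardSg (le_inf (map_subtype_le _) (norms_map _ le_rfl)))
    obtain ⟨R, hR, nR⟩ := (h.sub inf_le_left (normsI h.n (norms_norm nQ))).syl (q := r) s1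
    obtain ⟨R', hR', nR'⟩ := h.up (hs r) (Sylow_ne_bot hR d1) (hR.le.trans inf_le_left) hR.pg nR
    exact ih' _ (by omega) hr (Sylow_ne_bot hR' (d1.trans (cardSg inf_le_left))) hR' nR' rfl

theorem main {G : Type u} [Group G] [Finite G] {X A : Subgroup G} (h : FP X A)
    (h3 : ¬ PLocal.Involves X (Equiv.Perm (Fin 3))) : Group.IsSolvable X := by
  induction hn : #X + #A using Nat.strong_induction_on generalizing G with | _ n ih => ?_
  subst hn
  by_contra ns
  have X0 : X ≠ ⊥ := fun e => ns (e ▸ solvable_bot)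
  have ih1 : ∀ Y < X, A ≤ N[Y] → Group.IsSolvable Y := fun Y lt nY =>
    ih _ (by have := proper_card lt; omega) (h.sub lt.le nY) (fun r => h3 (r.mono lt.le)) rfl
  obtain ⟨V, hV, VX⟩ := minnormal_exists X0 (sup_le (normG X) h.n)
  have nV : V ⊴ X := ⟨VX, le_sup_left.trans hV.norm⟩
  have nA : A ≤ N[V] := le_sup_right.trans hV.norm
  rcases VX.lt_or_eq with lt | rfl
  · obtain ⟨r, hr, eV⟩ := minnormal_solvable hV le_rfl (ih1 V lt nA)
    haveI := Fact.mk hr
    refine ns (series_sol nV (pgroup_sol eV.pg) (ih _ ?_ (h.quo eV.pg hV.ne nV nA) (fun r => h3 r.of_map.of_subgroupOf) rfl))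
    have := ltn_quotient hV.ne VX
    have := leq_quotient A V
    omega
  have hF : ∀ S, S ⊴ V → Group.IsSolvable S → S = ⊥ := fun S hS s => by_contra fun S0 => by
    rcases hV.min _ (Fitting_sub V) (norms_Fitting hV.norm) with e | e
    · exact meet_Fitting hS s S0 (by rw [e, inf_bot_eq])
    · exact ns (e ▸ nilpotent_sol (Fitting_nil V))
  obtain ⟨S, hS, SX⟩ := minnormal_exists X0 (normG V)
  have nS : S ⊴ V := ⟨SX, hS.norm⟩
  rcases SX.lt_or_eq with lt | rfl
  · refine hS.ne (hF S nS (ih _ ?_ (h.subA SX inf_le_left inf_le_right (h.diag SX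
      (hF _ nS.center (abelian_sol (center_abelian S))) fun a ha => ?_)) (fun r => h3 (r.mono SX)) rfl))
    · have := proper_card lt
      have := card_le_card (inf_le_left : A ⊓ N[S] ≤ A)
      omega
    · have h1 : cj a S ⊴ V := cj_of_norm (nA ha) ▸ nS.cj a
      exact (hS.min _ inf_le_left (nS.inf h1).norm).symm.imp (fun e => BG.mem_norm.2
        (eq_of_card_le (e.ge.trans inf_le_right) (card_cj a S).le).symm) fun e =>
          TI_cent (h1.le.trans nS.norm) (SX.trans h1.norm) (by rwa [inf_comm])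
  have d2 : 2 ∣ #S := by_contra fun r => ns (GW.odd_sol (Nat.odd_iff.2 (by omega)))
  by_cases hc : ∀ p, p.Prime → p ∣ #S → ¬ p ∣ #A
  · obtain ⟨Q, hQ, nQ⟩ := coprime_Sylow_exists 2 nA (Nat.coprime_of_dvd hc)
      (.inl (GW.odd_sol (Nat.odd_iff.2 (by have := hc 2 Nat.prime_two d2; omega))))
    exact simple_case h hS ns h3 ih1 Nat.prime_two (Sylow_ne_bot hQ d2) hQ nQ
  push Not at hc
  obtain ⟨p, hp, d, dA⟩ := hc
  obtain ⟨B, hB, hH⟩ := h.pn p hp d
  by_cases h0 : S ⊓ C[B] = ⊥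
  · refine ns (ih _ ?_ (h.subA le_rfl hB.le (hB.le.trans nA) h0) h3 rfl)
    have := proper_card (hB.le.lt_of_ne fun e => hH.pi.not_dvd hp (by simp) (e ▸ dA))
    omega
  have nY := normsI nA (norms_cent hB.norm)
  obtain ⟨D, r, DY, nD, D0, hr, eD⟩ := solvable_norm_abelem (ih1 _ (inf_le_left.lt_of_ne fun e =>
    h.p' hp hB hH (e.symm ▸ d)) nY) h0 nY
  haveI := Fact.mk hr
  have DX := DY.trans inf_le_left
  obtain ⟨Q, hQ, nQ⟩ := h.up (q := r) (fun D D0 DX pD nD => ih1 _ (inf_le_left.lt_of_ne fun e =>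
    D0 (hF D ⟨DX, e.ge.trans inf_le_right⟩ (pgroup_sol pD))) (normsI h.n (norms_norm nD))) D0 DX eD.pg nD
  exact simple_case h hS ns h3 ih1 hr (Sylow_ne_bot hQ ((pgroup_pdiv eD.pg D0).trans (cardSg DX))) hQ nQ

/-- Let G be a finite group in which the symmetric group of degree 3 is not involved, and let π be the set of primes dividing the order of G. Let a finite group A act on G by automorphisms so that the identity is the only element of G fixed by every element of A, and suppose A has a nilpotent Hall π-subgroup and a normal π-complement (a normal subgroup whose order is divisible by no prime of π and whose index is divisible only by primes of π). Then G is solvable. -/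
theorem result {G A : Type*} [Group G] [Finite G]
    [Group A] [Finite A] (φ : A →* MulAut G) (hfpf : ∀ g : G, (∀ a : A, φ a g = g) → g = 1)
    (hS3 : ¬ Cfsg.Involves (Equiv.Perm (Fin 3)) G)
    (hHall : ∃ H : Subgroup A, Cfsg.IsPiHall {r : ℕ | r.Prime ∧ r ∣ Nat.card G} H ∧ Group.IsNilpotent H)
    (hcomp : ∃ K : Subgroup A, K.Normal ∧ (∀ r : ℕ, r.Prime → r ∣ Nat.card K → ¬ r ∣ Nat.card G) ∧
      ∀ r : ℕ, r.Prime → r ∣ K.index → r ∣ Nat.card G) :
    Group.IsSolvable G := by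
  obtain ⟨H, hH, nH⟩ := hHall
  obtain ⟨K, nK, h1, h2⟩ := hcomp
  refine isog_sol ⟨(equivMapOfInjective _ _ SemidirectProduct.inl_injective).symm.trans topEquiv⟩
    (main (X := Transfer.sdL φ ⊤) (A := Transfer.sdR φ ⊤) ⟨Transfer.sdR_le_normalizer_top φ _, eq_bot_iff.2 ?_,
      fun p hp hd => ?_⟩ fun r => hS3 (PLocal.involves_iff_top.2 r.of_map))
  · rintro _ ⟨⟨g, -, rfl⟩, hg⟩
    rw [hfpf g fun a => (Transfer.inl_mem_centralizer_sdR φ).1 hg a trivial, map_one]
    exact one_mem _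
  rw [Transfer.card_sdL, card_top] at hd
  have h3 : K ⊔ H = ⊤ := sup_eq_of_coprime_idx le_top le_top (by
    rw [relIndex_top_right, relIndex_top_right]
    exact Nat.coprime_of_dvd fun r hr d => hH.2 r hr ⟨hr, h2 r hr d⟩)
  have h4 : K ⊔ Op' p H ⊴ ⊤ := ⟨le_top, h3.ge.trans (sup_le (normsG le_sup_left)
    (normsY (norm_of_normal _ _) (pcore_normal _ _).norm))⟩
  refine ⟨_, normal_map _ h4, pHall_map _ (pHall_mk le_top (pgroupY (.inr (norm_of_normal _ _))
    ((p'natE hp).2 fun d => h1 p hp d hd) (pcore_pgroup _ _)) ?_)⟩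
  rw [show (⊤ : Subgroup A) = K ⊔ Op' p H ⊔ H by rw [sup_assoc, sup_eq_right.2 (pcore_sub _ H), h3],
    relIndex_sup_norml (le_top.trans h4.norm)]
  exact (nilpotent_pcore_Hall _ nH).idx.of_dvd (relIndex_dvd_of_le_left _ le_sup_right)

end Cfsg.Agent.S4041
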