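import Cfsg.Statements.S4044
import Cfsg.Agent.S3188
import Cfsg.Agent.S0799
import Cfsg.Agent.Classical.PSL2Max
import Cfsg.Agent.FG.SpecL2
import Cfsg.Agent.Transfer.Abelian
import Cfsg.Agent.Solv.Hall
import Mathlib.NumberTheory.LSeries.PrimesInAP

set_option autoImplicit false
open Cfsg

namespace Cfsg.Agent.S4044

open Subgroup Cfsg.Agent.Transfer Cfsg.Agent.Classical
open scoped MatrixGroups

section
variable {G : Type*} [Group G] [Finite G] {m : ℕ}

theorem hall (L : Subgroup G) [Group.IsSolvable L] (h1 : m ∣ Nat.card G) (h2 : m.Coprime (Nat.card G / m))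
    (h3 : m.Coprime L.index) : ∃ H : Subgroup G, Nat.card H = m := by
  obtain ⟨k, hk⟩ : m ∣ Nat.card L := h3.dvd_of_dvd_mul_right (L.card_mul_index ▸ h1)
  have hm : 0 < m := Nat.pos_of_dvd_of_pos h1 Nat.card_pos
  rw [← L.card_mul_index, hk, mul_assoc, Nat.mul_div_cancel_left _ hm] at h2
  obtain ⟨H, hH⟩ := (Solv.HallOK.of_isSolvable {p | p ∣ m} L).exists_hall
  exact ⟨H.map L.subtype, by
    rw [card_map_of_injective L.subtype_injective]
    exact (Solv.isPiHall_iff_card_eq hk h2.coprime_mul_right_right).1 hH⟩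

theorem sol_ext (N : Subgroup G) [N.Normal] (h1 : Group.IsSolvable N) (h2 : Group.IsSolvable (G ⧸ N)) :
    Group.IsSolvable G :=
  Group.isSolvable_of_ker_le_range N.subtype (QuotientGroup.mk' N) (by simp)

theorem sol_pg (h : IsPGroup 2 G) : Group.IsSolvable G := by
  have := h.isNilpotent
  infer_instance

theorem sol_npc (h : HasNormalPComplement 2 G) : Group.IsSolvable G := by
  obtain ⟨N, _, h1, h2⟩ := hasNormalPComplement_iff_exists.1 h
  exact sol_ext N (FTC.solvable_of_odd (Nat.coprime_two_right.1 h1)) (sol_pg h2)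

theorem key (h : ¬ Group.IsSolvable G) (h16 : ¬ 16 ∣ Nat.card G) :
    (∃ Q : Subgroup G, IsPGroup 2 Q ∧ 4 ∣ Nat.card Q ∧ 3 ∣ Nat.card (normalizer (Q : Set G))) ∨
      ∃ P : Sylow 2 G, Nat.card (P : Subgroup G) = 8 ∧ IsMulCommutative (P : Subgroup G) := by
  obtain ⟨P⟩ : Nonempty (Sylow 2 G) := inferInstance
  obtain ⟨Q, q, k, g, hQP, hq, h2, hg, hn, hc⟩ := exists_prime_pow_not_centralizer P fun r => h (sol_npc r)
  haveI := Fact.mk hq
  have hQ : IsPGroup 2 Q := P.isPGroup'.to_le hQP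
  have hA := isPGroup_zpowers_of_pow_eq_one hg
  have hAn := zpowers_le.2 hn
  obtain ⟨j, hj⟩ := IsPGroup.iff_card.1 hQ
  obtain ⟨i, hi⟩ := IsPGroup.iff_card.1 (hQ.to_inf_left (K := centralizer (zpowers g : Set G)))
  have h3 := card_modEq_card_inf_centralizer hA hAn
  have hj3 : j ≤ 3 := by
    by_contra r
    exact h16 ((pow_dvd_pow 2 (by omega : 4 ≤ j)).trans (hj ▸ card_subgroup_dvd_card Q))
  have hij : i < j := by
    have : Q ⊓ centralizer (zpowers g : Set G) < Q := lt_of_le_of_ne inf_le_left fun e =>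
      hc fun x hx => ((e.ge hx).2 g (mem_zpowers g)).symm
    exact (Nat.pow_lt_pow_iff_right one_lt_two).1 (hi ▸ hj ▸ lt_of_le_of_ne (card_le_of_le this.le) fun e =>
      this.ne (eq_of_le_of_card_ge this.le e.ge))
  have hqn : q ∣ Nat.card (normalizer (Q : Set G)) := by
    obtain ⟨l, -, hl⟩ := (Nat.dvd_prime_pow hq).1 (orderOf_dvd_of_pow_eq_one hg)
    refine (dvd_pow_self q fun e => hc ?_).trans (hl ▸ orderOf_dvd_natCard _ hn)
    rw [e, pow_zero, orderOf_eq_one_iff] at hl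
    exact hl ▸ one_mem _
  rw [hi, hj] at h3
  have h4 := (Nat.modEq_iff_dvd' (Nat.pow_le_pow_right two_pos hij.le)).1 h3.symm
  have h5 : q ∣ 2 ^ (j - i) - 1 := by
    refine ((Nat.coprime_primes hq Nat.prime_two).2 h2 |>.pow_right i).dvd_of_dvd_mul_left ?_
    rwa [Nat.mul_sub, ← pow_add, mul_one, Nat.add_sub_cancel' hij.le]
  obtain e | e | e : j - i = 1 ∨ j - i = 2 ∨ j - i = 3 := by omega
  · rw [e] at h5
    exact absurd (Nat.dvd_one.1 h5) hq.ne_one
  · rw [e] at h5
    obtain rfl := (Nat.prime_dvd_prime_iff_eq hq Nat.prime_three).1 h5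
    exact Or.inl ⟨Q, hQ, hj ▸ pow_dvd_pow 2 (by omega : 2 ≤ j), hqn⟩
  · rw [e] at h5
    obtain rfl := (Nat.prime_dvd_prime_iff_eq hq Nat.prime_seven).1 h5
    obtain ⟨rfl, rfl⟩ : j = 3 ∧ i = 0 := by omega
    obtain ⟨l, hl⟩ := IsPGroup.iff_card.1 P.isPGroup'
    have h6 : l ≤ 3 := by
      by_contra r
      exact h16 ((pow_dvd_pow 2 (by omega : 4 ≤ l)).trans (hl ▸ card_subgroup_dvd_card _))
    obtain rfl : Q = P := eq_of_le_of_card_ge hQP (hl ▸ hj ▸ Nat.pow_le_pow_right two_pos h6)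
    refine Or.inr ⟨P, hj, ?_⟩
    set Z := (P : Subgroup G) ⊓ centralizer ((P : Subgroup G) : Set G)
    have h7 := card_modEq_card_inf_centralizer hA (Q := Z) (hAn.trans
      ((le_inf le_rfl (BG.cent_norm _)).trans inf_normalizer_le_normalizer_inf))
    have h8 : Z ⊓ centralizer (zpowers g : Set G) = ⊥ :=
      le_bot_iff.1 ((inf_le_inf_right _ inf_le_left).trans (card_eq_one.1 hi).le)
    rw [h8, card_bot] at h7
    have h9 : Nat.card Z ∣ 2 ^ 3 := hj ▸ card_dvd_of_le inf_le_left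
    have h10 : Z ≠ ⊥ := by
      haveI : Nontrivial (P : Subgroup G) := Finite.one_lt_card_iff_nontrivial.1 (by omega)
      haveI := P.isPGroup'.center_nontrivial
      obtain ⟨⟨z, hz⟩, h1⟩ := exists_ne (1 : center (P : Subgroup G))
      intro e
      have : (z : G) ∈ Z := ⟨z.2, fun y hy => congrArg Subtype.val (mem_center_iff.1 hz ⟨y, hy⟩)⟩
      exact h1 (Subtype.ext (Subtype.ext (e.le this)))
    have h11 : Nat.card Z = 8 := by
      have := Nat.le_of_dvd (by norm_num) h9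
      have : Nat.card Z ≠ 1 := fun e => h10 (card_eq_one.1 e)
      unfold Nat.ModEq at h7
      omega
    exact le_centralizer_iff_isMulCommutative.1 (inf_eq_left.1 (eq_of_le_of_card_ge inf_le_left (by rw [hj]; exact h11.ge)))

theorem sol_four (h : ¬ 4 ∣ Nat.card G) : Group.IsSolvable G := by
  by_contra r
  rcases key r (fun e => h ((by norm_num : 4 ∣ 16).trans e)) with ⟨Q, -, h1, -⟩ | ⟨P, h1, -⟩
  · exact h (h1.trans (card_subgroup_dvd_card Q))
  · exact h ((by norm_num : 4 ∣ 8).trans (h1 ▸ card_subgroup_dvd_card _))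

theorem key4 (h : ¬ Group.IsSolvable G) (h8 : ¬ 8 ∣ Nat.card G) :
    ∃ Q : Subgroup G, IsPGroup 2 Q ∧ 4 ∣ Nat.card Q ∧ 3 ∣ Nat.card (normalizer (Q : Set G)) :=
  (key h fun e => h8 ((by norm_num : 8 ∣ 16).trans e)).resolve_right fun ⟨P, h1, _⟩ => h8 (h1 ▸ card_subgroup_dvd_card _)

/-- A 2-subgroup of order at least 4 whose normaliser has order divisible by 3. -/
def Gd (G : Type*) [Group G] : Prop :=
  ∃ Q : Subgroup G, IsPGroup 2 Q ∧ 4 ∣ Nat.card Q ∧ 3 ∣ Nat.card (normalizer (Q : Set G))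

theorem Gd.sub {K : Subgroup G} (h : Gd K) : Gd G := by
  obtain ⟨Q, h1, h2, h3⟩ := h
  refine ⟨Q.map K.subtype, h1.map _, by rwa [card_map_of_injective K.subtype_injective], h3.trans ?_⟩
  rw [← card_map_of_injective K.subtype_injective]
  exact card_dvd_of_le (le_normalizer_map _)

theorem norm_sol {Q : Subgroup G} (h1 : IsPGroup 2 Q) (h2 : 4 ∣ Nat.card Q) (h16 : ¬ 16 ∣ Nat.card G) :
    Group.IsSolvable (normalizer (Q : Set G)) ∧ ¬ 2 ∣ (normalizer (Q : Set G)).index := by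
  constructor
  · refine sol_ext (Q.subgroupOf _) (sol_pg (h1.comap_of_injective _ (subtype_injective _))) (sol_four fun e => h16 ?_)
    refine (mul_dvd_mul h2 e).trans (Dvd.dvd.trans ?_ (card_subgroup_dvd_card (normalizer (Q : Set G))))
    rw [← (Q.subgroupOf (normalizer (Q : Set G))).card_mul_index, Nat.card_congr (subgroupOfEquivOfLe le_normalizer).toEquiv]
    rfl
  · obtain ⟨P, hP⟩ := h1.exists_le_sylow
    refine fun e => P.not_dvd_index (e.trans (index_dvd_of_le ?_))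
    obtain ⟨l, hl⟩ := IsPGroup.iff_card.1 P.isPGroup'
    obtain ⟨j, hj⟩ := IsPGroup.iff_card.1 h1
    have h6 : l ≤ 3 := by
      by_contra r
      exact h16 ((pow_dvd_pow 2 (by omega : 4 ≤ l)).trans (hl ▸ card_subgroup_dvd_card _))
    have h7 : 2 ≤ j := (Nat.pow_dvd_pow_iff_le_right one_lt_two).1 (hj ▸ h2)
    have h8 := (Q.subgroupOf P).card_mul_index
    rw [Nat.card_congr (subgroupOfEquivOfLe hP).toEquiv, hj, hl] at h8
    have h9 : (Q.subgroupOf P).index ∣ 2 := Nat.dvd_of_mul_dvd_mul_left (pow_pos two_pos j)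
      (h8 ▸ pow_succ 2 j ▸ pow_dvd_pow 2 (by omega))
    rw [← normal_subgroupOf_iff_le_normalizer hP]
    rcases (Nat.dvd_prime Nat.prime_two).1 h9 with e | e
    · rw [index_eq_one.1 e]; infer_instance
    · exact normal_of_index_eq_two e

theorem not_three {L : Subgroup G} (h : 3 ∣ Nat.card L) (h9 : ¬ 9 ∣ Nat.card G) : ¬ 3 ∣ L.index :=
  fun e => h9 (L.card_mul_index ▸ mul_dvd_mul h e)

theorem cent_sol (h16 : ¬ 16 ∣ Nat.card G) (h : ¬ 8 ∣ Nat.card G ∨ ¬ Gd G) (t : G) (ht : orderOf t = 2) :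
    Group.IsSolvable (centralizer ({t} : Set G)) := by
  set C := centralizer ({t} : Set G)
  let Z : Subgroup C := zpowers ⟨t, mem_centralizer_singleton_iff.2 rfl⟩
  have hZ : Nat.card Z = 2 := by rw [Nat.card_zpowers, orderOf_mk, ht]
  have hp : IsPGroup 2 Z := .of_card (hZ.trans (pow_one 2).symm)
  have hz : Z ≤ center C := zpowers_le.2 (mem_center_iff.2 fun g => Subtype.ext (mem_centralizer_singleton_iff.1 g.2))
  haveI : Z.Normal := ⟨fun a ha g => by rwa [mem_center_iff.1 (hz ha) g, mul_inv_cancel_right]⟩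
  have hd : 2 * Nat.card (C ⧸ Z) ∣ Nat.card G := by
    rw [← hZ, mul_comm, ← card_eq_card_quotient_mul_card_subgroup]
    exact card_subgroup_dvd_card C
  refine sol_ext Z (sol_pg hp) (h.elim (fun r => sol_four fun e => r ((mul_dvd_mul_left 2 e).trans hd)) fun r => ?_)
  by_contra hs
  obtain ⟨Q, h1, h2, h3⟩ := key4 hs fun e => h16 ((mul_dvd_mul_left 2 e).trans hd)
  have hs := QuotientGroup.mk'_surjective Z
  refine r (Gd.sub ⟨Q.comap (QuotientGroup.mk' Z), h1.comap_of_ker_isPGroup _ (by rwa [QuotientGroup.ker_mk']),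
    h2.trans (card_dvd_of_surjective _ (((QuotientGroup.mk' Z).subgroupComap_surjective_of_surjective Q hs))), h3.trans
      ((card_dvd_of_surjective _ (((QuotientGroup.mk' Z).subgroupComap_surjective_of_surjective _ hs))).trans
        (card_dvd_of_le (le_normalizer_comap _)))⟩)

end

theorem psl_ns {F : Type*} [Field F] [Finite F] (h : 4 ≤ Nat.card F) : ¬ Group.IsSolvable PSL(2, F) := fun hs => by
  haveI := Matrix.ProjectiveSpecialLinearGroup.rank_two_simple h
  letI : CommGroup PSL(2, F) := { (inferInstance : Group PSL(2, F)) with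
    mul_comm := IsSimpleGroup.comm_iff_isSolvable.2 hs }
  have hp := IsSimpleGroup.prime_card (α := PSL(2, F))
  have h1 := card_PSL2_mul (F := F)
  have h2 : Nat.gcd 2 (Nat.card F - 1) ≤ 2 := Nat.gcd_le_left _ two_pos
  obtain ⟨q, hq⟩ := Nat.exists_eq_add_of_le' h
  rw [hq] at h1 h2
  have h3 : Nat.card PSL(2, F) ≤ q + 4 + 1 := by
    rcases hp.dvd_mul.1 (Dvd.intro_left _ h1) with e | e
    · rcases hp.dvd_mul.1 e with e | e <;> exact (Nat.le_of_dvd (by omega) e).trans (by omega)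
    · exact Nat.le_of_dvd (by omega) e
  have h4 := Nat.mul_le_mul h2 h3
  rw [h1, show q + 4 - 1 = q + 3 by omega] at h4
  nlinarith [Nat.zero_le (q * q), Nat.zero_le (q * q * q)]

theorem psl_eight {F : Type*} [Field F] [Fintype F] (h : ((Fintype.card F % 8 = 3 ∨ Fintype.card F % 8 = 5) ∧
    5 ≤ Fintype.card F) ∨ ∃ n : ℕ, 2 ≤ n ∧ Fintype.card F = 2 ^ n) (h16 : ¬ 16 ∣ Nat.card PSL(2, F))
    (h9 : ¬ 9 ∣ Nat.card PSL(2, F)) : 4 ≤ Nat.card F ∧ ¬ 8 ∣ Nat.card PSL(2, F) := by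
  have h1 := card_PSL2_mul (F := F)
  rw [← Nat.card_eq_fintype_card] at h
  generalize Nat.card F = q at *
  generalize Nat.card PSL(2, F) = N at *
  rcases h with ⟨h, h5⟩ | ⟨n, hn, rfl⟩
  · refine ⟨by omega, fun e => ?_⟩
    rw [Nat.gcd_eq_left (by omega : 2 ∣ q - 1)] at h1
    have h2 : 16 ∣ q * (q - 1) * (q + 1) := h1 ▸ mul_dvd_mul_left 2 e
    rw [mul_assoc] at h2
    have h3 := (Nat.Coprime.pow_left 4 (Nat.coprime_two_left.2 (Nat.odd_iff.2 (by omega : q % 2 = 1)))).dvd_of_dvd_mul_left h2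
    rcases h with h | h
    · obtain ⟨k, rfl⟩ : ∃ k, q = 8 * k + 3 := ⟨q / 8, by omega⟩
      rw [show (8 * k + 3 - 1) * (8 * k + 3 + 1) = 16 * (4 * k * k + 3 * k) + 8 by
        rw [show 8 * k + 3 - 1 = 8 * k + 2 by omega]; ring] at h3
      omega
    · obtain ⟨k, rfl⟩ : ∃ k, q = 8 * k + 5 := ⟨q / 8, by omega⟩
      rw [show (8 * k + 5 - 1) * (8 * k + 5 + 1) = 16 * (4 * k * k + 5 * k + 1) + 8 by
        rw [show 8 * k + 5 - 1 = 8 * k + 4 by omega]; ring] at h3
      omega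
  · have h2 : Nat.gcd 2 (2 ^ n - 1) = 1 := by
      refine Nat.coprime_two_left.2 (Nat.Even.sub_odd Nat.one_le_two_pow (Nat.even_pow.2 ⟨even_two, by omega⟩) odd_one)
    rw [h2, one_mul] at h1
    have h3 : n ≤ 3 := by
      by_contra r
      exact h16 (h1 ▸ ((pow_dvd_pow 2 (by omega : 4 ≤ n)).mul_right _).mul_right _)
    interval_cases n <;> omega

section
variable {G : Type*} [Group G] [Finite G]

theorem h24 {m : ℕ} (hm : m = 12 ∨ m = 24) (h1 : m ∣ Nat.card G) (h2 : m.Coprime (Nat.card G / m)) :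
    ∃ H : Subgroup G, Nat.card H = m := by
  have hc := Nat.mul_div_cancel' h1
  have a2 : ¬ 2 ∣ Nat.card G / m := fun e => by
    have := Nat.dvd_gcd (by omega : 2 ∣ m) e
    omega
  have a3 : ¬ 3 ∣ Nat.card G / m := fun e => by
    have := Nat.dvd_gcd (by omega : 3 ∣ m) e
    omega
  have h16 : ¬ 16 ∣ Nat.card G := by rcases hm with rfl | rfl <;> omega
  have h9 : ¬ 9 ∣ Nat.card G := by rcases hm with rfl | rfl <;> omega
  by_cases hs : Group.IsSolvable G
  · exact hall ⊤ h1 h2 (by simp)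
  by_cases hg : Gd G
  · obtain ⟨Q, h3, h4, h5⟩ := hg
    obtain ⟨h6, h7⟩ := norm_sol h3 h4 h16
    refine hall (normalizer (Q : Set G)) h1 h2 (Nat.Coprime.coprime_dvd_left (by rcases hm with rfl | rfl <;> decide : m ∣ 2 ^ 3 * 3) ?_)
    exact Nat.Coprime.mul_left ((Nat.prime_two.coprime_iff_not_dvd.2 h7).pow_left 3)
      (Nat.prime_three.coprime_iff_not_dvd.2 (not_three h5 h9))
  obtain ⟨P, -, hP⟩ := (key hs h16).resolve_left hg
  obtain ⟨F, _, _, hF, N, -, ⟨e⟩, -⟩ := (S3188.result P hP (cent_sol h16 (.inr hg))).resolve_left hs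
  have hd : Nat.card PSL(2, F) ∣ Nat.card G := Nat.card_congr e.toEquiv ▸
    (card_subgroup_dvd_card N).trans (card_quotient_dvd_card _)
  obtain ⟨h3, h4⟩ := psl_eight hF (fun r => h16 (r.trans hd)) fun r => h9 (r.trans hd)
  let π := QuotientGroup.mk' (oddCore G)
  have hπ := π.subgroupComap_surjective_of_surjective N (QuotientGroup.mk'_surjective _)
  refine absurd (Gd.sub (K := N.comap π) (key4 (fun r => psl_ns h3 ?_) fun r => h4 ?_)) hg
  · exact Group.isSolvable_of_surjective (f := e.toMonoidHom.comp (π.subgroupComap N)) (e.surjective.comp hπ)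
  · rw [Solv.card_comap_mk', Nat.card_congr e.toEquiv] at r
    exact ((coprime_card_pPrimeCore (p := 2) (G := G)).symm.pow_left 3).dvd_of_dvd_mul_left r

theorem h60 (h1 : 60 ∣ Nat.card G) (h2 : Nat.Coprime 60 (Nat.card G / 60)) : ∃ H : Subgroup G, Nat.card H = 60 := by
  have hc := Nat.mul_div_cancel' h1
  have a2 : ¬ 2 ∣ Nat.card G / 60 := fun e => by
    have := Nat.dvd_gcd (by omega : 2 ∣ 60) e
    omega
  have a3 : ¬ 3 ∣ Nat.card G / 60 := fun e => by
    have := Nat.dvd_gcd (by omega : 3 ∣ 60) e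
    omega
  have h8 : ¬ 8 ∣ Nat.card G := by omega
  have h16 : ¬ 16 ∣ Nat.card G := by omega
  have h9 : ¬ 9 ∣ Nat.card G := by omega
  by_cases hs : Group.IsSolvable G
  · exact hall ⊤ h1 h2 (by simp)
  obtain ⟨P⟩ : Nonempty (Sylow 2 G) := inferInstance
  have hP : IsMulCommutative (P : Subgroup G) := by
    obtain ⟨l, hl⟩ := IsPGroup.iff_card.1 P.isPGroup'
    have h6 : l ≤ 2 := by
      by_contra r
      exact h8 ((pow_dvd_pow 2 (by omega : 3 ≤ l)).trans (hl ▸ card_subgroup_dvd_card _))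
    have h7 : 2 ≤ l := (Nat.pow_dvd_pow_iff_le_right one_lt_two).1 (hl ▸ P.pow_dvd_card_of_pow_dvd_card (by omega))
    exact IsPGroup.isMulCommutative_of_card_eq_prime_sq (p := 2) (le_antisymm h6 h7 ▸ hl)
  obtain ⟨F, _, _, hF, N, _, ⟨e⟩, -⟩ := (S3188.result P hP (cent_sol h16 (.inl h8))).resolve_left hs
  have hN := Nat.card_congr e.toEquiv
  have hq := card_quotient_dvd_card (oddCore G)
  have hd : Nat.card PSL(2, F) ∣ Nat.card G := hN ▸ (card_subgroup_dvd_card N).trans hq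
  obtain ⟨h3, h4⟩ := psl_eight hF (fun r => h16 (r.trans hd)) fun r => h9 (r.trans hd)
  let π := QuotientGroup.mk' (oddCore G)
  have hπ : Function.Surjective π := QuotientGroup.mk'_surjective _
  by_cases h5 : 5 ∣ Nat.card PSL(2, F)
  · obtain ⟨A, ⟨eA⟩⟩ := exists_alt5_PSL (F := F) ((five_dvd_iff Nat.card_pos).1 (by
      have := h5.trans (Dvd.intro_left _ (card_PSL2_mul (F := F)))
      rwa [← Nat.one_pow 2, Nat.sq_sub_sq, mul_comm (_ + 1), ← mul_assoc]))
    let B := ((A.map e.symm.toMonoidHom).map N.subtype).comap π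
    have hB : Nat.card B = Nat.card (oddCore G) * 60 := by
      rw [Solv.card_comap_mk', card_map_of_injective N.subtype_injective,
        card_map_of_injective e.symm.injective, Nat.card_congr eA.toEquiv, nat_card_alternatingGroup]
      simp [Nat.factorial]
    have hO : oddCore G ≤ B := (QuotientGroup.ker_mk' _).ge.trans (ker_le_comap _ _)
    have hO' := Nat.card_congr (subgroupOfEquivOfLe hO).toEquiv
    have hi : ((oddCore G).subgroupOf B).index = 60 :=
      Nat.eq_of_mul_eq_mul_left Nat.card_pos ((hO' ▸ card_mul_index _).trans hB)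
    obtain ⟨H, hH⟩ := exists_right_complement'_of_coprime (N := (oddCore G).subgroupOf B) (by
      rw [hi, hO']
      refine (h2.coprime_dvd_right (Nat.dvd_div_of_mul_dvd ?_)).symm
      rw [mul_comm, ← hB]
      exact card_subgroup_dvd_card B)
    exact ⟨H.map B.subtype, by rw [card_map_of_injective B.subtype_injective, ← hH.symm.index_eq_card, hi]⟩
  · obtain ⟨Q, h6, h7, h10⟩ := key4 (G := N) (fun r => psl_ns h3 (Group.isSolvable_of_surjective
      (f := e.toMonoidHom) e.surjective)) (hN ▸ h4)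
    obtain ⟨Q', hQ'⟩ := h6.exists_le_sylow
    obtain rfl : Q = Q' := by
      obtain ⟨l, hl⟩ := IsPGroup.iff_card.1 Q'.isPGroup'
      have h6 : l ≤ 2 := by
        by_contra r
        exact h4 ((pow_dvd_pow 2 (by omega : 3 ≤ l)).trans (hN ▸ hl ▸ card_subgroup_dvd_card _))
      exact eq_of_le_of_card_ge hQ' (hl ▸ (Nat.pow_le_pow_right two_pos h6).trans (Nat.le_of_dvd Nat.card_pos h7))
    set L := normalizer (((Q' : Subgroup N).map N.subtype : Subgroup (G ⧸ oddCore G)) : Set (G ⧸ oddCore G))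
    obtain ⟨h11, h12⟩ := norm_sol (h6.map N.subtype) (by rwa [card_map_of_injective N.subtype_injective])
      fun r => h16 (r.trans hq)
    have h13 : 3 ∣ Nat.card L := h10.trans (by
      rw [← card_map_of_injective N.subtype_injective]
      exact card_dvd_of_le (le_normalizer_map _))
    have h14 : L.index ∣ Nat.card N := by
      have r1 : N.index = N.relIndex L := by rw [← relIndex_sup_right, Q'.normalizer_sup_eq_top, relIndex_top_right]
      have r2 : N.index ∣ Nat.card L := r1 ▸ index_dvd_card _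
      refine Nat.dvd_of_mul_dvd_mul_left (Nat.card_pos (α := L)) ?_
      rw [L.card_mul_index, ← N.card_mul_index, mul_comm]
      exact mul_dvd_mul_right r2 _
    haveI : Group.IsSolvable (oddCore G) :=
      FTC.solvable_of_odd (Nat.coprime_two_right.1 (coprime_card_pPrimeCore (p := 2) (G := G)))
    haveI : Group.IsSolvable (L.comap π) := Group.isSolvable_of_ker_le_range
      (inclusion ((QuotientGroup.ker_mk' _).ge.trans (ker_le_comap π L))) (π.subgroupComap L) fun x hx =>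
        ⟨⟨x, (QuotientGroup.eq_one_iff _).1 (congrArg Subtype.val hx)⟩, rfl⟩
    refine hall (L.comap π) h1 h2 ?_
    rw [index_comap_of_surjective _ hπ, show 60 = 2 ^ 2 * 3 * 5 from rfl]
    exact Nat.Coprime.mul_left (Nat.Coprime.mul_left ((Nat.prime_two.coprime_iff_not_dvd.2 h12).pow_left 2)
      (Nat.prime_three.coprime_iff_not_dvd.2 (not_three h13 fun r => h9 (r.trans hq))))
      (Nat.prime_five.coprime_iff_not_dvd.2 fun r => h5 (hN ▸ r.trans h14))

end

theorem counter {u v : ℕ} (huv : u.Coprime v) (hu : Odd u ∨ ∃ a, u = 2 ^ (a + 2)) (hu1 : 2 < u) (hv : Odd v) (hv1 : 1 < v)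
    (h : ∀ (G : Type) [Group G] [Finite G], u * v ∣ Nat.card G → (u * v).Coprime (Nat.card G / (u * v)) →
      ∃ H : Subgroup G, Nat.card H = u * v) : u * v = 12 ∨ u * v = 24 ∨ u * v = 60 := by
  obtain ⟨w, rfl⟩ := Nat.exists_eq_add_of_le' hv1.le
  obtain ⟨c, hc1, hc2⟩ := Nat.chineseRemainder (huv.pow 2 2) (u + 1) w
  have c1 : (u + 1).Coprime u := by simp
  have c2 : w.Coprime (w + 1) := by simp
  obtain ⟨r, hr, hp, hrc⟩ := Nat.forall_exists_prime_gt_and_modEq (u * (w + 1)) (q := u ^ 2 * (w + 1) ^ 2) (a := c)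
    (by positivity) (Nat.Coprime.mul_right (by rw [Nat.Coprime, hc1.gcd_eq]; exact c1.pow_right 2)
      (by rw [Nat.Coprime, hc2.gcd_eq]; exact c2.pow_right 2))
  haveI := Fact.mk hp
  have hm : 6 ≤ u * (w + 1) := Nat.mul_le_mul hu1 hv1
  have r1 := ((hrc.of_mul_right _).trans hc1).symm
  have r2 := (((hrc.of_mul_left _).trans hc2).add_right 1).symm
  have l1 : u + 1 ≤ r := (Nat.le_mul_of_pos_right u w.succ_pos).trans_lt hr
  have l2 : w + 1 ≤ r + 1 := ((Nat.le_mul_of_pos_left _ (by omega)).trans hr.le).trans r.le_succ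
  obtain ⟨k, hk⟩ := (Nat.modEq_iff_dvd' l1).1 r1
  obtain ⟨k', hk'⟩ := (Nat.modEq_iff_dvd' l2).1 r2
  set v := w + 1
  have e1 : r - 1 = u * (u * k + 1) := by
    rw [show u * (u * k + 1) = u ^ 2 * k + u by ring, ← hk]; omega
  have e2 : r + 1 = v * (v * k' + 1) := by
    rw [show v * (v * k' + 1) = v ^ 2 * k' + v by ring, ← hk']; omega
  have ho : r % 2 = 1 := hp.eq_two_or_odd.resolve_left (by omega)
  have hg : Nat.gcd 2 (r - 1) = 2 := Nat.gcd_eq_left (by omega)
  have two : ∀ d, d ∣ r - 1 → d ∣ r + 1 → d ∣ 2 := fun d a b => by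
    have := Nat.dvd_sub b a
    rwa [show r + 1 - (r - 1) = 2 by omega] at this
  have d1 : u ∣ r - 1 := ⟨_, e1⟩
  have d2 : v ∣ r + 1 := ⟨_, e2⟩
  have hN := card_PSL2_mul (F := ZMod r)
  rw [Nat.card_zmod, hg] at hN
  have cr : (u * v).Coprime r := (Nat.coprime_of_lt_prime (by omega) hr hp).symm
  have cv : v.Coprime (r - 1) := Nat.eq_one_of_dvd_coprimes (Nat.coprime_two_right.2 hv) (Nat.gcd_dvd_left _ _)
    (two _ (Nat.gcd_dvd_right _ _) ((Nat.gcd_dvd_left _ _).trans d2))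
  obtain ⟨t, ht⟩ : 2 ∣ v * k' + 1 := (Nat.coprime_two_left.2 hv).dvd_of_dvd_mul_left (e2 ▸ by omega)
  have e3 : Nat.card PSL(2, ZMod r) = u * v * (r * (u * k + 1) * t) :=
    Nat.eq_of_mul_eq_mul_left two_pos (by rw [hN, e2, ht]; conv_lhs => rw [e1]
                                          ring)
  have ct : u.Coprime t := by
    have d3 : t ∣ r + 1 := e2 ▸ ht ▸ (Dvd.intro_left 2 rfl).mul_left v
    rcases hu with hu | ⟨a, rfl⟩
    · exact Nat.eq_one_of_dvd_coprimes (Nat.coprime_two_right.2 hu) (Nat.gcd_dvd_left _ _)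
        (two _ ((Nat.gcd_dvd_left _ _).trans d1) ((Nat.gcd_dvd_right _ _).trans d3))
    · refine (Nat.prime_two.coprime_iff_not_dvd.2 fun e => ?_).pow_left _
      have a1 : 2 * 2 ∣ r + 1 := e2 ▸ ht ▸ (mul_dvd_mul_left 2 e).mul_left v
      have a2 : 2 ^ 2 ∣ r - 1 := (pow_dvd_pow 2 (by omega)).trans d1
      omega
  obtain ⟨H, hH⟩ := h PSL(2, ZMod r) ⟨_, e3⟩ (by
    rw [e3, Nat.mul_div_cancel_left _ (by omega)]
    refine (cr.mul_right (Nat.Coprime.mul_left (by simp) (cv.coprime_dvd_right ⟨u, by rw [e1, mul_comm]⟩))).mul_right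
      (Nat.Coprime.mul_left ct (Nat.Coprime.coprime_dvd_right ⟨2, by rw [ht, mul_comm]⟩ (by simp : v.Coprime (v * k' + 1)))))
  have no : ¬ (u * v ∣ r + 1 ∨ u * v ∣ r - 1) := by
    rintro (e | e)
    · exact absurd (Nat.le_of_dvd two_pos (two u d1 ((Dvd.intro _ rfl).trans e))) (by omega)
    · exact absurd (cv.eq_one_of_dvd ((Dvd.intro_left _ rfl).trans e)) (by omega)
  rcases S0799.result (ZMod.card r) r H with ⟨n, hn, hH'⟩ | ⟨P, K, hK, ⟨e⟩⟩ | ⟨⟨e⟩⟩ | ⟨⟨e⟩⟩ | ⟨⟨e⟩⟩ | ⟨K, _, _, j, hj, hH'⟩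
  · rw [hg] at hn
    have h1 : u * v ∣ 2 * n := by
      rcases hH' with ⟨-, e⟩ | ⟨⟨e⟩⟩
      · exact ⟨2, by rw [← e, hH, mul_comm]⟩
      · rw [← hH, Nat.card_congr e.toEquiv, DihedralGroup.nat_card]
    exact absurd (hn.imp (fun e => h1.trans (Nat.mul_dvd_of_dvd_div (by omega) e))
      fun e => h1.trans (Nat.mul_dvd_of_dvd_div (by omega) e)) no
  · obtain ⟨l, hl, hlv⟩ := Nat.exists_prime_and_dvd hv1.ne'
    haveI := Fact.mk hl
    obtain ⟨⟨x, hx⟩, hxl⟩ := exists_prime_orderOf_dvd_card' (G := K) l (by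
      rw [← Nat.card_congr e.toEquiv, hH]; exact hlv.mul_left u)
    rw [orderOf_mk] at hxl
    have hP : Nat.card (P : Subgroup PSL(2, ZMod r)) = r := by
      refine (card_sylow_of_card P (k := 1) (m := u * v * ((u * k + 1) * t)) (by rw [e3]; ring) fun a => ?_).trans (pow_one r)
      have a1 : r ∣ (r - 1) * (r + 1) := by
        rw [e2, ht]
        conv_rhs => rw [e1]
        exact a.trans ⟨2, by ring⟩
      rcases hp.dvd_mul.1 a1 with a | a
      · exact absurd (Nat.le_of_dvd (by omega) a) (by omega)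
      · exact hp.ne_one (Nat.dvd_one.1 ((Nat.dvd_add_right dvd_rfl).1 a))
    have hlr : l.Coprime r := cr.coprime_dvd_left (hlv.mul_left u)
    have h1 := card_modEq_card_inf_centralizer (p := l) (A := zpowers x) (.of_card (by rw [Nat.card_zpowers, hxl, pow_one]))
      (zpowers_le.2 (hK hx))
    rcases (Nat.dvd_prime hp).1 (hP ▸ card_dvd_of_le (inf_le_left : (P : Subgroup PSL(2, ZMod r)) ⊓
      centralizer (zpowers x : Set PSL(2, ZMod r)) ≤ P)) with a | a
    · rw [hP, a] at h1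
      exact absurd ((cv.coprime_dvd_left hlv).eq_one_of_dvd ((Nat.modEq_iff_dvd' hp.one_le).1 h1.symm)) hl.ne_one
    · obtain ⟨⟨y, hy⟩, hyr⟩ := exists_prime_orderOf_dvd_card' r a.symm.dvd
      rw [orderOf_mk] at hyr
      have h2 : orderOf (x * y) = l * r := by
        rw [Commute.orderOf_mul_eq_mul_orderOf_of_coprime (hy.2 x (mem_zpowers x)) (by rwa [hxl, hyr]), hxl, hyr]
      have h3 : l * r ∈ FG.Spec PSL(2, ZMod r) := ⟨_, h2⟩
      rw [FG.spec_PSL2 r, Nat.card_zmod, hg] at h3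
      have h4 : 2 * r ≤ l * r := Nat.mul_le_mul_right _ hl.two_le
      rcases h3 with a | a | a <;> have := Nat.le_of_dvd (by omega) a <;> omega
  · exact Or.inl (by rw [← hH, Nat.card_congr e.toEquiv, nat_card_alternatingGroup]; simp [Nat.factorial])
  · exact Or.inr (Or.inl (by rw [← hH, Nat.card_congr e.toEquiv, Nat.card_perm]; simp [Nat.factorial]))
  · exact Or.inr (Or.inr (by rw [← hH, Nat.card_congr e.toEquiv, nat_card_alternatingGroup]; simp [Nat.factorial]))
  · have hK : Nat.card K = r := by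
      rw [Nat.card_eq_fintype_card, ← hj, (hj ▸ hp : (Fintype.card K ^ j).Prime).eq_one_of_pow, pow_one]
    have h1 : Nat.card PSL(2, K) ∣ u * v := by
      rcases hH' with ⟨⟨e⟩⟩ | ⟨⟨e⟩⟩ <;> rw [← hH, Nat.card_congr e.toEquiv]
      exact card_dvd_of_injective (pslι K) pslInj
    have h2 := card_PSL2_mul (F := K)
    rw [hK, ← hN, hg] at h2
    have h3 := Nat.le_of_dvd (by omega) h1
    have h4 : r * 1 * 2 ≤ r * (r - 1) * (r + 1) := Nat.mul_le_mul (Nat.mul_le_mul_left _ (by omega)) (by omega)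
    omega

/-- For an integer m ≥ 2 the following are equivalent: (a) every finite group whose order n is divisible by m with gcd(m, n/m) = 1 has a subgroup of order m; (b) m is a prime power, or m ≡ 2 (mod 4), or m ∈ {12, 24, 60}. -/
theorem result (m : ℕ) (hm : 2 ≤ m) :
    (∀ (G : Type) [Group G] [Finite G], m ∣ Nat.card G → m.Coprime (Nat.card G / m) →
        ∃ H : Subgroup G, Nat.card H = m) ↔
    (IsPrimePow m ∨ m % 4 = 2 ∨ m = 12 ∨ m = 24 ∨ m = 60) := by
  constructor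
  · intro h
    by_contra hn
    push Not at hn
    obtain ⟨h1, h2, h3⟩ := hn
    have hp := Nat.minFac_prime (by omega : m ≠ 1)
    obtain ⟨a, v, hv, e⟩ := Nat.exists_eq_pow_mul_and_not_dvd (by omega : m ≠ 0) _ hp.ne_one
    have ha : a ≠ 0 := by
      rintro rfl
      exact hv (by rw [← one_mul v, ← pow_zero m.minFac, ← e]; exact m.minFac_dvd)
    have hv0 : v ≠ 0 := fun r => hv (r ▸ dvd_zero _)
    have hv1 : v ≠ 1 := fun r => h1 (by rw [e, r, mul_one]; exact hp.isPrimePow.pow ha)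
    have h4 := counter (u := m.minFac ^ a) (v := v) ((hp.coprime_iff_not_dvd.2 hv).pow_left a)
    rw [← e] at h4
    by_cases h5 : 2 ∣ m
    · rw [(Nat.minFac_eq_two_iff m).2 h5] at h4 hv e
      obtain ⟨b, rfl⟩ : ∃ b, a = b + 2 := ⟨a - 2, by
        have : a ≠ 1 := by rintro rfl; omega
        omega⟩
      have := h4 (.inr ⟨b, rfl⟩) (lt_of_lt_of_le (by norm_num) (Nat.pow_le_pow_right two_pos (by omega : 2 ≤ b + 2)))
        (Nat.odd_iff.2 (by omega)) (by omega) h
      omega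
    · have h6 : m.minFac ≠ 2 := fun r => h5 (r ▸ m.minFac_dvd)
      have := h4 (.inl (hp.odd_of_ne_two h6).pow) ((lt_of_le_of_ne hp.two_le h6.symm).trans_le (Nat.le_self_pow ha _))
        (Nat.odd_iff.2 (Nat.two_dvd_ne_zero.1 fun r => h5 (e ▸ r.mul_left _))) (by omega) h
      omega
  · rintro (h | h | h | h | rfl) G _ _ h1 h2
    · obtain ⟨p, k, hp, -, rfl⟩ := (isPrimePow_nat_iff m).1 h
      haveI := Fact.mk hp
      exact Sylow.exists_subgroup_card_pow_prime p h1
    · haveI : Group.IsSolvable G := sol_four fun e => by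
        have hc := Nat.mul_div_cancel' h1
        have : (2 ^ 2).Coprime (Nat.card G / m) := (h2.coprime_dvd_left (by omega : 2 ∣ m)).pow_left 2
        have := this.dvd_of_dvd_mul_right (hc ▸ e)
        omega
      exact hall ⊤ h1 h2 (by simp)
    · exact h24 (.inl h) h1 h2
    · exact h24 (.inr h) h1 h2
    · exact h60 h1 h2

end Cfsg.Agent.S4044
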