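import Cfsg.Statements.S4047
import Cfsg.Agent.ReeW.F
import Mathlib.Tactic.Group

set_option autoImplicit false
open Cfsg

namespace Cfsg.Agent.S4047
open scoped commutatorElement

open Subgroup Cfsg.Agent.BG Cfsg.Agent.LieM Cfsg.Agent.FG Cfsg.Agent.GW Cfsg.Agent.ReeW

/-- Let π be a set of odd primes and G a finite group whose Sylow 2-subgroups are dihedral or abelian. If N_G(H)/C_G(H) is a π-group for every nontrivial π-subgroup H of G, then the π'-elements of G form a subgroup. -/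
theorem result {G : Type*} [Group G] [Finite G] (π : Set ℕ)
    (hodd : ∀ p ∈ π, p.Prime ∧ p ≠ 2) (h2 : ∀ S : Sylow 2 G, IsMulCommutative S ∨ ∃ n : ℕ, Nonempty ((S : Subgroup G) ≃* DihedralGroup n))
    (hhom : (∀ H : Subgroup G, H ≠ ⊥ → (∀ p : ℕ, p.Prime → p ∣ Nat.card ↥H → p ∈ π) →
        ∀ p : ℕ, p.Prime → p ∣ (Subgroup.centralizer (H : Set G)).relIndex (Subgroup.normalizer (H : Set G)) → p ∈ π)) :
    (∃ K : Subgroup G, ∀ x : G, x ∈ K ↔ ∀ p : ℕ, p.Prime → p ∣ orderOf x → p ∉ π) := by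
  refine cl_of_AD (ρ := πᶜ) (fun h => (hodd 2 h).2 rfl) (piHom_of (by rwa [compl_compl])) ?_
  refine or_iff_not_imp_left.2 fun ns T hT => ?_
  obtain ⟨S⟩ : Nonempty (Sylow 2 G) := inferInstance
  rcases h2 S with k | ⟨n, ⟨e⟩⟩
  · exact .inl (AB.hab_of_sylow S k T hT)
  rcases (dihSyl_of_not_sol S e ns).dc hT with k | ⟨n, -, ⟨e⟩⟩
  · exact .inl ⟨⟨IsCyclic.commGroup.mul_comm⟩⟩
  · exact .inr ⟨n, e.symm.toMonoidHom, e.symm.surjective⟩

end Cfsg.Agent.S4047
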