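import Cfsg.Statements.S4064
import Cfsg.Agent.SE.Bender2
import Cfsg.Agent.S1476
import Cfsg.Agent.PF3.Om
import Cfsg.Agent.Classical.FieldCongr

set_option autoImplicit false
open Cfsg

namespace Cfsg.Agent.S4064

open Subgroup BG QuaternionGroup

theorem nil_of_engel {G : Type*} [Group G] [Finite G] {M : Subgroup G}
    (h : ∀ x ∈ M, ∀ g ∈ M, Commute x (g * x * g⁻¹)) : Group.IsNilpotent M := by
  refine nilpotentS (B := fittingOf M) (fun x hx => ?_) (Fitting_nil M)
  let N := closure {y | ∃ g ∈ M, y = g * x * g⁻¹}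
  refine Fitting_max (N := N) ⟨(closure_le _).2 ?_, fun m hm => mem_normalizer_fintype fun y hy => ?_⟩
    (abelian_nil (isMulCommutative_closure ?_)) (subset_closure ⟨1, one_mem _, by simp⟩)
  · rintro _ ⟨g, hg, rfl⟩; exact mul_mem (mul_mem hg hx) (inv_mem hg)
  · induction hy using closure_induction with
    | mem y hy => obtain ⟨g, hg, rfl⟩ := hy; exact subset_closure ⟨m * g, mul_mem hm hg, by group⟩
    | one => simp
    | mul a b _ _ ha hb => simpa [mul_assoc] using mul_mem ha hb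
    | inv a _ ha => simpa [mul_assoc] using inv_mem ha
  · rintro _ ⟨a, ha, rfl⟩ _ ⟨b, hb, rfl⟩
    simpa [mul_assoc] using ((h x hx (a⁻¹ * b) (mul_mem (inv_mem ha) hb)).map (MulAut.conj a)).eq

/-- Let G be a finite group in which the centralizer of every element meets each of its conjugates by elements outside its normalizer trivially. Then G is nilpotent; or G is a Frobenius group with a complement that is cyclic or isomorphic to the direct product of a cyclic group of odd order and the quaternion group of order 8; or G is isomorphic to PSL₂(2ⁿ) for some n ≥ 2. -/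
theorem result {G : Type*} [Group G] [Finite G] (hTI : ∀ x : G, Cfsg.IsTISubset (Subgroup.centralizer ({x} : Set G) : Set G)) :
    Group.IsNilpotent G ∨
    (∃ H : Subgroup G, Cfsg.IsFrobeniusComplement H ∧
      (IsCyclic H ∨ ∃ m : ℕ, Odd m ∧ Nonempty (H ≃* Multiplicative (ZMod m) × QuaternionGroup 2))) ∨
    (∃ n : ℕ, 2 ≤ n ∧ Nonempty (G ≃* Matrix.ProjectiveSpecialLinearGroup (Fin 2) (GaloisField 2 n))) := by
  have hn : ∀ {x y g : G}, y ≠ 1 → y ∈ C1[x] → g * y * g⁻¹ ∈ C1[x] → g ∈ N[C1[x]] := fun {x y g} h1 h2 h3 =>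
    by_contra fun e => h1 (hTI x g e y h2 h3)
  have heng : ∀ {z : G}, z ≠ 1 → ∀ x ∈ C1[z], ∀ g ∈ C1[z], Commute x (g * x * g⁻¹) := fun {z} hz x hx g hg =>
    (mem_cent1.1 (conj_mem_of_norm (hn hz (mem_cent1.2 (mem_cent1.1 hx).symm) (by
      rw [mem_cent1.1 hg, mul_inv_cancel_right]; exact mem_cent1.2 (mem_cent1.1 hx).symm)) (mem_cent1.2 rfl))).symm
  have hCN : IsCNGroup G := fun z hz => nil_of_engel (heng hz)
  have hti : ∀ p [Fact p.Prime] {S : Subgroup G}, SylowIn p S ⊤ → ∀ {y g : G}, y ≠ 1 → y ∈ S → g * y * g⁻¹ ∈ S →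
      g ∈ N[S] := fun p _ S hS y g h1 h2 h3 => by
    obtain ⟨z, hz, hz1⟩ := trivgPn.1 (center_nil_ne_bot (pgroup_nil hS.pg) fun e => h1 (mem_bot.1 (e ▸ h2)))
    have hle : S ≤ C1[z] := fun s hs => mem_cent1.2 (mem_cent.1 hz.2 s hs)
    exact norms_Hall_nil (hCN z hz1) (pHall_subl hle le_top hS) le_rfl (hn h1 (hle h2) (hle h3))
  by_cases hs : Group.IsSolvable G
  · rcases S1476.result hCN with h | ⟨-, E, -, -, hE, h | ⟨C, Q, rfl, hc, h1, h2, n, ⟨e⟩⟩⟩ | ⟨p, hp, h0, A, -, -, -, -, -, hA, ⟨n, hi⟩, -⟩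
    · exact Or.inl h
    · exact Or.inr (Or.inl ⟨E, hE, Or.inl h⟩)
    · have hcQ : #Q = 2 ^ (n + 2) := by rw [Nat.card_congr e.toEquiv, Nat.card_eq_fintype_card, card]; ring
      have hco : (#C).Coprime #Q := hcQ ▸ (Nat.coprime_two_right.2 h2).pow_right _
      have hc' : C ≤ C[Q] := fun a ha => mem_cent.2 fun b hb => (hc a ha b hb).symm
      refine Or.inr (Or.inl ⟨_, hE, ?_⟩)
      obtain _ | _ | n := n
      · exact Or.inl (cyclicY h1 (have := quaternionGroup_one_isCyclic; isCyclic_of_surjective e.symm e.symm.surjective) hc' hco)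
      · exact Or.inr ⟨#C, h2, ⟨(PF3.dprodEquiv ⟨rfl, cents_symm hc', coprime_TI hco⟩).symm.trans
          ((zmodCyclicMulEquiv h1).symm.prodCongr e)⟩⟩
      · let f : QuaternionGroup (2 ^ (n + 2)) →* G := Q.subtype.comp e.symm.toMonoidHom
        have hf : Function.Injective f := Subtype.val_injective.comp e.symm.injective
        have hz : ∀ x, f x ∈ C1[f (xa 0 ^ 2)] := fun x => mem_cent1.2 (by
          rw [← map_mul, ← map_mul, xa_sq]
          have : ((2 ^ (n + 2) : ℕ) : ZMod (2 * 2 ^ (n + 2))) + (2 ^ (n + 2) : ℕ) = 0 := by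
            rw [← Nat.cast_add, ← two_mul, ZMod.natCast_self]
          rcases x with i | i
          · rw [a_mul_a, a_mul_a, add_comm i]
          · rw [xa_mul_a, a_mul_xa, sub_eq_add_neg, neg_eq_of_add_eq_zero_right this])
        have h3 := heng (fun h => by
          have := orderOf_dvd_of_pow_eq_one (hf (h.trans (map_one f).symm))
          rw [orderOf_xa] at this; omega) _ (hz (xa 0)) _ (hz (a 1))
        rw [← map_inv, ← map_mul, ← map_mul, Commute, SemiconjBy, ← map_mul, ← map_mul, hf.eq_iff] at h3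
        have h4 : (a 1 : QuaternionGroup (2 ^ (n + 2))) ^ 4 = 1 := by
          have h5 : (a 1 : QuaternionGroup (2 ^ (n + 2)))⁻¹ = a (-1) := rfl
          rw [h5, a_mul_xa, xa_mul_a, xa_mul_xa, xa_mul_xa, a.injEq] at h3
          rw [a_one_pow, one_def, a.injEq]
          push_cast
          linear_combination -h3
        have := Nat.le_of_dvd (by norm_num) (orderOf_dvd_of_pow_eq_one h4)
        rw [orderOf_a_one, pow_add] at this
        have := Nat.one_le_two_pow (n := n)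
        omega
    · have := Fact.mk hp
      obtain ⟨S, hS⟩ := Sylow_exists p (⊤ : Subgroup G)
      rw [← Op_top] at h0 hA hi
      obtain ⟨y, hy, h1⟩ := trivgPn.1 h0
      have hN : S ⊴ ⊤ := ⟨le_top, fun g hg => hti p hS h1 (pcore_sub_Hall hS hy)
        (pcore_sub_Hall hS (conj_mem_of_norm ((pcore_normal _ _).norm hg) hy))⟩
      rw [Op, normal_Hall_pcore hS hN] at hA hi
      have h2 := index_dvd_of_le (le_sup_left : S ≤ S ⊔ A)
      obtain _ | n := n
      · exact absurd (index_eq_one.1 hi) hA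
      · exact absurd (relIndex_top_right S ▸ (dvd_pow_self p n.succ_ne_zero).trans (hi ▸ h2)) hS.not_dvd
  obtain ⟨S, hS⟩ := Sylow_exists 2 (⊤ : Subgroup G)
  have hS1 : S ≠ ⊥ := Sylow_ne_bot hS (by rw [card_top]; exact (SE.even_of_not_sol hs).two_dvd)
  have htop : ∀ {M : Subgroup G}, Group.IsSolvable M → M ≠ ⊤ := fun h e => hs (isog_sol ⟨topEquiv⟩ (e ▸ h))
  have hSN : ∀ {S : Subgroup G}, SylowIn 2 S ⊤ → N[S] ≠ ⊤ := fun {S} hS => htop (series_sol (normalG S)
    (pgroup_sol hS.pg) (SE.sol_of_odd (by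
      rw [card_quotient le_rfl]; exact pnat_odd.1 (pHall_subl (normG S) le_top hS).idx)))
  have hI : ∀ t ∈ N[S], orderOf t = 2 → t ∈ S := fun t ht h2 => mem_normal_Hall (pHall_subl (normG S) le_top hS)
    (normalG S) ht (by rw [PiElt, h2]; exact (pnat_prime Nat.prime_two).2 rfl)
  obtain ⟨z, hz, hz2⟩ := Invol.exists_invol_mem_of_isPGroup hS.pg hS1
  have hse : IsStronglyEmbedded N[S] := Invol.stronglyEmbedded_iff.2 ⟨hSN hS, ⟨z, normG S hz, hz2⟩,
    fun t ht h2 g hg => hti 2 hS (Invol.ne_one_of h2) (hI t ht h2) (hI _ hg (SE.conj_two h2 g))⟩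
  have hO : pPrimeCore 2 G ≤ N[S] → pPrimeCore 2 G = ⊥ := fun h => by
    by_contra h0
    obtain ⟨x, hx, h1⟩ := trivgPn.1 h0
    have hc : S ≤ C[pPrimeCore 2 G] := normal_pi_cent (normalG S) ⟨h, norm_of_normal _ _⟩ hS.pi
      (pnat_odd.2 Block.odd_card_pPrimeCore)
    have hle : ∀ g : G, cj g S ≤ C1[x] := fun g y hy => mem_cent1.2 (mem_cent.1
      ((cj_of_norm (norms_cent (norm_of_normal (pPrimeCore 2 G) ⊤) (mem_top g))) ▸ cj_mono g hc hy) x hx).symm
    refine hSN hS (eq_top_iff.2 fun g _ => mem_norm.2 ?_)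
    have H := fun g => nilpotent_Hall_pcore (hCN x h1) (pHall_subl (hle g) le_top (pHallJsub (mem_top g) hS))
    rw [H g, ← H 1, cj_one]
  by_cases hr : SE.Rank2 (⊤ : Subgroup G)
  swap
  · refine absurd (SE.rank1_sup hse hr) (htop (solvableY (Or.inr (norm_of_normal _ _))
      (SE.sol_of_odd Block.odd_card_pPrimeCore) ?_))
    exact series_sol (normalG S) (pgroup_sol hS.pg) (SE.sol_of_odd (by
      rw [card_quotient le_rfl]; exact pnat_odd.1 (pHall_subl (normG S) le_top hS).idx))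
  obtain ⟨_, t, Q, hH⟩ := SE.bender hse hr (hO (SE.se_oddCore_le hse hr))
  obtain ⟨s, r, hs⟩ := hH.exists_SR
  have hV : Suz.Vg (SE.pt N[S]) t = ⊥ := eq_bot_iff.2 fun v hv => by_contra fun h1 => by
    have := heng h1 s (mem_cent1.2 (hH.V_comm hs hv).1.symm) t (mem_cent1.2 (Suz.mem_Vg.1 hv).2.symm)
    have h2 := SE.smul_pt.1 (hH.setup.le hs.hs)
    have h3 : t * s * t⁻¹ ∈ N[S] := Invol.stronglyEmbedded_iff.1 hse |>.2.2 s h2 hs.ord _ (by
      rwa [← this.eq, mul_inv_cancel_right])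
    exact Rank1.Setup.t_smul_ne hH.setup (SE.smul_pt.2 (Invol.stronglyEmbedded_iff.1 hse |>.2.2 s h2 hs.ord _ h3))
  rcases hH.of_V hV with ⟨K, i1, i2, n, h1, h2, ⟨e⟩⟩ | ⟨h1, h2, -⟩
  · letI := Fintype.ofFinite (GaloisField 2 n)
    exact Or.inr (Or.inr ⟨n, h1, ⟨e.trans (Classical.pslCongr (FiniteField.ringEquivOfCardEq (by
      rw [h2, ← Nat.card_eq_fintype_card, GaloisField.card 2 n (by omega)])))⟩⟩)
  simp only [Rank1.Comm, not_forall] at h1
  obtain ⟨x, hx, y, hy, hxy⟩ := h1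
  have h0 : Suz.Q0 Q ≤ Q ⊓ C1[x] := fun u hu => ⟨Suz.Q0_le Q hu, mem_cent1.2 (hH.Q0_comm hu hx)⟩
  have h3 := hH.card_K_dvd (A := Q ⊓ C1[x]) inf_le_left fun k hk y hy =>
    ⟨Rank1.Setup.conj_mem_Q hH.setup (hH.K_smul_a hk) hy.1, conj_mem_of_norm (hn hs.ne_one (h0 hs.mem_Q0).2
      (h0 (hH.conj_mem_Q0 (hH.K_smul_a hk) hs.mem_Q0)).2) hy.2⟩
  have h4 := proper_card (h0.lt_of_ne fun e => hxy (hH.Q0_comm (e ▸ mem_inf.2 ⟨hx, mem_cent1.2 rfl⟩) hy))
  have h5 := proper_card ((inf_le_left (a := Q) (b := C1[x])).lt_of_ne fun e =>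
    hxy (mem_cent1.1 (e.ge hy).2).symm)
  obtain ⟨c, hc⟩ := card_dvd_of_le h0
  rw [h2] at h5
  rw [hc, ← hH.card_K] at h3 h4 h5
  exfalso
  generalize #(Suz.Kg (SE.pt N[S]) t) = k at h3 h4 h5
  obtain _ | _ | c := c
  · omega
  · omega
  have : k ∣ c + 1 := (Nat.dvd_add_right (dvd_mul_right k (c + 2))).1 (by convert h3 using 1; rw [add_one_mul]; rfl)
  nlinarith [Nat.le_of_dvd c.succ_pos this]

end Cfsg.Agent.S4064
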