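import Cfsg.Statements.S4073
import Cfsg.Agent.AB.CA2
import Cfsg.Agent.AB.PSL2
import Cfsg.Agent.AB.SolC
import Cfsg.Agent.S0071
import Cfsg.Agent.BG4.Rank
import Cfsg.Agent.Transfer.Abelian
import Cfsg.Agent.Classical.PSL2Max2
import Cfsg.Agent.Classical.FieldCongr
import Cfsg.Agent.FG.Three
import Cfsg.Agent.Gen.Invol

set_option autoImplicit false
open Cfsg

namespace Cfsg.Agent.S4073

open Subgroup Cfsg.Agent.BG Cfsg.Agent.AB

section
variable {G : Type*} [Group G] [Finite G] {A M H Q K S : Subgroup G} {t : G}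

theorem norm_le_of_frob (hA : A ⊴ M) (hp : (A.relIndex M).Prime)
    (fpf : ∀ y ∈ M, y ∉ A → ∀ a ∈ A, a * y = y * a → a = 1) (hH : H ≤ M) (hn : ¬ H ≤ A) : M ⊓ N[H] ≤ H := by
  obtain ⟨y, hy, yA⟩ := SetLike.not_le_iff_exists.1 hn
  have inj : ∀ a ∈ A, ∀ b ∈ A, a⁻¹ * (y * a * y⁻¹) = b⁻¹ * (y * b * y⁻¹) → a = b := fun a ha b hb e => by
    refine (mul_inv_eq_one.1 (fpf y (hH hy) yA _ (mul_mem hb (inv_mem ha)) ?_)).symm
    calc b * a⁻¹ * y = b * (a⁻¹ * (y * a * y⁻¹)) * y * a⁻¹ := by group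
      _ = _ := by rw [e]; group
  rintro g ⟨hg, gN⟩
  have sup := (p_index_maximal hA.1 hp).sup_eq (zpowers_le.2 (hH hy)) (fun h => yA (h (mem_zpowers y)))
  obtain ⟨a, ha, w, hw, rfl⟩ := (mem_sup_norml ((zpowers_le.2 (hH hy)).trans hA.2)).1 (sup ▸ hg)
  have wH := zpowers_le.2 hy hw
  have aN : a ∈ N[H] := (mul_mem_cancel_right (normG H wH)).1 gN
  let f : (H ⊓ A : Subgroup G) → (H ⊓ A : Subgroup G) := fun b => ⟨b⁻¹ * (y * b * y⁻¹),
    mul_mem (inv_mem b.2) (mem_inf.2 ⟨mul_mem (mul_mem hy b.2.1) (inv_mem hy), hA.conj_mem (hH hy) b.2.2⟩)⟩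
  have : Function.Surjective f := Finite.surjective_of_injective fun b c e =>
    Subtype.ext (inj _ b.2.2 _ c.2.2 (congrArg Subtype.val e))
  obtain ⟨b, hb⟩ := this ⟨a⁻¹ * (y * a * y⁻¹), mem_inf.2 ⟨by
    rw [show a⁻¹ * (y * a * y⁻¹) = a⁻¹ * y * a * y⁻¹ by group]
    exact mul_mem (conj_mem_of_norm' aN hy) (inv_mem hy), mul_mem (inv_mem ha) (hA.conj_mem (hH hy) ha)⟩⟩
  exact mul_mem (inj _ b.2.2 _ ha (congrArg Subtype.val hb) ▸ b.2.1) wH

theorem no_npc [IsSimpleGroup G] (hna : ¬ IsMulCommutative G) (hS : SylowIn 2 S ⊤) (h : Sdprod K S ⊤) : False := by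
  obtain ⟨h1, h2⟩ := sylow_ne_simple hna hS
  rcases h.normal.normal.eq_bot_or_eq_top with rfl | rfl
  · exact h2 (by rw [show S = ⊤ by simpa using h.sup, norm_top])
  · exact h1 (by simpa using h.inf)

theorem not_cyclic [IsSimpleGroup G] (hna : ¬ IsMulCommutative G) (hS : SylowIn 2 S ⊤) : ¬ IsCyclic S := fun hc =>
  no_npc hna hS (cyclic_pdiv_normal_complement hS (fun _ hq _ => hq.two_le) hc)

variable (h : ∀ H : Subgroup G, ¬ IsMulCommutative H → N[H] = H)
include h

theorem ab_of_normal (hK : K ⊴ M) (ne : ¬ M ≤ K) : IsMulCommutative K := by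
  by_contra e
  exact ne (h K e ▸ hK.2)

theorem idx_prime (hQ : IsMulCommutative Q) (ne : ¬ N[Q] ≤ C[Q]) : (C[Q].relIndex N[Q]).Prime := by
  have nC := cent_normal Q
  obtain ⟨y, hy, hp⟩ : ∃ y ∈ N[Q] /ᵍ C[Q], (orderOf y).Prime := by
    obtain ⟨x, hx, x1⟩ := trivgPn.1 (quotient_neq1 nC.2 ne)
    obtain ⟨y, hy, hp⟩ := exists_prime_order_pow x1
    exact ⟨y, zpowers_le.2 hx hy, hp⟩
  have := Fact.mk hp
  obtain ⟨X, h1, h2, h3⟩ := inv_quotientS nC (zpowers_le.2 hy)
  have y1 : zpowers y ≠ ⊥ := zpowers_ne_bot.2 fun e => hp.ne_one (by simp [e])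
  have nab : ∀ X : Subgroup G, C[Q] ≤ X → IsMulCommutative X → X /ᵍ C[Q] = ⊥ := fun X h1 h2 =>
    quotientS1 (sub_abelian_cent h2 ((IsMulCommutative.cent hQ).trans h1))
  have e : N[Q] /ᵍ C[Q] ⊓ N[zpowers y] = zpowers y := by
    rw [← h3, ← quotient_subnormG _ (nC.subl h1 h2), h X fun e => y1 (h3 ▸ nab X h1 e), inf_eq_right.2 h2]
  have syl : SylowIn (orderOf y) (zpowers y) (N[Q] /ᵍ C[Q]) := Sylow_subnorm (by
    rw [e]; exact pHall_id (IsPGroup.pi (pgroup_of_card_p (Nat.card_zpowers y))))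
  have sd := Burnside_normal_complement syl (e.le.trans (IsMulCommutative.cent (abelian_zpowers y)))
  obtain ⟨K, k1, k2, k3⟩ := inv_quotientN nC sd.normal
  have := nab K k1 (ab_of_normal h k2 fun hle => y1 (by
    have := quotientS C[Q] hle
    rw [k3] at this
    rw [← sd.inf, inf_eq_right.2 (sd.ler.trans this)]))
  rw [← card_quotient nC.2, ← sd.card, ← k3, this, card_bot, one_mul, Nat.card_zpowers]
  exact hp

variable [IsSimpleGroup G] (hna : ¬ IsMulCommutative G)
include hna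

theorem two_ab (Q : Subgroup G) (hQ : IsPGroup 2 Q) : IsMulCommutative Q := by
  obtain ⟨P⟩ : Nonempty (Sylow 2 G) := inferInstance
  obtain ⟨Q0, hQ0, g0, hg0⟩ : ∃ Q : Subgroup G, IsPGroup 2 Q ∧ ∃ g ∈ N[Q], PiElt {2}ᶜ g ∧ g ∉ C[Q] := by
    by_contra! hc
    obtain ⟨N, _, hN⟩ := (S0071.result P).2 fun Q hQ g hg co =>
      hc Q (P.2.to_le hQ) g hg ((p'nat_coprime Nat.prime_two).2 co)
    exact no_npc hna (sylowIn_top P) (isComplement'_iff_sdprod.1 hN)
  obtain ⟨R, ⟨hR, g, gN, g2, gC⟩, hmax⟩ := arg_max_exists (P := fun Q => IsPGroup 2 Q ∧ ∃ g ∈ N[Q],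
    PiElt {2}ᶜ g ∧ g ∉ C[Q]) (fun Q => #Q) ⟨hQ0, g0, hg0⟩
  have ab : IsMulCommutative R := by
    by_contra e
    rw [h R e] at gN
    exact gC (p_elt_eq_one (mem_p_elt (IsPGroup.pi hR) gN) g2 ▸ one_mem _)
  have ne : ¬ N[R] ≤ C[R] := fun e => gC (e gN)
  have hp := idx_prime h ab ne
  have nC := cent_normal R
  have abC := ab_of_normal h nC ne
  have odd : PiNat {2}ᶜ (C[R].relIndex N[R]) := (pnat_prime hp).2 fun e => gC (by
    have h1 := BG4.pow_relIndex_mem' nC gN
    rw [show C[R].relIndex N[R] = 2 from e] at h1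
    exact (zpowers_le.2 h1) (mem_zpowers_pow_iff.2 ((p'nat_coprime Nat.prime_two).1 g2).symm))
  have le : R ≤ Op 2 C[R] := nilpotent_sub_pcore (abelian_nil abC) (IsMulCommutative.cent ab) (IsPGroup.pi hR)
  have e : R = Op 2 C[R] := eq_of_card_le le (hmax _ ⟨Op_pgroup _ _, g, (nC.pcore _).2 gN, g2,
    fun hc => gC (centS le hc)⟩)
  have syl : SylowIn 2 R ⊤ := Sylow_subnorm (by
    rw [top_inf_eq]
    have := nilpotent_pcore_Hall {2} (abelian_nil abC)
    rw [show piCoreOf {2} C[R] = R from e.symm] at this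
    exact pHall_trans_idx this nC.1 odd)
  obtain ⟨x, -, hx⟩ := Sylow_subJ syl le_top hQ
  exact abelianS hx (abelian_cj x ab)

theorem cent_ab (ht : orderOf t = 2) : IsMulCommutative C1[t] := by
  by_contra nab
  have t2 : IsPGroup 2 (zpowers t) := pgroup_of_card_p (by rw [Nat.card_zpowers, ht])
  obtain ⟨S, hS, tS⟩ := Sylow_superset le_top t2
  have aS := two_ab h hna S hS.pg
  have SM : S ≤ C1[t] := C_zpowers t ▸ sub_abelian_cent aS tS
  have t1 : t ≠ 1 := fun e => by simp [e] at ht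
  have hS' := pHall_subl SM le_top hS
  have tM : t ∉ ⁅C1[t], C1[t]⁆ := fun hm => by
    have := Transfer.pow_relIndex_mem_commutator SM (le_cent1_iff.1 le_rfl) hm
    rw [der1_eq_bot.2 aS, mem_bot, ← orderOf_dvd_iff_pow_eq_one, ht] at this
    exact hS'.not_dvd this
  have nD := der_normal C1[t]
  generalize hM : C1[t] = M at *
  have tM' : t ∈ M := hM ▸ cent1_self t
  have sol : Group.IsSolvable M := der1_sol (abelian_sol (ab_of_normal h nD fun e => tM (e tM')))
  obtain ⟨D, hD⟩ := Hall_exists {2}ᶜ sol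
  have nW : ⁅M, M⁆ ⊔ D ⊴ M := sub_der1_normal le_sup_left (sup_le nD.1 hD.le)
  have aW := ab_of_normal h nW fun e => by
    have h1 := mem_quotient (nD.2 tM') (e tM')
    rw [quotientYidl (hD.le.trans nD.2)] at h1
    exact tM ((coset_eq_one (nD.2 tM')).1 (p_elt_eq_one (π := {2}) (PiNat.of_dvd ((pnat_prime Nat.prime_two).2 rfl)
      (ht ▸ orderOf_coset_dvd (nD.2 tM'))) (mem_p_elt (quotient_pgroup _ hD.pi) h1)))
  have nK : M ≤ N[D] := norms_Hall_nil (abelian_nil aW) (pHall_subl le_sup_right nW.1 hD) nW.2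
  have sup : D ⊔ S = M := sup_eq_of_coprime_idx hD.le SM (pnat_coprime' hD.idx hS'.idx)
  have aD := abelianS le_sup_right aW
  obtain ⟨s, hs, sC⟩ : ∃ s ∈ S, s ∉ C[D] := by
    by_contra! hc
    exact nab (sup ▸ abelianY aD aS (cents_symm hc))
  have sS := zpowers_le.2 hs
  have e := h (D ⊔ zpowers s) fun e => sC (sub_abelian_cent e le_sup_left (mem_sup_right (mem_zpowers s)))
  have : S ≤ D ⊔ zpowers s := e ▸ normsY (SM.trans nK) (sub_abelian_norm aS sS)
  refine not_cyclic hna hS (cyclicP.2 ⟨s, ?_⟩)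
  rw [← inf_eq_left.2 this, group_modr (.inr (sS.trans (SM.trans nK))) sS, pgroup_TI hS.pi hD.pi, bot_sup_eq]

end

/-- Let G be a finite non-abelian simple group. Every non-abelian subgroup of G is self-normalizing if and only if G is isomorphic to PSL₂(2ⁿ) for some n ≥ 2 with 2ⁿ − 1 prime (this includes the alternating group of degree 5 as PSL₂(4)). -/
theorem result {G : Type*} [Group G] [Finite G] [IsSimpleGroup G]
    (hna : ¬ IsMulCommutative G) :
    (∀ H : Subgroup G, ¬ IsMulCommutative H → Subgroup.normalizer (H : Set G) = H) ↔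
    ∃ n : ℕ, 2 ≤ n ∧ (2 ^ n - 1).Prime ∧ Nonempty (G ≃* Matrix.ProjectiveSpecialLinearGroup (Fin 2) (GaloisField 2 n)) := by
  have nn : ∀ T : Sylow 2 G, ¬ (T : Subgroup G).Normal := fun T hT =>
    (sylow_ne_simple hna (sylowIn_top T)).2 (eq_top_iff.2 (norm_of_normal _ _))
  obtain ⟨T⟩ : Nonempty (Sylow 2 G) := inferInstance
  constructor
  · intro h
    have ca := (ca_of_sylow T (not_cyclic hna (sylowIn_top T)) (nn T) fun t => cent_ab h hna).1
    have hZ : center G = ⊥ := (Subgroup.Normal.eq_bot_or_eq_top inferInstance).resolve_right fun e =>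
      hna ⟨⟨fun a b => (mem_center_iff.1 (e ▸ mem_top b : b ∈ center G) a)⟩⟩
    have ea : EA G := ⟨ca, fun t c ht hc => mem_bot.1 (hZ ▸ ca.sq_mem_center ht hc)⟩
    obtain ⟨-, t, -, ht, -⟩ := ca.two
    obtain ⟨F, _, _, hF, h2, ⟨f⟩⟩ := ea.equiv_SL ht
    have lt := ea.two_lt ht
    have cc : C[C1[t]] = C1[t] := le_antisymm (cent_le_cent1 (cent1_self t)) (IsMulCommutative.cent (ca.ab ht))
    have ci : C1[t].relIndex N[C1[t]] = #C1[t] - 1 := Nat.eq_of_mul_eq_mul_left (cardG_pos _)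
      ((card_mul_relIndex (normG _)).trans (ea.card_norm ht))
    have hp := idx_prime h (ca.ab ht) fun e => by
      rw [cc, ← relIndex_eq_one, ci] at e; omega
    rw [cc, ci, ← hF] at hp
    have : CharP F 2 := (CharP.charP_iff_prime_eq_zero Nat.prime_two).2 h2
    obtain ⟨n, -, hn⟩ := FiniteField.card F 2
    rw [← hF, hn] at lt
    have n2 : 2 ≤ (n : ℕ) := by
      by_contra hc
      have : (n : ℕ) = 1 := by have := n.pos; omega
      rw [this] at lt; omega
    obtain ⟨r⟩ := Classical.nonempty_ringEquiv_of_card_eq (K := F) (F := GaloisField 2 n)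
      (by rw [Nat.card_eq_fintype_card, hn, GaloisField.card 2 n n.ne_zero])
    exact ⟨n, n2, hn ▸ hp, ⟨(f.trans (Classical.slEquivPSL h2)).trans (Classical.pslCongr r)⟩⟩
  · rintro ⟨n, n2, hp, ⟨e⟩⟩ H nab
    have hq : Nat.card (GaloisField 2 n) = 2 ^ n := GaloisField.card 2 n (by omega)
    have h2 : (2 : GaloisField 2 n) = 0 := CharP.cast_eq_zero _ 2
    have q4 : 4 ≤ 2 ^ n := Nat.pow_le_pow_right two_pos n2
    have ev : Even (2 ^ n) := (Nat.even_pow' (by omega)).2 even_two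
    have sq : ∀ t : G, orderOf t = 2 → ∀ c ∈ C1[t], c * c = 1 := fun t ht c hc => e.injective (by
      rw [map_mul, map_one]
      exact psl_sq h2 ((e.orderOf_eq t).trans ht) (mem_cent1.2 (by rw [← map_mul, mem_cent1.1 hc, map_mul])))
    obtain ⟨ea, t, ht, eT⟩ := ea_of_sylow T (not_cyclic hna (sylowIn_top T)) (nn T) fun t ht =>
      ⟨abelian_of_cent fun a ha => mem_cent.2 fun b hb => by
        have := sq t ht _ (mul_mem hb ha)
        rw [← inv_eq_of_mul_eq_one_right this, mul_inv_rev, inv_eq_of_mul_eq_one_right (sq t ht a ha),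
          inv_eq_of_mul_eq_one_right (sq t ht b hb)], fun c hc => by rw [pow_two, sq t ht c hc]⟩
    have o1 : Odd (2 ^ n - 1) := Nat.Even.sub_odd (by omega) ev odd_one
    have cT : ∀ {P M : Subgroup G} {m}, SylowIn 2 P M → #M = 2 ^ n * m → Odd m → #P = 2 ^ n := fun hP hM hm => by
      rw [card_Hall hP]
      exact partn_eq (cardG_ne_zero _) hM (pnat_pow_self Nat.prime_two n) (pnat_odd.2 hm)
    have cG := Classical.card_PSL2_mul (F := GaloisField 2 n)
    rw [hq, Classical.gcd_two_pred_of_even ev (by omega), one_mul, ← card_isog ⟨e⟩, mul_assoc] at cG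
    have ct : ∀ s : G, orderOf s = 2 → #C1[s] = 2 ^ n := fun s hs => by
      obtain ⟨c, rfl⟩ := ea.exists_conj ht hs
      rw [C1_conj, card_cj, ← eT]
      exact cT (sylowIn_top T) (card_top.trans cG) (o1.mul ev.add_one)
    by_cases top : N[H] = ⊤
    · rcases (NormalIn.normal ⟨le_top, top.ge⟩ : H.Normal).eq_bot_or_eq_top with rfl | rfl
      · exact absurd abelian_bot nab
      · exact top
    obtain ⟨M, hM, HM⟩ := (eq_top_or_exists_le_coatom N[H]).resolve_left top
    have HM' := (normG H).trans HM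
    suffices ∃ A, A ⊴ M ∧ IsMulCommutative A ∧ (A.relIndex M).Prime ∧
        ∀ y ∈ M, y ∉ A → ∀ a ∈ A, a * y = y * a → a = 1 by
      obtain ⟨A, h1, h2, h3, h4⟩ := this
      exact le_antisymm (le_trans (le_inf HM le_rfl) (norm_le_of_frob h1 h3 h4 HM' fun e => nab (abelianS e h2)))
        (normG H)
    have cM : Nat.card (M.map (e : G →* Matrix.ProjectiveSpecialLinearGroup (Fin 2) (GaloisField 2 n))) = #M :=
      (card_isog (isog_map_inj e.injective M)).symm
    have dih : ∀ k, Odd k → #M = 2 * k → ∃ A, A ⊴ M ∧ IsMulCommutative A ∧ (A.relIndex M).Prime ∧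
        ∀ y ∈ M, y ∉ A → ∀ a ∈ A, a * y = y * a → a = 1 := fun k hk hc => by
      obtain ⟨P, hP⟩ := Sylow_exists 2 M
      have cP : #P = 2 := by
        rw [card_Hall hP]
        exact partn_eq (cardG_ne_zero _) hc ((pnat_prime Nat.prime_two).2 rfl) (pnat_odd.2 hk)
      have sd := cyclic_pdiv_normal_complement hP (fun _ hq _ => hq.two_le) (prime_cyclic (cP ▸ Nat.prime_two))
      have hall : IsPiHallOf {2}ᶜ (Op' 2 M) M := compl_pHall sd.compl.symm hP
      have fp : ∀ y ∈ M, y ∉ Op' 2 M → ∀ a ∈ Op' 2 M, a * y = y * a → a = 1 := fun y hy yA a ha hc => by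
        have : 2 ∣ orderOf y := by
          by_contra hd
          exact yA (mem_normal_Hall hall sd.normal hy ((p'natE Nat.prime_two).2 hd))
        obtain ⟨s, hs, s2⟩ := Cauchy Nat.prime_two (Nat.card_zpowers y ▸ this)
        refine ea.eq_one s2 ?_ (pnat_odd.1 (mem_p_elt hall.pi ha))
        exact (mem_cent1_comm.1 (zpowers_le.2 (mem_cent1.2 hc.symm) hs))
      obtain ⟨s, hs, s2⟩ := Cauchy Nat.prime_two (cP ▸ dvd_rfl : 2 ∣ #P)
      have sA : s ∉ Op' 2 M := fun hm => by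
        have : s = 1 := mem_bot.1 (sd.inf ▸ mem_inf.2 ⟨hm, hs⟩)
        simp [this] at s2
      refine ⟨_, sd.normal, (Gen.fpf_invol (sd.norm hs) (sq s s2 s (cent1_self s) ▸ one_mem _)
        (eq_bot_iff.2 fun a ha => fp s (hP.le hs) sA a ha.1 (mem_cent1.1 ha.2))).1, ?_, fp⟩
      rw [sd.relIndexl, cP]
      exact Nat.prime_two
    rcases Classical.psl_coatom_even h2 (by omega) ((Classical.isCoatom_map_equiv e).2 hM) with
      hc | hc | hc | ⟨K, _, _, r, hr, k2, hK, -⟩
    · rw [cM, hq] at hc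
      have sol : Group.IsSolvable M := FG.sol_of_two_primes Nat.prime_two hp fun r hr hd => by
        rw [hc] at hd
        exact (hr.dvd_mul.1 hd).imp (fun h => (Nat.prime_dvd_prime_iff_eq hr Nat.prime_two).1 (hr.dvd_of_dvd_pow h))
          (Nat.prime_dvd_prime_iff_eq hr hp).1
      obtain ⟨V, p, VM, nV, V1, hp', aV⟩ := solvable_norm_abelem sol (fun e => nab (abelianS (e ▸ HM') abelian_bot))
        (normG M)
      have := Fact.mk hp'
      obtain ⟨v, hv, v1⟩ := trivgPn.1 V1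
      have ov := abelem_order_p aV hv v1
      obtain ⟨P, hP⟩ := Sylow_exists 2 M
      have cP := cT hP hc o1
      by_cases p2 : p = 2
      · subst p2
        have Mn : M ≤ N[C1[v]] := fun g hg => ea.mem_norm_of_conj ov (normG _
          (mem_cent1.2 (IsMulCommutative.comm aV.abelian (conj_mem_of_norm (nV hg) hv) hv)))
        have eM : M = N[C1[v]] := eq_of_card_le Mn (by rw [ea.card_norm ov, ct v ov, hc])
        refine ⟨C1[v], eM ▸ normalG _, ea.ab ov, ?_, fun y hy yA a ha hc => ?_⟩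
        · have := card_mul_relIndex (eM ▸ normG C1[v] : C1[v] ≤ M)
          rw [ct v ov, hc] at this
          rwa [Nat.eq_of_mul_eq_mul_left (by omega) this]
        · by_contra a1
          exact yA (ea.cent_eq (ea.invol ov ha a1) ov ha ▸ mem_cent1.2 hc.symm)
      · have reg : Semiregular V P := fun s hs s1 => eq_bot_iff.2 fun a ha => by
          obtain ⟨w, hw, w2⟩ := Cauchy Nat.prime_two (pgroup_pdiv (hP.pg.to_le (zpowers_le.2 hs))
            (zpowers_ne_bot.2 s1))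
          refine ea.eq_one w2 (mem_cent1_comm.1 (zpowers_le.2 (mem_cent1_comm.1 ha.2) hw)) ?_
          exact pnat_odd.1 (mem_p_elt (p'group_of_ne aV.pg p2) ha.1)
        have d1 := regular_norm_dvd_pred (hP.le.trans nV) reg
        have d2 : #V ∣ 2 ^ n - 1 := PiNat.dvd_of_dvd_mul (p'group_of_ne aV.pg p2) (b := 2 ^ n)
          (by rw [compl_compl]; exact pnat_pow_self Nat.prime_two n) (by rw [mul_comm, ← hc]; exact cardSg VM)
        have := Nat.le_of_dvd (by omega) d2
        have := cardG_gt1 V1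
        have := Nat.le_of_dvd (by omega) d1
        omega
    · refine dih _ o1 ?_
      rw [← cM, card_isog hc, DihedralGroup.nat_card, hq]
    · refine dih _ ev.add_one ?_
      rw [← cM, card_isog hc, DihedralGroup.nat_card, hq]
    · rw [← hq, ← hK] at hp
      exact absurd (Nat.prime_of_pow_sub_one_prime hr.ne_one hp).1 k2

end Cfsg.Agent.S4073
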