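import Cfsg.Statements.S4078
import Cfsg.Agent.Flav.F2
import Cfsg.Agent.S0205

set_option autoImplicit false
open Cfsg

namespace Cfsg.Agent.S4078

open Subgroup Cfsg.Agent.BG

local notation "Sol" => Group.IsSolvable

theorem aux.{u} (G : Type u) [Group G] [Finite G]
    (h : ∀ x : G, ∃ H : Subgroup G, (H : Set G) = {y : G | Sol (closure ({x, y} : Set G))}) : Sol G := by
  induction hn : Nat.card G using Nat.strong_induction_on generalizing G with
  | _ n ih =>
  obtain ⟨K, hK⟩ : ∃ K : Subgroup G, K = Subgroup.closure {t : G | orderOf t = 2} := ⟨_, rfl⟩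
  have hKn : K.Normal := NormalIn.normal ⟨le_top, hK ▸ norms_closure fun g _ t ht =>
    (orderOf_conj' g t).trans ht⟩
  by_cases h1 : K = ⊥
  · refine S0205.result (Nat.not_even_iff_odd.1 fun h2 => ?_)
    obtain ⟨t, -, ht⟩ := Cauchy (A := (⊤ : Subgroup G)) Nat.prime_two (by rwa [card_top, ← even_iff_two_dvd])
    have h3 : t ∈ K := hK ▸ subset_closure ht
    rw [h1, mem_bot] at h3
    simp [h3] at ht
  by_cases h2 : K = ⊤
  · have key : ∀ x : G, (∀ t, orderOf t = 2 → Sol (closure ({x, t} : Set G))) →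
        ∀ y, Sol (closure ({x, y} : Set G)) := fun x hx y => by
      obtain ⟨H, hH⟩ := h x
      have h3 : K ≤ H := hK ▸ (closure_le _).2 fun t ht => hH ▸ hx t ht
      have h4 : y ∈ (H : Set G) := h3 (h2 ▸ mem_top y)
      rwa [hH] at h4
    refine Flav.solvable_of_two G fun a => key a fun t ht => Set.pair_comm t a ▸ key t (fun s hs => ?_) a
    have ht2 : t * t = 1 := by rw [← sq, ← ht, pow_orderOf_eq_one]
    have hs2 : s * s = 1 := by rw [← sq, ← hs, pow_orderOf_eq_one]
    have h3 : zpowers t ≤ N[zpowers (t * s)] := zpowers_le.2 (mem_norm.2 (by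
      rw [cj_zpowers, ← zpowers_inv]; congr 1
      rw [inv_eq_iff_mul_eq_one, inv_eq_of_mul_eq_one_right ht2, ← mul_assoc t t, ht2, one_mul,
        mul_assoc, ← mul_assoc t t, ht2, one_mul, hs2]))
    refine solvableS ((closure_le _).2 ?_) (solvableY (.inl h3) (abelian_sol (abelian_zpowers _))
      (abelian_sol (abelian_zpowers _)))
    rintro u (e | e) <;> rw [e]
    · exact mem_sup_left (mem_zpowers _)
    · simpa [← mul_assoc, ht2] using mul_mem_sup' (mem_zpowers t) (mem_zpowers (t * s))
  have hs : Sol K := ih _ (by rw [← hn, ← card_top (G := G)]; exact proper_card (lt_top_iff_ne_top.2 h2)) K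
    (fun x => by
      obtain ⟨H, hH⟩ := h x
      refine ⟨H.subgroupOf K, Set.ext fun y => ?_⟩
      have e := isog_map_inj K.subtype_injective (closure {x, y})
      rw [MonoidHom.map_closure, Set.image_pair] at e
      exact (Set.ext_iff.1 hH y).trans ⟨isog_sol (isog_symm e), isog_sol e⟩) rfl
  refine (Group.isSolvable_iff_subgroup_quotient K).2 ⟨hs, ih _ ?_ (G ⧸ K) (fun x => ?_) rfl⟩
  · rw [← hn, ← K.card_mul_index]
    exact lt_mul_of_one_lt_left Nat.card_pos (cardG_gt1 h1)
  obtain ⟨x, rfl⟩ := QuotientGroup.mk'_surjective K x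
  obtain ⟨H, hH⟩ := h x
  have key : ∀ y, Sol (closure ({x, y} : Set G)) ↔
      Sol (closure ({QuotientGroup.mk' K x, QuotientGroup.mk' K y} : Set (G ⧸ K))) := fun y => by
    rw [← Set.image_pair, ← MonoidHom.map_closure]
    refine ⟨solvable_map _, fun h3 => ?_⟩
    have := solvableS (inf_le_right : closure {x, y} ⊓ K ≤ K) hs
    exact Group.isSolvable_of_ker_le_range (inclusion (inf_le_left : closure {x, y} ⊓ K ≤ _))
      ((QuotientGroup.mk' K).subgroupMap _) fun z hz => ⟨⟨z, z.2, by
        simpa using congrArg Subtype.val (MonoidHom.mem_ker.1 hz)⟩, rfl⟩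
  refine ⟨H.map (QuotientGroup.mk' K), Set.ext fun y => ⟨?_, fun hy => ?_⟩⟩
  · rintro ⟨y, hy, rfl⟩
    exact (key y).1 ((Set.ext_iff.1 hH y).1 hy)
  · obtain ⟨y, rfl⟩ := QuotientGroup.mk'_surjective K y
    exact ⟨y, (Set.ext_iff.1 hH y).2 ((key y).2 hy), rfl⟩

/-- For an element x of a finite group G let Sol(x) be the set of y ∈ G such that x and y generate a solvable subgroup. Then G is solvable if and only if Sol(x) is (the carrier of) a subgroup of G for every x ∈ G. -/
theorem result {G : Type*} [Group G] [Finite G] :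
    Group.IsSolvable G ↔ ∀ x : G, ∃ H : Subgroup G, (H : Set G) = {y : G | Group.IsSolvable ↥(Subgroup.closure ({x, y} : Set G))} := by
  exact ⟨fun h x => ⟨⊤, (Set.eq_univ_of_forall fun y => solvable_of _).symm⟩, aux G⟩

end Cfsg.Agent.S4078
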