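import Cfsg.Statements.S4079
import Cfsg.Agent.Fus.Rk3
-- import your own Cfsg.Agent.* helpers here

set_option autoImplicit false
open Cfsg

namespace Cfsg.Agent.S4079

/-- Let p be an odd prime and L a finite metacyclic p-group with no cyclic subgroup of index p, and let a be an automorphism of L of order p. Then a moves some element of order p of L if and only if p = 3 and the semidirect product L ⋊ ⟨a⟩ (of order 3·#L) has maximal class, i.e. nilpotency class m where #L = 3^m. -/
theorem result {L : Type*} [Group L] [Finite L] {p : ℕ} [Fact p.Prime]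
    (hp : p ≠ 2) (hL : IsPGroup p L) (hmc : Cfsg.IsMetacyclic L) (hnc : ∀ C : Subgroup L, IsCyclic C → C.index ≠ p)
    (a : MulAut L) (ha : orderOf a = p) (m : ℕ) (hm : Nat.card L = p ^ m) :
    (∃ x : L, orderOf x = p ∧ a x ≠ x) ↔
    (p = 3 ∧ Group.nilpotencyClass (SemidirectProduct L ↥(Subgroup.zpowers a) (Subgroup.zpowers a).subtype) = m) :=
  open Subgroup Cfsg.Agent.Fus Cfsg.Agent.Loc Equiv in by
    have hpp := (Fact.out : p.Prime)
    let i : L →* SemidirectProduct L (zpowers a) (zpowers a).subtype := SemidirectProduct.inl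
    let x : SemidirectProduct L (zpowers a) (zpowers a).subtype := SemidirectProduct.inr ⟨a, mem_zpowers a⟩
    have e := MonoidHom.ofInjective (f := i) SemidirectProduct.inl_injective
    haveI : Finite (SemidirectProduct L (zpowers a) (zpowers a).subtype) := Finite.of_equiv _ SemidirectProduct.equivProd.symm
    have hc : Nat.card (SemidirectProduct L (zpowers a) (zpowers a).subtype) = p ^ (m + 1) := by
      rw [SemidirectProduct.card, hm, Nat.card_zpowers, ha, pow_succ]
    have hi : i.range.index = p := Nat.eq_of_mul_eq_mul_left (pow_pos hpp.pos m) (by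
      rw [← pow_succ, ← hc, ← i.range.card_mul_index, ← Nat.card_congr e.toEquiv, hm])
    have hx : x ∉ i.range := fun ⟨y, h⟩ => hpp.one_lt.ne' (ha ▸ orderOf_eq_one_iff.2
      (congrArg Subtype.val (congrArg SemidirectProduct.right h)).symm)
    have hxp : x ^ p = 1 := by
      rw [← map_pow, show (⟨a, mem_zpowers a⟩ : zpowers a) ^ p = 1 from Subtype.ext (ha ▸ pow_orderOf_eq_one a), map_one]
    have h1 := BG4.metacyclic_isog ⟨e⟩ hmc
    have h2 : ∀ C : Subgroup i.range, IsCyclic C → C.index ≠ p := fun C k k' =>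
      hnc (C.map e.symm.toMonoidHom) (isCyclic_of_surjective _ (e.symm.toMonoidHom.subgroupMap_surjective C))
        ((index_map_of_bijective e.symm.bijective C).trans k')
    have h3 : ∀ y, Commute x (i y) ↔ a y = y := fun y => by
      rw [← SemidirectProduct.inl_injective.eq_iff (f := i), Commute, SemiconjBy, ← mul_inv_eq_iff_eq_mul, ← map_inv]
      exact Eq.congr_left (SemidirectProduct.inl_aut _ y).symm
    have h4 : 1 ≤ m := Nat.pos_of_ne_zero fun k => by
      haveI := (Nat.card_eq_one_iff_unique.1 (hm.trans (by rw [k, pow_zero]))).1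
      exact hpp.one_lt.ne' (ha ▸ orderOf_eq_one_iff.2 (MulEquiv.ext fun y => Subsingleton.elim _ _))
    obtain ⟨n, rfl⟩ := Nat.exists_eq_add_of_le' h4
    refine ⟨fun ⟨y, y1, y2⟩ => ?_, fun ⟨k1, k2⟩ => ?_⟩
    · obtain ⟨k1, k2⟩ := meta_aut (IsPGroup.of_card hc) hp hi h1 h2 hx hxp ⟨y, rfl⟩
        (by rw [← map_pow, ← y1, pow_orderOf_eq_one, map_one]) (mt (h3 y).1 y2)
      exact ⟨k1, (mx_of_cent hc k2).cl⟩
    subst k1
    by_contra! k
    refine meta_aut' (mx_of_class (by omega) hc k2) hi h1 h2 (by
      rw [← Nat.card_congr e.toEquiv, hm]; exact dvd_pow_self 3 n.succ_ne_zero) hx hxp ?_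
    rintro _ ⟨y, rfl⟩ hy
    by_cases k3 : y = 1
    · rw [k3, map_one]; exact Commute.one_right x
    exact (h3 y).2 (k y (orderOf_eq_prime (SemidirectProduct.inl_injective (by rwa [map_pow, map_one])) k3))

end Cfsg.Agent.S4079
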