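import Cfsg.Statements.S4113
import Cfsg.Agent.Solv.Basic

set_option autoImplicit false
open Cfsg

namespace Cfsg.Agent.S4113

/-- Let G be a finite group, M ≤ N non-trivial proper normal subgroups, and H a subgroup with HM = G and H ∩ M = 1. Then every element of G outside N acts fixed-point-freely on M (C_G(x) ≤ N for every x ∈ M, x ≠ 1) if and only if H ∩ gHg⁻¹ ≤ H ∩ N for every g outside H, with H proper and non-trivial and H ∩ N proper in H. -/
theorem result {G : Type*} [Group G] [Finite G] (N M : Subgroup G) [N.Normal] [M.Normal] (hMN : M ≤ N) (hM1 : M ≠ ⊥) (hN2 : N ≠ ⊤)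
    (H : Subgroup G) (hHM : H ⊔ M = ⊤) (hHM' : H ⊓ M = ⊥) :
    (∀ x ∈ M, x ≠ 1 → Subgroup.centralizer ({x} : Set G) ≤ N) ↔
      (H ≠ ⊥ ∧ H ≠ ⊤ ∧ H ⊓ N < H ∧ ∀ g : G, g ∉ H → H ⊓ H.map (MulAut.conj g).toMonoidHom ≤ N) := by
  have hdec : ∀ g : G, ∃ m ∈ M, ∃ h ∈ H, m * h = g := fun g =>
    (Solv.mem_sup_left_of_le_normalizer (N := M) (H := H) (by simp [Subgroup.normalizer_eq_top])).1
      (by rw [sup_comm, hHM]; trivial)
  have hone : ∀ x ∈ H, x ∈ M → x = 1 := fun x h1 h2 => by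
    have : x ∈ H ⊓ M := ⟨h1, h2⟩
    rwa [hHM'] at this
  have key : ∀ m ∈ M, ∀ y ∈ H, m⁻¹ * y * m ∈ H → y * m = m * y := fun m hm y hy hk => by
    have h1 : y⁻¹ * (m⁻¹ * y * m) = 1 := hone _ (H.mul_mem (H.inv_mem hy) hk) (by
      have := ‹M.Normal›.conj_mem' _ (M.inv_mem hm) y
      simpa [mul_assoc] using M.mul_mem this hm)
    have h2 : m⁻¹ * y * m = y := (inv_mul_eq_one.1 h1).symm
    calc y * m = m * (m⁻¹ * y * m) := by group
      _ = m * y := by rw [h2]
  constructor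
  · intro hC
    refine ⟨?_, ?_, ?_, ?_⟩
    · rintro rfl
      exact hN2 (top_le_iff.1 (by rw [← hHM, bot_sup_eq]; exact hMN))
    · rintro rfl
      exact hM1 (by simpa using hHM')
    · refine lt_of_le_of_ne inf_le_left fun h => hN2 (top_le_iff.1 ?_)
      rw [← hHM]
      exact sup_le (h ▸ inf_le_right) hMN
    · intro g hg y hy
      obtain ⟨m, hm, h, hh, rfl⟩ := hdec g
      obtain ⟨hy1, k, hk, hky⟩ := hy
      have hm1 : m ≠ 1 := by
        rintro rfl
        exact hg (by simpa using hh)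
      refine hC m hm hm1 (Subgroup.mem_centralizer_singleton_iff.2 (key m hm y hy1 ?_))
      have : m⁻¹ * y * m = h * k * h⁻¹ := by
        rw [← hky]
        simp only [MulEquiv.coe_toMonoidHom, MulAut.conj_apply]
        group
      rw [this]
      exact H.mul_mem (H.mul_mem hh hk) (H.inv_mem hh)
  · rintro ⟨-, -, -, hW⟩ x hx hx1 c hc
    by_contra hcN
    obtain ⟨m, hm, h, hh, rfl⟩ := hdec c
    have hhN : h ∉ N := fun h' => hcN (N.mul_mem (hMN hm) h')
    have hfix : ∀ u ∈ M, u * h = h * u → u = 1 := fun u hu huh => by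
      by_contra hu1
      refine hhN (hW u (fun h' => hu1 (hone u h' hu)) ⟨hh, h, hh, ?_⟩)
      simp only [MulEquiv.coe_toMonoidHom, MulAut.conj_apply]
      rw [huh]; group
    let f : M → M := fun u => ⟨u * (h * (u : G)⁻¹ * h⁻¹),
      M.mul_mem u.2 (‹M.Normal›.conj_mem _ (M.inv_mem u.2) h)⟩
    have hf : Function.Injective f := fun u v huv => by
      have h1 : (u : G) * (h * (u : G)⁻¹ * h⁻¹) = v * (h * (v : G)⁻¹ * h⁻¹) := congrArg Subtype.val huv
      have h2 := hfix ((v : G)⁻¹ * u) (M.mul_mem (M.inv_mem v.2) u.2) (by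
        calc (v : G)⁻¹ * u * h = (v : G)⁻¹ * ((u : G) * (h * (u : G)⁻¹ * h⁻¹)) * h * u := by group
          _ = h * ((v : G)⁻¹ * u) := by rw [h1]; group)
      exact Subtype.ext (inv_mul_eq_one.1 h2).symm
    obtain ⟨u, hu⟩ := (Finite.injective_iff_surjective.1 hf) ⟨m, hm⟩
    have hu' : (u : G) * (h * (u : G)⁻¹ * h⁻¹) = m := congrArg Subtype.val hu
    have hc' := Subgroup.mem_centralizer_singleton_iff.1 hc
    have := hfix ((u : G)⁻¹ * x * u) (‹M.Normal›.conj_mem' _ hx _) (by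
      rw [← hu'] at hc'
      calc (u : G)⁻¹ * x * u * h = (u : G)⁻¹ * (x * ((u : G) * (h * (u : G)⁻¹ * h⁻¹) * h)) * u := by group
        _ = h * ((u : G)⁻¹ * x * u) := by rw [← hc']; group)
    apply hx1
    calc x = u * ((u : G)⁻¹ * x * u) * (u : G)⁻¹ := by group
      _ = 1 := by rw [this]; group

end Cfsg.Agent.S4113
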