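import Cfsg.Statements.S4127
import Cfsg.Agent.Gen2.PPClass2
import Cfsg.Agent.Solv.CoprimeSylow
import Cfsg.Agent.S4035

set_option autoImplicit false
open Cfsg

namespace Cfsg.Agent.S4127

/-- Let G be a finite group, p a prime and p^a the largest power of p dividing the size of any conjugacy class of G. If some element of p-power order has a conjugacy class of size exactly p^a, then G has a normal p-complement. -/
theorem result {G : Type*} [Group G] [Finite G] (p : ℕ) [Fact p.Prime]
    (a : ℕ) (hmax : ∀ y : G, ¬ p ^ (a + 1) ∣ (Subgroup.centralizer ({y} : Set G)).index)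
    (hx : ∃ x : G, (∃ k : ℕ, orderOf x = p ^ k) ∧ (Subgroup.centralizer ({x} : Set G)).index = p ^ a) :
    Cfsg.HasNormalPComplement p G := by
  open Subgroup in
  have hp : p.Prime := Fact.out
  obtain ⟨x, hx1, hx⟩ := hx
  have hxR := Gen2.mem_pCore_of_cs hx1 hx
  have h1 : ∀ y ∈ centralizer ({x} : Set G), (orderOf y).Coprime p →
      ¬ p ∣ (centralizer ({y} : Set G)).relIndex (centralizer ({x} : Set G)) := by
    intro y hy hc ⟨c, hd⟩
    refine hmax (x * y) ⟨c, ?_⟩
    obtain ⟨k, hk⟩ := hx1
    rw [Gen2.cent_mul_of_coprime (Gen2.mem_cent.1 hy).symm (by rw [hk]; exact hc.symm.pow_left k),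
      ← relIndex_mul_index inf_le_left, inf_relIndex_left, hd, hx]
    ring
  have hZ : centralizer (Cfsg.pCore p G : Set G) ≤ centralizer ({x} : Set G) :=
    centralizer_le (Set.singleton_subset_iff.2 hxR)
  have h2 : ∀ y ∈ centralizer ({x} : Set G), (orderOf y).Coprime p →
      y ∈ centralizer (Cfsg.pCore p G : Set G) := by
    intro y hy hc
    refine zpowers_le.1 (Solv.thompson_PxQ (P := zpowers x) (Gen2.isPGroup_zpowers_iff.2 hx1)
      (by rwa [Nat.card_zpowers]) (Solv.isPGroup_pCore p G) ?_ le_normalizer_of_normal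
      le_normalizer_of_normal ?_)
    · rw [BG.C_zpowers, zpowers_le]; exact Gen2.mem_cent_comm.1 hy
    · rw [BG.C_zpowers, BG.C_zpowers]
      obtain ⟨Q, hQ⟩ := Gen2.exists_sylow_le_of_not_dvd_index _ (h1 y hy hc)
      exact fun z hz => hQ (Solv.pCore_le_sylow Q (Solv.pCore_subgroupOf_le
        (centralizer ({x} : Set G)) (x := ⟨z, hz.2⟩) hz.1))
  refine Transfer.hasNormalPComplement_of_pResidual_le
    (H := centralizer (Cfsg.pCore p G : Set G)) ?_ ?_
  · refine Transfer.pResidual_le_of_isPGroup_quotient _ ?_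
    have h3 : IsPGroup p (centralizer ({x} : Set G) ⧸
        (centralizer (Cfsg.pCore p G : Set G)).subgroupOf (centralizer ({x} : Set G))) :=
      Transfer.isPGroup_quotient_of_pResidual_le _ (Transfer.pResidual_le_iff.2 fun g hg =>
        h2 g g.2 (by rwa [orderOf_coe]))
    obtain ⟨k, hk⟩ := (Transfer.isPGroup_quotient_iff_index _).1 h3
    exact (Transfer.isPGroup_quotient_iff_index _).2
      ⟨k + a, by rw [← relIndex_mul_index hZ, hx, pow_add, ← hk]; rfl⟩
  · obtain ⟨P⟩ : Nonempty (Sylow p (centralizer (Cfsg.pCore p G : Set G))) := inferInstance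
    obtain ⟨-, H, _, h3, h4, h5⟩ := S4035.result (G := centralizer (Cfsg.pCore p G : Set G))
      (fun y hy hd => h1 y (hZ y.2)
      (by rwa [orderOf_coe]) (hd.trans (by
        rw [← Nat.card_coe_set_eq, Gen2.card_carrier_mk, Gen2.cs_subtype,
          ← relIndex_subgroupOf hZ]
        exact Gen2.relIndex_dvd_index_of_normal_right _ _))) P
    exact (Transfer.hasNormalPComplement_iff_sylow P).2 ⟨H, inferInstance,
      isComplement'_of_disjoint_and_mul_eq_univ (by rw [disjoint_iff, inf_comm, h4])
        (by rw [← normal_mul, sup_comm, h5]; rfl)⟩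

end Cfsg.Agent.S4127
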