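import Cfsg.Statements.S4133
import Cfsg.Agent.AB.EE
import Cfsg.Agent.LieM.Gold10
import Cfsg.Agent.S0799
import Cfsg.Agent.Classical.PSL2Max
import Cfsg.Agent.Transfer.Abelian
import Cfsg.Agent.Loc.Syl
import Cfsg.Agent.SolvStr.Product
import Cfsg.Agent.Gen2.Basic

set_option autoImplicit false
open Cfsg

namespace Cfsg.Agent.S4133

open Subgroup Cfsg.Agent.Classical Cfsg.Agent.Loc
open scoped MatrixGroups

universe u

theorem psl_no {F : Type} [Field F] [Fintype F] {n : ℕ} (hn : 2 ≤ n) (hF : Fintype.card F = 2 ^ n)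
    [IsSimpleGroup PSL(2, F)] (H : Subgroup PSL(2, F)) (ho : Odd (Nat.card H))
    (hi : H.index = 2 ^ n) : False := by
  haveI := Fact.mk Nat.prime_two
  haveI : CharP F 2 := charP_of_card_eq_prime_pow hF
  have h4 : 4 ≤ 2 ^ n := (by norm_num : 4 = 2 ^ 2) ▸ Nat.pow_le_pow_right two_pos hn
  have h2 : 2 ∣ 2 ^ n := dvd_pow_self 2 (by omega)
  have hg : ∀ r : ℕ, 2 ∣ r → 0 < r → Nat.gcd 2 (r - 1) = 1 := fun r h h0 =>
    (Nat.coprime_two_left.2 (Nat.odd_iff.2 (by omega)))
  have hc := card_PSL2_mul (F := F)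
  rw [Nat.card_eq_fintype_card (α := F), hF, hg _ h2 (by omega), one_mul, ← H.index_mul_card, hi,
    mul_assoc] at hc
  have hH := Nat.eq_of_mul_eq_mul_left (by omega) hc
  have ev : ∀ {X : Type} [Group X], (H ≃* X) → ¬ 2 ∣ Nat.card X := fun e h =>
    ho.not_two_dvd_nat (Nat.card_congr e.toEquiv ▸ h)
  rcases S0799.result hF 2 H with ⟨k, hk, hH'⟩ | ⟨P, K, hK, ⟨e⟩⟩ | ⟨⟨e⟩⟩ | ⟨⟨e⟩⟩ | ⟨⟨e⟩⟩ |
    ⟨K, _, _, j, hj, hH'⟩
  · rw [hg _ h2 (by omega), Nat.div_one, Nat.div_one] at hk
    rcases hH' with ⟨-, e⟩ | ⟨⟨e⟩⟩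
    · have : k ≤ 2 ^ n + 1 := by
        rcases hk with h | h <;> have := Nat.le_of_dvd (by omega) h <;> omega
      have : 3 * (2 ^ n + 1) ≤ (2 ^ n - 1) * (2 ^ n + 1) := Nat.mul_le_mul_right _ (by omega)
      omega
    · exact ev e (by rw [DihedralGroup.nat_card]; exact Dvd.intro _ rfl)
  · have h1 : K.index = 2 ^ n := by
      have := K.index_mul_card
      rw [← H.index_mul_card, ← Nat.card_congr e.toEquiv, hi] at this
      exact Nat.eq_of_mul_eq_mul_right Nat.card_pos this
    have h3 : (normalizer ((P : Subgroup PSL(2, F)) : Set PSL(2, F))).index = 1 :=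
      Nat.eq_one_of_dvd_coprimes (Nat.Coprime.pow_left n
        ((Nat.prime_two.coprime_iff_not_dvd).2 P.not_dvd_index)) (h1 ▸ index_dvd_of_le hK)
        (index_dvd_of_le le_normalizer)
    have h5 := P.not_dvd_index
    rcases (normalizer_eq_top_iff.1 (index_eq_one.1 h3)).eq_bot_or_eq_top with h | h
    · rw [h, index_bot, ← H.index_mul_card, hi] at h5
      exact h5 (h2.mul_right _)
    · obtain ⟨m, hm⟩ := IsPGroup.iff_card.1 P.2
      rw [h, card_top] at hm
      have := (Nat.dvd_prime_pow Nat.prime_two).1 (hm ▸ card_subgroup_dvd_card H)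
      obtain ⟨i, -, h6⟩ := this
      rcases i with _ | i
      · have : 3 * (2 ^ n + 1) ≤ (2 ^ n - 1) * (2 ^ n + 1) := Nat.mul_le_mul_right _ (by omega)
        omega
      · exact ho.not_two_dvd_nat (h6 ▸ dvd_pow_self 2 (by omega))
  · exact ev e (by rw [nat_card_alternatingGroup]; simp [Nat.factorial])
  · exact ev e (by rw [Nat.card_perm]; simp [Nat.factorial])
  · exact ev e (by rw [nat_card_alternatingGroup]; simp [Nat.factorial])
  · have h1 : 2 ∣ Nat.card K := by
      rw [Nat.card_eq_fintype_card]; exact Nat.prime_two.dvd_of_dvd_pow (hj ▸ h2)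
    have h3 := card_PSL2_mul (F := K)
    rw [hg _ h1 Nat.card_pos, one_mul] at h3
    have h5 : 2 ∣ Nat.card PSL(2, K) := h3 ▸ (h1.mul_right _).mul_right _
    rcases hH' with ⟨⟨e⟩⟩ | ⟨⟨e⟩⟩
    · exact ev e h5
    · exact ev e (h5.trans (card_dvd_of_injective (pslι K) pslInj))

theorem simple_no {G : Type u} [Group G] [Finite G] [IsSimpleGroup G] (hG : ¬ IsMulCommutative G)
    (S : Sylow 2 G) (hS : IsMulCommutative (S : Subgroup G)) (H : Subgroup G)
    (ho : Odd (Nat.card H)) {k : ℕ} (hi : H.index = 2 ^ k) : False := by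
  have hSk : Nat.card S = 2 ^ k := by
    rw [S.card_eq_multiplicity, ← H.index_mul_card, hi, Nat.factorization_mul (by positivity)
      Nat.card_pos.ne', Finsupp.add_apply, Nat.factorization_eq_zero_of_not_dvd ho.not_two_dvd_nat]
    simp [Nat.Prime.factorization_self Nat.prime_two]
  have hH : H ≠ ⊤ := by
    rintro rfl
    rw [card_top] at ho
    haveI := FTC.solvable_of_odd ho
    exact hG ⟨⟨IsSimpleGroup.comm_iff_isSolvable.2 this⟩⟩
  have hf := card_dvd_factorial_index hH
  have small : ¬ 16 ∣ Nat.card G → Nat.card G ≤ 40320 := fun h => by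
    have hk : k ≤ 3 := by
      by_contra h1
      exact h (((pow_dvd_pow 2 (by omega : 4 ≤ k)).trans (hi ▸ index_dvd_card H)))
    refine (Nat.le_of_dvd (Nat.factorial_pos _) hf).trans ?_
    rw [hi]
    exact Nat.factorial_le (n := 8) (Nat.pow_le_pow_right two_pos hk)
  rcases LieM.ab_simple (fun a b c d => AB.wj_eq a b c d) hG S hS with
    ⟨F, _, _, n, h1, h2, ⟨e⟩, h3⟩ | ⟨F, _, _, h1, h2, ⟨e⟩, h3⟩ | ⟨-, -, m, h1, h2⟩ | ⟨-, -, h⟩
  · haveI := e.symm.isSimpleGroup
    refine psl_no h1 h2 (H.map e.toMonoidHom) (by rwa [card_map_of_injective e.injective]) ?_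
    rw [index_map_of_bijective e.bijective, hi, ← hSk, h3]
  · rw [hi, ← hSk, h3] at hf
    haveI := isSolvable_of_card_dvd_24 hf
    exact hG ⟨⟨IsSimpleGroup.comm_iff_isSolvable.2 this⟩⟩
  · have h3 : 3 ^ (2 * m + 1) % 8 = 3 := by
      rw [pow_succ, pow_mul, Nat.mul_mod, Nat.pow_mod]; simp
    have h4 : 27 ≤ 3 ^ (2 * m + 1) :=
      (by norm_num : 27 = 3 ^ 3) ▸ Nat.pow_le_pow_right (by norm_num) (by omega)
    generalize 3 ^ (2 * m + 1) = q at h2 h3 h4
    obtain ⟨c, rfl⟩ : ∃ c, q = 8 * c + 3 := ⟨q / 8, by omega⟩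
    have h5 := small (by
      rw [h2, show (8 * c + 3) ^ 3 * ((8 * c + 3) ^ 3 + 1) * (8 * c + 3 - 1) =
        8 * ((8 * c + 3) ^ 3 * (2 * (64 * c ^ 3 + 72 * c ^ 2 + 27 * c + 3) + 1) * (4 * c + 1)) by
          rw [show 8 * c + 3 - 1 = 8 * c + 2 by omega]; ring]
      intro h
      have h6 : 2 ∣ _ := Nat.dvd_of_mul_dvd_mul_left (k := 8) (by norm_num) h
      refine Odd.not_two_dvd_nat ?_ h6
      exact ((Odd.pow ⟨4 * c + 1, by ring⟩).mul (odd_two_mul_add_one _)).mul ⟨2 * c, by ring⟩)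
    have h6 : 27 ^ 3 ≤ (8 * c + 3) ^ 3 := Nat.pow_le_pow_left h4 3
    have h7 : 27 ^ 3 * 2 * 2 ≤ (8 * c + 3) ^ 3 * ((8 * c + 3) ^ 3 + 1) * (8 * c + 3 - 1) :=
      Nat.mul_le_mul (Nat.mul_le_mul h6 (by omega)) (by omega)
    omega
  · have := small (by rw [h]; norm_num)
    omega

theorem sol (n : ℕ) : ∀ (G : Type u) [Group G] [Finite G], Nat.card G = n →
    (∀ Q : Subgroup G, IsPGroup 2 Q → IsMulCommutative Q) → ∀ (H : Subgroup G),
    Odd (Nat.card H) → (∃ k, H.index = 2 ^ k) → Group.IsSolvable G := by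
  induction n using Nat.strong_induction_on with
  | _ n ih =>
  intro G _ _ hn hab H ho ⟨k, hk⟩
  by_cases h : ∃ N : Subgroup G, N.Normal ∧ N ≠ ⊥ ∧ N ≠ ⊤
  · obtain ⟨N, _, h1, h2⟩ := h
    have h3 := card_eq_card_quotient_mul_card_subgroup N
    have h4 : 1 < Nat.card N := (one_lt_card_iff_ne_bot N).2 h1
    have h5 : 1 < Nat.card (G ⧸ N) := one_lt_index_of_ne_top h2
    haveI := ih (Nat.card N) (by nlinarith) N rfl (fun Q hQ => by
        have := hab _ (hQ.map N.subtype)
        exact ⟨⟨fun a b => Subtype.ext (Subtype.ext (congrArg Subtype.val (this.is_comm.comm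
          ⟨_, mem_map_of_mem _ a.2⟩ ⟨_, mem_map_of_mem _ b.2⟩) :))⟩⟩) (H.subgroupOf N)
      (Odd.of_dvd_nat ho (card_comap_dvd_of_injective _ _ N.subtype_injective)) (by
        have : H.relIndex N ∣ 2 ^ k := hk ▸ Gen2.relIndex_dvd_index_of_normal_right H N
        obtain ⟨i, -, hi⟩ := (Nat.dvd_prime_pow Nat.prime_two).1 this
        exact ⟨i, hi⟩)
    haveI := ih (Nat.card (G ⧸ N)) (by nlinarith) (G ⧸ N) rfl (fun Q hQ => by
        obtain ⟨S⟩ : Nonempty (Sylow 2 G) := inferInstance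
        have h6 := (sylIn_top S).map (QuotientGroup.mk' N)
        rw [map_top_of_surjective _ (QuotientGroup.mk'_surjective N)] at h6
        obtain ⟨g, -, hg⟩ := h6.exists_le_conj le_top hQ
        haveI := hab _ S.2
        have h7 := isMulCommutative_cj g
          (inferInstance : IsMulCommutative ((S : Subgroup G).map (QuotientGroup.mk' N)))
        exact BG.abelianS hg h7) (H.map (QuotientGroup.mk' N))
      (Odd.of_dvd_nat ho (card_map_dvd _ _)) (by
        obtain ⟨i, -, hi⟩ := (Nat.dvd_prime_pow Nat.prime_two).1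
          (hk ▸ H.index_map_dvd (QuotientGroup.mk'_surjective N))
        exact ⟨i, hi⟩)
    exact Solv.isSolvable_of_normal_of_quotient N
  · by_cases hc : IsMulCommutative G
    · exact isSolvable_of_comm hc.is_comm.comm
    push Not at h
    haveI : Nontrivial G := by
      by_contra h1
      rw [not_nontrivial_iff_subsingleton] at h1
      exact hc ⟨⟨fun a b => Subsingleton.elim _ _⟩⟩
    haveI : IsSimpleGroup G := ⟨fun N hN => or_iff_not_imp_left.2 (h N hN)⟩
    obtain ⟨S⟩ : Nonempty (Sylow 2 G) := inferInstance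
    exact (simple_no hc S (hab _ S.2) H ho hk).elim

/-- Let G be a finite group all of whose Sylow subgroups are abelian, and let 2^a be the largest power of 2 dividing the size of any conjugacy class of G. If some element has a conjugacy class of size exactly 2^a, then G is solvable. -/
theorem result {G : Type*} [Group G] [Finite G]
    (hA : ∀ (p : ℕ) [Fact p.Prime] (P : Sylow p G), IsMulCommutative (P : Subgroup G))
    (a : ℕ) (hmax : ∀ y : G, ¬ 2 ^ (a + 1) ∣ (Subgroup.centralizer ({y} : Set G)).index) (hx : ∃ x : G, (Subgroup.centralizer ({x} : Set G)).index = 2 ^ a) :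
    Group.IsSolvable G := by
  have hab : ∀ (p : ℕ) [Fact p.Prime] (Q : Subgroup G), IsPGroup p Q → IsMulCommutative Q :=
    fun p _ Q hQ => by
      obtain ⟨S, hS⟩ := hQ.exists_le_sylow
      exact BG.abelianS hS (hA p S)
  obtain ⟨x, hx⟩ := hx
  obtain ⟨P⟩ : Nonempty (Sylow 2 G) := inferInstance
  set H := centralizer ({x} : Set G) with hH
  set C := H.normalCore with hC
  have hco : (P : Subgroup G).index.Coprime H.index := by
    rw [hx]
    exact (Nat.Coprime.pow_left a ((Nat.prime_two.coprime_iff_not_dvd).2 P.not_dvd_index)).symm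
  have hPC : (P : Subgroup G) ⊓ H ≤ C := fun y hy g => by
    obtain ⟨p, hp, h, hh, hg⟩ := SolvStr.isProd_top_iff.1 (SolvStr.isProd_top_of_coprime_index hco) g⁻¹
    have h1 : p * y = y * p := congrArg Subtype.val ((hA 2 P).is_comm.comm ⟨p, hp⟩ ⟨y, hy.1⟩)
    rw [← inv_inv g, hg, inv_inv, mul_inv_rev, mul_assoc, mul_assoc, ← mul_assoc y, ← h1, mul_assoc,
      inv_mul_cancel_left]
    exact mul_mem (inv_mem hh) (mul_mem hy.2 hh)
  have hCH : C ≤ H := normalCore_le H
  have hi0 := SolvStr.index_inf_of_coprime hco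
  set P₀ := (P : Subgroup G) ⊓ H with hP₀
  have hrel : P₀.relIndex H = (P : Subgroup G).index := by
    have := relIndex_mul_index (H := P₀) (K := H) inf_le_right
    rw [hi0] at this
    exact Nat.eq_of_mul_eq_mul_right (Nat.pos_of_ne_zero index_ne_zero_of_finite) this
  have hSH : SylIn 2 P₀ H := sylIn_of_not_dvd_relIndex inf_le_right (P.2.to_le inf_le_left)
    (hrel ▸ P.not_dvd_index)
  have hSC : SylIn 2 P₀ C := hSH.mono hPC hCH
  haveI : Group.IsSolvable (G ⧸ C) := sol _ _ rfl (fun Q hQ => by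
      have h6 := (sylIn_top P).map (QuotientGroup.mk' C)
      rw [map_top_of_surjective _ (QuotientGroup.mk'_surjective C)] at h6
      obtain ⟨g, -, hg⟩ := h6.exists_le_conj le_top hQ
      haveI := hA 2 P
      exact BG.abelianS hg (isMulCommutative_cj g inferInstance)) (H.map (QuotientGroup.mk' C))
    (by
      rw [← relIndex_ker, QuotientGroup.ker_mk', ← Nat.not_even_iff_odd, even_iff_two_dvd]
      exact fun h => hSH.not_dvd_relIndex (h.trans (relIndex_dvd_of_le_left H hPC))) (by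
      obtain ⟨i, -, hi⟩ := (Nat.dvd_prime_pow Nat.prime_two).1
        (hx ▸ H.index_map_dvd (QuotientGroup.mk'_surjective C))
      exact ⟨i, hi⟩)
  have hDC : ⁅C, C⁆ ≤ C := commutator_le_left C C
  have hZ : ∀ w ∈ ⁅C, C⁆, w ∈ centralizer (C : Set G) → w = 1 := fun w h1 h2 => by
    by_contra h3
    obtain ⟨p, hp, hd⟩ := Nat.exists_prime_and_dvd (mt orderOf_eq_one_iff.1 h3)
    haveI := Fact.mk hp
    obtain ⟨A, hA'⟩ := exists_sylIn p C
    have h4 := Transfer.pow_relIndex_mem_commutator hA'.le h2 h1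
    rw [commutator_eq_bot_iff_le_centralizer.2 (le_centralizer_iff_isMulCommutative.2 (hab p A hA'.pg)), mem_bot] at h4
    exact hA'.not_dvd_relIndex (hd.trans (orderOf_dvd_of_pow_eq_one h4))
  have key : ∀ z ∈ ⁅C, C⁆, ∃ d ∈ ⁅C, C⁆, z ∈ cj d (centralizer (P₀ : Set G)) := fun z hz => by
    obtain ⟨Q, hQ⟩ := exists_sylIn 2 (centralizer ({x * z} : Set G))
    have h1 : Q ≤ H := fun q hq => by
      have h1 := mem_centralizer_singleton_iff.1 (hQ.le hq)
      have h2 := hZ (x⁻¹ * (q * x * q⁻¹)) (by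
        have := mul_mem hz (Normal.conj_mem inferInstance _ (inv_mem hz) q)
        convert this using 1
        calc x⁻¹ * (q * x * q⁻¹) = x⁻¹ * (q * (x * z)) * z⁻¹ * q⁻¹ := by group
          _ = _ := by rw [h1]; group) (mem_centralizer_iff.2 fun c hc => by
        have a1 := mem_centralizer_singleton_iff.1 (hCH hc)
        have a2 := mem_centralizer_singleton_iff.1 (hc q⁻¹)
        have c1 : Commute c x := a1
        have c2 : Commute c (q * x * q⁻¹) := by
          show c * (q * x * q⁻¹) = q * x * q⁻¹ * c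
          calc c * (q * x * q⁻¹) = q * (q⁻¹ * c * q⁻¹⁻¹ * x) * q⁻¹ := by group
            _ = _ := by rw [a2]; group
        exact (c1.inv_right.mul_right c2).eq)
      rw [inv_mul_eq_one, eq_mul_inv_iff_mul_eq] at h2
      exact mem_centralizer_singleton_iff.2 h2.symm
    have h2 : Q ≤ C := by
      obtain ⟨g, -, hg⟩ := hSH.exists_le_conj h1 hQ.pg
      exact hg.trans ((cj_mono g hPC).trans (cj_eq_of_normal g C).le)
    have h3 : Nat.card P₀ ≤ Nat.card Q := by
      obtain ⟨i, hi⟩ := IsPGroup.iff_card.1 hQ.pg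
      obtain ⟨j, hj⟩ := IsPGroup.iff_card.1 hSH.pg
      rw [hi, hj]
      refine Nat.pow_le_pow_right two_pos (not_lt.1 fun hij => ?_)
      have a1 := Q.index_mul_card
      rw [← P₀.index_mul_card, hi0, hx, hi, hj] at a1
      have a2 : 2 ^ (a + 1) ∣ Q.index := by
        obtain ⟨m, rfl⟩ := Nat.exists_eq_add_of_lt hij
        refine ⟨(P : Subgroup G).index * 2 ^ m, Nat.eq_of_mul_eq_mul_right (pow_pos two_pos i) ?_⟩
        rw [a1]; ring
      rw [← relIndex_mul_index hQ.le] at a2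
      exact hmax _ ((Nat.Coprime.pow_left _
        (Nat.prime_two.coprime_iff_not_dvd.2 hQ.not_dvd_relIndex)).dvd_of_dvd_mul_left a2)
    have h4 := sylIn_of_card_le hSC h2 hQ.pg h3
    have hE : C ≤ normalizer ((⁅C, C⁆ ⊔ P₀ : Subgroup G) : Set G) :=
      le_normalizer_of_cj_le fun g hg => cj_le_iff_forall.2 fun w hw => by
        have := mul_mem (mem_sup_left (T := P₀) (commutator_mem_commutator hg
          (sup_le hDC hPC hw))) hw
        simpa [commutatorElement_def] using this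
    have h5 : Q ≤ ⁅C, C⁆ ⊔ P₀ := by
      obtain ⟨g, hg, hg2⟩ := hSC.exists_conj h4
      rw [← hg2]; exact cj_le_of_mem_normalizer (hE hg) le_sup_right
    obtain ⟨g, hg, hg2⟩ := (hSC.mono le_sup_right (sup_le hDC hPC)).exists_conj
      (h4.mono h5 (sup_le hDC hPC))
    obtain ⟨d, hd, p, hp, rfl⟩ := mem_sup_of_normal_left.1 hg
    refine ⟨d, hd, ?_⟩
    rw [← cj_cj, cj_eq_of_mem hp] at hg2
    rw [cj_centralizer, hg2, mem_centralizer_iff]
    intro q hq
    have a1 := mem_centralizer_singleton_iff.1 (hQ.le hq)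
    rw [← mul_assoc, mem_centralizer_singleton_iff.1 (h1 hq), mul_assoc, mul_assoc] at a1
    exact mul_left_cancel a1
  have hD : ⁅C, C⁆ ≤ centralizer (P₀ : Set G) := subgroupOf_eq_top.1
    (Gen2.eq_top_of_forall_exists_conj_mem _ fun z => by
      obtain ⟨d, hd, h⟩ := key z z.2
      exact ⟨(⟨d, hd⟩ : (⁅C, C⁆ : Subgroup G))⁻¹, by simpa [mem_subgroupOf] using mem_cj.1 h⟩)
  haveI : Group.IsSolvable (⁅C, C⁆ : Subgroup G) := by
    have h1 := hSC.inf_normal' hDC (by rw [normalizer_eq_top]; exact le_top)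
    haveI : Group.IsSolvable ((⁅C, C⁆ : Subgroup G) ⧸ center (⁅C, C⁆ : Subgroup G)) := by
      refine FTC.solvable_of_odd (Nat.not_even_iff_odd.1 fun h => h1.not_dvd_relIndex
        ((even_iff_two_dvd.1 h).trans (index_dvd_of_le fun y hy => mem_center_iff.2 fun g => ?_)))
      exact Subtype.ext (mem_centralizer_iff.1 (hD g.2) y hy.1).symm
    haveI : Group.IsSolvable (center (⁅C, C⁆ : Subgroup G)) :=
      isSolvable_of_comm fun a b => IsMulCommutative.is_comm.comm a b
    exact Solv.isSolvable_of_normal_of_quotient (center _)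
  haveI : Group.IsSolvable C := by
    haveI : Group.IsSolvable (commutator C) := by
      refine solvable_of_solvable_injective (f := (C.subtype.comp (commutator C).subtype).codRestrict
        ⁅C, C⁆ fun y => ?_) fun a b h => Subtype.ext (Subtype.ext (congrArg Subtype.val h :))
      rw [← map_subtype_commutator]; exact mem_map_of_mem _ y.2
    haveI : Group.IsSolvable (C ⧸ commutator C) :=
      isSolvable_of_comm fun a b => (Abelianization.commGroup C).mul_comm a b
    exact Solv.isSolvable_of_normal_of_quotient (commutator C)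
  exact Solv.isSolvable_of_normal_of_quotient C

end Cfsg.Agent.S4133
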