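import Cfsg.Statements.S4142
import Cfsg.Agent.Gen2.ClassCount

set_option autoImplicit false
open Cfsg

namespace Cfsg.Agent.S4142

/-- Let G be a finite group and N a normal subgroup. Then the conjugacy class of every element g outside N is a union of cosets of N (gn is conjugate to g for all n ∈ N) if and only if for every g outside N the centralizer of g in G has the same order as the centralizer of gN in G/N. -/
theorem result {G : Type*} [Group G] [Finite G] (N : Subgroup G) [N.Normal] :
    (∀ g : G, g ∉ N → ∀ n ∈ N, ∃ x : G, x * g * x⁻¹ = g * n) ↔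
      ∀ g : G, g ∉ N → Nat.card (Subgroup.centralizer ({g} : Set G)) =
        Nat.card (Subgroup.centralizer ({(QuotientGroup.mk g : G ⧸ N)} : Set (G ⧸ N))) := by
  open Subgroup Gen2 in
  refine forall_congr' fun g => forall_congr' fun _ => ?_
  let D : Subgroup G :=
    (Subgroup.centralizer ({(g : G ⧸ N)} : Set (G ⧸ N))).comap (QuotientGroup.mk' N)
  have hCD : Subgroup.centralizer ({g} : Set G) ≤ D :=
    Subgroup.map_le_iff_le_comap.1 (Gen2.map_cent_le (QuotientGroup.mk' N) g)
  have hD : Nat.card D =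
      Nat.card (Subgroup.centralizer ({(g : G ⧸ N)} : Set (G ⧸ N))) * Nat.card N := by
    have := Solv.card_map_mul_card_inf_ker (QuotientGroup.mk' N) D
    rw [QuotientGroup.ker_mk', Subgroup.map_comap_eq_self_of_surjective
      (QuotientGroup.mk'_surjective N), inf_eq_left.2] at this
    · exact this.symm
    · intro n hn
      show ((n : G ⧸ N)) ∈ Subgroup.centralizer _
      rw [(QuotientGroup.eq_one_iff n).2 hn]
      exact one_mem _
  have h1 := Gen2.ncard_conj_by D g
  have h2 := BG.card_mul_relIndex hCD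
  have hsub : {y | ∃ n ∈ D, n * g * n⁻¹ = y} ⊆ (fun n => g * n) '' (N : Set G) := by
    rintro _ ⟨d, hd, rfl⟩
    refine ⟨g⁻¹ * (d * g * d⁻¹), ?_, by simp⟩
    refine QuotientGroup.eq.1 ?_
    have : (d : G ⧸ N) * g = g * d := Gen2.mem_cent.1 hd
    simp [this]
  have h3 : ((fun n => g * n) '' (N : Set G)).ncard = Nat.card N := by
    rw [Set.ncard_image_of_injective _ (mul_right_injective g)]
    rfl
  have h4 : (∀ n ∈ N, ∃ x : G, x * g * x⁻¹ = g * n) ↔
      {y | ∃ n ∈ D, n * g * n⁻¹ = y} = (fun n => g * n) '' (N : Set G) := by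
    constructor
    · intro h
      refine hsub.antisymm ?_
      rintro _ ⟨n, hn, rfl⟩
      obtain ⟨x, hx⟩ := h n hn
      refine ⟨x, Gen2.mem_cent.2 ?_, hx⟩
      have := congrArg (QuotientGroup.mk (s := N)) hx
      rw [QuotientGroup.mk_mul N g n, (QuotientGroup.eq_one_iff n).2 hn, mul_one] at this
      exact mul_inv_eq_iff_eq_mul.1 this
    · intro h n hn
      obtain ⟨x, -, hx⟩ : g * n ∈ {y | ∃ n ∈ D, n * g * n⁻¹ = y} := h ▸ ⟨n, hn, rfl⟩
      exact ⟨x, hx⟩
  rw [h4]
  constructor
  · intro h
    rw [h, h3] at h1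
    rw [← h1, hD] at h2
    exact Nat.eq_of_mul_eq_mul_right Nat.card_pos h2
  · intro h
    refine Set.eq_of_subset_of_ncard_le hsub (le_of_eq ?_)
    rw [h3, h1]
    rw [hD, h] at h2
    exact (Nat.eq_of_mul_eq_mul_left Nat.card_pos h2).symm

end Cfsg.Agent.S4142
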