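import Cfsg.Statements.S4354
import Cfsg.Agent.Gen2.Basic
import Cfsg.Agent.Loc.Syl


set_option autoImplicit false
open Cfsg

namespace Cfsg.Agent.S4354

open Subgroup Gen2

/-- Let G be a finite group and p a prime such that the Sylow p-subgroups of G are non-abelian while every element of p-power order has conjugacy class size prime to p, and suppose no nontrivial proper normal subgroup N of G has this property and no quotient G/N by such an N has it. Then G is simple. -/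
theorem result {G : Type*} [Group G] [Finite G]
    (p : ℕ) [Fact p.Prime] (h : ((∃ P : Sylow p G, ¬ IsMulCommutative P) ∧ ∀ x : G, (∃ k : ℕ, orderOf x = p ^ k) → ¬ p ∣ (Subgroup.centralizer ({x} : Set G)).index))
    (hmin : ∀ (N : Subgroup G) [N.Normal], N ≠ ⊥ → N ≠ ⊤ →
      ¬ ((∃ P : Sylow p N, ¬ IsMulCommutative P) ∧ ∀ x : N, (∃ k : ℕ, orderOf x = p ^ k) → ¬ p ∣ (Subgroup.centralizer ({x} : Set N)).index) ∧
      ¬ ((∃ P : Sylow p (G ⧸ N), ¬ IsMulCommutative P) ∧ ∀ x : (G ⧸ N), (∃ k : ℕ, orderOf x = p ^ k) → ¬ p ∣ (Subgroup.centralizer ({x} : Set (G ⧸ N))).index)) :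
    IsSimpleGroup G := by
  obtain ⟨⟨P, hP⟩, hcs⟩ := h
  have hnt : Nontrivial G := by
    by_contra hs
    rw [not_nontrivial_iff_subsingleton] at hs
    exact hP ⟨⟨fun a b => Subsingleton.elim _ _⟩⟩
  refine ⟨fun N hN => ?_⟩
  by_contra hne
  push Not at hne
  obtain ⟨h1, h2⟩ := hmin N hne.1 hne.2
  have hNab : IsMulCommutative (sylowInf P N) := by
    by_contra hc
    refine h1 ⟨⟨_, hc⟩, fun x hx hd => ?_⟩
    refine hcs x ?_ (hd.trans (cs_normal_dvd N x))
    simpa using hx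
  let Pb : Sylow p (G ⧸ N) := P.mapSurjective (QuotientGroup.mk'_surjective N)
  have hQab : IsMulCommutative Pb := by
    by_contra hc
    refine h2 ⟨⟨_, hc⟩, fun x hx hd => ?_⟩
    obtain ⟨g, rfl⟩ := QuotientGroup.mk_surjective x
    obtain ⟨a, -, ha, hag⟩ := exists_pElt_lift (QuotientGroup.mk' N) g hx
    have hag' : (a : G ⧸ N) = g := hag
    rw [← hag'] at hd
    exact hcs a ha (hd.trans (cs_quotient_dvd N a))
  -- every element of `P` lies in `Z(P) (P ∩ N)`
  have key : ∀ x ∈ (P : Subgroup G), ∃ z ∈ centralizer ((P : Subgroup G) : Set G),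
      ∃ n ∈ N, n ∈ (P : Subgroup G) ∧ x = z * n := by
    intro x hx
    have hxp := pElt_of_mem P.isPGroup' hx
    obtain ⟨g, hg⟩ := exists_conj_mem_centralizer_sylow P (hcs x hxp)
    have hgP : g * x * g⁻¹ ∈ (P : Subgroup G) :=
      mem_sylow_of_mem_normalizer P (pElt_conj hxp g) (centralizer_le_normalizer _ hg)
    obtain ⟨nb, hnb, hnb2⟩ := Pb.conj_eq_normalizer_conj_of_mem (x : G ⧸ N) (g⁻¹ : G)
      ⟨x, hx, rfl⟩ ⟨_, hgP, by simp⟩
    obtain ⟨n, rfl⟩ := QuotientGroup.mk_surjective nb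
    have hn : n ∈ normalizer (((P : Subgroup G) ⊔ N : Subgroup G) : Set G) := by
      rw [← Solv.comap_map_mk' N P]
      exact le_normalizer_comap (QuotientGroup.mk' N) hnb
    obtain ⟨k, hk, m, hm, rfl⟩ := (Loc.sylIn_of_sylow_le P le_sup_left).frattini' hn
    obtain ⟨y, hy, u, hu, rfl⟩ := (Solv.mem_sup_right_of_le_normalizer le_normalizer_of_normal).1 hm
    set t := k * y with ht
    have htN : t ∈ normalizer ((P : Subgroup G) : Set G) := mul_mem hk (le_normalizer hy)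
    have h3 : ((g * x * g⁻¹ : G) : G ⧸ N) = ((t⁻¹ * x * t : G) : G ⧸ N) := by
      have hu' : (u : G ⧸ N) = 1 := (QuotientGroup.eq_one_iff u).2 hu
      simp only [QuotientGroup.mk_mul, QuotientGroup.mk_inv, inv_inv, hu', mul_one, ht] at hnb2 ⊢
      exact hnb2
    have h4 : (g * x * g⁻¹)⁻¹ * (t⁻¹ * x * t) ∈ N := QuotientGroup.eq.1 h3
    have h5 : t⁻¹ * x * t ∈ (P : Subgroup G) :=
      Solv.conj_mem_of_le_normalizer' le_rfl htN hx
    refine ⟨t * (g * x * g⁻¹) * t⁻¹, ?_, t * ((g * x * g⁻¹)⁻¹ * (t⁻¹ * x * t)) * t⁻¹,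
      hN.conj_mem _ h4 t, ?_, by group⟩
    · exact Solv.conj_mem_of_le_normalizer (Solv.normalizer_le_normalizer_centralizer _) htN hg
    · exact Solv.conj_mem_of_le_normalizer le_rfl htN (mul_mem (inv_mem hgP) h5)
  apply hP
  refine ⟨⟨fun a b => Subtype.ext ?_⟩⟩
  obtain ⟨z, hz, n, hn, hnP, ha⟩ := key a a.2
  obtain ⟨w, hw, m, hm, hmP, hb⟩ := key b b.2
  have hnm : n * m = m * n := by
    have := hNab.is_comm.comm ⟨⟨n, hn⟩, hnP⟩ ⟨⟨m, hm⟩, hmP⟩
    exact congrArg (fun t : sylowInf P N => ((t : N) : G)) this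
  have h1 : (b : G) * z = z * b := mem_centralizer_iff.1 hz b b.2
  have h2 : n * w = w * n := mem_centralizer_iff.1 hw n hnP
  change (a : G) * b = b * a
  calc (a : G) * b = z * (n * w) * m := by rw [ha, hb]; group
    _ = z * (w * m) * n := by rw [h2, mul_assoc, mul_assoc, hnm]; group
    _ = b * a := by rw [← hb, ← h1, ha]; group

end Cfsg.Agent.S4354
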