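import Cfsg.Statements.S4355
import Cfsg.Agent.S1169
import Cfsg.Agent.LieM.Omega
import Cfsg.Agent.S4354
import Mathlib.Tactic.Group

set_option autoImplicit false
open Cfsg

namespace Cfsg.Agent.S4355
open scoped commutatorElement

open Subgroup Cfsg.Agent.LieM Cfsg.Agent.BG

universe v

theorem aux (n : ℕ) : ∀ (G : Type v) [Group G] [Finite G], Nat.card G = n →
    ¬ ((∃ P : Sylow 2 G, ¬ IsMulCommutative P) ∧
      ∀ x : G, (∃ k : ℕ, orderOf x = 2 ^ k) → ¬ 2 ∣ (Subgroup.centralizer ({x} : Set G)).index) := by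
  induction n using Nat.strong_induction_on with
  | _ n ih =>
  intro G _ _ hn h
  haveI : IsSimpleGroup G := by
    refine Cfsg.Agent.S4354.result 2 h fun N _ h1 h2 => ⟨ih _ ?_ _ rfl, ih _ ?_ _ rfl⟩
    · rw [← hn]
      simpa using proper_card (lt_top_iff_ne_top.2 h2)
    · rw [← hn, ← card_mul_index N]
      have h3 : 1 < Nat.card N := N.one_lt_card_iff_ne_bot.2 h1
      have h4 : 0 < N.index := Nat.pos_of_ne_zero index_ne_zero_of_finite
      show N.index < _
      nlinarith
  obtain ⟨⟨P, hP⟩, h⟩ := h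
  have hna : ∃ a b : G, a * b ≠ b * a := by
    by_contra hc
    push Not at hc
    exact hP ⟨⟨fun a b => Subtype.ext (hc a b)⟩⟩
  have hpow : ∀ x ∈ (P : Subgroup G), ∃ k : ℕ, orderOf x = 2 ^ k := fun x hx => by
    obtain ⟨k, hk⟩ := (IsPGroup.iff_orderOf (p := 2)).1 P.isPGroup' ⟨x, hx⟩
    exact ⟨k, by rw [← hk]; exact orderOf_coe (⟨x, hx⟩ : (P : Subgroup G))⟩
  have hinv : ∀ a ∈ (P : Subgroup G), ∀ b ∈ (P : Subgroup G), a * a = 1 → b * b = 1 → Commute a b := by
    intro a ha b hb h1 h2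
    have ia : a⁻¹ = a := inv_eq_of_mul_eq_one_right h1
    have ib : b⁻¹ = b := inv_eq_of_mul_eq_one_right h2
    have e : a * (a * b) * a⁻¹ = (a * b)⁻¹ := by
      rw [mul_inv_rev, ia, ib, ← mul_assoc, h1, one_mul]
    have hc := commute_of_inv_odd (h _ (hpow _ (mul_mem ha hb))) e (k := 1) (by simpa [pow_two] using h1)
    have := hc.eq
    rw [mul_assoc] at this
    exact mul_left_cancel this
  have hP1 : (P : Subgroup G) ≠ ⊥ := fun hb => hP ⟨⟨fun a b => Subtype.ext (by
    have h1 : (a : G) = 1 := by simpa [hb] using (hb ▸ a.2 : (a : G) ∈ (⊥ : Subgroup G))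
    simp [h1])⟩⟩
  rcases Cfsg.Agent.S1169.result P (omegaOne 2 P) (omega_ne_bot P.isPGroup' hP1) (omega_comm hinv) (omega_sc hinv)
    with hc | ⟨H, hH⟩
  · exact hP hc
  · obtain ⟨t, Q, hQ⟩ := SE.bender_simple hna hH
    refine hP (comm_of_two_central hQ (fun x hx => ?_) P)
    obtain ⟨S, hS⟩ := hQ.exists_sylow
    obtain ⟨k, hk⟩ := (IsPGroup.iff_orderOf (p := 2)).1 S.isPGroup' ⟨x, hS ▸ hx⟩
    have hk' : orderOf x = 2 ^ k := by rw [← hk]; exact orderOf_coe (⟨x, hS ▸ hx⟩ : (S : Subgroup G))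
    obtain ⟨T0⟩ : Nonempty (Sylow 2 (centralizer ({x} : Set G))) := inferInstance
    obtain ⟨T, hT⟩ := (T0.isPGroup'.map (centralizer ({x} : Set G)).subtype).exists_le_sylow
    refine ⟨T, ?_⟩
    have hc : Nat.card T ≤ Nat.card ((T0 : Subgroup (centralizer ({x} : Set G))).map (centralizer ({x} : Set G)).subtype) := by
      rw [card_map_of_injective (subtype_injective _), T0.card_eq_multiplicity, T.card_eq_multiplicity,
        ← card_mul_index (centralizer ({x} : Set G)), Nat.factorization_mul Nat.card_pos.ne' index_ne_zero_of_finite]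
      simp [Nat.factorization_eq_zero_of_not_dvd (h x ⟨k, hk'⟩)]
    rw [← eq_of_le_of_card_ge hT hc]
    exact map_subtype_le _

/-- If every element of 2-power order of a finite group has a conjugacy class of odd size, then the Sylow 2-subgroups of the group are abelian. -/
theorem result {G : Type*} [Group G] [Finite G]
    (h : ∀ x : G, (∃ k : ℕ, orderOf x = 2 ^ k) → ¬ 2 ∣ (Subgroup.centralizer ({x} : Set G)).index) (P : Sylow 2 G) :
    IsMulCommutative P := by
  by_contra hP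
  exact aux _ G rfl ⟨⟨P, hP⟩, h⟩

end Cfsg.Agent.S4355
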