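import Cfsg.Statements.S4194
import Cfsg.Agent.S4355
import Cfsg.Agent.LieM.Omega
import Mathlib.Tactic.Group

set_option autoImplicit false
open Cfsg

namespace Cfsg.Agent.S4194
open scoped commutatorElement

open Subgroup Cfsg.Agent.LieM Cfsg.Agent.BG

/-- A finite group G has commutative Sylow 2-subgroups if and only if every 2-element of G (element of order a power of 2) is 2-central, that is, its centralizer contains a Sylow 2-subgroup of G. -/
theorem result {G : Type*} [Group G] [Finite G] (P : Sylow 2 G) :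
    IsMulCommutative (P : Subgroup G) ↔ ∀ x : G, (∃ k : ℕ, orderOf x = 2 ^ k) → (∃ Q : Sylow 2 G, (Q : Subgroup G) ≤ Subgroup.centralizer ({x} : Set G)) := by
  constructor
  · rintro hP x ⟨k, hk⟩
    have h2 : IsPGroup 2 (zpowers x) := IsPGroup.of_card (by rw [Nat.card_zpowers, hk])
    obtain ⟨Q, hQ⟩ := h2.exists_le_sylow
    have hc := sylow_comm_of_sylow_comm P Q hP
    refine ⟨Q, fun y hy => mem_centralizer_singleton_iff.2 ?_⟩
    exact congrArg Subtype.val (hc.is_comm.comm ⟨y, hy⟩ ⟨x, hQ (mem_zpowers x)⟩)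
  · intro h
    refine Cfsg.Agent.S4355.result (fun x hx h2 => ?_) P
    obtain ⟨Q, hQ⟩ := h x hx
    exact Q.not_dvd_index (h2.trans (index_dvd_of_le hQ))

end Cfsg.Agent.S4194
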