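import Cfsg.Statements.S4235
import Cfsg.Agent.SE.Bender2
import Cfsg.Agent.BG.S1
import Cfsg.Agent.Classical.PSL2Basic

set_option autoImplicit false
open scoped Pointwise
open Cfsg

namespace Cfsg.Agent.S4235

open Subgroup BG

/-- Let G be a finite group. Call a subgroup maximal solvable if it is solvable and not properly contained in a solvable subgroup. Suppose F assigns to each maximal solvable subgroup M a normal subgroup F(M) of M such that: every element of M outside F(M) centralizes no non-identity element of F(M); F(M) meets each conjugate g F(M) g⁻¹ with g outside M trivially; and F(M) is nontrivial unless M is abelian. Then G is solvable, or G is isomorphic to SL(2, K) for a finite field K of characteristic 2 with at least 4 elements, or G is isomorphic to a Suzuki group. -/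
theorem result {G : Type*} [Group G] [Finite G] (F : Subgroup G → Subgroup G)
    (h : ∀ M : Subgroup G, (Group.IsSolvable M ∧ ∀ M' : Subgroup G, M < M' → ¬ Group.IsSolvable M') →
      F M ≤ M ∧ M ≤ Subgroup.normalizer (F M : Set G) ∧
      (∀ a ∈ M, a ∉ F M → ∀ x ∈ F M, x * a = a * x → x = 1) ∧
      (∀ g : G, g ∉ M → F M ⊓ (MulAut.conj g • F M) = ⊥) ∧
      (F M ≠ ⊥ ∨ IsMulCommutative M)) :
    Group.IsSolvable G ∨
      (∃ (K : Type) (_ : Field K) (_ : Fintype K), (∃ n : ℕ, 2 ≤ n ∧ Fintype.card K = 2 ^ n) ∧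
        Nonempty (G ≃* Matrix.SpecialLinearGroup (Fin 2) K)) ∨
      Cfsg.Lie.IsoSuzuki G := by
  refine or_iff_not_imp_left.2 fun hns => ?_
  have he := SE.even_of_not_sol hns
  obtain ⟨S, hS⟩ := Sylow_exists 2 (⊤ : Subgroup G)
  have hNS : Group.IsSolvable N[S] := series_sol (normalG S) (pgroup_sol hS.pg) (SE.sol_of_odd (by
    rw [card_quotient le_rfl]; exact pnat_odd.1 (pHall_subl (normG S) le_top hS).idx))
  obtain ⟨M, hSM, hM, hmax⟩ := maxgroup_exists (P := fun M : Subgroup G => Group.IsSolvable M) hNS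
  obtain ⟨hle, hn, hfpf, hTI, hne⟩ := h M ⟨hM, fun M' h1 h2 => h1.ne' (hmax M' h2 h1.le)⟩
  simp only [cj_eq_smul] at hTI
  have htop : ∀ {M : Subgroup G}, Group.IsSolvable M → M ≠ ⊤ := fun h e => hns (isog_sol ⟨topEquiv⟩ (e ▸ h))
  replace hne : F M ≠ ⊥ := hne.resolve_right fun hab => by
    have := Burnside_normal_complement hS (inf_le_right.trans (sub_abelian_cent2 hab hSM ((normG S).trans hSM)))
    exact htop (solvableY (Or.inr this.norm) (SE.sol_of_odd (SE.odd_O ⊤)) (pgroup_sol hS.pg)) this.sup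
  have hrad : ∀ R : Subgroup G, R.Normal → Group.IsSolvable R → R = ⊥ := fun R hR hs => by
    by_contra h0
    obtain ⟨N, p, -, hN, hN0, -, hab⟩ := solvable_norm_abelem (M := ⊤) hs h0 (norm_of_normal _ _)
    have hNM : N ≤ M := le_sup_right.trans (hmax _ (solvableY (Or.inl (le_top.trans hN)) hM (abelian_sol hab.1))
      le_sup_left).le
    obtain ⟨x, hx, h1⟩ : ∃ x ∈ F M, x ≠ 1 ∧ x ∈ C[N] := by
      by_cases e : F M ⊓ N = ⊥
      · obtain ⟨x, hx, h1⟩ := trivgPn.1 hne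
        exact ⟨x, hx, h1, TI_cent (le_top.trans hN) (hNM.trans hn) e hx⟩
      · obtain ⟨x, hx, h1⟩ := trivgPn.1 e
        exact ⟨x, hx.1, h1, IsMulCommutative.cent hab.1 hx.2⟩
    have hNF : N ≤ F M := fun n hn => by_contra fun e => h1.1 (hfpf n (hNM hn) e x hx (mem_cent.1 h1.2 n hn).symm)
    refine htop hM (eq_top_iff.2 fun g _ => by_contra fun hg => hN0 (eq_bot_iff.2 (hTI g hg ▸ le_inf hNF ?_)))
    rw [← cj_of_norm (hN (mem_top g))]
    exact cj_mono g hNF
  have hO : pPrimeCore 2 G = ⊥ := hrad _ inferInstance (SE.sol_of_odd Block.odd_card_pPrimeCore)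
  obtain ⟨z, hz⟩ := Invol.exists_invol_of_even he
  have hr := SE.rank2_of_center hO hz fun e => Invol.ne_one_of hz (mem_bot.1
    (hrad (center G) inferInstance (abelian_sol inferInstance) ▸ e))
  have hc : ∀ a ∈ M, a ∉ F M → F M ⊓ C1[a] ≤ ⊥ := fun a ha h1 x hx => hfpf a ha h1 x hx.1 (mem_cent1.1 hx.2)
  have hev : ¬ Odd #(F M) := fun ho => by
    obtain ⟨x, -, y, -, hx, hy, hxy, hcm⟩ := hr
    obtain ⟨g, -, hg⟩ := Sylow_Jsub hS le_top
      (Invol.isPGroup_closure_pair_of_commute (Invol.mul_self_of hx) (Invol.mul_self_of hy) hcm)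
    have h1 : g * x * g⁻¹ ∈ M := hSM (normG S (hg (conj_mem_cj g (subset_closure (by simp)))))
    have h2 : g * y * g⁻¹ ∈ M := hSM (normG S (hg (conj_mem_cj g (subset_closure (by simp)))))
    have h3 : g * x * g⁻¹ ≠ g * y * g⁻¹ := by simpa using hxy
    have h4 : Commute (g * x * g⁻¹) (g * y * g⁻¹) := hcm.map (MulAut.conj g)
    have H : ∀ a ∈ M, orderOf a = 2 → F M ⊓ C1[a] ≤ ⊥ := fun a ha h2 => hc a ha fun e => Invol.odd_card_iff.1 ho a e h2
    exact hne (eq_bot_iff.2 (SE.le_of_four (SE.conj_two hx g) (SE.conj_two hy g) h3 h4 ho (hn h1) (hn h2)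
      (H _ h1 (SE.conj_two hx g)) (H _ h2 (SE.conj_two hy g)) (H _ (mul_mem h1 h2) (Invol.orderOf_mul_of_commute
        (Invol.mul_self_of (SE.conj_two hx g)) (Invol.mul_self_of (SE.conj_two hy g)) h4 h3))))
  have hI : ∀ t ∈ M, orderOf t = 2 → t ∈ F M := fun t ht h2 => by_contra fun e => hev (by
    have := regular_norm_coprime (zpowers_le.2 (hn ht)) (semiregular_prime (K := F M)
      (by rw [Nat.card_zpowers, h2]; exact Nat.prime_two) (by rw [C_zpowers]; exact eq_bot_iff.2 (hc t ht e)))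
    rwa [Nat.card_zpowers, h2, Nat.coprime_two_right] at this)
  obtain ⟨s, hs, hs2⟩ := Invol.exists_invol_mem_of_even (Nat.not_odd_iff_even.1 hev)
  have hse : IsStronglyEmbedded M := Invol.stronglyEmbedded_iff.2 ⟨htop hM, ⟨s, hle hs, hs2⟩, fun t ht h2 g hg =>
    by_contra fun e => Invol.ne_one_of (SE.conj_two h2 g) (mem_bot.1
      (hTI g e ▸ mem_inf.2 ⟨hI _ hg (SE.conj_two h2 g), conj_mem_cj g (hI t ht h2)⟩))⟩
  obtain ⟨_, t, Q, hH⟩ := SE.bender hse hr hO
  obtain ⟨s, r, hs⟩ := hH.exists_SR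
  have hV : Suz.Vg (SE.pt M) t = ⊥ := eq_bot_iff.2 fun v hv => by
    have h1 := Suz.mem_Vg.1 hv
    have h2 : v ∈ F M := by_contra fun e => hs.ne_one (hfpf v (SE.smul_pt.1 (Rank1.mem_D2.1 h1.1).1) e s
      (hI s (SE.smul_pt.1 (hH.setup.le hs.hs)) hs.ord) (hH.V_comm hs hv).1.symm)
    refine hTI t (fun e => Rank1.Setup.t_smul_ne hH.setup (SE.smul_pt.2 e)) ▸ mem_inf.2 ⟨h2, mem_cj'.2 ⟨v, h2, ?_⟩⟩
    rw [← h1.2.eq, mul_inv_cancel_right]
  rcases hH.of_V hV with ⟨K, i1, i2, n, h1, h2, ⟨e⟩⟩ | h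
  · have : CharP K 2 := charP_of_card_eq_prime_pow h2
    exact Or.inl ⟨K, i1, i2, ⟨n, h1, h2⟩, ⟨e.trans (Classical.slEquivPSL CharTwo.two_eq_zero).symm⟩⟩
  · exact Or.inr h.2.2

end Cfsg.Agent.S4235
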