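import Cfsg.Statements.S4343
import Cfsg.Agent.Gen2.FixCount
import Cfsg.Agent.S0060

set_option autoImplicit false
open Cfsg

namespace Cfsg.Agent.S4343

open Subgroup
open scoped Pointwise

/-- Let S be a finite non-abelian simple group and p a prime dividing its order. If S has fewer than p² Sylow p-subgroups, then its Sylow p-subgroups have order p. -/
theorem result {S : Type*} [Group S] [Finite S]
    [IsSimpleGroup S] (hS : ¬ IsMulCommutative S) (p : ℕ) [Fact p.Prime] (hp : p ∣ Nat.card S)
    (hn : Nat.card (Sylow p S) < p ^ 2) (P : Sylow p S) : Nat.card P = p := by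
  have hpp : p.Prime := Fact.out
  have h1 : ∀ Q : Sylow p S, Q ≠ P → (Q : Subgroup S).relIndex P = p := by
    intro Q hQ
    obtain ⟨k, hk⟩ := P.isPGroup'.index ((Q : Subgroup S).subgroupOf P)
    have h2 := (Gen2.relIndex_sylow_lt hQ).trans hn
    have h3 := mt (Gen2.relIndex_sylow_eq_one_iff P Q).1 hQ
    change (Q : Subgroup S).relIndex P = p ^ k at hk
    rw [hk] at h2 h3 ⊢
    have h4 := (Nat.pow_lt_pow_iff_right hpp.one_lt).1 h2
    obtain rfl | rfl : k = 0 ∨ k = 1 := by omega
    · simp at h3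
    · simp
  have hO := Gen2.pCore_eq_bot_of_isSimpleGroup hS p
  have h2 : ⁅(P : Subgroup S), (P : Subgroup S)⁆ = ⊥ := by
    rw [eq_bot_iff, ← hO, Solv.pCore_eq_iInf_sylow]
    refine le_iInf fun Q => ?_
    by_cases hQ : Q = P
    · rw [hQ]
      exact commutator_le_self _
    · have h3 : ((Q : Subgroup S) ⊓ P).relIndex P = p := by rw [inf_relIndex_right, h1 Q hQ]
      exact (Gen2.commutator_le_of_relIndex_prime
        (Gen2.le_normalizer_of_relIndex_eq P.isPGroup' inf_le_right h3) h3).trans inf_le_left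
  have h3 : IsMulCommutative P := by
    rw [commutator_eq_bot_iff_le_centralizer] at h2
    exact ⟨⟨fun a b => Subtype.ext (h2 b.2 a a.2)⟩⟩
  obtain ⟨g, hg⟩ := S0060.result p P h3 hO
  have h4 : g • P ≠ P := by
    intro h
    rw [← Sylow.coe_subgroup_smul, h, inf_idem] at hg
    exact P.ne_bot_of_dvd_card hp hg
  have h5 := h1 _ h4
  rwa [← inf_relIndex_left, Sylow.coe_subgroup_smul, hg, relIndex_bot_left] at h5

end Cfsg.Agent.S4343
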