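import Cfsg.Statements.S4304
import Cfsg.Agent.S4343

set_option autoImplicit false
open Cfsg

namespace Cfsg.Agent.S4304

open Subgroup MulAction
open scoped Pointwise

/-- A nonabelian simple group with `2p + 1` Sylow `p`-subgroups has odd order `(2p+1) p t` with
`t ∣ p - 1`. -/
theorem aux {S : Type*} [Group S] [Finite S] [IsSimpleGroup S] (hS : ¬ IsMulCommutative S)
    (p : ℕ) [hp : Fact p.Prime] (hp2 : p ≠ 2) (hn : Nat.card (Sylow p S) = 2 * p + 1) :
    Odd (Nat.card S) ∧ ∃ t, t ∣ p - 1 ∧ Nat.card S = (2 * p + 1) * p * t := by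
  have hpp := hp.out
  have hp3 : 3 ≤ p := by have := hpp.two_le; omega
  have hn1 : Nat.card (Sylow p S) ≠ 1 := by omega
  have hpS : p ∣ Nat.card S := by
    by_contra h
    exact hn1 (Gen2.card_sylow_eq_one_of_not_dvd h)
  obtain ⟨P⟩ : Nonempty (Sylow p S) := inferInstance
  have hP : Nat.card P = p := S4343.result hS p hpS (by rw [hn]; nlinarith) P
  obtain ⟨x, hx, hxo⟩ := Gen2.exists_generator_of_card_prime hP
  have hcyc : IsCyclic P := isCyclic_of_prime_card hP
  have hxP : x ∈ (P : Subgroup S) := hx ▸ mem_zpowers x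
  have hle : (P : Subgroup S) ≤ centralizer ((P : Subgroup S) : Set S) := le_centralizer _
  have hC : centralizer ((P : Subgroup S) : Set S) = P := by
    refine le_antisymm (relIndex_eq_one.1 ?_) hle
    by_contra hne
    obtain ⟨r, hr, hrd⟩ := Nat.exists_prime_and_dvd hne
    have hrp : r ≠ p := by
      rintro rfl
      exact (Loc.sylIn_of_sylow_le P hle).not_dvd_relIndex hrd
    obtain ⟨c, hc, hco⟩ := Gen2.exists_mem_orderOf_eq_prime hr (hrd.trans (relIndex_dvd_card _ _))
    have : Fact r.Prime := ⟨hr⟩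
    have h1 := Gen2.ncard_fixedBy_modEq_of_commute (Ω := Sylow p S) (p := p) (k := 1) (x := x)
      (g := c) (by rw [pow_one, ← hxo, pow_orderOf_eq_one]) (hc x hxP)
    rw [Gen2.fixedBy_sylow_of_zpowers_eq hx, Set.inter_eq_right.2 (Set.singleton_subset_iff.2
      (Gen2.mem_fixedBy_sylow.2 (centralizer_le_normalizer _ hc))), Set.ncard_singleton] at h1
    have h2 := Gen2.card_modEq_ncard_fixedBy (Ω := Sylow p S) (p := r) (k := 1) (x := c)
      (by rw [pow_one, ← hco, pow_orderOf_eq_one])
    have h3 : (fixedBy (Sylow p S) c).ncard < Nat.card (Sylow p S) := by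
      by_contra! h
      have := Gen2.eq_one_of_fixedBy_sylow hn1 c (Gen2.fixedBy_eq_univ_of_ncard h)
      rw [this, orderOf_one] at hco
      exact hr.one_lt.ne hco
    set f := (fixedBy (Sylow p S) c).ncard with hf
    rw [hn] at h2 h3
    obtain ⟨k, hk⟩ : ∃ k, f = p * k + 1 := by
      refine ⟨f / p, ?_⟩
      have := Nat.div_add_mod f p
      rw [Nat.ModEq, Nat.mod_eq_of_lt hpp.one_lt] at h1
      omega
    have hk2 : k < 2 := by
      by_contra! h
      nlinarith
    have h4 := (Nat.modEq_iff_dvd' h3.le).1 h2.symm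
    obtain rfl | rfl : k = 0 ∨ k = 1 := by omega
    · have h5 : r ∣ 2 * p := by simpa [hk] using h4
      rcases (Nat.Prime.dvd_mul hr).1 h5 with h | h
      · obtain rfl := (Nat.prime_dvd_prime_iff_eq hr Nat.prime_two).1 h
        have h6 := Gen2.four_dvd_card_sub_ncard_fixedBy (Ω := Sylow p S) hS (t := c)
          (by rw [← hco, pow_orderOf_eq_one])
        rw [hn, ← hf, hk] at h6
        have := hpp.eq_two_or_odd
        omega
      · exact hrp ((Nat.prime_dvd_prime_iff_eq hr hpp).1 h)
    · have h5 : r ∣ p := by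
        rw [hk] at h4
        convert h4 using 1
        omega
      exact hrp ((Nat.prime_dvd_prime_iff_eq hr hpp).1 h5)
  have hN := P.card_eq_index_normalizer
  rw [hn, ← P.coe_coe] at hN
  constructor
  · by_contra hodd
    rw [Nat.not_odd_iff_even, even_iff_two_dvd] at hodd
    have : Fact (Nat.Prime 2) := ⟨Nat.prime_two⟩
    obtain ⟨T, hT⟩ := Gen2.exists_sylow_le_of_not_dvd_index (p := 2)
      (normalizer ((P : Subgroup S) : Set S)) (by rw [← hN]; omega)
    have h1 : IsCyclic (MulAut (P : Subgroup S)) := by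
      have : IsCyclic (ZMod (Nat.card (P : Subgroup S)))ˣ := by
        rw [hP]; infer_instance
      exact isCyclic_of_injective (IsCyclic.mulAutMulEquiv (P : Subgroup S)).toMonoidHom
        (IsCyclic.mulAutMulEquiv (P : Subgroup S)).injective
    have h2 : IsCyclic T := by
      refine isCyclic_of_injective ((P : Subgroup S).normalizerMonoidHom.comp (inclusion hT)) ?_
      rw [injective_iff_map_eq_one]
      intro t ht
      have h3 : inclusion hT t ∈ (P : Subgroup S).normalizerMonoidHom.ker := ht
      rw [normalizerMonoidHom_ker, hC] at h3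
      have h4 := (IsPGroup.disjoint_of_ne p 2 hp2 _ _ P.isPGroup' T.isPGroup').le_bot ⟨h3, t.2⟩
      exact Subtype.ext h4
    exact Gen2.relIndex_centralizer_ne_one hS hodd T (relIndex_eq_one.2
      (IsCyclic.normalizer_le_centralizer ((Nat.minFac_eq_two_iff _).2 hodd) h2))
  · refine ⟨_, Gen2.relIndex_centralizer_dvd_sub_one hP, ?_⟩
    rw [← (normalizer ((P : Subgroup S) : Set S)).card_mul_index, ← hN,
      ← Solv.card_mul_relIndex (centralizer_le_normalizer ((P : Subgroup S) : Set S))]
    conv_lhs => enter [1, 1]; rw [hC, hP]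
    ring

/-- A nonabelian simple group of odd order does not have a Sylow subgroup of order `5`. -/
theorem aux5 {S : Type*} [Group S] [Finite S] [IsSimpleGroup S] (hS : ¬ IsMulCommutative S)
    (hodd : Odd (Nat.card S)) (h5 : 5 ∣ Nat.card S) : 25 ∣ Nat.card S := by
  by_contra h25
  have : Fact (Nat.Prime 5) := ⟨Nat.prime_five⟩
  obtain ⟨Q⟩ : Nonempty (Sylow 5 S) := inferInstance
  have hQ : Nat.card Q = 5 := by
    rw [Q.card_eq_multiplicity]
    have h1 := (Nat.prime_five.pow_dvd_iff_le_factorization (k := 1) Nat.card_pos.ne').1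
      (by simpa using h5)
    have h2 := mt (Nat.prime_five.pow_dvd_iff_le_factorization (k := 2) Nat.card_pos.ne').2 h25
    rw [show (Nat.card S).factorization 5 = 1 by omega, pow_one]
  have h1 := Gen2.relIndex_centralizer_dvd_sub_one hQ
  have h2 := hodd.of_dvd_nat ((relIndex_dvd_card (centralizer ((Q : Subgroup S) : Set S))
    (normalizer ((Q : Subgroup S) : Set S))).trans (card_subgroup_dvd_card _))
  refine Gen2.relIndex_centralizer_ne_one hS h5 Q (Nat.eq_one_of_dvd_coprimes ?_ dvd_rfl h1)
  exact (Nat.Coprime.pow_right 2 (Nat.coprime_two_right.2 h2))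

/-- No finite group has exactly 15 Sylow 7-subgroups. -/
theorem result {G : Type*} [Group G] [Finite G] : Nat.card (Sylow 7 G) ≠ 15 := by
  intro h
  have : Fact (Nat.Prime 7) := ⟨by norm_num⟩
  obtain ⟨S, _, _, _, hS, hn⟩ := Gen2.exists_simple_of_card_sylow 7 G h (by norm_num)
    (fun h => by
      have := (Nat.Coprime.isPrimePow_dvd_mul (by norm_num : Nat.Coprime 3 5) h).1 (by norm_num)
      omega) (by
      intro d hd h
      have := Nat.le_of_dvd (by norm_num) hd
      interval_cases d <;> simp_all)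
  obtain ⟨h1, t, ht, h2⟩ := aux hS 7 (by norm_num) hn
  have h3 := aux5 hS h1 (by rw [h2]; omega)
  have := Nat.le_of_dvd (by norm_num) ht
  rw [h2] at h3
  interval_cases t <;> simp_all

end Cfsg.Agent.S4304
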