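import Cfsg.Statements.S4236
import Cfsg.Agent.S4304

set_option autoImplicit false
open Cfsg

namespace Cfsg.Agent.S4236

/-- No finite group has exactly 35 Sylow 17-subgroups. -/
theorem result {G : Type*} [Group G] [Finite G] : Nat.card (Sylow 17 G) ≠ 35 := by
  intro h
  have : Fact (Nat.Prime 17) := ⟨by norm_num⟩
  obtain ⟨S, _, _, _, hS, hn⟩ := Gen2.exists_simple_of_card_sylow 17 G h (by norm_num)
    (fun h => by
      have := (Nat.Coprime.isPrimePow_dvd_mul (by norm_num : Nat.Coprime 5 7) h).1 (by norm_num)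
      omega) (by
      intro d hd h
      have := Nat.le_of_dvd (by norm_num) hd
      interval_cases d <;> simp_all)
  obtain ⟨h1, t, ht, h2⟩ := S4304.aux hS 17 (by norm_num) hn
  have h3 := S4304.aux5 hS h1 (by rw [h2]; omega)
  have := Nat.le_of_dvd (by norm_num) ht
  rw [h2] at h3
  interval_cases t <;> simp_all

end Cfsg.Agent.S4236
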