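import Cfsg.Statements.S4241
import Cfsg.Agent.Gen2.ThW
import Cfsg.Agent.Transfer.Hol
import Cfsg.Agent.S0205
import Cfsg.Agent.S2756
import Cfsg.Agent.S0659
-- import your own Cfsg.Agent.* helpers here

set_option autoImplicit false
open Cfsg

namespace Cfsg.Agent.S4241

open Subgroup Cfsg.Agent.BG Cfsg.Agent.Gen2 Cfsg.Agent.Transfer Cfsg.Agent.PLocal

universe u

theorem normZJ {G : Type*} [Group G] {K : Subgroup G} (T : Subgroup K) :
    N[centerThompsonAOf T].map K.subtype ≤ K ⊓ N[centerThompsonAOf (T.map K.subtype)] :=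
  le_inf (map_subtype_le _) (map_ZJA (f := K.subtype) (H := T) (by simp) ▸ norms_map _ le_rfl)

theorem amb {G : Type u} [Group G] [Finite G] {K A : Subgroup G} {p : ℕ} (hp : p.Prime) (hn : A ≤ N[K])
    (co : (#K).Coprime #A) (hA : Group.IsSolvable A ∨ Group.IsSolvable K) (hd : p ∣ #K)
    (h : ∀ H < K, A ≤ N[H] → p ∣ #H → Group.IsNilpotent H) : Group.IsSolvable K := by
  induction hk : #K using Nat.strong_induction_on generalizing G with
  | _ n ih =>
  subst hk
  by_contra hs
  replace hA := hA.resolve_right hs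
  have loc : ∀ (q : ℕ) [Fact q.Prime] (T : Subgroup G), SylowIn q T K → q ∣ #K → A ≤ N[T] →
      K ⊓ N[centerThompsonAOf T] < K ∧ A ≤ N[K ⊓ N[centerThompsonAOf T]] := fun q _ T hT hq nT => by
    have nW := nT.trans (normalizer_le_normalizer_ZJA T)
    refine ⟨lt_of_le_of_ne inf_le_left fun e => ?_, normsI hn (norms_norm nW)⟩
    have W1 := ZJA_ne_bot hT.pg (Sylow_ne_bot hT hq)
    have nK : centerThompsonAOf T ⊴ K := ⟨(ZJA_le T).trans hT.le, inf_eq_left.1 e⟩
    have sW := abelian_sol (isMulCommutative_ZJA T)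
    generalize centerThompsonAOf T = W at *
    have k : ∀ H < K /ᵍ W, A /ᵍ W ≤ N[H] → p ∣ #H ∨ p ∣ #W → Group.IsNilpotent H := fun H h1 h2 h3 => by
      rw [← cosetpreK H]
      refine quotient_nil _ (h _ ?_ (norms_cosetpre nW h2) ?_)
      · rwa [← quotient_proper (normal_cosetpre H) nK, cosetpreK]
      · rw [card_cosetpre]; exact hp.dvd_mul.2 h3.symm
    refine hs (series_sol nK sW ?_)
    by_cases h4 : p ∣ #W
    · exact sol_of_inv_nil (quotient_norms W hn) (coprime_morph _ co) (.inl (quotient_sol _ hA))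
        fun H h1 h2 => k H h1 h2 (.inr h4)
    · exact ih _ (ltn_quotient W1 nK.le) (quotient_norms W hn) (coprime_morph _ co) (.inl (quotient_sol _ hA))
        ((hp.dvd_mul.1 (by rwa [card_quotient nK.norm, card_mul_relIndex nK.le])).resolve_left h4)
        (fun H h1 h2 h3 => k H h1 h2 (.inl h3)) rfl
  by_cases p2 : p = 2
  · subst p2
    obtain ⟨P⟩ : Nonempty (Sylow 2 K) := inferInstance
    have := (S2756.result (G := K)).1.2 (fun q _ _ hq T R => by
      obtain ⟨T0, hT, nT⟩ := coprime_Sylow_exists q hn co (.inl hA)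
      obtain ⟨g, hg, e⟩ := Sylow_trans hT (sylowIn_of_sylow T)
      have l := (normZJ T.1).trans (show _ ≤ BG.cj g (K ⊓ N[centerThompsonAOf T0]) by
        rw [e, show centerThompsonAOf (BG.cj g T0) = BG.cj g _ from (cj_ZJA g T0).symm, N_cj, cj_inf, cj_of_mem hg])
      obtain ⟨h1, h2⟩ := loc q T0 hT hq nT
      by_cases h3 : 2 ∣ #(K ⊓ N[centerThompsonAOf T0])
      · have := isog_nil (isog_symm (isog_map_inj K.subtype_injective _)) (nilpotentS l (nilpotentJ g (h _ h1 h2 h3)))
        infer_instance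
      · have h4 := (cardSg l).trans (card_cj _ _).dvd
        rw [card_map_subtype] at h4
        rw [show R.1 = ⊥ from by_contra fun e => h3 (((pgroup_pdiv R.2 e).trans (card_subgroup_dvd_card _)).trans h4)]
        infer_instance) P
    have := P.2.isNilpotent
    have : Group.IsSolvable (K ⧸ P.1) := S0205.result (Nat.odd_iff.2 (Nat.two_dvd_ne_zero.1 P.not_dvd_index))
    exact hs (Group.isSolvable_of_ker_le_range P.1.subtype (QuotientGroup.mk' P.1) (by simp))
  have := Fact.mk hp
  obtain ⟨P, hP, nP⟩ := coprime_Sylow_exists p hn co (.inl hA)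
  obtain ⟨h1, h2⟩ := loc p P hP hd nP
  have h3 : p ∣ #P := pgroup_pdiv hP.pg (Sylow_ne_bot hP hd)
  have h4 := h _ h1 h2 (h3.trans (cardSg (le_inf hP.le ((normG P).trans (normalizer_le_normalizer_ZJA P)))))
  obtain ⟨S, rfl⟩ := sylow_of_sylowIn hP
  have := isog_nil (isog_symm (isog_map_inj K.subtype_injective _)) (nilpotentS (normZJ S.1) h4)
  refine hs (sol_of_npc (S0659.result p2 S hasNormalPComplement_of_isNilpotent) ?_)
  generalize S.1.map K.subtype = P at *
  have nO := pcore_normal {p}ᶜ K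
  have cO := pnat_coprime' (pcore_pgroup {p}ᶜ K) hP.pi
  refine sol_of_inv_nil (A := P ⊔ A) (sup_le (hP.le.trans nO.norm) (norms_pcore _ hn))
    (Nat.Coprime.coprime_dvd_right (card_sup_dvd (.inr nP)) (cO.mul_right (coprimeSg nO.le co)))
    (.inl (solvableY (.inr nP) (pgroup_sol hP.pg) hA)) fun H lt nH => nilpotentS le_sup_left (h (H ⊔ P)
      (lt_of_le_of_ne (sup_le (lt.le.trans nO.le) hP.le) fun e => lt.ne ?_) (normsY (le_sup_right.trans nH) nP)
      (h3.trans (cardSg le_sup_right)))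
  have := group_modl (H := Op' p K) (.inr (le_sup_left.trans nH)) lt.le
  rwa [e, inf_eq_left.2 nO.le, coprime_TI cO, sup_bot_eq, eq_comm] at this


/-- Let a finite group A act by automorphisms on a finite group G of order coprime to that of A, and let p be a prime dividing the order of G. If every maximal A-invariant proper subgroup of G whose order is divisible by p is nilpotent, then G is solvable. -/
theorem result {A G : Type*} [Group A] [Group G] [Finite A] [Finite G] [MulDistribMulAction A G]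
    (hcop : (Nat.card A).Coprime (Nat.card G)) (p : ℕ) (hp : p.Prime) (hpG : p ∣ Nat.card G)
    (hmax : ∀ H : Subgroup G, H ≠ ⊤ → (∀ a : A, ∀ x ∈ H, a • x ∈ H) →
      (∀ K : Subgroup G, H < K → (∀ a : A, ∀ x ∈ K, a • x ∈ K) → K = ⊤) → p ∣ Nat.card H → Group.IsNilpotent H) :
    Group.IsSolvable G := by
  set φ : A →* MulAut G := MulDistribMulAction.toMulAut A G
  have inv : ∀ H : Subgroup G, sdR φ ⊤ ≤ N[sdL φ H] ↔ ∀ a : A, ∀ x ∈ H, a • x ∈ H := fun H => by
    rw [sdR_le_normalizer]; exact ⟨fun h a => h a trivial, fun h a _ => h a⟩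
  have co : (#(sdL φ ⊤)).Coprime #(sdR φ ⊤) := by
    rw [card_sdL, card_sdR, Subgroup.card_top, Subgroup.card_top]; exact hcop.symm
  have iso : ∀ H : Subgroup G, Nonempty (H ≃* sdL φ H) := fun H =>
    isog_map_inj SemidirectProduct.inl_injective H
  refine isog_sol (isog_symm (isog_trans isog_top (iso ⊤))) (amb hp (sdR_le_normalizer_top φ ⊤) co ?_
    (by rwa [card_sdL, card_top]) fun H lt nH hd => ?_)
  · rcases Nat.even_or_odd #(sdL φ ⊤) with h2 | h2
    · refine Or.inl (S0205.result ?_)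
      by_contra h3
      have := Nat.dvd_gcd h2.two_dvd (Nat.not_odd_iff_even.1 h3).two_dvd
      rw [co] at this
      omega
    · exact Or.inr (S0205.result h2)
  obtain ⟨H, rfl⟩ := exists_eq_sdL φ lt.le
  obtain ⟨M, lM, ⟨h1, h2⟩, h3⟩ := maxgroup_exists
    (P := fun M : Subgroup G => M ≠ ⊤ ∧ ∀ a : A, ∀ x ∈ M, a • x ∈ M) (A := H)
    ⟨by rintro rfl; exact lt.ne rfl, (inv H).1 nH⟩
  refine isog_nil (iso H) (nilpotentS lM (hmax M h1 h2 (fun K lK iK => ?_) ((card_sdL φ H ▸ hd).trans (cardSg lM))))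
  by_contra hK
  exact lK.ne' (h3 K ⟨hK, iK⟩ lK.le)

end Cfsg.Agent.S4241
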