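import Cfsg.Statements.S4262
import Cfsg.Agent.Gen2.ThW
import Cfsg.Agent.BG.Constt
import Cfsg.Agent.S4040
import Cfsg.Agent.S0556

set_option autoImplicit false
open Cfsg

namespace Cfsg.Agent.S4262

open Subgroup Cfsg.Agent.BG Cfsg.Agent.Gen2

/-- Let G be a finite group in which the centralizer of every non-central element is a maximal subgroup of G. Then G is solvable. -/
theorem result {G : Type*} [Group G] [Finite G]
    (h : ∀ g : G, g ∉ Subgroup.center G → IsCoatom (Subgroup.centralizer ({g} : Set G))) :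
    Group.IsSolvable G := by
  have top : ∀ x : G, C1[x] = ⊤ → x ∈ center G := fun x e =>
    mem_center_iff.2 fun g => mem_cent1.1 (e ▸ mem_top g)
  have key : ∀ (π : Set ℕ) (x y : G), x ∉ center G → PiElt π x → PiElt πᶜ y → y ∈ C1[x] →
      C1[x] ≤ C1[y] := by
    intro π x y hx h1 h2 h3
    obtain ⟨e1, e2⟩ := constt_eq (show Commute x y from (mem_cent1.1 h3).symm) h1 h2
    have l1 := cent1_le_constt π (x * y)
    have l2 := cent1_le_constt πᶜ (x * y)
    rw [e1] at l1
    rw [e2] at l2
    have hz : x * y ∉ center G := fun hz => hx (e1 ▸ constt_mem π hz)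
    rwa [← ((h _ hz).le_iff.1 l1).resolve_left fun e => hx (top x e)] at l2
  by_contra hs
  have hs' : ¬ Group.IsSolvable (G ⧸ center G) := fun _ =>
    have : Group.IsSolvable (center G) := abelian_sol inferInstance
    hs (Group.isSolvable_of_ker_le_range (center G).subtype (QuotientGroup.mk' (center G))
      (by simp))
  obtain ⟨p, hp, hd, h5⟩ := exists_five_le_dvd hs'
  have := Fact.mk hp
  obtain ⟨x, hx, px⟩ : ∃ x : G, x ∉ center G ∧ PiElt {p} x := by
    obtain ⟨y, hy⟩ := exists_prime_orderOf_dvd_card' p hd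
    obtain ⟨y, rfl⟩ := QuotientGroup.mk'_surjective _ y
    refine ⟨constt {p} y, fun hc => ?_, p_elt_constt _ _⟩
    have : QuotientGroup.mk' (center G) y = QuotientGroup.mk' (center G) (constt {p}ᶜ y) := by
      have e : QuotientGroup.mk' (center G) (constt {p} y) = 1 := (QuotientGroup.eq_one_iff _).2 hc
      rw [← one_mul (QuotientGroup.mk' _ (constt {p}ᶜ y)), ← e, ← map_mul, consttC]
    rw [this] at hy
    exact (p'natE hp).1 (p_elt_constt {p}ᶜ y) (hy.symm.dvd.trans (orderOf_map_dvd _ _))
  by_cases hA : ∃ y ∈ C1[x], PiElt {p}ᶜ y ∧ y ∉ center G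
  · obtain ⟨y, hy, py, cy⟩ := hA
    have e : C1[y] = C1[x] :=
      ((h _ hx).le_iff.1 (key _ x y hx px py hy)).resolve_left fun e => cy (top y e)
    have : IsMulCommutative C1[x] := abelian_of_cent (cents_symm fun z hz => by
      rw [← consttC {p} z]
      refine mul_mem (le_cent1_iff.1 ?_) (le_cent1_iff.1
        (key _ x _ hx px (p_elt_constt _ _) (constt_mem _ hz)))
      rw [← e] at hz ⊢
      exact key _ y _ cy py (by rw [compl_compl]; exact p_elt_constt _ _) (constt_mem _ hz))
    exact hs ⟨⟨3, S0556.result _ (h _ hx)⟩⟩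
  push Not at hA
  have pM : IsPGroup p (C1[x].map (QuotientGroup.mk' (center G))) := by
    refine PiNat.pg (pgroup_of_elts ?_)
    rintro _ ⟨z, hz, rfl⟩
    rw [← consttC {p} z, map_mul, show QuotientGroup.mk' (center G) (constt {p}ᶜ z) = 1 from
      (QuotientGroup.eq_one_iff _).2 (hA _ (constt_mem _ hz) (p_elt_constt _ _)), mul_one]
    exact PiNat.of_dvd (p_elt_constt {p} z) (orderOf_map_dvd _ _)
  refine hs' (S4040.result _ (PLocal.isCoatom_map_mk (h _ hx) fun z hz =>
    mem_cent1.2 (mem_center_iff.1 hz x).symm) (pgroup_nil pM) ?_)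
  obtain ⟨k, e⟩ := pM.exists_card_eq
  rw [e]
  exact (hp.odd_of_ne_two (by omega)).pow

end Cfsg.Agent.S4262
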