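import Cfsg.Statements.S4347
import Cfsg.Agent.Gen2.Basic

set_option autoImplicit false
open Cfsg

namespace Cfsg.Agent.S4347
open scoped Pointwise

/-- Let G be a finite group and p a prime. Say a Sylow p-subgroup Q is redundant when every element of p-power order lies in some Sylow p-subgroup other than Q. Then G has no redundant Sylow p-subgroup if and only if some element of p-power order lies in exactly one Sylow p-subgroup. -/
theorem result {G : Type*} [Group G] [Finite G]
    (p : ℕ) [Fact p.Prime] :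
    (¬ ∃ Q : Sylow p G, ∀ x : G, (∃ k : ℕ, orderOf x = p ^ k) → ∃ P : Sylow p G, P ≠ Q ∧ x ∈ P) ↔
      ∃ x : G, (∃ k : ℕ, orderOf x = p ^ k) ∧ ∃! P : Sylow p G, x ∈ P := by
  constructor
  · intro h
    push Not at h
    obtain ⟨Q⟩ : Nonempty (Sylow p G) := inferInstance
    obtain ⟨x, hx, h1⟩ := h Q
    obtain ⟨P, hP⟩ := Gen2.exists_sylow_mem hx
    have h2 : ∀ R : Sylow p G, x ∈ R → R = Q := fun R hR => by_contra fun h => h1 R h hR
    exact ⟨x, hx, P, hP, fun R hR => (h2 R hR).trans (h2 P hP).symm⟩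
  · rintro ⟨x, hx, P, hP, h⟩ ⟨Q, hQ⟩
    obtain ⟨g, rfl⟩ := MulAction.exists_smul_eq G P Q
    obtain ⟨R, hR, h1⟩ := hQ _ (Gen2.pElt_conj hx g)
    refine hR ?_
    rw [← h (g⁻¹ • R), smul_inv_smul]
    show x ∈ MulAut.conj g⁻¹ • (R : Subgroup G)
    rw [Subgroup.mem_pointwise_smul_iff_inv_smul_mem, map_inv, inv_inv]
    exact h1

end Cfsg.Agent.S4347
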