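import Cfsg.Statements.S4349
import Cfsg.Agent.Small.SymSyl
import Cfsg.Agent.Low.Redund

set_option autoImplicit false
open Cfsg

namespace Cfsg.Agent.S4349

open Equiv Equiv.Perm Subgroup Cfsg.Agent.Small
open scoped Pointwise

variable {Ω : Type} [Fintype Ω] [DecidableEq Ω]

def SP (x : Perm Ω) (a b : Ω) : Prop := ∀ i : ℤ, (x ^ i) a = a ↔ (x ^ i) b = b

def Good (x : Perm Ω) : Prop :=
  (∀ a b c, x a = a → x b = b → x c = c → a = b ∨ a = c ∨ b = c) ∧ ∀ a b, x a ≠ a → SP x a b → SameCycle x a b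

theorem per (x : Perm Ω) (a : Ω) (i : ℤ) : (x ^ i) a = a ↔ (MulAction.period x a : ℤ) ∣ i :=
  MulAction.zpow_smul_eq_iff_period_dvd (g := x) (a := a)

theorem half {x : Perm Ω} {a : Ω} {i j : ℤ} (h1 : (x ^ i) a ≠ a) (h2 : (x ^ (2 * i)) a = a) (h3 : (x ^ j) a ≠ a)
    (h4 : (x ^ (2 * j)) a = a) : (x ^ i) a = (x ^ j) a := by
  have : (x ^ (i - j)) a = a := by
    rw [Ne, per] at h1 h3
    rw [per] at h2 h4 ⊢
    obtain ⟨s, hs⟩ := h2
    obtain ⟨t, ht⟩ := h4
    generalize (MulAction.period x a : ℤ) = m at *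
    obtain ⟨s, rfl | rfl⟩ := Int.even_or_odd' s
    · exact absurd ⟨s, by linarith⟩ h1
    obtain ⟨t, rfl | rfl⟩ := Int.even_or_odd' t
    · exact absurd ⟨t, by linarith⟩ h3
    exact ⟨s - t, by linarith⟩
  rw [show i = j + (i - j) by ring, zpow_add, Perm.mul_apply, this]

theorem oddf {x : Perm Ω} (hx : ∃ k, orderOf x = 2 ^ k) {a : Ω} {i : ℤ} (h : (x ^ (2 * i + 1)) a = a) : x a = a := by
  obtain ⟨k, hk⟩ := hx
  obtain ⟨m, -, hm⟩ := (Nat.dvd_prime_pow Nat.prime_two).1 (hk ▸ MulAction.period_dvd_orderOf x a)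
  rw [per, hm] at h
  rcases m with _ | m
  · exact MulAction.period_eq_one_iff.1 hm
  · have := (Dvd.intro (2 ^ m) (by push_cast; ring) : (2 : ℤ) ∣ (2 ^ (m + 1) : ℕ)).trans h
    omega

structure Mu (x μ : Perm Ω) : Prop where
  c : Commute x μ
  sq : ∀ a, μ (μ a) = a
  fx : ∀ a b, μ a = a → μ b = b → a = b

theorem Mu.ap {x μ : Perm Ω} (h : Mu x μ) (i : ℤ) (a : Ω) : (x ^ i) (μ a) = μ ((x ^ i) a) :=
  DFunLike.congr_fun (h.c.zpow_left i).eq a

theorem Mu.ex {x μ : Perm Ω} (hx : Good x) (h : Mu x μ) {a : Ω} (ha : x a ≠ a) :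
    ∃ i : ℤ, μ a = (x ^ i) a ∧ (x ^ i) a ≠ a ∧ (x ^ (2 * i)) a = a := by
  obtain ⟨i, hi⟩ := hx.2 a (μ a) ha fun i => by rw [h.ap, μ.apply_eq_iff_eq]
  refine ⟨i, hi.symm, fun e => ha (h.fx _ _ ?_ (hi.symm.trans e)), ?_⟩
  · have := h.ap 1 a
    rw [zpow_one, ← hi, e] at this
    exact this.symm
  · rw [two_mul, zpow_add, Perm.mul_apply, hi, h.ap, hi, h.sq]

theorem Mu.uniq {x μ ν : Perm Ω} (hx : Good x) (h : Mu x μ) (h' : Mu x ν) : μ = ν := by
  have key : ∀ μ ν : Perm Ω, Mu x μ → Mu x ν → ∀ a, x a = a → μ a = a → ν a = a := fun μ ν h h' a ha e => by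
    have f1 : x (ν a) = ν a := by simpa [ha] using h'.ap 1 a
    have f2 : x (μ (ν a)) = μ (ν a) := by simpa [f1] using h.ap 1 (ν a)
    rcases hx.1 _ _ _ ha f1 f2 with e1 | e1 | e1
    · exact e1.symm
    · rw [← h.sq (ν a), ← e1, e]
    · exact h.fx _ _ e1.symm e
  ext a
  by_cases ha : x a = a
  · rcases hx.1 a (μ a) (ν a) ha (by simpa [ha] using h.ap 1 a) (by simpa [ha] using h'.ap 1 a) with e | e | e
    · rw [key μ ν h h' a ha e.symm, ← e]
    · rw [key ν μ h' h a ha e.symm, ← e]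
    · exact e
  · obtain ⟨i, a1, a2, a3⟩ := h.ex hx ha
    obtain ⟨j, b1, b2, b3⟩ := h'.ex hx ha
    rw [a1, b1, half a2 a3 b2 b3]

section W
variable {B R : Type} [Fintype B] [DecidableEq B] [Subsingleton R] (W : WS 2 Ω B R)

theorem mu_el (π : Perm B) (ε : B → ZMod 2) : Mu (W.el π ε) (W.el 1 fun _ => 1) where
  c := by
    rw [Commute, SemiconjBy, W.el_mul, W.el_mul]
    simp [add_comm]
  sq a := by
    rcases W.cases a with ⟨b, c, rfl⟩ | ⟨r, rfl⟩
    · simp [add_assoc, show (1 + 1 : ZMod 2) = 0 from rfl]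
    · simp
  fx a b ha hb := by
    rcases W.cases a with ⟨b, c, rfl⟩ | ⟨r, rfl⟩
    · simp at ha
    rcases W.cases b with ⟨b, c, rfl⟩ | ⟨r', rfl⟩
    · simp at hb
    rw [Subsingleton.elim r r']

theorem el_zpow (π : Perm B) (ε : B → ZMod 2) (i : ℤ) : ∃ ε', W.el π ε ^ i = W.el (π ^ i) ε' := by
  induction i using Int.induction_on with
  | zero => exact ⟨0, by simp⟩
  | succ i ih => obtain ⟨e, h⟩ := ih; exact ⟨_, by rw [zpow_add_one, h, W.el_mul, zpow_add_one]⟩
  | pred i ih => obtain ⟨e, h⟩ := ih; exact ⟨_, by rw [zpow_sub_one, h, W.el_inv, W.el_mul, zpow_sub_one]⟩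

theorem blk_iff {π : Perm B} {ε : B → ZMod 2} (hx : Good (W.el π ε)) {b : B}
    (hb : W.el π ε (W.pt b 0) ≠ W.pt b 0) (i : ℤ) :
    (π ^ i) b = b ↔ (W.el π ε ^ (2 * i)) (W.pt b 0) = W.pt b 0 := by
  obtain ⟨e, he⟩ := el_zpow W π ε i
  constructor
  · intro h
    rw [two_mul, zpow_add, Perm.mul_apply, he]
    simp [h, CharTwo.add_self_eq_zero]
  · intro h
    by_cases h0 : (W.el π ε ^ i) (W.pt b 0) = W.pt b 0
    · rw [he] at h0
      simp only [WS.el_pt, WS.pt_inj] at h0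
      exact h0.1
    · obtain ⟨j, a1, a2, a3⟩ := (mu_el W π ε).ex hx hb
      have := half h0 h a2 a3
      rw [← a1, he] at this
      simp only [WS.el_pt, WS.pt_inj] at this
      exact this.1

theorem good_blk {π : Perm B} {ε : B → ZMod 2} (h2 : ∃ k, orderOf (W.el π ε) = 2 ^ k) (hx : Good (W.el π ε)) :
    Good π := by
  have key : ∀ b b', W.el π ε (W.pt b 0) ≠ W.pt b 0 → W.el π ε (W.pt b' 0) ≠ W.pt b' 0 → SP π b b' →
      SameCycle π b b' := fun b b' hb hb' h => by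
    obtain ⟨j, hj⟩ := hx.2 _ (W.pt b' 0) hb fun i => by
      obtain ⟨i, rfl | rfl⟩ := Int.even_or_odd' i
      · rw [← blk_iff W hx hb, ← blk_iff W hx hb', h i]
      · exact iff_of_false (fun e => hb (oddf h2 e)) fun e => hb' (oddf h2 e)
    obtain ⟨e, he⟩ := el_zpow W π ε j
    rw [he] at hj
    simp only [WS.el_pt, WS.pt_inj] at hj
    exact ⟨j, hj.1⟩
  constructor
  · have k1 : ∀ b b', π b = b → π b' = b' → ε b = ε b' → b = b' := fun b b' hb hb' he => by
      by_cases h0 : ε b = 0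
      · have := hx.1 (W.pt b 0) (W.pt b 1) (W.pt b' 0) (by simp [hb, h0]) (by simp [hb, h0]) (by simp [hb', ← he, h0])
        simpa using this
      · obtain ⟨j, hj⟩ := key b b' (by simp [h0]) (by simp [← he, h0]) fun i => by
          simp [zpow_apply_eq_self_of_apply_eq_self hb, zpow_apply_eq_self_of_apply_eq_self hb']
        rwa [zpow_apply_eq_self_of_apply_eq_self hb] at hj
    intro a b c ha hb hc
    have : ∀ u v w : ZMod 2, u = v ∨ u = w ∨ v = w := by decide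
    rcases this (ε a) (ε b) (ε c) with h | h | h
    exacts [Or.inl (k1 _ _ ha hb h), Or.inr (Or.inl (k1 _ _ ha hc h)), Or.inr (Or.inr (k1 _ _ hb hc h))]
  · intro b b' hb h
    have hb' : π b' ≠ b' := fun e => hb (by simpa using (h 1).2 (by simpa using e))
    exact key b b' (by simp [hb]) (by simp [hb']) h

end W

theorem uniq_aux (n : ℕ) : ∀ (Ω : Type) [Fintype Ω] [DecidableEq Ω], Fintype.card Ω = n →
    ∀ (P Q : Sylow 2 (Perm Ω)) (x : Perm Ω), Good x → x ∈ P → x ∈ Q → P = Q := by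
  induction n using Nat.strong_induction_on with
  | _ n ih =>
  intro Ω _ _ hn P Q x hx hP hQ
  rcases Nat.eq_zero_or_pos n with rfl | h0
  · haveI := Fintype.card_eq_zero_iff.1 hn
    exact Sylow.ext (Subsingleton.elim _ _)
  obtain ⟨W, P', h⟩ := exists_ws P
  obtain ⟨V, Q', h'⟩ := exists_ws Q
  haveI : Subsingleton (Fin (Fintype.card Ω % 2)) := Fin.subsingleton_iff_le_one.2 (by omega)
  have h2 := Low.Redund.ord_of_mem P.isPGroup' hP
  obtain ⟨π, hπ, ε, e1⟩ : x ∈ W.grp P' := h ▸ hP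
  obtain ⟨π', hπ', ε', e2⟩ : x ∈ V.grp Q' := h' ▸ hQ
  have hμ := Mu.uniq hx (e1 ▸ mu_el W π ε) (e2 ▸ mu_el V π' ε')
  obtain ⟨g, rfl⟩ : ∃ g, V = W.tr g := ⟨W.e.symm.trans V.e, by
    obtain ⟨e⟩ := V
    simp only [WS.tr]
    congr 1
    ext y; simp⟩
  rw [W.tr_el, eq_mul_inv_iff_mul_eq] at hμ
  obtain ⟨β, δ, rfl⟩ := W.eq_el (g := g) fun b c => by
    have e := DFunLike.congr_fun hμ (W.pt b c)
    simp only [Perm.mul_apply, WS.el_pt, Perm.one_apply] at e
    rcases W.cases (g (W.pt b c)) with ⟨b', c', h1⟩ | ⟨r, h1⟩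
    · exact ⟨b', c', h1, by rw [← e, h1]; simp⟩
    · rw [h1, WS.el_fx, ← h1] at e
      simpa using g.injective e
  have hg : (W.tr (W.el β δ)).grp Q' = W.grp (β • Q' : Sylow 2 _) := by
    ext y
    constructor
    · rintro ⟨σ, hσ, η, rfl⟩
      rw [W.tr_el, W.el_inv, W.el_mul, W.el_mul, W.el_mem_grp]
      exact Low.Redund.mem_smul_syl.2 (by rw [show β⁻¹ * (β * σ * β⁻¹) * β = σ by group]; exact hσ)
    · rintro ⟨σ, hσ, η, rfl⟩
      have : ∃ η', (W.el β δ)⁻¹ * W.el σ η * W.el β δ = W.el (β⁻¹ * σ * β) η' :=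
        ⟨_, by rw [W.el_inv, W.el_mul, W.el_mul]⟩
      obtain ⟨η', h3⟩ := this
      exact ⟨_, Low.Redund.mem_smul_syl.1 hσ, η', by rw [W.tr_el, ← h3]; group⟩
  rw [hg] at h'
  have h4 : π ∈ (β • Q' : Sylow 2 _) := W.el_mem_grp.1 (e1 ▸ h' ▸ hQ : W.el π ε ∈ W.grp (β • Q' : Sylow 2 _))
  have := ih _ (by rw [← hn] at h0 ⊢; omega) _ (Fintype.card_fin _) P' (β • Q') π
    (good_blk W (e1 ▸ h2) (e1 ▸ hx)) hπ h4
  exact Sylow.ext (by rw [h, h', this])

theorem swap_mem {x : Perm Ω} (h2 : ∃ k, orderOf x = 2 ^ k) (P : Sylow 2 (Perm Ω))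
    (hP : ∀ Q : Sylow 2 (Perm Ω), x ∈ Q → Q = P) {a b : Ω} (h : SP x a b) (hn : ¬ SameCycle x a b) : swap a b ∈ P := by
  let S : Set (Perm Ω) := Set.range fun i : ℤ => swap ((x ^ i) a) ((x ^ i) b)
  have hc : ∀ u ∈ S, ∀ v ∈ S, u * v = v * u := by
    rintro _ ⟨i, rfl⟩ _ ⟨j, rfl⟩
    have e : ∀ c, (x ^ i) c = (x ^ j) c ↔ (x ^ (-j + i)) c = c := fun c => by
      rw [zpow_add, Perm.mul_apply, zpow_neg, Perm.inv_eq_iff_eq]
    by_cases h1 : (x ^ i) a = (x ^ j) a
    · simp only [h1, (e b).2 ((h _).1 ((e a).1 h1))]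
    · have h3 : (x ^ i) b ≠ (x ^ j) b := fun h3 => h1 ((e a).2 ((h _).2 ((e b).1 h3)))
      have h4 : ∀ i j : ℤ, (x ^ i) a ≠ (x ^ j) b := fun i j h4 => hn (by
        have : SameCycle x ((x ^ i) a) ((x ^ j) b) := h4 ▸ SameCycle.refl _ _
        simpa using this)
      exact (disjoint_swap_swap (by simp [h1, h3, h4, (h4 _ _).symm])).commute.eq
  have hE : IsPGroup 2 (closure S) := by
    intro g
    refine ⟨1, Subtype.ext ?_⟩
    obtain ⟨g, hg⟩ := g
    show g ^ (2 ^ 1) = 1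
    induction hg using closure_induction with
    | mem y hy => obtain ⟨i, rfl⟩ := hy; simp [pow_two]
    | one => simp
    | mul y z hy hz h1 h3 =>
      have : Commute y z := by
        haveI := isMulCommutative_closure hc
        exact congrArg Subtype.val (mul_comm' (⟨y, hy⟩ : closure S) ⟨z, hz⟩)
      rw [this.mul_pow, h1, h3, one_mul]
    | inv y hy h1 => rw [inv_pow, h1, inv_one]
  have hN : zpowers x ≤ normalizer (closure S : Set (Perm Ω)) := zpowers_le.2 (mem_normalizer_fintype fun g hg => by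
    have : (closure S).map (MulAut.conj x).toMonoidHom ≤ closure S := by
      rw [MonoidHom.map_closure]
      refine closure_mono ?_
      rintro _ ⟨_, ⟨i, rfl⟩, rfl⟩
      exact ⟨1 + i, by simp [zpow_add, swap_apply_apply]⟩
    exact this ⟨g, hg, rfl⟩)
  obtain ⟨Q, hQ⟩ := (IsPGroup.to_sup_of_normal_left' hE (Low.Redund.pg_zp h2) hN).exists_le_sylow
  rw [← hP Q (hQ (mem_sup_right (mem_zpowers x)))]
  exact hQ (mem_sup_left (subset_closure ⟨0, by simp⟩))

theorem good_of {x : Perm Ω} (h2 : ∃ k, orderOf x = 2 ^ k) (P : Sylow 2 (Perm Ω))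
    (hP : ∀ Q : Sylow 2 (Perm Ω), x ∈ Q → Q = P) : Good x := by
  have key : ∀ a b c, SP x a b → ¬ SameCycle x a b → SP x a c → ¬ SameCycle x a c → b = c := fun a b c h1 h3 h4 h5 => by
    by_contra hn
    have hab : a ≠ b := fun e => h3 (e ▸ SameCycle.refl _ _)
    have hac : a ≠ c := fun e => h5 (e ▸ SameCycle.refl _ _)
    obtain ⟨k, hk⟩ := Low.Redund.ord_of_mem P.isPGroup' (mul_mem (swap_mem h2 P hP h1 h3) (swap_mem h2 P hP h4 h5))
    rw [(isThreeCycle_swap_mul_swap_same hab hac hn).orderOf] at hk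
    rcases k with _ | k
    · omega
    · rw [pow_succ] at hk; omega
  constructor
  · intro a b c ha hb hc
    have f : ∀ b, x b = b → a ≠ b → SP x a b ∧ ¬ SameCycle x a b := fun b hb hab =>
      ⟨fun i => by simp [zpow_apply_eq_self_of_apply_eq_self ha, zpow_apply_eq_self_of_apply_eq_self hb],
        fun ⟨i, hi⟩ => hab (by rwa [zpow_apply_eq_self_of_apply_eq_self ha] at hi)⟩
    by_contra hn
    push Not at hn
    exact hn.2.2 (key a b c (f b hb hn.1).1 (f b hb hn.1).2 (f c hc hn.2.1).1 (f c hc hn.2.1).2)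
  · intro a b ha h
    by_contra hn
    have := key a b (x b) h hn (fun i => by
      rw [h i, ← Perm.mul_apply, ← (Commute.self_zpow x i).eq, Perm.mul_apply, x.apply_eq_iff_eq]) (by simpa using hn)
    exact ha (by simpa using (h 1).2 (by simpa using this.symm))

theorem fix_iff (x : Perm Ω) {a : Ω} (ha : x a ≠ a) (i : ℤ) :
    (x ^ i) a = a ↔ ((x.cycleOf a).support.card : ℤ) ∣ i := by
  have hc := isCycle_cycleOf x ha
  rw [← hc.orderOf, orderOf_dvd_iff_zpow_eq_one, ← cycleOf_zpow_apply_self]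
  refine ⟨fun h => ?_, fun h => by rw [h]; rfl⟩
  obtain ⟨n, hn⟩ : x.cycleOf a ^ i ∈ Submonoid.powers (x.cycleOf a) :=
    mem_powers_iff_mem_zpowers.2 (zpow_mem_zpowers _ _)
  rw [← hn] at h ⊢
  exact (hc.pow_eq_one_iff' (by simpa using ha)).2 h

theorem good_iff (x : Perm Ω) : Good x ↔ Fintype.card Ω ≤ x.support.card + 2 ∧ x.cycleType.Nodup := by
  refine and_congr ?_ ?_
  · rw [← Finset.card_add_card_compl x.support, add_le_add_iff_left, ← not_lt, Finset.two_lt_card_iff]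
    simp only [Finset.mem_compl, mem_support, not_not]
    constructor
    · rintro h ⟨a, b, c, ha, hb, hc, h1, h2, h3⟩
      rcases h a b c ha hb hc with e | e | e <;> contradiction
    · intro h a b c ha hb hc
      by_contra hn
      push Not at hn
      exact h ⟨a, b, c, ha, hb, hc, hn⟩
  · rw [cycleType_def, Multiset.nodup_map_iff_inj_on x.cycleFactorsFinset.nodup]
    constructor
    · intro h c hc d hd e
      have hc' : c ∈ x.cycleFactorsFinset := hc
      have hd' : d ∈ x.cycleFactorsFinset := hd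
      obtain ⟨a, ha⟩ := (mem_cycleFactorsFinset_iff.1 hc').1.nonempty_support
      obtain ⟨b, hb⟩ := (mem_cycleFactorsFinset_iff.1 hd').1.nonempty_support
      have e1 := cycle_is_cycleOf ha hc'
      have e2 := cycle_is_cycleOf hb hd'
      have ha' : x a ≠ a := mem_support.1 (mem_cycleFactorsFinset_support_le hc' ha)
      have hb' : x b ≠ b := mem_support.1 (mem_cycleFactorsFinset_support_le hd' hb)
      rw [e1, e2]
      exact (h a b ha' fun i => by
        rw [fix_iff x ha', fix_iff x hb', ← e1, ← e2, show c.support.card = d.support.card from e]).cycleOf_eq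
    · intro h a b ha hs
      have hb : x b ≠ b := fun e => ha (by simpa using (hs 1).2 (by simpa using e))
      have := h _ (cycleOf_mem_cycleFactorsFinset_iff.2 (mem_support.2 ha)) _
        (cycleOf_mem_cycleFactorsFinset_iff.2 (mem_support.2 hb)) (by
          apply Nat.dvd_antisymm <;> rw [← Int.natCast_dvd_natCast]
          · exact (fix_iff x ha _).1 ((hs _).2 ((fix_iff x hb _).2 dvd_rfl))
          · exact (fix_iff x hb _).1 ((hs _).1 ((fix_iff x ha _).2 dvd_rfl)))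
      have hm : b ∈ (x.cycleOf a).support := by rw [this]; simpa [mem_support_cycleOf_iff] using hb
      exact (mem_support_cycleOf_iff.1 hm).1

/-- Let n ≥ 2 and let x be an element of 2-power order of the symmetric group of degree n. Then x lies in exactly one Sylow 2-subgroup if and only if x has at most two fixed points and the nontrivial cycles of x have pairwise different lengths. -/
theorem result (n : ℕ) (hn : 2 ≤ n)
    (x : Equiv.Perm (Fin n)) (hx : ∃ k : ℕ, orderOf x = 2 ^ k) :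
    (∃! P : Sylow 2 (Equiv.Perm (Fin n)), x ∈ P) ↔ (n ≤ x.support.card + 2 ∧ x.cycleType.Nodup) := by
  have := good_iff x
  rw [Fintype.card_fin] at this
  rw [← this]
  refine ⟨fun ⟨P, _, hP⟩ => good_of hx P hP, fun h => ?_⟩
  obtain ⟨P, hP⟩ := Low.Redund.ex_syl hx
  exact ⟨P, hP, fun Q hQ => uniq_aux _ _ rfl Q P x h hQ hP⟩

end Cfsg.Agent.S4349
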