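import Cfsg.Statements.S4363
import Cfsg.Agent.Sig.TU6

set_option autoImplicit false
open Cfsg

namespace Cfsg.Agent.S4363

open Subgroup Cfsg.Agent.BG Cfsg.Agent.Sig

open Cfsg.Agent.Transfer SemidirectProduct

/-- Let G be a finite solvable group and σ an automorphism of G of prime order r not dividing the order of G, with fixed-point subgroup C. Then the Fitting height of G exceeds that of C by at most 2: if C has a chain of normal subgroups 1 = C₀ ≤ ⋯ ≤ Cₙ = C with nilpotent factors, then G has such a chain of length n + 2. -/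
theorem result {G : Type*} [Group G] [Finite G]
    (hG : Group.IsSolvable G) (σ : MulAut G) (r : ℕ) (hr : r.Prime) (hσ : orderOf σ = r) (hcop : ¬ r ∣ Nat.card G)
    (C : Subgroup G) (hC : ∀ g : G, g ∈ C ↔ σ g = g) (n : ℕ) (hn : (∃ F : Fin (n + 1) → Subgroup ↥C, F 0 = ⊥ ∧ F (Fin.last n) = ⊤ ∧ Monotone F ∧ (∀ i, (F i).Normal) ∧ ∀ i : Fin n, ∃ k : ℕ, (F i.succ).lowerCentralSeries k ≤ F i.castSucc)) :
    (∃ F : Fin ((n + 2) + 1) → Subgroup G, F 0 = ⊥ ∧ F (Fin.last (n + 2)) = ⊤ ∧ Monotone F ∧ (∀ i, (F i).Normal) ∧ ∀ i : Fin (n + 2), ∃ k : ℕ, (F i.succ).lowerCentralSeries k ≤ F i.castSucc) := by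
  have c : Nat.card (zpowers σ) = r := by rw [Nat.card_zpowers, hσ]
  have h1 : FH n (C.map (inl : G →* Hol G)) := (fh_map_inj inl_injective).2 (fh_self_iff.2 (fh_top_iff.2 hn))
  refine fh_top_iff.1 ((fh_map_inj inl_injective).1 (TU.turull (A := sdR (MonoidHom.id (MulAut G)) (zpowers σ))
    (by rwa [card_sdR, c]) (hol_sol hG) ?_ (sdR_le_normalizer_top _ _) (h1.mono ?_)))
  · rw [card_sdR, c, card_sdL, card_top]
    exact (hr.coprime_iff_not_dvd.2 hcop).symm
  · rintro _ ⟨⟨g, -, rfl⟩, h2⟩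
    exact ⟨g, (hC g).2 ((inl_mem_centralizer_sdR _).1 h2 σ (mem_zpowers σ)), rfl⟩

end Cfsg.Agent.S4363
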