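import Cfsg.Statements.S4383
import Cfsg.Agent.FG.Ito3
import Cfsg.Agent.BG.Base4
import Mathlib.Tactic.Group

set_option autoImplicit false
open Pointwise
open Cfsg

namespace Cfsg.Agent.S4383
open scoped commutatorElement

open Subgroup Cfsg.Agent.BG

theorem modeq {P X : Type*} [Group P] [MulAction P X] [Finite X] (n : ℕ) (x₀ : X) (h0 : ∀ g : P, g • x₀ = x₀)
    (h : ∀ x ≠ x₀, n ∣ (MulAction.stabilizer P x).index) : Nat.card X ≡ 1 [MOD n] := by
  let _ := Fintype.ofFinite (MulAction.orbitRel.Quotient P X)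
  have o : ∀ x : X, Nat.card (MulAction.orbit P x) = (MulAction.stabilizer P x).index := fun x => by
    rw [MulAction.index_stabilizer]; rfl
  rw [Nat.card_congr (MulAction.selfEquivSigmaOrbits P X), Nat.card_sigma, ← ZMod.natCast_eq_natCast_iff, Nat.cast_sum,
    Finset.sum_eq_single (Quotient.mk'' x₀)]
  · obtain ⟨g, hg⟩ : (Quotient.mk'' x₀ : MulAction.orbitRel.Quotient P X).out ∈ MulAction.orbit P x₀ :=
      MulAction.orbitRel_apply.1 (Quotient.exact (Quotient.out_eq _))
    rw [o, ← hg]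
    simp only [h0]
    rw [index_eq_one.2 (eq_top_iff.2 fun g _ => h0 g)]
  · intro ω _ e
    rw [o, ZMod.natCast_eq_zero_iff]
    exact h _ fun e' => e (by rw [← e']; exact (Quotient.out_eq ω).symm)
  · simp

variable {G : Type*} [Group G] [Finite G] {M₁ M₂ : Subgroup G} {p : ℕ}

theorem exm (hall : ∀ M : Subgroup G, IsCoatom M → ∃ g : G, M = cj g M₁ ∨ M = cj g M₂) {D K : Subgroup G}
    (hD : ¬ #D ∣ #M₂) (le : D ≤ K) (hK : K ≠ ⊤) : ∃ g, K ≤ cj g M₁ := by
  obtain ⟨M, hM, e⟩ := (eq_top_or_exists_le_coatom K).resolve_left hK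
  obtain ⟨g, rfl | rfl⟩ := hall M hM
  · exact ⟨g, e⟩
  · exact (hD (card_cj g M₂ ▸ card_dvd_of_le (le.trans e))).elim

theorem uniq (hall : ∀ M : Subgroup G, IsCoatom M → ∃ g : G, M = cj g M₁ ∨ M = cj g M₂) (hp : p.Prime)
    (hN : ∀ D : Subgroup G, IsPGroup p D → D.Normal → #D ∣ #M₂) (D : Subgroup G) :
    IsPGroup p D → ¬ #D ∣ #M₂ → ∀ g h : G, D ≤ cj g M₁ → D ≤ cj h M₁ → g⁻¹ * h ∈ M₁ := by
  have := Fact.mk hp
  induction D using WellFoundedGT.induction with
  | ind D ih =>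
  intro hD big
  obtain ⟨k, hk⟩ := exm hall big le_normalizer fun e => big (hN D hD (normalizer_eq_top_iff.1 e))
  suffices s : ∀ g, D ≤ cj g M₁ → k⁻¹ * g ∈ M₁ from fun g h a b => by
    simpa [mul_assoc] using mul_mem (inv_mem (s g a)) (s h b)
  intro g a
  obtain ⟨P, hP, le⟩ := Sylow_superset a hD
  rcases le.eq_or_lt with rfl | lt
  · obtain ⟨m, hm, e⟩ := Sylow_Jsub hP (Q := cj (g * k⁻¹) D)
      (by rw [cj_mul]; exact cj_mono g (le_cj_iff.1 (le_normalizer.trans hk))) (hD.map _)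
    rw [← cj_mul] at e
    have := mul_mem (mem_cj.1 (hk (mem_norm_of_cj_le e))) (inv_mem (mem_cj.1 hm))
    simpa [mul_assoc] using this
  have l := nilpotent_proper_norm (pgroup_nil hP.pg) lt
  exact ih _ l (hP.pg.to_le inf_le_left) (fun d => big ((card_dvd_of_le l.le).trans d)) k g
    (inf_le_right.trans hk) (inf_le_left.trans hP.1)

theorem cong (hall : ∀ M : Subgroup G, IsCoatom M → ∃ g : G, M = cj g M₁ ∨ M = cj g M₂) (hp : p.Prime)
    (hN : ∀ D : Subgroup G, IsPGroup p D → D.Normal → #D ∣ #M₂) {e : ℕ} (d : p ^ (e + 1) ∣ M₂.index) :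
    M₁.index ≡ 1 [MOD p ^ (e + 1)] := by
  have := Fact.mk hp
  obtain ⟨P⟩ : Nonempty (Sylow p G) := inferInstance
  have key : ∀ K : Subgroup G, #((K ⊓ P : Subgroup G)) ∣ #M₂ → p ^ (e + 1) ∣ K.relIndex P := fun K ⟨j, hj⟩ => by
    refine ((hp.coprime_iff_not_dvd.2 P.not_dvd_index).pow_left _).dvd_of_dvd_mul_right ((d.mul_left j).trans ?_)
    rw [← inf_relIndex_right, relIndex_mul_index inf_le_right]
    exact (Nat.eq_of_mul_eq_mul_left (Nat.card_pos (α := (K ⊓ P : Subgroup G)))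
      (by rw [← mul_assoc, ← hj, card_mul_index, card_mul_index])).dvd
  have big : ¬ #(P : Subgroup G) ∣ #M₂ := fun b => by
    have := key ⊤ (by rwa [top_inf_eq])
    rw [relIndex_top_left, Nat.dvd_one] at this
    exact (Nat.one_lt_pow e.succ_ne_zero hp.one_lt).ne' this
  obtain ⟨k, hk⟩ := exm hall big le_normalizer fun e => big (hN _ P.isPGroup' (normalizer_eq_top_iff.1 e))
  have st : ∀ g : G, MulAction.stabilizer P (g : G ⧸ M₁) = (cj g M₁).subgroupOf P := fun g => by
    ext u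
    rw [MulAction.mem_stabilizer_iff, mem_subgroupOf, mem_cj, eq_comm]
    exact QuotientGroup.eq.trans (by rw [mul_assoc]; rfl)
  refine modeq (P := (P : Subgroup G)) _ (k : G ⧸ M₁) (fun u => ?_) fun x x1 => ?_
  · exact MulAction.mem_stabilizer_iff.1 (by rw [st]; exact hk (le_normalizer u.2))
  induction x using QuotientGroup.induction_on
  rename_i g
  rw [st]
  exact key _ (by_contra fun b => x1 (QuotientGroup.eq.2 (uniq hall hp hN _ (P.isPGroup'.to_le inf_le_right) b g k
    inf_le_left (inf_le_right.trans (le_normalizer.trans hk)))))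

theorem aux (h1 : IsCoatom M₁) (hall : ∀ M : Subgroup G, IsCoatom M → ∃ g : G, M = cj g M₁ ∨ M = cj g M₂)
    (co : M₁.index.Coprime M₂.index) (lt : M₁.index ≤ M₂.index) :
    Group.IsSolvable G ∧ (Nat.card G).primeFactors.card = 2 := by
  have a1 : 1 < M₁.index := one_lt_index_of_ne_top h1.1
  obtain ⟨p, hp, dp, D, hD, hn, big⟩ : ∃ p : ℕ, p.Prime ∧ p ∣ M₂.index ∧ ∃ D : Subgroup G, IsPGroup p D ∧ D.Normal ∧
      ¬ #D ∣ #M₂ := by
    by_contra! n
    have : M₂.index ∣ M₁.index - 1 := (Nat.dvd_iff_prime_pow_dvd_dvd _ _).2 fun p k hp d => by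
      rcases k with _ | k
      · simp
      exact (Nat.modEq_iff_dvd' a1.le).1 (cong hall hp (n p hp ((dvd_pow_self p k.succ_ne_zero).trans d)) d).symm
    have := Nat.le_of_dvd (by omega) this
    omega
  have := Fact.mk hp
  obtain ⟨x, hx⟩ : ∃ x : G, ∀ g, x ∉ cj g M₁ := by
    by_contra! n
    exact h1.1 (Gen2.eq_top_of_forall_exists_conj_mem _ fun x => let ⟨g, hg⟩ := n x; ⟨g⁻¹, by simpa using mem_cj.1 hg⟩)
  have le : ∀ K : Subgroup (G ⧸ D), D ≤ K.comap (QuotientGroup.mk' D) := fun K y hy => by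
    rw [mem_comap, QuotientGroup.mk'_apply, (QuotientGroup.eq_one_iff y).2 hy]; exact one_mem _
  have ox : orderOf (x : G ⧸ D) = Nat.card (G ⧸ D) := by
    have : (zpowers (x : G ⧸ D)).comap (QuotientGroup.mk' D) = ⊤ := by_contra fun n =>
      let ⟨g, hg⟩ := exm hall big (le _) n
      hx g (hg (mem_zpowers _))
    have := congrArg index this
    rw [index_comap_of_surjective _ (QuotientGroup.mk'_surjective D), index_top, index_eq_one] at this
    rw [← Nat.card_zpowers, this, card_top]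
  have pr : ∀ r, r.Prime → r ∣ Nat.card G → r ≠ p → r = M₁.index := fun r hr d rp => by
    obtain ⟨n, hn'⟩ := hD.exists_card_eq
    rw [card_eq_card_quotient_mul_card_subgroup D, hr.dvd_mul, hn'] at d
    obtain ⟨j, hj⟩ := d.resolve_right fun d => rp ((Nat.prime_dvd_prime_iff_eq hr hp).1 (hr.dvd_of_dvd_pow d))
    have i : ((zpowers ((x : G ⧸ D) ^ r)).comap (QuotientGroup.mk' D)).index = r := by
      have := card_mul_index (zpowers ((x : G ⧸ D) ^ r))
      rw [Nat.card_zpowers, orderOf_pow' _ hr.ne_zero, ox, hj, Nat.gcd_mul_right_left, Nat.mul_div_cancel_left _ hr.pos,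
        mul_comm r] at this
      rw [index_comap_of_surjective _ (QuotientGroup.mk'_surjective D)]
      exact Nat.eq_of_mul_eq_mul_left (Nat.pos_of_ne_zero fun e => Nat.card_pos.ne' (by rw [hj, e, mul_zero])) this
    obtain ⟨g, hg⟩ := exm hall big (le _) fun e => hr.one_lt.ne' (by rw [← i, e, index_top])
    have := index_dvd_of_le hg
    rw [i, index_cj] at this
    exact ((hr.eq_one_or_self_of_dvd _ this).resolve_left a1.ne').symm
  refine ⟨FG.Ito.sol_two ⟨p, M₁.index, fun r hr d => or_iff_not_imp_left.2 (pr r hr d)⟩, ?_⟩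
  obtain ⟨q, hq, dq⟩ := Nat.exists_prime_and_dvd a1.ne'
  have qp : q ≠ p := fun e => hp.one_lt.ne' (Nat.eq_one_of_dvd_coprimes co (e ▸ dq) dp)
  have eq := pr q hq (dq.trans M₁.index_dvd_card) qp
  refine Finset.card_eq_two.2 ⟨q, p, qp, Finset.ext fun r => ?_⟩
  simp only [Nat.mem_primeFactors, Finset.mem_insert, Finset.mem_singleton]
  refine ⟨fun ⟨hr, d, _⟩ => or_iff_not_imp_right.2 fun n => (pr r hr d n).trans eq.symm, ?_⟩
  rintro (rfl | rfl)
  exacts [⟨hq, dq.trans M₁.index_dvd_card, Nat.card_pos.ne'⟩, ⟨hp, dp.trans M₂.index_dvd_card, Nat.card_pos.ne'⟩]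

/-- A finite group with exactly two conjugacy classes of maximal subgroups is solvable and its order has exactly two prime divisors. -/
theorem result {G : Type*} [Group G] [Finite G]
    (M₁ M₂ : Subgroup G) (h1 : IsCoatom M₁) (h2 : IsCoatom M₂) (hne : ∀ g : G, M₂ ≠ MulAut.conj g • M₁)
    (hall : ∀ M : Subgroup G, IsCoatom M → ∃ g : G, M = MulAut.conj g • M₁ ∨ M = MulAut.conj g • M₂) :
    Group.IsSolvable G ∧ (Nat.card G).primeFactors.card = 2 := by
  have hall' : ∀ M : Subgroup G, IsCoatom M → ∃ g : G, M = cj g M₁ ∨ M = cj g M₂ := hall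
  have co : M₁.index.Coprime M₂.index := Nat.Coprime.symm (Nat.eq_one_iff_not_exists_prime_dvd.2 fun p hp d => by
    have := Fact.mk hp
    have d1 := d.trans (Nat.gcd_dvd_right _ _)
    have d2 := d.trans (Nat.gcd_dvd_left _ _)
    obtain ⟨P⟩ : Nonempty (Sylow p G) := inferInstance
    rcases eq_top_or_exists_le_coatom (P : Subgroup G) with e | ⟨M, hM, e⟩
    swap
    · obtain ⟨g, rfl | rfl⟩ := hall' M hM
      · exact P.not_dvd_index (d1.trans (index_cj g M₁ ▸ index_dvd_of_le e))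
      · exact P.not_dvd_index (d2.trans (index_cj g M₂ ▸ index_dvd_of_le e))
    have hG : IsPGroup p G := (e ▸ P.isPGroup').of_equiv topEquiv
    have := hG.isNilpotent
    have n1 := NormalizerCondition.normal_of_coatom M₁ Group.normalizerCondition_of_isNilpotent h1
    have n2 := NormalizerCondition.normal_of_coatom M₂ Group.normalizerCondition_of_isNilpotent h2
    have ne : M₂ ≠ M₁ := by simpa using hne 1
    obtain ⟨y, y1, y2⟩ := SetLike.not_le_iff_exists.1 fun e => ne ((h1.le_iff_eq h2.1).1 e)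
    obtain ⟨z, z2, z1⟩ := SetLike.not_le_iff_exists.1 fun e => ne ((h2.le_iff_eq h1.1).1 e).symm
    have t : zpowers (y * z) = ⊤ := (eq_top_or_exists_le_coatom _).resolve_right fun ⟨M, hM, e⟩ => by
      obtain ⟨g, rfl | rfl⟩ := hall' M hM
      · rw [cj_of_norm (normalizer_eq_top_iff.2 n1 ▸ mem_top g), zpowers_le] at e
        exact z1 ((mul_mem_cancel_left y1).1 e)
      · rw [cj_of_norm (normalizer_eq_top_iff.2 n2 ▸ mem_top g), zpowers_le] at e
        exact y2 ((mul_mem_cancel_right z2).1 e)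
    generalize ex : y * z = x at t
    obtain ⟨n, hn⟩ := hG.exists_card_eq
    have ox : orderOf x = p ^ n := by rw [← Nat.card_zpowers, t, card_top, hn]
    have k : ∀ {M : Subgroup G} {u : G}, IsCoatom M → u ∈ M → ∃ i : ℕ, p ∣ i ∧ x ^ i = u := fun {M u} hM hu => by
      obtain ⟨i, rfl⟩ := mem_powers_iff_mem_zpowers.2 (t ▸ mem_top u)
      refine ⟨i, by_contra fun nd => hM.1 (eq_top_iff.2 (t ▸ zpowers_le.2 (zpowers_le.2 hu ?_))), rfl⟩
      rw [mem_zpowers_pow_iff, ox]
      exact ((hp.coprime_iff_not_dvd.2 nd).symm.pow_right n)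
    obtain ⟨i, di, hi⟩ := k h1 y1
    obtain ⟨j, dj, hj⟩ := k h2 z2
    have : x ∈ zpowers (x ^ (i + j)) := by rw [pow_add, hi, hj, ex]; exact mem_zpowers x
    rw [mem_zpowers_pow_iff, ox, ← hn] at this
    exact hp.one_lt.ne' (Nat.eq_one_of_dvd_coprimes this (dvd_add di dj) (d1.trans M₁.index_dvd_card)))
  rcases le_total M₁.index M₂.index with l | l
  · exact aux h1 hall' co l
  · exact aux h2 (fun M hM => (hall' M hM).imp fun _ e => e.symm) co.symm l

end Cfsg.Agent.S4383
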