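import Cfsg.Statements.S4394
import Cfsg.Agent.Gen2.SEx
import Cfsg.Agent.SolvStr.Schmidt
import Cfsg.Agent.LieM.Yen

set_option autoImplicit false
open Cfsg

namespace Cfsg.Agent.S4394

open Subgroup Cfsg.Agent.BG Cfsg.Agent.SolvStr Cfsg.Agent.Gen2

theorem seX {X : Type*} [Group X] [Finite X] (p : ℕ) [Fact p.Prime]
    (hX : Cfsg.IsMinimalNonNilpotent X) (P : Sylow p X) (hPn : (P : Subgroup X).Normal) (hP1 : (P : Subgroup X) ≠ ⊥) :
    ∃ Z : Subgroup (P : Subgroup X), SE p ⊤ Z := by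
  obtain ⟨q, q', x, R, hs⟩ := schmidt hX
  have hQ' := sylowIn_top P
  have hq : p ∣ Nat.card X := by
    obtain ⟨k, hk⟩ := IsPGroup.iff_card.1 P.2
    refine Dvd.dvd.trans ?_ (card_subgroup_dvd_card (P : Subgroup X))
    rw [hk]
    exact dvd_pow_self p fun h => hP1 (card_eq_one.1 (by rw [hk, h, pow_zero]))
  obtain rfl : p = q' := by
    by_contra hne
    obtain rfl : p = q := by
      rw [← card_top, ← hs.sdprod.card] at hq
      exact ((Nat.Prime.dvd_mul Fact.out).1 hq).elim (fun h => absurd (hs.sylQ.pi p Fact.out h) hne)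
        fun h => hs.sylP.pi p Fact.out h
    rw [← uniq_normal_Hall hQ' (normal_top _) hs.sylP] at hPn
    exact hs.ncent (cents_symm (TI_cent (norm_of_normal _ _) (hs.norm _) (coprime_TI hs.coprime)))
  obtain rfl : R = P := uniq_normal_Hall hQ' (normal_top _) hs.sylQ
  have := Fact.mk hs.pp
  obtain ⟨k, hk⟩ := hs.sylP.pg ⟨x, mem_zpowers x⟩
  obtain ⟨m, h1, h2⟩ := PGrp.exists_pow_not_mem_pow_mem (p := q) (H := C[(P : Subgroup X)]) (g := x)
    (fun h => hs.ncent (zpowers_le.2 h)) ⟨k, by rw [show x ^ q ^ k = 1 from congrArg Subtype.val hk]; exact one_mem _⟩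
  have hx : zpowers (x ^ q ^ m) ≤ zpowers x := zpowers_le.2 (pow_mem (mem_zpowers x) _)
  generalize x ^ q ^ m = y at h1 h2 hx
  have hy : y ∈ N[(P : Subgroup X)] := hs.norm ⊤ (mem_top y)
  refine ⟨_, se_of_aut hs.ne.symm P.2 ((P : Subgroup X).normalizerMonoidHom ⟨y, hy⟩) (fun h => h1 ?_) ?_ ?_⟩
  · exact (show (⟨y, hy⟩ : N[(P : Subgroup X)]) ∈ (C[(P : Subgroup X)]).subgroupOf _ from
      (normalizerMonoidHom_ker (P : Subgroup X)) ▸ h)
  · rw [← map_pow, ← MonoidHom.mem_ker, normalizerMonoidHom_ker]; exact h2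
  · intro U hU hinv u hu
    have n1 : zpowers y ≤ N[U.map (P : Subgroup X).subtype] := zpowers_le.2 (mem_norm_of_cj_le (by
      rintro _ ⟨_, ⟨v, hv, rfl⟩, rfl⟩; exact ⟨_, hinv v hv, rfl⟩))
    have hne : U.map (P : Subgroup X).subtype ⊔ zpowers y ≠ ⊤ := fun e => hU (by
      rw [eq_top_iff]
      intro g _
      obtain ⟨_, ⟨v, hv, rfl⟩, b, hb, e'⟩ := (mem_sup_norml n1).1 (e ▸ mem_top (g : X))
      have : b ∈ (P : Subgroup X) ⊓ zpowers x := ⟨by
        rw [show b = (v : X)⁻¹ * g by rw [e']; simp]; exact (v⁻¹ * g).2, hx hb⟩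
      rw [coprime_TI hs.coprime, mem_bot] at this
      rw [this, mul_one] at e'
      rwa [show g = v from Subtype.ext e'])
    have := sub_nilpotent_cent2 (hX.2 _ hne) le_sup_right le_sup_left
      ((hs.coprime.symm.coprime_dvd_left (card_dvd_of_le hx)).coprime_dvd_right (card_dvd_of_le (map_subtype_le U)))
    exact Subtype.ext (conj_eq_of_cent (this (mem_zpowers y)) ⟨u, hu, rfl⟩)

/-- Let X be a finite minimal non-nilpotent group (not nilpotent, every proper subgroup nilpotent) with a nontrivial normal Sylow p-subgroup P. If G is a finite p-solvable group whose Sylow p-subgroups are isomorphic to P, then G has p-length at most 1. -/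
theorem result {G X : Type*} [Group G] [Finite G] [Group X] [Finite X] (p : ℕ) [Fact p.Prime]
    (hX : Cfsg.IsMinimalNonNilpotent X) (P : Sylow p X) (hPn : (P : Subgroup X).Normal) (hP1 : (P : Subgroup X) ≠ ⊥)
    (hG : Cfsg.IsPSolvable p G) (Q : Sylow p G) (hQ : Nonempty (↥(Q : Subgroup G) ≃* ↥(P : Subgroup X))) : Cfsg.PLengthLE p 1 G := by
  obtain ⟨Z, hZ⟩ := seX p hX P hPn hP1
  obtain ⟨e⟩ := hQ
  have := PLocal.pPrimeCore_characteristic p G
  rw [LieM.pLengthLE_one_iff]
  let π := QuotientGroup.mk' (pPrimeCore p G)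
  have hπ : Function.Surjective π := QuotientGroup.mk'_surjective _
  have h0 := hZ.map ((Q : Subgroup G).subtype.comp e.symm.toMonoidHom) (by
    rw [(MonoidHom.ker_eq_bot_iff ((Q : Subgroup G).subtype.comp e.symm.toMonoidHom)).2
      ((subtype_injective _).comp e.symm.injective), inf_bot_eq]; exact bot_le)
  rw [← map_map, map_top_of_surjective _ e.symm.surjective, ← MonoidHom.range_eq_map, range_subtype] at h0
  have h1 := h0.map π (by
    rw [PLocal.inf_ker_eq_bot_of_coprime (p := p) (by rw [QuotientGroup.ker_mk']; exact PLocal.coprime_pPrimeCore p G) Q.2]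
    exact bot_le)
  have hG1 := PLocal.pSolv_quotient hG (pPrimeCore p G)
  have hC := PLocal.centralizer_pCore_le_of_pSolv hG1 (PLocal.pPrimeCore_quotient_pPrimeCore p G)
  have hS : (Q : Subgroup G).map π = (Q.mapSurjective hπ : Subgroup _) := rfl
  rw [hS] at h1
  generalize Q.mapSurjective hπ = S at h1
  generalize Subgroup.map π _ = Y at h1
  suffices h : (S : Subgroup _) ≤ pCore p (G ⧸ pPrimeCore p G) from
    ((Nat.Prime.coprime_iff_not_dvd Fact.out).2 S.not_dvd_index).symm.coprime_dvd_left (index_dvd_of_le h)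
  have hR := Loc.isPGroup_pCore p (G ⧸ pPrimeCore p G)
  have := Loc.pCore_normal' p (G ⧸ pPrimeCore p G)
  have hRS : pCore p (G ⧸ pPrimeCore p G) ≤ S := hR.le_sylow_of_normal S
  have : (Phi (pCore p (G ⧸ pPrimeCore p G))).Normal := normalizer_eq_top_iff.1 (top_le_iff.1 (norms_Phi (norm_of_normal _ _)))
  let σ := QuotientGroup.mk' (Phi (pCore p (G ⧸ pPrimeCore p G)))
  have hσ : Function.Surjective σ := QuotientGroup.mk'_surjective _
  have hk : σ.ker = Phi _ := QuotientGroup.ker_mk' _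
  have h2 := h1.map σ (by
    rw [hk]; exact inf_le_right.trans ((PhiS S.2 hRS).trans ((Phi_min S.2).2 ⟨h1.der, h1.pow⟩)))
  have e1 := Solv.comap_pCore (p := p) hσ (by rw [hk]; exact hR.to_le (Phi_sub _))
  have e2 : (pCore p (G ⧸ pPrimeCore p G)).map σ = pCore p _ :=
    (congrArg (Subgroup.map σ) e1.symm).trans (map_comap_eq_self_of_surjective hσ _)
  obtain ⟨d1, d2⟩ := (Phi_min hR).1 le_rfl
  rw [← e1, ← map_le_iff_le_comap]
  refine h2.le_of_abelem (PLocal.pSolv_quotient hG1 _) (S.2.map σ) (e2 ▸ map_mono hRS) ?_ ?_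
  · rw [← e2]
    refine ⟨der1_eq_bot.1 (by rw [← map_commutator, Subgroup.map_eq_bot_iff, hk]; exact d1), ?_⟩
    rintro _ ⟨x, hx, rfl⟩
    rw [← map_pow, ← MonoidHom.mem_ker, hk]; exact d2 x hx
  · refine PLocal.centralizer_pCore_le_of_pSolv (PLocal.pSolv_quotient hG1 _) ?_
    have hO := PLocal.coprime_pPrimeCore p (_ ⧸ Phi (pCore p (G ⧸ pPrimeCore p G)))
    have hc := PLocal.pCore_commutator_pPrimeCore (p := p) (G := _ ⧸ Phi (pCore p (G ⧸ pPrimeCore p G)))
    generalize pPrimeCore p (_ ⧸ Phi (pCore p (G ⧸ pPrimeCore p G))) = O at hO hc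
    have e3 := relIndex_ker (O.comap σ) σ
    rw [hk, map_comap_eq_self_of_surjective hσ] at e3
    obtain ⟨k, hk'⟩ := IsPGroup.iff_card.1 (hR.to_le (Phi_sub _))
    obtain ⟨K, hK⟩ := SchurZassenhaus_split (⟨hk.ge.trans (ker_le_comap σ O), norm_of_normal _ _⟩ : _ ⊴ O.comap σ)
      (by rw [e3, hk']; exact hO.symm.pow_left k)
    have hKc : (#K).Coprime p := by rw [← hK.relIndexl, e3]; exact hO
    have h3 : K ≤ pCore p _ := (coprime_cent_Phi (norm_of_normal _ _) (PLocal.coprime_card_of_isPGroup hR hKc) (by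
      refine le_trans ?_ hk.le
      rw [← Subgroup.map_eq_bot_iff, map_commutator, e2, commG1']
      exact (map_le_iff_le_comap.2 (hK.sup ▸ le_sup_right)).trans hc)).trans hC
    have h4 := hK.sup
    rw [PLocal.eq_bot_of_isPGroup_of_coprime (hR.to_le h3) hKc, sup_bot_eq] at h4
    rw [← map_comap_eq_self_of_surjective hσ O, Subgroup.map_eq_bot_iff, hk]
    exact h4.ge

end Cfsg.Agent.S4394
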