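import Cfsg.Statements.S4397
import Cfsg.Agent.Fus.Hup
import Cfsg.Agent.Gen2.SecRank
import Cfsg.Agent.Solv.Basic

set_option autoImplicit false
open Cfsg

namespace Cfsg.Agent.S4397

open Subgroup Cfsg.Agent.BG Cfsg.Agent.PGrp
open scoped commutatorElement

universe u

def SR (G : Type*) [Group G] : Prop :=
  ∀ H N : Subgroup G, N ≤ H → (∀ x ∈ H, x * x ∈ N) → #H ≤ 2 ^ 2 * #N

theorem SR.quot {G : Type*} [Group G] [Finite G] (h : SR G) (T : Subgroup G) [T.Normal] : SR (G ⧸ T) := by
  intro H N l hx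
  have := h (H.comap (QuotientGroup.mk' T)) (N.comap (QuotientGroup.mk' T)) (comap_mono l)
    fun x hx' => by rw [mem_comap, map_mul]; exact hx _ hx'
  rw [Solv.card_comap_mk', Solv.card_comap_mk', mul_left_comm] at this
  exact Nat.le_of_mul_le_mul_left this Nat.card_pos

theorem base {G : Type u} [Group G] [Finite G] (hG : IsPGroup 2 G) (h : SR G)
    (hd : #(⁅(⊤ : Subgroup G), (⊤ : Subgroup G)⁆ : Subgroup G) ≤ 2) : IsMetacyclic G := by
  haveI : Fact (Nat.Prime 2) := ⟨Nat.prime_two⟩
  have hG' := hG.to_subgroup ⊤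
  set D : Subgroup G := ⁅(⊤ : Subgroup G), (⊤ : Subgroup G)⁆ with hD
  have hdp : IsPGroup 2 D := hG.to_subgroup _
  have hcen : ∀ d ∈ D, ∀ g, Commute d g := fun t ht g => (BG4.cent_of_card_le hG' hdp
    (norm_of_normal _ ⊤) hd (mem_top g) t ht)
  have hd2 : ∀ d ∈ D, d ^ 2 = 1 := fun d hd' => BG4.pow_eq_one_of_card_le hdp hd hd'
  have hsq : ∀ a b : G, (a * b) ^ 2 = a ^ 2 * b ^ 2 * ⁅b⁻¹, a⁻¹⁆ := by
    intro a b
    have hc := hcen _ (commutator_mem_commutator (mem_top b⁻¹) (mem_top a⁻¹))
    have e : b * a = a * b * ⁅b⁻¹, a⁻¹⁆ := by simp only [commutatorElement_def]; group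
    calc (a * b) ^ 2 = a * (b * a) * b := by rw [pow_two]; group
      _ = a * (a * b) * (⁅b⁻¹, a⁻¹⁆ * b) := by rw [e]; group
      _ = _ := by rw [(hc b).eq, pow_two, pow_two]; group
  by_cases hnc : IsCyclic (⊤ : Subgroup G)
  · exact BG4.metacyclic_top.1 (BG4.metacyclic_of_cyclic hnc)
  obtain ⟨Y, hY, hYc, hmax⟩ := maxgroup_exists (P := fun Y : Subgroup G => IsCyclic Y) (A := D)
    (BG4.cyclic_of_card_le hdp hd)
  obtain ⟨y, rfl⟩ := cyclicP.mp hYc
  have h3 : #(⊤ : Subgroup G) ≤ #(Phi (⊤ : Subgroup G)) * 2 ^ 2 := by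
    rw [mul_comm]
    exact h _ _ le_top fun x hx => by rw [← pow_two]; exact pow_mem_Phi hG' hx
  have hyF : y ∉ Phi (⊤ : Subgroup G) := by
    intro hy
    let F : Subgroup G :=
      { carrier := {g | ∃ u, ∃ d ∈ D, g = u ^ 2 * d}
        one_mem' := ⟨1, 1, one_mem _, by simp⟩
        mul_mem' := by
          rintro _ _ ⟨u, d, hd', rfl⟩ ⟨v, e, he, rfl⟩
          refine ⟨u * v, ⁅v⁻¹, u⁻¹⁆⁻¹ * d * e,
            mul_mem (mul_mem (inv_mem (commutator_mem_commutator (mem_top _) (mem_top _))) hd') he, ?_⟩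
          rw [hsq, mul_assoc (u ^ 2) d, ← mul_assoc d, (hcen d hd' _).eq]; group
        inv_mem' := by
          rintro _ ⟨u, d, hd', rfl⟩
          refine ⟨u⁻¹, d⁻¹, inv_mem hd', ?_⟩
          rw [mul_inv_rev, inv_pow, (hcen _ (inv_mem hd') _).eq] }
    have hF : Phi (⊤ : Subgroup G) ≤ F := (Phi_min hG').2
      ⟨fun d hd' => ⟨1, d, hd', by simp⟩, fun x _ => ⟨x, 1, one_mem _, by simp⟩⟩
    obtain ⟨u, d, hd', e⟩ := hF hy
    by_cases hc : D ≤ zpowers (y ^ 2)
    · have h1 : zpowers (u ^ 2) = zpowers y := by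
        refine Phi_nongen (zpowers_le.2 ?_) (zpowers_le.2 ?_)
        · rw [show u ^ 2 = y * d⁻¹ by rw [e]; group]
          exact mul_mem (mem_zpowers y) (inv_mem (hY hd'))
        · nth_rewrite 2 [e]
          exact mul_mem_sup (mem_zpowers _)
            (zpowers_le.2 (pow_mem_Phi (hG.to_subgroup _) (mem_zpowers y)) (hc hd'))
      have h5 := hmax (zpowers u) inferInstance (h1 ▸ zpowers_le.mpr (npow_mem_zpowers u 2))
      have h6 : ⊥ = zpowers u := Phi_nongen bot_le (by
        rw [bot_sup_eq]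
        exact (h5.trans h1.symm).le.trans (zpowers_le.mpr (pow_mem_Phi (hG.to_subgroup _) (mem_zpowers u))))
      refine hnc ((eq_bot_iff_forall (⊤ : Subgroup G)).mpr (fun r _ => ?_) ▸ cyclic_bot)
      rw [← zpowers_eq_bot, h6, h5]
      exact hmax _ inferInstance (by rw [← h5, ← h6]; exact bot_le)
    · have hyD : zpowers y = D := by
        refine (Phi_nongen hY ?_).symm
        obtain ⟨c, hc1, hc2⟩ := SetLike.not_le_iff_exists.1 hc
        obtain ⟨k, rfl⟩ := mem_zpowers_iff.1 (hY hc1)
        rcases Int.even_or_odd' k with ⟨j, rfl | rfl⟩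
        · exact absurd (by rw [zpow_mul]; exact zpow_mem (by rw [zpow_ofNat]; exact mem_zpowers _) j) hc2
        · rw [zpowers_le, show y = y ^ (2 * j + 1) * ((y ^ 2) ^ j)⁻¹ by group]
          refine mul_mem_sup hc1 (inv_mem (zpow_mem ?_ j))
          have := pow_mem_Phi (hG.to_subgroup (zpowers y)) (mem_zpowers y)
          convert this using 2
          group
      let W : Subgroup G :=
        { carrier := {g | g ^ 2 ∈ D}
          one_mem' := by simp
          mul_mem' := fun {a b} ha hb => by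
            change (a * b) ^ 2 ∈ D
            rw [hsq]
            exact mul_mem (mul_mem ha hb) (commutator_mem_commutator (mem_top _) (mem_top _))
          inv_mem' := fun {a} ha => by
            change a⁻¹ ^ 2 ∈ D
            rw [inv_pow]; exact inv_mem ha }
      have hW : ∀ x ∈ W, x * x ∈ (⊥ : Subgroup G) := by
        intro x hx
        rw [mem_bot, ← pow_two]
        by_contra hne
        have h7 : zpowers (x ^ 2) = D := by
          refine eq_of_card_le (zpowers_le.2 hx) (hd.trans ?_)
          rw [Nat.card_zpowers]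
          have := orderOf_pos (x ^ 2)
          have h1 : orderOf (x ^ 2) ≠ 1 := fun h1 => hne (orderOf_eq_one_iff.1 h1)
          omega
        have h8 := hmax (zpowers x) inferInstance (by
          rw [hyD, ← h7]; exact zpowers_le.mpr (npow_mem_zpowers x 2))
        exact hne (hd2 x (hyD ▸ h8 ▸ mem_zpowers x))
      have hW4 := h W ⊥ bot_le hW
      have hDn : D ≠ ⊥ := fun h0 => hc (h0 ▸ bot_le)
      haveI : D.Normal := inferInstance
      have hab : IsMulCommutative (⊤ : Subgroup (G ⧸ D)) := by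
        refine abelian_iff.2 fun a _ => mem_cent.2 fun b _ => ?_
        obtain ⟨a, rfl⟩ := QuotientGroup.mk_surjective a
        obtain ⟨b, rfl⟩ := QuotientGroup.mk_surjective b
        rw [← QuotientGroup.mk_mul, ← QuotientGroup.mk_mul, QuotientGroup.eq]
        have := commutator_mem_commutator (mem_top a⁻¹) (mem_top b⁻¹)
        convert this using 1
        simp only [commutatorElement_def]; group
      by_cases hq : IsCyclic (⊤ : Subgroup (G ⧸ D))
      · haveI : IsCyclic (G ⧸ D) := isog_cyclic (isog_symm isog_top) hq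
        have hcm := commutative_of_cyclic_center_quotient (QuotientGroup.mk' D) (by
          rw [QuotientGroup.ker_mk']
          exact fun d hd' => mem_center_iff.2 fun g => (hcen d hd' g).eq.symm)
        apply hDn
        rw [hD, commutator_eq_bot_iff_le_centralizer]
        exact fun a _ => mem_centralizer_iff.2 fun b _ => hcm b a
      · obtain ⟨q, hq', E, hE⟩ := noncyclic_p2Elem (Or.inr hab) hq
        have hq2 : q = 2 := by
          obtain ⟨n, hn⟩ := IsPGroup.iff_card.1 ((hG.to_quotient D).to_subgroup E)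
          have : q ∣ 2 ^ n := by rw [← hn]; exact hE.card ▸ dvd_pow_self q (by norm_num)
          exact (Nat.prime_dvd_prime_iff_eq hq' Nat.prime_two).1 (hq'.dvd_of_dvd_pow this)
        subst hq2
        have h9 : E.comap (QuotientGroup.mk' D) ≤ W := fun x hx => by
          change x ^ 2 ∈ D
          rw [← QuotientGroup.eq_one_iff, QuotientGroup.mk_pow]
          exact hE.abelem.2 _ hx
        have h10 := card_le_of_le h9
        rw [Solv.card_comap_mk', hE.card] at h10
        have h11 : 1 < #D := (one_lt_card_iff_ne_bot D).2 hDn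
        simp only [card_bot] at hW4
        omega
  obtain ⟨d, -, hd'⟩ := BG4.exists_two_gen hG' h3 (mem_top y) hyF
  exact BG4.metacyclic_top.1 (BG4.metacyclic_of_gen (sub_der1_normal hY le_top).norm hd')

theorem main (n : ℕ) : ∀ (G : Type u) [Group G] [Finite G], Nat.card G = n → IsPGroup 2 G → SR G →
    IsMetacyclic G := by
  haveI : Fact (Nat.Prime 2) := ⟨Nat.prime_two⟩
  induction n using Nat.strong_induction_on with | _ n ih => ?_
  intro G _ _ hn hG h
  by_cases hd : #(⁅(⊤ : Subgroup G), (⊤ : Subgroup G)⁆ : Subgroup G) ≤ 2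
  · exact base hG h hd
  obtain ⟨T, _, h1, h3⟩ := exists_normal_card_eq hG (N := ⁅(⊤ : Subgroup G), ⊤⁆) 1 (by rw [pow_one]; omega)
  rw [pow_one] at h3
  refine Fus.meta_step hG h1 h3 hd (ih _ ?_ _ rfl (hG.to_quotient T) (h.quot T))
  rw [← hn, T.card_eq_card_quotient_mul_card_subgroup, h3]
  exact lt_mul_of_one_lt_right Nat.card_pos (by norm_num)

/-- A finite 2-group of sectional 2-rank at most 2 (every section has no elementary abelian subgroup of order 8) is metacyclic: it has a cyclic normal subgroup with cyclic quotient. -/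
theorem result {S : Type*} [Group S] [Finite S] (h2 : IsPGroup 2 S) (hr : Cfsg.SectionalPRankLE 2 2 S) : Cfsg.IsMetacyclic S := by
  exact main _ S rfl h2 fun H N l h => Gen2.sr_le hr l h

end Cfsg.Agent.S4397
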