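import Cfsg.Statements.S4412
import Cfsg.Agent.BG.S3Gen
import Cfsg.Agent.PGrp.Meta2
import Cfsg.Agent.Invol.Dihedral

set_option autoImplicit false
open Cfsg

namespace Cfsg.Agent.S4412

open Subgroup Cfsg.Agent.BG

section
variable {P : Type*} [Group P] [Finite P]

theorem gen {J : Subgroup (MulAut P)} (hJ : IsMulCommutative J) (hc : ¬ IsCyclic J)
    (hco : (Nat.card P).Coprime (Nat.card J)) {K L : Subgroup P} (hK : ∀ T ∈ J, ∀ x ∈ K, T x ∈ K)
    (h : ∀ T ∈ J, T ≠ 1 → ∀ x ∈ K, T x = x → x ∈ L) : K ≤ L := by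
  let Γ := P ⋊[MonoidHom.id (MulAut P)] (MulAut P)
  haveI : Finite Γ := Finite.of_equiv _ SemidirectProduct.equivProd.symm
  let l : P →* Γ := SemidirectProduct.inl
  let r : MulAut P →* Γ := SemidirectProduct.inr
  have hl : Function.Injective l := SemidirectProduct.inl_injective
  have hr : Function.Injective r := SemidirectProduct.inr_injective
  have e : ∀ T x, r T * l x * (r T)⁻¹ = l (T x) := fun T x => by
    rw [← map_inv]; exact (SemidirectProduct.inl_aut T x).symm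
  rw [← map_le_map_iff_of_injective hl]
  refine coprime_abelian_gen_cent1 (A := J.map r) inferInstance
    (fun h => hc (isog_cyclic (isog_symm (isog_map_inj hr J)) h)) ?_ ?_ ?_
  · rintro _ ⟨T, hT, rfl⟩
    refine mem_normalizer_fintype ?_
    rintro _ ⟨x, hx, rfl⟩
    exact ⟨_, hK T hT x hx, (e T x).symm⟩
  · rw [card_map_of_injective hl, card_map_of_injective hr]
    exact hco.coprime_dvd_left (card_subgroup_dvd_card K)
  · rintro _ ⟨T, hT, rfl⟩ h1 _ ⟨⟨x, hx, rfl⟩, h2⟩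
    refine ⟨x, h T hT (fun e => h1 (by rw [e, map_one])) x hx (hl ?_), rfl⟩
    rw [← e, mul_inv_eq_iff_eq_mul]
    exact (mem_cent1.1 h2).symm

theorem pm {p : ℕ} (hp : p.Prime) (hp2 : p ≠ 2) (hP : IsPGroup p P) {S : MulAut P} (hS : S ^ 2 = 1) {a : P}
    (h : S a ∈ zpowers a) : S a = a ∨ S a = a⁻¹ := by
  haveI := Fact.mk hp
  obtain ⟨k, hk⟩ := mem_zpowers_iff.1 h
  obtain ⟨m, hm⟩ := IsPGroup.iff_orderOf.1 hP a
  have h1 : a ^ ((k - 1) * (k + 1)) = 1 := by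
    have : S (S a) = a := by rw [← MulAut.mul_apply, ← pow_two, hS, MulAut.one_apply]
    rw [← hk, map_zpow, ← hk, ← zpow_mul] at this
    rw [show (k - 1) * (k + 1) = k * k - 1 by ring, zpow_sub, this]; simp
  have h2 : ((p : ℤ) ^ m) ∣ (k - 1) * (k + 1) := by
    have := orderOf_dvd_iff_zpow_eq_one.2 h1
    rw [hm] at this; exact_mod_cast this
  have hp' : Prime (p : ℤ) := Nat.prime_iff_prime_int.1 hp
  have h3 : ∀ j : ℤ, (p : ℤ) ^ m ∣ j → a ^ j = 1 := fun j hj =>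
    orderOf_dvd_iff_zpow_eq_one.1 (by rw [hm]; exact_mod_cast hj)
  by_cases hd : (p : ℤ) ∣ k + 1
  · have hd' : ¬ (p : ℤ) ∣ k - 1 := fun h' => by
      have h4 : (p : ℤ) ∣ 2 := by have := dvd_sub hd h'; rwa [show k + 1 - (k - 1) = 2 by ring] at this
      exact hp2 ((Nat.prime_dvd_prime_iff_eq hp Nat.prime_two).1 (by exact_mod_cast h4))
    have := h3 _ (((hp'.coprime_iff_not_dvd.2 hd').pow_left).dvd_of_dvd_mul_left h2)
    right
    rw [← hk, eq_inv_iff_mul_eq_one, ← zpow_add_one, this]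
  · have := h3 _ (((hp'.coprime_iff_not_dvd.2 hd).pow_left).dvd_of_dvd_mul_right h2)
    left
    rw [← hk, ← mul_inv_eq_one, ← zpow_sub_one, this]

theorem sq1 {p : ℕ} (hp : p.Prime) (hp2 : p ≠ 2) (hP : IsPGroup p P) {a : P} (h : a = a⁻¹) : a = 1 := by
  haveI := Fact.mk hp
  obtain ⟨m, hm⟩ := IsPGroup.iff_orderOf.1 hP a
  have h1 : orderOf a ∣ 2 := orderOf_dvd_of_pow_eq_one (by rw [pow_two]; exact mul_eq_one_iff_eq_inv.2 h)
  exact orderOf_eq_one_iff.1 (Nat.eq_one_of_dvd_coprimes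
    (((Nat.coprime_primes hp Nat.prime_two).2 hp2).pow_left m) (hm ▸ dvd_rfl) h1)

omit [Finite P] in
theorem fix_zp {S : MulAut P} {a x : P} (h : S a = a) (hx : x ∈ zpowers a) : S x = x := by
  obtain ⟨k, rfl⟩ := mem_zpowers_iff.1 hx; rw [map_zpow, h]

omit [Finite P] in
theorem inv_zp {S : MulAut P} {a x : P} (h : S a = a⁻¹) (hx : x ∈ zpowers a) : S x = x⁻¹ := by
  obtain ⟨k, rfl⟩ := mem_zpowers_iff.1 hx; rw [map_zpow, h, inv_zpow]

theorem exists_J {G : Type*} [Group G] [Finite G] {I I₀ : Subgroup G} (hI : IsElementaryAbelian 2 I)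
    (h8 : Nat.card I = 8) (h0 : I₀ ≤ I) {B : G} (hB : B ∈ I) (hB0 : B ∉ I₀) :
    ∃ J : Subgroup G, I₀ ≤ J ∧ J ≤ I ∧ B ∉ J ∧ Nat.card J = 4 := by
  obtain ⟨J, h1, ⟨h2, h3⟩, hmax⟩ := maxgroup_exists (P := fun J : Subgroup G => J ≤ I ∧ B ∉ J) ⟨h0, hB0⟩
  have hc : ∀ a ∈ I, ∀ b ∈ I, a * b = b * a := fun a ha b hb =>
    congrArg Subtype.val (hI.1.is_comm.comm (⟨a, ha⟩ : I) ⟨b, hb⟩)
  have hs : ∀ a ∈ I, a * a = 1 := fun a ha => by rw [← pow_two, hI.2 a ha]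
  refine ⟨J, h1, h2, h3, ?_⟩
  have h4 : J.relIndex I = 2 := by
    refine relIndex_eq_two_iff.2 ⟨B, hB, fun x hx => ?_⟩
    by_cases hxJ : x ∈ J
    · exact Or.inr ⟨hxJ, fun h => h3 ((mul_mem_cancel_left hxJ).1 h)⟩
    refine Or.inl ⟨?_, hxJ⟩
    by_contra hcon
    let J' : Subgroup G :=
      { carrier := {y | y ∈ I ∧ (y ∈ J ∨ x * y ∈ J)}
        one_mem' := ⟨one_mem _, Or.inl (one_mem _)⟩
        mul_mem' := by
          rintro a b ⟨ha, ha' | ha'⟩ ⟨hb, hb' | hb'⟩ <;> refine ⟨mul_mem ha hb, ?_⟩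
          · exact Or.inl (mul_mem ha' hb')
          · right; rw [← mul_assoc, hc x hx a ha, mul_assoc]; exact mul_mem ha' hb'
          · right; rw [← mul_assoc]; exact mul_mem ha' hb'
          · left
            have := mul_mem ha' hb'
            rwa [hc x hx a ha, mul_assoc, ← mul_assoc x, hs x hx, one_mul] at this
        inv_mem' := by
          rintro a ⟨ha, ha'⟩
          rw [inv_eq_of_mul_eq_one_right (hs a ha)]
          exact ⟨ha, ha'⟩ }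
    have := hmax J' ⟨fun y hy => hy.1, fun h => h.2.elim h3 hcon⟩ fun y hy => ⟨h2 hy, Or.inl hy⟩
    exact hxJ (this ▸ (⟨hx, Or.inr (by rw [hs x hx]; exact one_mem _)⟩ : x ∈ J'))
  have := card_mul_relIndex h2
  rw [h4, h8] at this
  omega
end

/-- Let p be an odd prime, P a finite p-group and I an elementary abelian subgroup of order 8 of Aut(P). Call T ∈ I, T ≠ 1, broad when its fixed-point subgroup C_P(T) is not cyclic. Suppose I has a proper subgroup I₀ containing no broad element such that the product of any two broad elements lies in I₀. Then P is abelian of rank exactly 3 (generated by three elements but not by two), there are exactly three broad elements and they generate I, and I₀ is exactly the set of products of two broad elements. -/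
theorem result
    {P : Type*} [Group P] [Finite P] (p : ℕ) (hp : p.Prime) (hp2 : p ≠ 2) (hP : IsPGroup p P)
    (I : Subgroup (MulAut P)) (hI : Cfsg.IsElementaryAbelian 2 I) (hI8 : Nat.card ↥I = 8)
    (I₀ : Subgroup (MulAut P)) (hI₀ : I₀ < I)
    (hdisj : ∀ T ∈ I₀, T ≠ 1 → ∃ g : P, ∀ x : P, (T x = x ↔ x ∈ Subgroup.zpowers g))
    (hprod : ∀ T ∈ I, ∀ T' ∈ I, T ≠ 1 → T' ≠ 1 → (¬ ∃ g : P, ∀ x : P, (T x = x ↔ x ∈ Subgroup.zpowers g)) →
      (¬ ∃ g : P, ∀ x : P, (T' x = x ↔ x ∈ Subgroup.zpowers g)) → T * T' ∈ I₀) :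
    IsMulCommutative P ∧ (∃ a b c : P, Subgroup.closure {a, b, c} = ⊤) ∧ (¬ ∃ a b : P, Subgroup.closure {a, b} = ⊤) ∧
      Nat.card {T : MulAut P // T ∈ I ∧ T ≠ 1 ∧ ¬ ∃ g : P, ∀ x : P, (T x = x ↔ x ∈ Subgroup.zpowers g)} = 3 ∧
      Subgroup.closure {T : MulAut P | T ∈ I ∧ T ≠ 1 ∧ ¬ ∃ g : P, ∀ x : P, (T x = x ↔ x ∈ Subgroup.zpowers g)} = I ∧
      (I₀ : Set (MulAut P)) = {S : MulAut P | ∃ T T' : MulAut P, T ∈ I ∧ T' ∈ I ∧ T ≠ 1 ∧ T' ≠ 1 ∧
        (¬ ∃ g : P, ∀ x : P, (T x = x ↔ x ∈ Subgroup.zpowers g)) ∧ (¬ ∃ g : P, ∀ x : P, (T' x = x ↔ x ∈ Subgroup.zpowers g)) ∧ S = T * T'} := by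
  classical
  haveI := Fact.mk hp
  set NB : MulAut P → Prop := fun T => ∃ g : P, ∀ x : P, (T x = x ↔ x ∈ zpowers g) with hNB
  have hc : ∀ a ∈ I, ∀ b ∈ I, a * b = b * a := fun a ha b hb =>
    congrArg Subtype.val (hI.1.is_comm.comm (⟨a, ha⟩ : I) ⟨b, hb⟩)
  have hc' : ∀ a ∈ I, ∀ b ∈ I, ∀ x, a (b x) = b (a x) := fun a ha b hb x => by
    rw [← MulAut.mul_apply, hc a ha b hb, MulAut.mul_apply]
  obtain ⟨B, hB, hB0, hBr⟩ : ∃ B ∈ I, B ∉ I₀ ∧ ∀ T ∈ I, T ≠ 1 → ¬ NB T → T * B ∈ I₀ := by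
    by_cases h : ∃ B ∈ I, B ≠ 1 ∧ ¬ NB B
    · obtain ⟨B, h1, h2, h3⟩ := h
      exact ⟨B, h1, fun h => h3 (hdisj B h h2), fun T k1 k2 k3 => hprod T k1 B h1 k2 h2 k3 h3⟩
    · obtain ⟨B, h1, h2⟩ := SetLike.exists_of_lt hI₀
      exact ⟨B, h1, h2, fun T k1 k2 k3 => absurd ⟨T, k1, k2, k3⟩ h⟩
  obtain ⟨J, hJ0, hJI, hBJ, hJ4⟩ := exists_J hI hI8 hI₀.le hB hB0
  have hJn : ∀ T ∈ J, T ≠ 1 → NB T := fun T h1 h2 => by
    by_contra h3
    exact hBJ ((mul_mem_cancel_left h1).1 (hJ0 (hBr T (hJI h1) h2 h3)))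
  have hK4 : IsKleinFour J := by
    refine ⟨hJ4, ?_⟩
    haveI : Nontrivial J := by rw [← Finite.one_lt_card_iff_nontrivial, hJ4]; norm_num
    exact (Monoid.exponent_eq_prime_iff Nat.prime_two).2 fun g hg =>
      orderOf_eq_prime (Subtype.ext (hI.2 g (hJI g.2))) hg
  obtain ⟨T1, T2, h1J, h2J, n1, n2, n12⟩ : ∃ T1 T2, T1 ∈ J ∧ T2 ∈ J ∧ T1 ≠ 1 ∧ T2 ≠ 1 ∧ T1 ≠ T2 := by
    haveI := Fintype.ofFinite J
    obtain ⟨a, b, c, h1, h2, h3⟩ := Fintype.two_lt_card_iff.1 (show 2 < Fintype.card J by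
      rw [← Nat.card_eq_fintype_card, hJ4]; norm_num)
    by_cases ha : a = 1
    · exact ⟨b, c, b.2, c.2, fun e => h1 (ha.trans (Subtype.ext e).symm), fun e => h2 (ha.trans (Subtype.ext e).symm),
        fun e => h3 (Subtype.ext e)⟩
    by_cases hb : b = 1
    · exact ⟨a, c, a.2, c.2, fun e => ha (Subtype.ext e), fun e => h3 (hb.trans (Subtype.ext e).symm),
        fun e => h2 (Subtype.ext e)⟩
    · exact ⟨a, b, a.2, b.2, fun e => ha (Subtype.ext e), fun e => hb (Subtype.ext e), fun e => h1 (Subtype.ext e)⟩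
  have hmem := Invol.mem_four_iff hK4 h1J h2J n1 n2 n12
  have n3 : T1 * T2 ≠ 1 := fun e => n12 (by
    rw [eq_inv_of_mul_eq_one_left e, inv_eq_iff_mul_eq_one, ← pow_two, hI.2 _ (hJI h2J)])
  have h3J := mul_mem h1J h2J
  obtain ⟨a1, f1⟩ := hJn _ h1J n1
  obtain ⟨a2, f2⟩ := hJn _ h2J n2
  obtain ⟨a3, f3⟩ := hJn _ h3J n3
  set T3 := T1 * T2 with hT3
  have hpm : ∀ {T a}, T ∈ I → (∀ x : P, T x = x ↔ x ∈ zpowers a) → ∀ S ∈ I, S a = a ∨ S a = a⁻¹ :=
    fun {T a} hT f S hS => pm hp hp2 hP (hI.2 S hS) ((f _).1 (by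
      rw [hc' T hT S hS, (f a).2 (mem_zpowers a)]))
  have s1 := hpm (hJI h1J) f1
  have s2 := hpm (hJI h2J) f2
  have s3 := hpm (hJI h3J) f3
  have hco : (Nat.card P).Coprime (Nat.card J) := by
    obtain ⟨n, hn⟩ := IsPGroup.iff_card.1 hP
    rw [hn, hJ4]
    exact ((Nat.coprime_primes hp Nat.prime_two).2 hp2).pow n 2
  have hG : ∀ {K L : Subgroup P}, (∀ T ∈ J, ∀ x ∈ K, T x ∈ K) → (∀ x ∈ K, x ∈ zpowers a1 → x ∈ L) →
      (∀ x ∈ K, x ∈ zpowers a2 → x ∈ L) → (∀ x ∈ K, x ∈ zpowers a3 → x ∈ L) → K ≤ L := fun hK k1 k2 k3 =>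
    gen ⟨⟨fun a b => Subtype.ext (hc _ (hJI a.2) _ (hJI b.2))⟩⟩ IsKleinFour.not_isCyclic hco hK
      fun T hT h1 x hx e => by
        rcases (hmem T).1 hT with rfl | rfl | rfl | rfl
        · exact absurd rfl h1
        · exact k1 x hx ((f1 x).1 e)
        · exact k2 x hx ((f2 x).1 e)
        · exact k3 x hx ((f3 x).1 e)
  have htop : closure ({a1, a2, a3} : Set P) = ⊤ := top_le_iff.1 (hG (fun _ _ _ _ => trivial)
    (fun x _ h => zpowers_le.2 (subset_closure (by simp)) h) (fun x _ h => zpowers_le.2 (subset_closure (by simp)) h)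
    (fun x _ h => zpowers_le.2 (subset_closure (by simp)) h))
  have hext : ∀ S S' : MulAut P, S a1 = S' a1 → S a2 = S' a2 → S a3 = S' a3 → S = S' := fun S S' k1 k2 k3 =>
    MulEquiv.toMonoidHom_injective (MonoidHom.eq_of_eqOn_dense htop (by
      rintro x (rfl | rfl | rfl) <;> assumption))
  have hsurj : ∀ b1 b2 b3 : Bool, ∃ S ∈ I, (S a1 = a1 ↔ b1) ∧ (S a2 = a2 ↔ b2) ∧ (S a3 = a3 ↔ b3) := by
    let f : I → Bool × Bool × Bool := fun S => (decide (S.1 a1 = a1), decide (S.1 a2 = a2), decide (S.1 a3 = a3))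
    have k : ∀ {a : P}, (∀ S ∈ I, S a = a ∨ S a = a⁻¹) → ∀ S S' : I, decide (S.1 a = a) = decide (S'.1 a = a) →
        S.1 a = S'.1 a := fun {a} s S S' e => by
      rw [decide_eq_decide] at e
      by_cases h : S.1 a = a
      · rw [h, e.1 h]
      · rw [(s _ S.2).resolve_left h, (s _ S'.2).resolve_left fun h' => h (e.2 h')]
    have hf : Function.Injective f := fun S S' e => by
      simp only [f, Prod.mk.injEq] at e
      exact Subtype.ext (hext _ _ (k s1 _ _ e.1) (k s2 _ _ e.2.1) (k s3 _ _ e.2.2))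
    intro b1 b2 b3
    obtain ⟨S, hS⟩ := (hf.bijective_of_nat_card_le (by rw [hI8]; simp)).2 (b1, b2, b3)
    simp only [f, Prod.mk.injEq] at hS
    exact ⟨S, S.2, by rw [← hS.1]; simp, by rw [← hS.2.1]; simp, by rw [← hS.2.2]; simp⟩
  obtain ⟨R1, r1, x11, x12, x13⟩ := hsurj false true true
  obtain ⟨R2, r2, x21, x22, x23⟩ := hsurj true false true
  obtain ⟨R3, r3, x31, x32, x33⟩ := hsurj true true false
  simp only [Bool.false_eq_true, iff_false, iff_true] at x11 x12 x13 x21 x22 x23 x31 x32 x33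
  have y1 := (s1 _ r1).resolve_left x11
  have y2 := (s2 _ r2).resolve_left x22
  have y3 := (s3 _ r3).resolve_left x33
  have o1 : a1 ≠ 1 := fun e => x11 (by rw [e, map_one])
  have o2 : a2 ≠ 1 := fun e => x22 (by rw [e, map_one])
  have o3 : a3 ≠ 1 := fun e => x33 (by rw [e, map_one])
  have t11 := (f1 a1).2 (mem_zpowers _)
  have t22 := (f2 a2).2 (mem_zpowers _)
  have t33 := (f3 a3).2 (mem_zpowers _)
  have t12 := (s2 _ (hJI h1J)).resolve_left fun e => x22 (fix_zp x21 ((f1 _).1 e))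
  have t13 := (s3 _ (hJI h1J)).resolve_left fun e => x33 (fix_zp x31 ((f1 _).1 e))
  have t21 := (s1 _ (hJI h2J)).resolve_left fun e => x11 (fix_zp x12 ((f2 _).1 e))
  have t23 := (s3 _ (hJI h2J)).resolve_left fun e => x33 (fix_zp x32 ((f2 _).1 e))
  have t31 := (s1 _ (hJI h3J)).resolve_left fun e => x11 (fix_zp x13 ((f3 _).1 e))
  have t32 := (s2 _ (hJI h3J)).resolve_left fun e => x22 (fix_zp x23 ((f3 _).1 e))
  have hw : R1 * R2 * R3 ∈ I := mul_mem (mul_mem r1 r2) r3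
  set w := R1 * R2 * R3 with hwd
  have w1 : w a1 = a1⁻¹ := by simp [hwd, x31, x21, y1]
  have w2 : w a2 = a2⁻¹ := by simp [hwd, x32, x12, y2]
  have w3 : w a3 = a3⁻¹ := by simp [hwd, x23, x13, y3]
  have hfpf : ∀ x, w x = x → x = 1 := fun x hx => by
    have k : ∀ {a}, w a = a⁻¹ → ∀ y ∈ (w : P →* P).eqLocus (MonoidHom.id P), y ∈ zpowers a → y ∈ (⊥ : Subgroup P) :=
      fun h y hy hy' => sq1 hp hp2 hP ((show w y = y from hy).symm.trans (inv_zp h hy'))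
    exact hG (K := (w : P →* P).eqLocus (MonoidHom.id P)) (fun T hT y hy => by
      change w (T y) = T y
      rw [hc' w hw T (hJI hT), show w y = y from hy]) (k w1) (k w2) (k w3) hx
  have hab : ∀ x y : P, x * y = y * x := fun x y =>
    (MonoidHom.FixedPointFree.commute_all_of_involutive (φ := w) hfpf (fun x => by
      rw [← MulAut.mul_apply, ← pow_two, hI.2 w hw, MulAut.one_apply]) x y).eq
  have broad : ∀ {R S : MulAut P} {a b : P}, R ∈ I → S ∈ I → R a = a → R b = b → S a = a → S b = b⁻¹ → a ≠ 1 → b ≠ 1 →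
      ¬ NB R := by
    rintro R S a b hR hS k1 k2 k3 k4 k5 k6 ⟨g, hg⟩
    rcases hpm hR hg S hS with e | e
    · exact k6 (sq1 hp hp2 hP ((fix_zp e ((hg b).1 k2)).symm.trans k4))
    · exact k5 (sq1 hp hp2 hP (k3.symm.trans (inv_zp e ((hg a).1 k1))))
  have b1 : ¬ NB R1 := broad r1 (hJI h2J) x12 x13 t22 t23 o2 o3
  have b2 : ¬ NB R2 := broad r2 (hJI h1J) x21 x23 t11 t13 o1 o3
  have b3 : ¬ NB R3 := broad r3 (hJI h1J) x31 x32 t11 t12 o1 o2
  have m1 : R1 ≠ 1 := fun e => x11 (by rw [e]; rfl)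
  have m2 : R2 ≠ 1 := fun e => x22 (by rw [e]; rfl)
  have m3 : R3 ≠ 1 := fun e => x33 (by rw [e]; rfl)
  have e1 : T1 = R2 * R3 := hext _ _ (by simp [t11, x31, x21]) (by simp [t12, x32, y2]) (by simp [t13, y3, x23])
  have e2 : T2 = R1 * R3 := hext _ _ (by simp [t21, x31, y1]) (by simp [t22, x32, x12]) (by simp [t23, y3, x13])
  have e3 : T3 = R1 * R2 := hext _ _ (by rw [t31]; simp [x21, y1]) (by rw [t32]; simp [y2, x12])
    (by rw [t33]; simp [x23, x13])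
  have hall : ∀ S ∈ I, S = 1 ∨ S = R1 ∨ S = R2 ∨ S = R3 ∨ S = T1 ∨ S = T2 ∨ S = T3 ∨ S = w := fun S hS => by
    rcases s1 S hS with k1 | k1 <;> rcases s2 S hS with k2 | k2 <;> rcases s3 S hS with k3 | k3
    · exact Or.inl (hext _ _ k1 k2 k3)
    · exact Or.inr (Or.inr (Or.inr (Or.inl (hext _ _ (by rw [k1, x31]) (by rw [k2, x32]) (by rw [k3, y3])))))
    · exact Or.inr (Or.inr (Or.inl (hext _ _ (by rw [k1, x21]) (by rw [k2, y2]) (by rw [k3, x23]))))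
    · exact Or.inr (Or.inr (Or.inr (Or.inr (Or.inl (hext _ _ (by rw [k1, t11]) (by rw [k2, t12]) (by rw [k3, t13]))))))
    · exact Or.inr (Or.inl (hext _ _ (by rw [k1, y1]) (by rw [k2, x12]) (by rw [k3, x13])))
    · exact Or.inr (Or.inr (Or.inr (Or.inr (Or.inr (Or.inl
        (hext _ _ (by rw [k1, t21]) (by rw [k2, t22]) (by rw [k3, t23])))))))
    · exact Or.inr (Or.inr (Or.inr (Or.inr (Or.inr (Or.inr (Or.inl
        (hext _ _ (by rw [k1, t31]) (by rw [k2, t32]) (by rw [k3, t33]))))))))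
    · exact Or.inr (Or.inr (Or.inr (Or.inr (Or.inr (Or.inr (Or.inr
        (hext _ _ (by rw [k1, w1]) (by rw [k2, w2]) (by rw [k3, w3]))))))))
  have hbr : ∀ S, (S ∈ I ∧ S ≠ 1 ∧ ¬ NB S) ↔ (S = R1 ∨ S = R2 ∨ S = R3) := fun S => by
    refine ⟨fun ⟨k1, k2, k3⟩ => ?_, ?_⟩
    · rcases hall S k1 with h | h | h | h | h | h | h | h
      · exact absurd h k2
      · exact Or.inl h
      · exact Or.inr (Or.inl h)
      · exact Or.inr (Or.inr h)
      · exact absurd ⟨a1, h ▸ f1⟩ k3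
      · exact absurd ⟨a2, h ▸ f2⟩ k3
      · exact absurd ⟨a3, h ▸ f3⟩ k3
      · exact absurd ⟨1, fun x => ⟨fun e => by simpa using hfpf x (h ▸ e), fun e => by
          rw [zpowers_one_eq_bot, mem_bot] at e; rw [e, map_one]⟩⟩ k3
    · rintro (rfl | rfl | rfl)
      exacts [⟨r1, m1, b1⟩, ⟨r2, m2, b2⟩, ⟨r3, m3, b3⟩]
  refine ⟨⟨⟨hab⟩⟩, ⟨a1, a2, a3, htop⟩, ?_, ?_, le_antisymm ((closure_le _).2 fun S hS => hS.1) fun S hS => ?_,
    Set.ext fun S => ⟨fun hS => ?_, ?_⟩⟩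
  · rintro ⟨a, b, hab'⟩
    have hm : IsMetacyclic P := BG4.metacyclic_top.1 (BG4.metacyclic_of_gen (a := a) (b := b)
      (fun g _ => mem_normalizer_iff.2 fun x => by rw [hab g x, mul_inv_cancel_right])
      (by rw [← hab', zpowers_eq_closure, zpowers_eq_closure, ← Subgroup.closure_union]; rfl))
    letI : CommGroup P := { (inferInstance : Group P) with mul_comm := hab }
    have h1 := ABG.pRankLE_of_meta hp.pos hm (powMonoidHom p : P →* P).ker inferInstance fun x hx => hx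
    have k : ∀ {a : P}, a ≠ 1 → ∃ c ∈ zpowers a, orderOf c = p := fun {a} ha => by
      obtain ⟨c, hc1, hc2⟩ := exists_prime_order_pow ha
      obtain ⟨m, hm⟩ := IsPGroup.iff_orderOf.1 hP c
      exact ⟨c, hc1, (Nat.prime_dvd_prime_iff_eq hc2 hp).1 (hc2.dvd_of_dvd_pow (show orderOf c ∣ p ^ m by rw [← hm]))⟩
    obtain ⟨c1, z1, u1⟩ := k o1
    obtain ⟨c2, z2, u2⟩ := k o2
    obtain ⟨c3, z3, u3⟩ := k o3
    have v : ∀ {c : P}, orderOf c = p → ∀ x : zpowers c, (x : P) ^ p = 1 := fun {c} hc x => by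
      rw [← hc, ← Nat.card_zpowers]; exact congrArg Subtype.val (pow_card_eq_one' (x := x))
    let f : zpowers c1 × zpowers c2 × zpowers c3 → (powMonoidHom p : P →* P).ker := fun x =>
      ⟨x.1 * x.2.1 * x.2.2, by
        rw [MonoidHom.mem_ker, powMonoidHom_apply]
        rw [mul_pow, mul_pow, v u1, v u2, v u3, one_mul, one_mul]⟩
    have hsq : ∀ x y : P, x * x = y * y → x = y := fun x y e => by
      rw [← mul_inv_eq_one]
      refine sq1 hp hp2 hP (eq_inv_of_mul_eq_one_left ?_)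
      rw [mul_mul_mul_comm, e, ← mul_inv, mul_inv_cancel]
    have hf : Function.Injective f := by
      rintro ⟨x1, x2, x3⟩ ⟨y1, y2, y3⟩ e
      have e' : (x1 : P) * x2 * x3 = y1 * y2 * y3 := congrArg Subtype.val e
      have q1 := congrArg T1 e'
      have q2 := congrArg T2 e'
      simp only [map_mul] at q1 q2
      rw [fix_zp t11 (zpowers_le.2 z1 x1.2), fix_zp t11 (zpowers_le.2 z1 y1.2), inv_zp t12 (zpowers_le.2 z2 x2.2),
        inv_zp t12 (zpowers_le.2 z2 y2.2), inv_zp t13 (zpowers_le.2 z3 x3.2), inv_zp t13 (zpowers_le.2 z3 y3.2)] at q1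
      rw [inv_zp t21 (zpowers_le.2 z1 x1.2), inv_zp t21 (zpowers_le.2 z1 y1.2), fix_zp t22 (zpowers_le.2 z2 x2.2),
        fix_zp t22 (zpowers_le.2 z2 y2.2), inv_zp t23 (zpowers_le.2 z3 x3.2), inv_zp t23 (zpowers_le.2 z3 y3.2)] at q2
      have g1 : ∀ a b c : P, a * a = (a * b * c) * (a * b⁻¹ * c⁻¹) := fun a b c => by
        rw [mul_mul_mul_comm, mul_mul_mul_comm a b]; simp
      have g2 : ∀ a b c : P, b * b = (a * b * c) * (a⁻¹ * b * c⁻¹) := fun a b c => by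
        rw [mul_mul_mul_comm, mul_mul_mul_comm a b]; simp
      have p1 : (x1 : P) = y1 := hsq _ _ (by rw [g1 _ x2 x3, g1 _ y2 y3, e', q1])
      have p2 : (x2 : P) = y2 := hsq _ _ (by rw [g2 x1 _ x3, g2 y1 _ y3, e', q2])
      rw [p1, p2, mul_right_inj] at e'
      exact Prod.ext (Subtype.ext p1) (Prod.ext (Subtype.ext p2) (Subtype.ext e'))
    have h2 := (Nat.card_le_card_of_injective f hf).trans h1
    simp only [Nat.card_prod, Nat.card_zpowers, u1, u2, u3] at h2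
    have := hp.two_le
    nlinarith [Nat.mul_le_mul this (le_refl (p * p))]
  · have : Nat.card {T : MulAut P // T ∈ I ∧ T ≠ 1 ∧ ¬ NB T} = ({R1, R2, R3} : Set (MulAut P)).ncard :=
      Nat.card_congr (Equiv.subtypeEquivRight hbr)
    refine this.trans (Set.ncard_eq_three.2 ⟨R1, R2, R3, ?_, ?_, ?_, rfl⟩)
    · exact fun e => x11 (e ▸ x21)
    · exact fun e => x11 (e ▸ x31)
    · exact fun e => x22 (e ▸ x32)
  · have k1 : R1 ∈ closure {T : MulAut P | T ∈ I ∧ T ≠ 1 ∧ ¬ NB T} := subset_closure ⟨r1, m1, b1⟩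
    have k2 : R2 ∈ closure {T : MulAut P | T ∈ I ∧ T ≠ 1 ∧ ¬ NB T} := subset_closure ⟨r2, m2, b2⟩
    have k3 : R3 ∈ closure {T : MulAut P | T ∈ I ∧ T ≠ 1 ∧ ¬ NB T} := subset_closure ⟨r3, m3, b3⟩
    rcases hall S hS with h | h | h | h | h | h | h | h <;> rw [h]
    exacts [one_mem _, k1, k2, k3, e1 ▸ mul_mem k2 k3, e2 ▸ mul_mem k1 k3, e3 ▸ mul_mem k1 k2,
      mul_mem (mul_mem k1 k2) k3]
  · rcases (hmem S).1 (hJ0 hS) with h | h | h | h
    · exact ⟨R1, R1, r1, r1, m1, m1, b1, b1, by rw [h, ← pow_two, hI.2 _ r1]⟩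
    · exact ⟨R2, R3, r2, r3, m2, m3, b2, b3, h.trans e1⟩
    · exact ⟨R1, R3, r1, r3, m1, m3, b1, b3, h.trans e2⟩
    · exact ⟨R1, R2, r1, r2, m1, m2, b1, b2, h.trans e3⟩
  · rintro ⟨T, T', k1, k2, k3, k4, k5, k6, rfl⟩
    exact hprod T k1 T' k2 k3 k4 k5 k6

end Cfsg.Agent.S4412
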