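import Cfsg.Statements.S4415
import Cfsg.Agent.Jb3.F

set_option autoImplicit false
open Cfsg

namespace Cfsg.Agent.S4415

open Subgroup Jb3 in
theorem aux {E : Type*} [AddCommGroup E] [Module (ZMod 3) E] [Finite E] (f : E →ₗ[ZMod 3] E)
    (E₀ : Submodule (ZMod 3) E) (hE0 : Nat.card ↥E₀ = 27) {w : E} (hw : w ∈ E₀) (w0 : w ≠ 0) (h : f w = 0) :
    Module.finrank (ZMod 3) (E₀.map f) ≤ 2 := by
  have h1 : Module.finrank (ZMod 3) E₀ = 3 := by
    have := Module.natCard_eq_pow_finrank (K := ZMod 3) (V := E₀)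
    rw [hE0, Nat.card_zmod] at this
    exact (Nat.pow_right_injective (by norm_num : 2 ≤ 3) (this.symm.trans (by norm_num : 27 = 3 ^ 3)))
  have h2 := (f.domRestrict E₀).finrank_range_add_finrank_ker
  rw [LinearMap.range_domRestrict, h1] at h2
  have h3 : Module.finrank (ZMod 3) (LinearMap.ker (f.domRestrict E₀)) ≠ 0 := fun e => by
    have := Submodule.finrank_eq_zero.1 e
    have h4 : (⟨w, hw⟩ : E₀) ∈ LinearMap.ker (f.domRestrict E₀) := h
    rw [this, Submodule.mem_bot] at h4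
    exact w0 (congrArg Subtype.val h4)
  omega

/-- Let S be a finite solvable group acting faithfully on a finite-dimensional space E over the field with three elements, with O₃(S) = 1. Let B ≤ S have order 3 and suppose: E = E₀ ⊕ E₁ with B fixing E₁ pointwise, E₀ B-invariant of order 27 and indecomposable under B (a generator of B has a single Jordan block on E₀); B normalizes but does not centralize some subgroup Q of S that is elementary abelian of order 4; and B is the centre of a Sylow 3-subgroup of S. Put R = [O_{3'}(S), B]. Then R is elementary abelian of order 4 or extraspecial of order 32 containing an elementary abelian subgroup of order 8 (a central product of two quaternion groups), and E is the direct sum of a subspace fixed pointwise by R and an RB-invariant subspace on which the subgroup RB acts faithfully and irreducibly. -/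
theorem result {S : Type*} [Group S] [Finite S]
    [Group.IsSolvable S] {E : Type*} [AddCommGroup E] [Module (ZMod 3) E] [Finite E] (ρ : Representation (ZMod 3) S E)
    (hfaith : Function.Injective ρ) (hO3 : Cfsg.pCore 3 S = ⊥)
    (B : Subgroup S) (hB : Nat.card ↥B = 3) (b : S) (hb : Subgroup.zpowers b = B)
    (E₀ E₁ : Submodule (ZMod 3) E) (hE01 : E₀ ⊓ E₁ = ⊥) (hE01' : E₀ ⊔ E₁ = ⊤)
    (hE1 : ∀ v ∈ E₁, ρ b v = v) (hE0inv : ∀ v ∈ E₀, ρ b v ∈ E₀) (hE0 : Nat.card ↥E₀ = 27)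
    (hind : ∃ v ∈ E₀, ρ b (ρ b v - v) - (ρ b v - v) ≠ 0)
    (Q : Subgroup S) (hQ : Cfsg.IsElementaryAbelian 2 Q) (hQ4 : Nat.card ↥Q = 4)
    (hBQ : B ≤ Subgroup.normalizer (Q : Set S)) (hBQ' : ¬ B ≤ Subgroup.centralizer (Q : Set S))
    (P : Sylow 3 S) (hBZ : (Subgroup.center ↥(P : Subgroup S)).map (P : Subgroup S).subtype = B) :
    ((Cfsg.IsElementaryAbelian 2 ⁅Cfsg.pPrimeCore 3 S, B⁆ ∧ Nat.card ↥⁅Cfsg.pPrimeCore 3 S, B⁆ = 4) ∨
      (Cfsg.IsExtraspecial 2 ↥⁅Cfsg.pPrimeCore 3 S, B⁆ ∧ Nat.card ↥⁅Cfsg.pPrimeCore 3 S, B⁆ = 32 ∧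
        ∃ A : Subgroup S, A ≤ ⁅Cfsg.pPrimeCore 3 S, B⁆ ∧ Cfsg.IsElementaryAbelian 2 A ∧ Nat.card ↥A = 8)) ∧
    ∃ F₀ F₁ : Submodule (ZMod 3) E, F₀ ⊓ F₁ = ⊥ ∧ F₀ ⊔ F₁ = ⊤ ∧
      (∀ r ∈ ⁅Cfsg.pPrimeCore 3 S, B⁆, ∀ v ∈ F₁, ρ r v = v) ∧ (∀ r ∈ ⁅Cfsg.pPrimeCore 3 S, B⁆ ⊔ B, ∀ v ∈ F₀, ρ r v ∈ F₀) ∧
      (∀ r ∈ ⁅Cfsg.pPrimeCore 3 S, B⁆ ⊔ B, (∀ v ∈ F₀, ρ r v = v) → r = 1) ∧
      (∀ N : Submodule (ZMod 3) E, N ≤ F₀ → (∀ r ∈ ⁅Cfsg.pPrimeCore 3 S, B⁆ ⊔ B, ∀ v ∈ N, ρ r v ∈ N) → N = ⊥ ∨ N = F₀) := by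
  subst hb
  have ho : orderOf b = 3 := by rwa [Nat.card_zpowers] at hB
  have b3 : ∀ v, ρ b (ρ b (ρ b v)) = v := fun v => by
    rw [← Jb3.rmul, ← Jb3.rmul, ← pow_two, ← pow_succ, show b ^ (2 + 1) = 1 from orderOf_dvd_iff_pow_eq_one.1 ho.dvd, Jb3.rone]
  obtain ⟨v, hv, hv0⟩ := hind
  have m : ∀ v ∈ E₀, ρ b v - v ∈ E₀ := fun v hv => sub_mem (hE0inv v hv) hv
  have hD := aux (ρ b - LinearMap.id) E₀ hE0 (m _ (m v hv)) hv0 (by
    simp only [LinearMap.sub_apply, LinearMap.id_apply, map_sub, b3]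
    linear_combination (norm := abel) Jb3.three (ρ b v) - Jb3.three (ρ b (ρ b v)))
  have hb : b ∈ Jb3.Mv ρ (E₀.map (ρ b - LinearMap.id)) := fun v => by
    obtain ⟨a, ha, c, hc, rfl⟩ := Submodule.mem_sup.1 (hE01'.ge (Submodule.mem_top (x := v)))
    exact ⟨a, ha, by simp [hE1 c hc]⟩
  obtain ⟨q, hq⟩ := Jb3.exists_fg ho hQ hQ4 hBQ hBQ'
  obtain ⟨e, h⟩ := Jb3.exists_WD hq hfaith b3 hD hb
  have qN : q ∈ Cfsg.pPrimeCore 3 S := Jb3.mem_core hq P fun x hx => by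
    obtain ⟨y, hy, rfl⟩ := hBZ.ge (Subgroup.mem_zpowers b)
    exact congrArg Subtype.val (Subgroup.mem_center_iff.1 hy ⟨x, hx⟩)
  have hn := Subgroup.normalizer_commutator_ge_right (Cfsg.pPrimeCore 3 S) (Subgroup.zpowers b)
  have hR := (Solv.commutator_commutator_eq (K := Cfsg.pPrimeCore 3 S) (A := Subgroup.zpowers b)
    Subgroup.le_normalizer_of_normal (hB ▸ (Solv.coprime_card_pPrimeCore 3 S).symm)).ge
  have h3 : (Nat.card ↥⁅Cfsg.pPrimeCore 3 S, Subgroup.zpowers b⁆).Coprime 3 :=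
    (Solv.coprime_card_pPrimeCore 3 S).coprime_dvd_left
      (Subgroup.card_dvd_of_le (Subgroup.commutator_le_left _ _))
  have qR : q ∈ ⁅Cfsg.pPrimeCore 3 S, Subgroup.zpowers b⁆ := by
    have := Subgroup.commutator_mem_commutator
      ((inferInstance : (Cfsg.pPrimeCore 3 S).Normal).conj_mem q qN b) (Subgroup.mem_zpowers b)
    have e := hq.aa
    simp only [MulAut.conj_apply] at e
    rw [← inv_mem_iff, commutatorElement_inv, commutatorElement_def, e, mul_inv_cancel_right] at this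
    exact this
  generalize ⁅Cfsg.pPrimeCore 3 S, Subgroup.zpowers b⁆ = R at *
  have bR : ∀ r ∈ R, b * r * b⁻¹ ∈ R := fun r hr =>
    (Subgroup.mem_normalizer_iff.1 (hn (Subgroup.mem_zpowers b)) r).1 hr
  have inv : ∀ r ∈ R ⊔ Subgroup.zpowers b, ∀ v ∈ Jb3.F0 ρ R, ρ r v ∈ Jb3.F0 ρ R := fun r hr =>
    Jb3.F0_inv fun s hs => (Subgroup.mem_normalizer_iff.1 (sup_le Subgroup.le_normalizer hn hr) s).1 hs
  refine ⟨Jb3.struct_R h hfaith ho hD hb hR h3 qR (bR q qR) hn, Jb3.F0 ρ R, Jb3.F1 ρ R,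
    (Jb3.F01 h3).1, (Jb3.F01 h3).2, fun r hr v hv => hv r hr, inv, fun r hr h0 => ?_, fun N hN hi => ?_⟩
  · have : R ⊔ Subgroup.zpowers b ≤ Jb3.Fx ρ (Jb3.F1 ρ R) := sup_le (fun r hr v hv => hv r hr)
      (Subgroup.zpowers_le.2 fun v hv => h.fix v ⟨hv _ qR, hv _ (bR q qR)⟩)
    exact Jb3.eq_one_of_F hfaith h3 (fun v hv => by rw [h0 v hv, Jb3.rone])
      fun v hv => by rw [this hr v hv, Jb3.rone]
  · exact h.irr hR h3 qR (bR q qR) hN (hi b (Subgroup.mem_sup_right (Subgroup.mem_zpowers b)))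
      fun r hr => hi r (Subgroup.mem_sup_left hr)

end Cfsg.Agent.S4415
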