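import Cfsg.Statements.S4417
import Cfsg.Agent.Pool10.DLRep

set_option autoImplicit false
open Cfsg

namespace Cfsg.Agent.S4417


/-- Let F be a field with q elements, p a prime not dividing q, and e the multiplicative order of q modulo p; assume e ≤ n. Then every p-subgroup of GL_n(F) has derived length at most ⌊log₂(n/e)⌋ + 1: that term of its derived series is trivial (n/e is the integer quotient). -/
theorem result {F : Type*} [Field F] [Fintype F] (q : ℕ) (hF : Fintype.card F = q) (p : ℕ) [Fact p.Prime] (hpq : ¬ p ∣ q) (n e : ℕ) (he : e = orderOf (q : ZMod p)) (hen : e ≤ n) (P : Subgroup (GL (Fin n) F)) (hP : IsPGroup p P) : derivedSeries ↥P (Nat.log 2 (n / e) + 1) = ⊥ := by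
  subst hF
  have hp : p.Prime := Fact.out
  have h0 : ((Fintype.card F : ℕ) : ZMod p) ≠ 0 := by rwa [ne_eq, ZMod.natCast_eq_zero_iff]
  have he0 : 0 < e := he ▸ Nat.pos_of_dvd_of_pos (ZMod.orderOf_dvd_card_sub_one h0) (by have := hp.one_lt; omega)
  have h1 := Nat.lt_pow_succ_log_self one_lt_two (n / e)
  by_cases h2 : p = 2
  · subst h2
    have : e = 1 := Nat.dvd_one.1 (he ▸ ZMod.orderOf_dvd_card_sub_one h0)
    subst this
    exact Pool10.ds_GL_two hP (by simpa using h1) P.subtype P.subtype_injective
  · refine Pool10.ds_GL_odd h2 hpq hP ?_ P.subtype P.subtype_injective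
    rw [← he, mul_comm, ← Nat.div_lt_iff_lt_mul he0]
    exact h1.trans_le (Nat.pow_le_pow_left hp.two_le _)

end Cfsg.Agent.S4417
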