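import Cfsg.Statements.S4419
import Cfsg.Agent.BG4.Meta
import Cfsg.Agent.BG.Base6
import Cfsg.Agent.Transfer.Frobenius
import Cfsg.Agent.Transfer.Abelian

set_option autoImplicit false
open Cfsg

namespace Cfsg.Agent.S4419

open Subgroup Cfsg.Agent.BG Cfsg.Agent.Transfer

theorem dvd_of_act {G : Type*} [Group G] [Finite G] {p q : ℕ} [hp : Fact p.Prime] [hq : Fact q.Prime]
    {Q A : Subgroup G} (hQ : IsPGroup p Q) (hm : IsMetacyclic Q) (hA : IsPGroup q A) (hne : q ≠ p)
    (hn : A ≤ N[Q]) (hc : ¬ A ≤ C[Q]) : q ∣ p ^ 2 - 1 := by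
  have hnP := norms_Phi hn
  have hE := Phi_quotient_abelem hQ
  obtain ⟨a, b, hab, h⟩ := BG4.metacyclic_gen (BG4.metacyclic_mim (qmk (Phi Q)) hm)
  change _ = Q /ᵍ Phi Q at h
  have h1 : ∀ x, zpowers x ≤ Q /ᵍ Phi Q → #(zpowers x) ∣ p := fun x hx =>
    cyclic_abelem_card_dvd (abelemS hx hE) inferInstance
  have h2 : #(Q /ᵍ Phi Q) ∣ p ^ 2 := by
    rw [← h, sq]
    exact (card_sup_dvd (Or.inr ((le_sup_right.trans h.le).trans hab))).trans
      (mul_dvd_mul (h1 a (le_sup_left.trans h.le)) (h1 b (le_sup_right.trans h.le)))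
  have h3 := card_modEq_card_inf_centralizer (hA.quo (Phi Q)) (quotient_norms _ hn)
  have h4 : Q /ᵍ Phi Q ⊓ C[A /ᵍ Phi Q] < Q /ᵍ Phi Q := inf_lt_left.2 fun h4 => hc
    (coprime_cent_Phi hn (pnat_coprime hQ.pi (p'group_of_ne hA hne))
      ((quotient_cents2 (Phi_normal Q).norm hnP).1 h4))
  have h5 := proper_card h4
  obtain ⟨i, hi, e1⟩ := (Nat.dvd_prime_pow hp.out).1 h2
  obtain ⟨j, -, e2⟩ := (Nat.dvd_prime_pow hp.out).1 ((cardSg h4.le).trans h2)
  rw [e1, e2] at h3 h5
  have h6 := (Nat.pow_lt_pow_iff_right hp.out.one_lt).1 h5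
  have h7 : 1 ≡ p ^ (i - j) [MOD q] := Nat.ModEq.cancel_left_of_coprime (c := p ^ j)
    (((Nat.coprime_primes hq.out hp.out).2 hne).pow_right _)
    (by rw [← pow_add, Nat.add_sub_cancel' h6.le, mul_one]; exact h3.symm)
  refine (Nat.modEq_iff_dvd' (Nat.one_le_pow _ _ hp.out.pos)).1 ?_
  rcases (by omega : i - j = 1 ∨ i - j = 2) with h | h <;> rw [h] at h7
  · simpa using h7.pow 2
  · exact h7

/-- Let p be a prime and G a finite group whose Sylow p-subgroups are metacyclic (a cyclic normal subgroup with cyclic quotient). Then G has a normal p-complement if and only if the order of G/O_{p′,p}(G) is coprime to p² − 1. -/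
theorem result {G : Type*} [Group G] [Finite G] (p : ℕ) [Fact p.Prime] (S : Sylow p G) (hS : Cfsg.IsMetacyclic ↥(S : Subgroup G)) : Cfsg.HasNormalPComplement p G ↔ Nat.Coprime (Nat.card (G ⧸ Cfsg.pPrimePCore p G)) (p ^ 2 - 1) := by
  have hi : Nat.card (G ⧸ pPrimePCore p G) = (pCore p (G ⧸ pPrimeCore p G)).index :=
    index_comap_of_surjective _ (QuotientGroup.mk'_surjective _)
  rw [hi]
  refine ⟨fun h => ?_, fun h => by_contra fun hn => ?_⟩
  · have h1 : IsPGroup p (G ⧸ pPrimeCore p G) := by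
      obtain ⟨N, _, h1, h2⟩ := hasNormalPComplement_iff_exists.1 h
      have h3 : N ≤ pPrimeCore p G := by
        rw [← Op'_top]; exact pcore_max (normal_top N) ((p'nat_coprime Fact.out).2 h1)
      exact h2.of_surjective (QuotientGroup.map _ _ (MonoidHom.id G) h3)
        (QuotientGroup.map_surjective_of_surjective _ _ _ QuotientGroup.mk_surjective _)
    rw [← Op_top, Op, pcore_pgroup_id (h1.to_subgroup ⊤).pi, index_top]
    exact Nat.coprime_one_left _
  obtain ⟨Q, q, k, g, hQ, hq, hne, hg, h1, h2⟩ := exists_prime_pow_not_centralizer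
    (S.mapSurjective (QuotientGroup.mk'_surjective (pPrimeCore p G)))
    fun h => hn (hasNormalPComplement_of_quotient_coprime _ coprime_card_pPrimeCore h)
  have := Fact.mk hq
  have hA : IsPGroup q (zpowers g) := by
    obtain ⟨j, -, hj⟩ := (Nat.dvd_prime_pow hq).1 (orderOf_dvd_of_pow_eq_one hg)
    exact pgroup_of_card ((Nat.card_zpowers g).trans hj)
  have h3 := dvd_of_act (IsPGroup.sub (Sylow.isPGroup' _) hQ)
    (BG4.metacyclic_sub hQ (BG4.metacyclic_map _ hS)) hA hne (zpowers_le.2 h1) (mt zpowers_le.1 h2)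
  have h4 : q ∣ Nat.card (G ⧸ pPrimeCore p G) := (pgroup_pdiv hA (by
    rintro h; exact h2 (zpowers_eq_bot.1 h ▸ one_mem _))).trans (card_subgroup_dvd_card _)
  rw [← index_mul_card (pCore p _), hq.dvd_mul] at h4
  rcases h4 with h4 | h4
  · exact hq.one_lt.ne' (Nat.eq_one_of_dvd_coprimes h h4 h3)
  · rw [← Op_top] at h4
    exact hne (pcore_pgroup _ _ q hq h4)

end Cfsg.Agent.S4419
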