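import Cfsg.Statements.S4501
import Cfsg.Agent.Hz.E
import Cfsg.Agent.S0998
import Cfsg.Agent.AB.SolC
-- import your own Cfsg.Agent.* helpers here

set_option autoImplicit false
open Cfsg

namespace Cfsg.Agent.S4501

open Cfsg.Agent.Char Cfsg.Agent.Small Cfsg.Agent.Hz3 Subgroup

theorem no3 {p q a b x y z : ℕ} (hp : p.Prime) (hq : q.Prime) (h : x * y * z = p ^ a * q ^ b)
    (hx : x ≠ 1) (hy : y ≠ 1) (hz : z ≠ 1) {c d e : ℕ} (h1 : x = c * y + 1 ∨ x + 1 = c * y)
    (h2 : x = d * z + 1 ∨ x + 1 = d * z) (h3 : y = e * z + 1 ∨ y + 1 = e * z) : False := by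
  have e1 : ∀ t x y c : ℕ, t.Prime → t ∣ x → t ∣ y → (x = c * y + 1 ∨ x + 1 = c * y) → False := by
    rintro t x y c ht hx hy (h | h)
    · exact ht.ne_one (Nat.dvd_one.1 ((Nat.dvd_add_right (hy.mul_left c)).1 (h ▸ hx)))
    · exact ht.ne_one (Nat.dvd_one.1 ((Nat.dvd_add_right hx).1 (h ▸ hy.mul_left c)))
  have e2 : ∀ t : ℕ, t.Prime → t ∣ x * y * z → t = p ∨ t = q := fun t ht h' =>
    ((Nat.Prime.dvd_mul ht).1 (h ▸ h')).imp
      (fun e => (Nat.prime_dvd_prime_iff_eq ht hp).1 (ht.dvd_of_dvd_pow e))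
      fun e => (Nat.prime_dvd_prime_iff_eq ht hq).1 (ht.dvd_of_dvd_pow e)
  obtain ⟨r, hr, rx⟩ := Nat.exists_prime_and_dvd hx
  obtain ⟨s, hs, sy⟩ := Nat.exists_prime_and_dvd hy
  obtain ⟨t, ht, tz⟩ := Nat.exists_prime_and_dvd hz
  have n1 : r ≠ s := fun e => e1 r _ _ _ hr rx (e ▸ sy) h1
  have n2 : r ≠ t := fun e => e1 r _ _ _ hr rx (e ▸ tz) h2
  have n3 : s ≠ t := fun e => e1 s _ _ _ hs sy (e ▸ tz) h3
  have := e2 r hr ((rx.mul_right _).mul_right _)
  have := e2 s hs ((sy.mul_left _).mul_right _)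
  have := e2 t ht (tz.mul_left _)
  omega

theorem four {G : Type*} [Group G] [Finite G] [IsSimpleGroup G] (hG : ¬ IsCyclic G) {p q a b : ℕ}
    (hp : p.Prime) (hq : q.Prime) (h : Nat.card G = 4 * p ^ a * q ^ b) :
    Nonempty (G ≃* alternatingGroup (Fin 5)) := by
  have ns := not_solvable hG
  have p2 : p ≠ 2 := by
    rintro rfl
    exact ns (isSolvable_of_card_eq_prime_pow_mul (a := a + 2) (b := b) hp hq (by rw [h]; ring))
  have q2 : q ≠ 2 := by
    rintro rfl
    exact ns (isSolvable_of_card_eq_prime_pow_mul (a := a) (b := b + 2) hp hq (by rw [h]; ring))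
  have ho : Odd (p ^ a * q ^ b) := (hp.odd_of_ne_two p2).pow.mul (hq.odd_of_ne_two q2).pow
  rw [mul_assoc] at h
  obtain ⟨T⟩ : Nonempty (Sylow 2 G) := inferInstance
  obtain ⟨F, _, _, h1, h2, ⟨e⟩⟩ := AB.psl_of_klein T (S0992.result
    (fun e => ns (Group.isSolvable_of_comm e.is_comm.comm)) (even_iff_two_dvd.2 (even_card hG))
    (by obtain ⟨k, hk⟩ := ho; omega) T).1
  have h5 := Classical.card_PSL2_mul (F := F)
  rw [Nat.card_eq_fintype_card (α := F), ← Nat.card_congr e.toEquiv, Nat.gcd_eq_left (by omega), h] at h5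
  refine S0494.result ?_
  rcases h1 with h1 | h1
  · obtain ⟨k, hk⟩ : ∃ k, Fintype.card F = 8 * k + 3 := ⟨_, by rw [← h1]; exact (Nat.div_add_mod _ 8).symm⟩
    rw [hk, show 8 * k + 3 - 1 = 8 * k + 2 by omega] at h5
    exact (no3 (x := 8 * k + 3) (y := 4 * k + 1) (z := 2 * k + 1) (c := 2) (d := 4) (e := 2) (a := a)
      (b := b) hp hq (by linarith) (by omega) (by omega) (by omega) (by omega) (by omega) (by omega)).elim
  · obtain ⟨k, hk⟩ : ∃ k, Fintype.card F = 8 * k + 5 := ⟨_, by rw [← h1]; exact (Nat.div_add_mod _ 8).symm⟩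
    rw [hk, show 8 * k + 5 - 1 = 8 * k + 4 by omega] at h5
    rcases Nat.eq_zero_or_pos k with rfl | k0
    · omega
    exact (no3 (x := 8 * k + 5) (y := 4 * k + 3) (z := 2 * k + 1) (c := 2) (d := 4) (e := 2) (a := a)
      (b := b) hp hq (by linarith) (by omega) (by omega) (by omega) (by omega) (by omega) (by omega)).elim

theorem three {G : Type*} [Group G] [Finite G] [IsSimpleGroup G] (hG : ¬ IsCyclic G) {q a b : ℕ}
    (hq : q.Prime) (h2 : q ≠ 2) (h3 : q ≠ 3) (h : Nat.card G = 3 ^ 1 * 2 ^ a * q ^ b) : b = 1 := by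
  obtain ⟨P⟩ : Nonempty (Sylow 3 G) := inferInstance
  obtain ⟨M, _⟩ := exists_pmod 3
  have hP : Nat.card (P : Subgroup G) = 3 := by
    rw [Sylow.card_eq_multiplicity, h, Nat.factorization_mul (by positivity) (by positivity [hq.pos]),
      Nat.factorization_mul (by positivity) (by positivity), Nat.prime_three.factorization_pow,
      Nat.prime_two.factorization_pow, hq.factorization_pow]
    simp [h3]
  have := isCyclic_of_prime_card hP
  obtain ⟨x, hx, e⟩ : ∃ x : G, orderOf x = 3 ∧ zpowers x = P := by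
    obtain ⟨x, e⟩ := (Subgroup.isCyclic_iff_exists_zpowers_eq_top _).1 this
    exact ⟨x, by rw [← Nat.card_zpowers, e, hP], e⟩
  have h4 : ∀ t ∈ (P : Subgroup G), t = 1 ∨ t = x ∨ t = x⁻¹ := fun t ht =>
    mem_three (by rw [← hx, pow_orderOf_eq_one]) (e ▸ ht)
  have h5 : IsConj x x⁻¹ := by
    obtain ⟨n, h5, h6⟩ := SetLike.not_le_iff_exists.1
      (not_le_centralizer hG (by rw [h, mul_assoc]; exact dvd_mul_right _ _) P)
    rcases h4 _ ((mem_normalizer_iff.1 h5 x).1 (e ▸ mem_zpowers x)) with c | c | c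
    · rw [conj_eq_one_iff] at c
      simp [c] at hx
    · refine absurd (fun w hw => ?_) h6
      obtain ⟨i, rfl⟩ : w ∈ zpowers x := e ▸ hw
      exact ((show Commute n x from mul_inv_eq_iff_eq_mul.1 c).zpow_right i).symm
    · exact isConj_iff.2 ⟨n, c⟩
  obtain ⟨χ, θ, c1, c2, c3, c4, c5⟩ := main P inferInstance (R := ⊥) (by rw [relIndex_bot_left, hP])
    (fun t _ t1 s hs c => t1 (by rw [mem_bot.1 hs, isConj_one_left] at c; exact mem_bot.2 c)) (by
      have h6 := sec_le (p := 3) x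
      have h7 := Set.ncard_le_ncard (s := {g | Hz3.InT (P : Subgroup G) ⊥ (Block.pPart 3 g)})
        (t := {g | IsConj x (Block.pPart 3 g)}) fun g ⟨t, h1, h2, h3⟩ => by
          rcases h4 t h1 with rfl | rfl | rfl
          exacts [absurd (one_mem _) h2, h3, h5.trans h3]
      have : 0 < Nat.card G := Nat.card_pos
      rw [hx] at h6
      omega) M
  refine (degs hG hq h2 h3 (by omega) h c1 c2 c3 c4 ?_).1
  rw [← c5, if_neg]
  rintro ⟨t, -, t1, c⟩
  rw [Block.pPart_eq_one_iff.2 (by simp), isConj_one_left] at c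
  exact t1 (mem_bot.2 c)

/-- Let G be a non-abelian finite simple group and p, q distinct primes. If the order of G is 4·p^a·q^b with a ≤ 2, then G is isomorphic to the alternating group of degree 5. If the order of G is 3·p^a·q^b with a ≤ 2, then G is isomorphic to the alternating group of degree 5 or to PSL(2,7). -/
theorem result {G : Type*} [Group G] [Finite G] [IsSimpleGroup G] (hna : ∃ x y : G, x * y ≠ y * x) (p q a b : ℕ) (hp : p.Prime) (hq : q.Prime) (hpq : p ≠ q) (ha : a ≤ 2) : (Nat.card G = 4 * p ^ a * q ^ b → Nonempty (G ≃* alternatingGroup (Fin 5))) ∧ (Nat.card G = 3 * p ^ a * q ^ b → Nonempty (G ≃* alternatingGroup (Fin 5)) ∨ Nonempty (G ≃* Matrix.ProjectiveSpecialLinearGroup (Fin 2) (ZMod 7))) := by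
  have hG := not_isCyclic_of_ne hna
  have ns := not_solvable hG
  refine ⟨four hG hp hq, fun h => ?_⟩
  have p3 : p ≠ 3 := by
    rintro rfl
    exact ns (isSolvable_of_card_eq_prime_pow_mul (a := a + 1) (b := b) hp hq (by rw [h]; ring))
  have q3 : q ≠ 3 := by
    rintro rfl
    exact ns (isSolvable_of_card_eq_prime_pow_mul (a := a) (b := b + 1) hp hq (by rw [h]; ring))
  by_cases q2 : q = 2
  · subst q2
    have h1 := three (a := b) (b := a) hG hp hpq p3 (by rw [h]; ring)
    subst h1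
    have := hp.two_le
    rcases S0998.aux hG p 3 b hp Nat.prime_three (by decide) (by omega) (by rw [h]; ring) with e | e
    · exact .inl (S0494.result e)
    · haveI : Fact (Nat.Prime 7) := ⟨by decide⟩
      exact .inr (S0495.result e (ZMod.card 7))
  have ho : Odd (q ^ b) := (hq.odd_of_ne_two q2).pow
  obtain rfl : p = 2 := by
    by_contra p2
    exact ((by decide : Odd 3).mul (hp.odd_of_ne_two p2).pow |>.mul ho).not_two_dvd_nat (h ▸ even_card hG)
  obtain ⟨T⟩ : Nonempty (Sylow 2 G) := inferInstance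
  obtain ⟨k, hk⟩ := ho
  have h4 := (S0992.result (fun e => ns (Group.isSolvable_of_comm e.is_comm.comm))
    (even_iff_two_dvd.2 (even_card hG)) (by rw [h, hk]; interval_cases a <;> omega) T).1.card_four
  have h5 : 4 ∣ Nat.card G := h4 ▸ card_subgroup_dvd_card _
  obtain rfl : a = 2 := by rw [h, hk] at h5; interval_cases a <;> omega
  exact .inl (four (a := 1) (b := b) hG Nat.prime_three hq (by rw [h]; ring))

end Cfsg.Agent.S4501
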