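import Cfsg.Statements.S4514
import Cfsg.Agent.Hz.B
import Cfsg.Agent.S2323
-- import your own Cfsg.Agent.* helpers here

set_option autoImplicit false
open Cfsg

namespace Cfsg.Agent.S4514

open Subgroup Cfsg.Agent.BG Cfsg.Agent.Invol Cfsg.Agent.Block Cfsg.Agent.Char Cfsg.Agent.AB Cfsg.Agent.Classical Cfsg.Agent.Hz

open scoped _root_.Classical MatrixGroups

theorem psl_const {X F : Type*} [Group X] [Finite X] [Field F] [Fintype F] {M : Ideal AlgInt} [PMod 2 M] {n : ℕ}
    (hn : 2 ≤ n) (hF : Fintype.card F = 2 ^ n) (e : X ≃* PSL(2, F)) {v : X} (hv : orderOf v = 2) : HZ M v (2 ^ n) := by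
  intro χ h1 h2
  have : CharP F 2 := charP_of_card_eq_prime_pow hF
  have t0 : (2 : F) = 0 := CharP.cast_eq_zero F 2
  have q : 4 ≤ Fintype.card F := hF ▸ Nat.pow_le_pow_right (n := 2) two_pos hn
  have i := χ.2.comp_of_surjective (e.symm.toMonoidHom.comp (pslMk F)) (e.symm.surjective.comp pslMk_surjective)
  have c : χ.1 (e.symm (pslMk F (uSL 1))) = χ.1 v := by
    have := psl_cls (x := pslMk F (uSL 1)) (y := e v) (orderOf_two_iff.2 ⟨by
      rw [← map_mul, ← uSL_add, ← two_mul, t0, zero_mul, uSL_zero, map_one], by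
      rw [Ne, map_eq_one_iff _ (pslMk_injective t0), uSL_eq_one_iff]; exact one_ne_zero⟩) (by rwa [MulEquiv.orderOf_eq])
    simpa using χ.2.isCharacter.isClassFunction.apply_eq_of_isConj (e.symm.toMonoidHom.map_isConj this)
  have d := S2323.result q _ i (uSL 1) rfl
  have f := (S2300.result (F := F)).1 _ i
  simp only [MonoidHom.comp_apply, MulEquiv.coe_toMonoidHom, map_one, c, hF, Nat.cast_pow, Nat.cast_ofNat] at d f
  rcases f with f | f | f | f
  · refine absurd (Subtype.ext (χ.2.charKer_eq_top_iff.1 (top_le_iff.1 fun g _ => χ.2.isCharacter.mem_charKer.2 ?_))) h2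
    obtain ⟨g, rfl⟩ := (e.symm.surjective.comp pslMk_surjective) g
    have := i.apply_one_eq_one_iff.1 (by simpa using f) g
      (by rw [commutator_SL2 (by rw [Nat.card_eq_fintype_card]; omega)]; trivial)
    simpa using this
  · rw [d.2 f, f]; ring
  · exfalso
    have c := card_PSL2_mul (F := F)
    rw [← Nat.card_congr e.toEquiv, Nat.card_eq_fintype_card (α := F), hF, gcd_two_pred_of_even
      (Nat.even_pow.2 ⟨even_two, by omega⟩) (by positivity), one_mul] at c
    have o : ¬ 2 ∣ (2 ^ n - 1) * (2 ^ n + 1) := by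
      obtain ⟨k, rfl⟩ : ∃ k, n = k + 1 := ⟨n - 1, by omega⟩
      have : 0 < 2 ^ k := by positivity
      rw [Nat.prime_two.dvd_mul, pow_succ]; omega
    have := factorization_deg_lt_of_mem_principal (p := 2) (c ▸ ((dvd_pow_self 2 (by omega)).mul_right _).mul_right _) h1
    rw [charDegree_eq_of_apply_one (n := 2 ^ n) (by simpa using f), c, mul_assoc, Nat.factorization_mul (by positivity)
      (fun r => o (by rw [r]; exact dvd_zero 2)), Finsupp.add_apply, Nat.factorization_eq_zero_of_not_dvd o] at this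
    omega
  · rw [d.1 f, f]; ring

theorem two_const {X : Type*} [Group X] [Finite X] {M : Ideal AlgInt} [PMod 2 M] (h : Nat.card X = 2) (v : X) :
    ∃ k, HZ M v k := by
  have : IsCyclic X := isCyclic_of_prime_card (p := 2) h
  obtain ⟨l, hl⟩ := (Nat.card_eq_two_iff' (irrOne X)).1
    ((card_irr_of_comm IsCyclic.isMulCommutative.is_comm.comm).trans h)
  exact ⟨l.1 1 - l.1 v, fun χ _ r => by rw [hl.2 χ r]⟩

theorem hz_iff {G : Type*} [Group G] [Finite G] {M : Ideal AlgInt} [PMod 2 M] {u : G} {k : ℂ} :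
    HZ M u k ↔ HZ M (u : G ⧸ pPrimeCore 2 G) k := by
  have e := principalBlock_eq_image_infl (M := M) (p := 2) (QuotientGroup.mk'_surjective (pPrimeCore 2 G))
    (by rw [QuotientGroup.ker_mk']; exact odd_oddCore.not_two_dvd_nat)
  refine ⟨fun H χ h1 h2 => ?_, fun H χ h1 h2 => ?_⟩
  · simpa using H _ (infl_mem_principalBlock (QuotientGroup.mk'_surjective _) h1) fun s =>
      h2 (infl_injective _ _ (s.trans (infl_irrOne _ _).symm))
  · obtain ⟨χ, h3, rfl⟩ := e.le h1
    simpa using H χ h3 fun s => h2 (s ▸ infl_irrOne _ _)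


/-- Let G be a finite group, u an element of G, and fix a maximal ideal M of the algebraic integers containing 2 (defining the 2-blocks). There is a complex number k with χ(1) − χ(u) = k for every non-principal irreducible character χ in the principal 2-block if and only if one of the following holds: u lies in O(G); or G/O(G) has order 2 and u ∉ O(G); or G/O(G) ≅ PSL(2, 2ⁿ) for some n ≥ 2, u ∉ O(G) and u² ∈ O(G). -/
theorem result {G : Type*} [Group G] [Finite G] (M : Ideal Cfsg.AlgInt) (hM : Cfsg.IsPModular 2 M) (u : G) :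
    (∃ k : ℂ, ∀ χ : Cfsg.IrrCharacter G, χ ∈ Cfsg.principalBlock M G → (χ : G → ℂ) ≠ (fun _ => 1) →
        (χ : G → ℂ) 1 - (χ : G → ℂ) u = k) ↔
      (u ∈ Cfsg.oddCore G ∨ (Nat.card (G ⧸ Cfsg.oddCore G) = 2 ∧ u ∉ Cfsg.oddCore G) ∨
        (∃ (F : Type) (_ : Field F) (_ : Fintype F) (n : ℕ), 2 ≤ n ∧ Fintype.card F = 2 ^ n ∧
          Nonempty (G ⧸ Cfsg.oddCore G ≃* Matrix.ProjectiveSpecialLinearGroup (Fin 2) F) ∧ u ∉ Cfsg.oddCore G ∧ u ^ 2 ∈ Cfsg.oddCore G)) := by
  have : PMod 2 M := ⟨hM⟩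
  have e : ∀ k, (∀ χ : IrrCharacter G, χ ∈ principalBlock M G → (χ : G → ℂ) ≠ (fun _ => 1) →
      (χ : G → ℂ) 1 - (χ : G → ℂ) u = k) ↔ HZ M (u : G ⧸ pPrimeCore 2 G) k := fun k =>
    Iff.trans ⟨fun H χ h1 h2 => H χ h1 fun r => h2 (Subtype.ext r), fun H χ h1 h2 => H χ h1 fun r => h2 (r ▸ rfl)⟩ hz_iff
  simp only [e, ← QuotientGroup.eq_one_iff, QuotientGroup.mk_pow]
  constructor
  · rintro ⟨k, H⟩
    by_cases u1 : (u : G ⧸ pPrimeCore 2 G) = 1
    · exact .inl u1
    rcases H.main (Solv.pPrimeCore_quotient_pPrimeCore 2 G) u1 with h | ⟨F, _, _, n, h1, h2, h3, h4⟩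
    · exact .inr (.inl ⟨h, u1⟩)
    · exact .inr (.inr ⟨F, _, _, n, h1, h2, h3, u1, h4⟩)
  · rintro (h | ⟨h, -⟩ | ⟨F, _, _, n, h1, h2, ⟨f⟩, h3, h4⟩)
    · exact ⟨0, fun χ _ _ => by rw [h, sub_self]⟩
    · exact two_const h _
    · exact ⟨_, psl_const h1 h2 f (orderOf_eq_prime h4 h3)⟩

end Cfsg.Agent.S4514
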