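import Cfsg.Statements.S4540
import Cfsg.Agent.BMod.Par
-- import your own Cfsg.Agent.* helpers here

set_option autoImplicit false
open Cfsg

namespace Cfsg.Agent.S4540

open Cfsg.Agent.BMod Cfsg.Agent.Block Cfsg.Agent.Transfer Cfsg.Agent.Char Cfsg.Agent.CharDeep

/-- Let B be a 2-block of the finite group G (relative to a maximal ideal M of the algebraic integers containing 2) of defect d with defect group D. Let z be an element of D commuting with every element of D, and let b be a block of the centralizer C of z with defect group D that induces B (a major subsection (z, b)). If b has 2-regular rank at most three, then 3·k(B) ≤ 3·k₀(B) + 2·Σ 2 ^ h(χ), where k(B) is the number of members of B, k₀(B) the number of members of height zero, and the sum runs over the members χ of B of positive height h(χ); this bound is at most 3·2 ^ d, so in particular B contains at most 2 ^ d irreducible characters. -/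
theorem result {G : Type*} [Group G] [Finite G] (M : Ideal Cfsg.AlgInt) (hM : Cfsg.IsPModular 2 M) (B : Set (Cfsg.IrrCharacter G)) (hB : Cfsg.IsPBlock M B) (D : Subgroup G) (hD : Cfsg.IsDefectGroup 2 M B D) (z : G) (hzD : z ∈ D) (hzc : ∀ d ∈ D, d * z = z * d) (b : Set (Cfsg.IrrCharacter ↥(Subgroup.centralizer ({z} : Set G)))) (hb : Cfsg.IsInducedBlock M (Subgroup.centralizer ({z} : Set G)) b B) (hbD : Cfsg.IsDefectGroup 2 M b (D.subgroupOf (Subgroup.centralizer ({z} : Set G)))) (hl : Cfsg.blockRank 2 b ≤ 3) : 3 * Nat.card B ≤ 3 * Nat.card {χ : Cfsg.IrrCharacter G // χ ∈ B ∧ Cfsg.blockHeight 2 B (χ : G → ℂ) = 0} + 2 * (∑ᶠ χ ∈ {χ : Cfsg.IrrCharacter G | χ ∈ B ∧ 1 ≤ Cfsg.blockHeight 2 B (χ : G → ℂ)}, 2 ^ Cfsg.blockHeight 2 B (χ : G → ℂ)) ∧ 3 * Nat.card {χ : Cfsg.IrrCharacter G // χ ∈ B ∧ Cfsg.blockHeight 2 B (χ : G → ℂ) = 0} + 2 * (∑ᶠ χ ∈ {χ : Cfsg.IrrCharacter G | χ ∈ B ∧ 1 ≤ Cfsg.blockHeight 2 B (χ : G → ℂ)}, 2 ^ Cfsg.blockHeight 2 B (χ :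 G → ℂ)) ≤ 3 * 2 ^ Cfsg.blockDefect 2 B := by
  haveI : PMod 2 M := ⟨hM⟩
  have := Fintype.ofFinite (Subgroup.centralizer ({z} : Set G))
  classical
  have hs := isSub_centralizer (p := 2) (x := z) (by
    simpa using IsPGroup.iff_orderOf.1 (IsDefectGroup.isPGroup hD) ⟨z, hzD⟩)
  have hd : blockDefect 2 b = blockDefect 2 B := by
    rw [← IsDefectGroup.factorization_card hb.1 hbD, ← IsDefectGroup.factorization_card hB hD,
      Nat.card_congr (Subgroup.subgroupOfEquivOfLe fun d hd =>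
        Subgroup.mem_centralizer_singleton_iff.2 (hzc d hd)).toEquiv]
  have h1 : 3 * Nat.card {χ : IrrCharacter G // χ ∈ B ∧ blockHeight 2 B χ.1 = 0} +
      2 * ∑ᶠ χ ∈ {χ : IrrCharacter G | χ ∈ B ∧ 1 ≤ blockHeight 2 B χ.1}, 2 ^ blockHeight 2 B χ.1 =
      ∑ χ with χ ∈ B, if blockHeight 2 B χ.1 = 0 then 3 else 2 ^ (blockHeight 2 B χ.1 + 1) := by
    rw [show Nat.card {χ : IrrCharacter G // χ ∈ B ∧ blockHeight 2 B χ.1 = 0} = _ from
      card_eq_filter {χ | χ ∈ B ∧ blockHeight 2 B χ.1 = 0}, finsum_mem_eq_filter, Finset.sum_ite,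
      Finset.filter_filter, Finset.filter_filter, Finset.mul_sum]
    simp [mul_comm, pow_succ, Nat.one_le_iff_ne_zero]
  rw [h1]
  have h2 : ∀ n ≠ 0, 4 ≤ 2 ^ (n + 1) := fun n hn =>
    Nat.pow_le_pow_right two_pos (show 2 ≤ n + 1 by omega)
  refine ⟨?_, ?_⟩
  · rw [card_eq_filter, mul_comm]
    refine Finset.card_nsmul_le_sum _ _ 3 fun χ _ => ?_
    split_ifs with h
    exacts [le_rfl, (Nat.le_succ 3).trans (h2 _ h)]
  by_cases h3 : ∑ χ with χ ∈ B, 2 ^ (blockHeight 2 B χ.1 * 2) ≤ 2 ^ blockDefect 2 B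
  · refine le_trans ?_ (Nat.mul_le_mul_left 3 h3)
    rw [Finset.mul_sum]
    refine Finset.sum_le_sum fun χ _ => ?_
    split_ifs with h
    · simp [h]
    · exact (Nat.pow_le_pow_right two_pos (by omega)).trans (Nat.le_mul_of_pos_left _ three_pos)
  obtain ⟨a, ha, hodd⟩ := hs.exists_av hb
  have h4 := ha.sum_eq hs hb
  rw [hd] at h4
  zify at h3 hl ⊢
  refine (Finset.sum_le_sum fun χ hχ => ?_).trans (h4.trans_le (by
    nlinarith [(by positivity : (0 : ℤ) < 2 ^ blockDefect 2 B)]))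
  have hχ := (Finset.mem_filter.1 hχ).2
  simp only [Nat.cast_eq_zero]
  split_ifs with h
  · have h5 : 1 < a χ := lt_of_mul_lt_mul_left (lt_of_lt_of_le (by rw [mul_one, hd]; exact not_le.1 h3)
      (ha.sum_pow_le hs hb hd hχ h)) (by positivity)
    have := Int.odd_iff.1 (hodd χ hχ h)
    omega
  · exact ha.pow_le hs hb hd hχ h

end Cfsg.Agent.S4540
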