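import Cfsg.Statements.S4523
import Cfsg.Agent.AB.Blk
import Cfsg.Agent.AB.EE
import Cfsg.Agent.LieM.Gold11
import Cfsg.Agent.S4540
import Cfsg.Agent.S4512

set_option autoImplicit false
open Cfsg

namespace Cfsg.Agent.S4523

open Subgroup Cfsg.Agent.BG Cfsg.Agent.Invol Cfsg.Agent.Block Cfsg.Agent.Char Cfsg.Agent.Classical Cfsg.Agent.AB
open scoped _root_.Classical MatrixGroups

variable {G : Type*} [Group G] [Finite G] {t : G} {M : Ideal AlgInt} [PMod 2 M]

theorem real_even (ht : orderOf t = 2) {k : ℕ} (hk : Nat.card (principalBlock M G) ≤ k) (h : k * #C1[t] ≤ C1[t].index + 2) :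
    ∃ χ : IrrCharacter G, Even (charDegree χ.1) ∧ barIrr χ = χ := by
  by_contra! hn
  have := Fintype.ofFinite G
  have h1 : C1[t].index + 1 ≤ Nat.card {s : G // s * s = 1} := by
    rw [← ncard_isConj, ← Set.ncard_insert_of_notMem (a := 1) (by simpa using ne_of_ord ht)]
    refine Set.ncard_le_ncard (t := {s | s * s = 1}) (Set.insert_subset (by simp) fun s hs => ?_)
    obtain ⟨c, rfl⟩ := isConj_iff.1 hs
    simp [mul_assoc, ← mul_assoc t, (orderOf_two_iff.1 ht).1]
  have h2 : Nat.card {s : G // s * s = 1} ≤ ∑ χ with χ ∈ principalBlock M G, charDegree χ.1 := by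
    have := congrArg Complex.re (sum_fsInd_mul (1 : G))
    rw [Complex.natCast_re, Complex.re_sum] at this
    rw [← Nat.cast_le (α := ℝ), ← this, Finset.sum_filter, Nat.cast_sum]
    refine Finset.sum_le_sum fun χ _ => ?_
    rw [χ.2.apply_one_eq_charDegree]
    rcases χ.2.fsInd_eq with r | r | r
    · simp [r]; positivity
    · have b := (barIrr_eq_iff χ).2 (by simpa [r] using χ.2.fsInd_eq_zero_iff.not)
      rw [if_pos (mem_principal_of_real (fun e => hn χ (even_iff_two_dvd.2 e) b) fun x _ => by rw [← barIrr_apply', b])]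
      simp [r]
    · simp [r]; exact (neg_nonpos.2 (by positivity)).trans (by positivity)
  have h3 := sq_sum_le_card_mul_sum_sq (s := Finset.univ.filter (· ∈ principalBlock M G)) (f := fun χ => charDegree χ.1)
  have h4 := (Finset.sum_le_sum_of_subset (Finset.filter_subset (· ∈ principalBlock M G) _)).trans_eq (sum_charDegree_sq (G := G))
  rw [← BMod.card_eq_filter, Nat.cast_id] at h3
  rw [← C1[t].card_mul_index] at h4
  have := (Nat.pow_le_pow_left (h1.trans h2) 2).trans (h3.trans (Nat.mul_le_mul hk h4))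
  nlinarith [Nat.mul_le_mul_right C1[t].index h]

theorem le_eight (hab : ∀ Q : Subgroup G, IsPGroup 2 Q → IsMulCommutative Q) (ht : orderOf t = 2)
    (h8 : ∀ S, SylowIn 2 S (⊤ : Subgroup G) → #S = 8) (h : blockRank 2 (principalBlock M C1[t]) ≤ 3) :
    Nat.card (principalBlock M G) ≤ 8 := by
  obtain ⟨P, hP⟩ := (IsPGroup.of_card (p := 2) (n := 1) (Nat.card_zpowers t |>.trans ht)).exists_le_sylow
  have c : ∀ d ∈ (P : Subgroup G), d * t = t * d := fun d hd => IsMulCommutative.comm (hab _ P.isPGroup') hd (hP (mem_zpowers t))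
  have := S4540.result M PMod.out _ isPBlock_principalBlock _ (isDefectGroup_principal P) t (hP (mem_zpowers t)) c _
    ((isInducedBlock_principal_iff (inducedBlockDefined_centralizer (p := 2) ⟨1, ht⟩ isPBlock_principalBlock)).2 rfl)
    (isDefectGroup_principal (P.subtype fun d hd => mem_cent1.2 (c d hd))) h
  rw [← IsDefectGroup.factorization_card isPBlock_principalBlock (isDefectGroup_principal P), h8 _ (sylowIn_top P),
    show Nat.factorization 8 2 = 3 from Nat.prime_two.factorization_pow (k := 3) ▸ Finsupp.single_eq_same] at this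
  omega

theorem even_simple [IsSimpleGroup G] (hG : ¬ IsMulCommutative G) (hab : ∀ Q : Subgroup G, IsPGroup 2 Q → IsMulCommutative Q)
    (M : Ideal AlgInt) [PMod 2 M] : ∃ χ : IrrCharacter G, Even (charDegree χ.1) ∧ barIrr χ = χ := by
  rcases simple_cases hG hab with ⟨F, _, _, n, h1, h2, ⟨e⟩, h3⟩ | ⟨P, hP⟩ | ⟨t, E, L, u, s, K, F, _, _, w, h1, h2, ⟨e⟩⟩
  · have : CharP F 2 := charP_of_card_eq_prime_pow h2
    obtain ⟨r, ⟨χ, hχ⟩⟩ := Nat.card_eq_one_iff_unique.1 ((S2300.result (F := F)).2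
      (h2 ▸ Nat.pow_le_pow_right (n := 2) two_pos h1)).2.1
    have b : barIrr χ = χ := congrArg Subtype.val (r.elim ⟨barIrr χ, by rw [barIrr_apply', inv_one, hχ]⟩ ⟨χ, hχ⟩)
    refine ⟨⟨_, χ.2.comp_of_surjective e.toMonoidHom e.surjective⟩, ?_, Subtype.ext (funext fun g => ?_)⟩
    · rw [charDegree_eq_of_apply_one (n := 2 ^ n) (by simp [hχ, h2]), Nat.even_pow]
      exact ⟨even_two, by omega⟩
    · exact (barIrr_apply _ g).trans ((barIrr_apply χ _).symm.trans (by rw [b]))
  · obtain ⟨F, _, _, h1, h2, ⟨e⟩⟩ := psl_of_klein P hP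
    have o : Odd (Nat.card F) := by rw [Nat.card_eq_fintype_card, Nat.odd_iff]; omega
    obtain ⟨u, s, K, w⟩ := psl_bsw (two_ne_zero_iff_odd.2 o)
    replace w := bsw_equiv w e
    obtain ⟨m, h3, h4⟩ := bsw_odd w hab
    obtain ⟨μ, -, -, -, h5, h6, -⟩ := exists_blk3 M w h3 h4
    obtain ⟨δ, h7, -⟩ := klein_block (M := M) hP (klein_one hG hP)
    refine real_even (M := M) w.ht ((Nat.card_coe_set_eq _).trans h7).le ?_
    have c := card_PSL2_mul (F := F)
    have d := C1[e.symm u].card_mul_index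
    rw [gcd_two_pred_of_odd o, ← Nat.card_congr e.toEquiv, Nat.card_eq_fintype_card (α := F)] at c
    have c : 60 ≤ Nat.card G := by
      have := Nat.mul_le_mul (Nat.mul_le_mul h2 (Nat.sub_le_sub_right h2 1)) (Nat.add_le_add_right h2 1)
      omega
    rw [w.card_H, h3] at *
    have : (C1[e.symm u].index : ℤ) = (1 + 2 * μ) * (1 + μ) := mul_left_cancel₀ (a := 4 * (m : ℤ))
      (by have := h4.pos; positivity) (by rw [← mul_assoc, ← h6, ← d]; push_cast; ring)
    obtain ⟨k, rfl⟩ := h4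
    zify
    rcases h5 with rfl | rfl
    · push_cast at *; nlinarith
    · rcases k with _ | k
      · omega
      · push_cast at *; nlinarith
  · obtain rfl := wj_eq (simple_perfect hG) w h1 e
    obtain ⟨f⟩ := prod_equiv w.ht w.dp
    replace f := f.trans ((MulEquiv.refl _).prodCongr e)
    obtain ⟨π, u, s, K, m, j, -⟩ := jr_of_psl w.no2 hab w.ht (by omega) f
    obtain ⟨P⟩ : Nonempty (Sylow 2 PSL(2, F)) := inferInstance
    have k := bsw_klein j.bsw j.card j.odd P
    have p : IsPGroup 2 π.ker := fun x => ⟨1, Subtype.ext (by simpa [pow_two] using j.split x (by rw [x.2, one_mul]))⟩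
    have c : ∀ g : C1[t], ¬ 2 ∣ orderOf g → g ∈ C[π.ker] := fun g _ x hx => by
      rcases (j.cq.ker x).1 hx with rfl | rfl
      exacts [by simp, (mem_center_iff.1 j.cq.center g).symm]
    refine real_even (M := M) w.ht (le_eight hab w.ht (fun _ => w.card_sylow) ?_) ?_
    · rw [← BMod.blockRank_infl j.cq.surj p c isPBlock_principalBlock.isBlockUnion, preimage_infl_principalBlock _ p c]
      exact (S4512.result M PMod.out P k.card_four (fun x => IsKleinFour.mul_self x) fun a b ha hb =>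
        (j.bsw.cls a ha).symm.trans (j.bsw.cls b hb)).le
    have d := C1[t].card_mul_index
    have c := card_PSL2_mul (F := F)
    have := Fintype.ofFinite G
    rw [gcd_two_pred_of_odd h1, ← j.card_C] at c
    rcases jtw' (simple_perfect hG) hab w.ht (by omega) f with ⟨m, m1, k1, k2⟩ | ⟨k1, k2, -⟩
    · have : 3 ^ 3 ≤ Nat.card F := k1 ▸ Nat.pow_le_pow_right (by omega) (by omega)
      rw [← k1] at k2
      obtain ⟨q, hq⟩ : ∃ q, Nat.card F = q + 1 := ⟨Nat.card F - 1, by omega⟩
      rw [hq, Nat.add_sub_cancel] at c k2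
      have : C1[t].index = (q + 1) ^ 2 * (q ^ 2 + q + 1) := Nat.eq_of_mul_eq_mul_left Nat.card_pos (by rw [d, c, k2]; ring)
      rw [this, c]
      nlinarith [Nat.mul_le_mul (show 26 ≤ q by omega) (le_refl (q ^ 3)), Nat.mul_le_mul (show 26 ≤ q by omega) (le_refl (q ^ 2))]
    · rw [k2.card] at d
      rw [k1.resolve_left (by rintro r; rw [r] at h1; exact absurd h1 (by decide))] at c
      rw [c] at d ⊢
      omega

/-- Let S be a non-abelian finite simple group with commutative Sylow 2-subgroups and M a maximal ideal of the algebraic integers containing 2. Let k be a natural number with g ^ k = g for every 2-element g and g ^ k = g⁻¹ for every element g of odd order. Then S has an irreducible character χ₁ of even degree with χ₁ (g ^ k) = χ₁ g for all g, and its principal 2-block contains a character χ₂ other than the principal character with χ₂ (g ^ k) = χ₂ g for all g. -/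
theorem result {S : Type*} [Group S] [Finite S] [IsSimpleGroup S] (hna : ¬ IsMulCommutative S) (P : Sylow 2 S) (hP : IsMulCommutative P) (M : Ideal Cfsg.AlgInt) (hM : Cfsg.IsPModular 2 M) (k : ℕ) (hk₁ : ∀ g : S, (∃ j : ℕ, orderOf g = 2 ^ j) → g ^ k = g) (hk₂ : ∀ g : S, Odd (orderOf g) → g ^ k = g⁻¹) : (∃ χ₁ : Cfsg.IrrCharacter S, Even (Cfsg.charDegree (χ₁ : S → ℂ)) ∧ ∀ g : S, (χ₁ : S → ℂ) (g ^ k) = (χ₁ : S → ℂ) g) ∧ ∃ χ₂ ∈ Cfsg.principalBlock M S, (χ₂ : S → ℂ) ≠ (fun _ => 1) ∧ ∀ g : S, (χ₂ : S → ℂ) (g ^ k) = (χ₂ : S → ℂ) g := by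
  have : PMod 2 M := ⟨hM⟩
  have hab := hab_of_sylow P hP
  have e : ∀ g : S, g ^ k = g⁻¹ := fun g => by
    obtain ⟨j, hj⟩ := (isPPart_pPart 2 g).orderOf_eq
    obtain ⟨Q, hQ⟩ := (IsPGroup.of_card (p := 2) (Nat.card_zpowers _ |>.trans hj)).exists_le_sylow
    have := (LieM.sa_of_sylow (sylowIn_top Q) (hab _ Q.isPGroup') le_rfl fun _ _ _ _ h => h).simple hna (hQ (mem_zpowers _))
    conv_lhs => rw [← pPart_mul_regPart 2 g, (commute_pPart_regPart 2 g).mul_pow, hk₁ _ ⟨j, hj⟩,
      hk₂ _ (Nat.odd_iff.2 (Nat.two_dvd_ne_zero.1 (not_dvd_orderOf_regPart 2 g)))]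
    conv_rhs => rw [← pPart_mul_regPart 2 g, (commute_pPart_regPart 2 g).eq, mul_inv_rev, inv_eq_of_mul_eq_one_right this]
  simp only [e, ← barIrr_apply']
  obtain ⟨χ, h1, h2⟩ := even_simple hna hab M
  refine ⟨⟨χ, h1, fun g => by rw [h2]⟩, ?_⟩
  have h3 : Even (∑ χ : IrrCharacter S, charDegree χ.1 ^ 2) :=
    sum_charDegree_sq (G := S) ▸ (h1.two_dvd.trans χ.2.charDegree_dvd_card |> even_iff_two_dvd.2)
  simp only [Finset.even_sum_iff_even_card_odd, Nat.odd_pow_iff two_ne_zero, ← Fintype.card_subtype] at h3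
  obtain ⟨⟨ψ, h4⟩, h5, h6⟩ := Equiv.Perm.exists_fixed_point_of_prime' (n := 1) h3.two_dvd (σ := Function.Involutive.toPerm
    (fun χ => ⟨barIrr χ.1, charDegree_barIrr χ.1 ▸ χ.2⟩) fun χ => Subtype.ext (barIrr_barIrr _))
    (Equiv.ext fun χ => Subtype.ext (barIrr_barIrr _)) (a := ⟨irrOne S, by simp [charDegree]⟩) (Subtype.ext (Subtype.ext
      (funext fun g => barIrr_apply' _ g)))
  replace h5 : barIrr ψ = ψ := congrArg Subtype.val h5
  exact ⟨ψ, mem_principal_of_real h4.not_two_dvd_nat fun x _ => by rw [← barIrr_apply', h5],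
    fun r => h6 (Subtype.ext (Subtype.ext r)), fun g => by rw [h5]⟩

end Cfsg.Agent.S4523
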