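import Cfsg.Statements.S4569
import Cfsg.Agent.AB.Blk2
import Cfsg.Agent.S4691
import Cfsg.Agent.S4646

set_option autoImplicit false
open Cfsg

namespace Cfsg.Agent.S4569

open Subgroup Cfsg.Agent.BG Cfsg.Agent.Invol Cfsg.Agent.Block Cfsg.Agent.AB MulAction
open scoped _root_.Classical

theorem orbits {A : Type*} [Group A] [Fintype A] (hA : Nat.card A = 16) (E : Subgroup (MulAut A)) (hE : #E = 9) :
    Fintype.card (orbitRel.Quotient E A) ≤ 5 := by
  have h : _ = Fintype.card (orbitRel.Quotient E A) * _ := sum_card_fixedBy_eq_card_orbits_mul_card_group E A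
  have k : ∀ g ∈ Finset.univ.erase (1 : E), Fintype.card (fixedBy A g) ≤ 4 := fun g hg => by
    have h1 := ((IsPGroup.of_card (p := 3) (n := 2) hE).to_subgroup (zpowers g)).card_modEq_card_fixedPoints A
    have e : fixedPoints (zpowers g) A = (g.1.toMonoidHom.eqLocus (.id A) : Set A) :=
      Set.ext fun a => ⟨fun h => h ⟨g, mem_zpowers g⟩, fun h ⟨_, j, e⟩ => e ▸ mem_fixedBy_zpow (g := g) (α := A) h j⟩
    have h2 := (g.1.toMonoidHom.eqLocus (.id A)).card_subgroup_dvd_card
    have h3 : #(g.1.toMonoidHom.eqLocus (.id A)) ≠ 16 := fun r => (Finset.mem_erase.1 hg).1 (Subtype.ext (MulEquiv.ext fun a =>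
      (eq_top_of_card_eq _ (r.trans hA.symm)).ge (mem_top a)))
    rw [← Nat.card_eq_fintype_card]
    rw [e, hA, Nat.ModEq] at h1
    change _ = #(g.1.toMonoidHom.eqLocus (.id A)) % 3 at h1
    change #(g.1.toMonoidHom.eqLocus (.id A)) ≤ 4
    rw [hA] at h2
    have := Nat.le_of_dvd (by omega) h2
    generalize #(g.1.toMonoidHom.eqLocus (.id A)) = n at *
    interval_cases n <;> omega
  have := Finset.sum_le_card_nsmul _ _ _ k
  have l : Fintype.card (fixedBy A (1 : E)) ≤ _ := Fintype.card_subtype_le (· ∈ fixedBy A (1 : E))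
  rw [← Finset.add_sum_erase _ _ (Finset.mem_univ 1), ← Nat.card_eq_fintype_card (α := E), hE] at h
  rw [Finset.card_erase_of_mem (Finset.mem_univ _), Finset.card_univ, ← Nat.card_eq_fintype_card (α := E), hE] at this
  rw [← Nat.card_eq_fintype_card (α := A), hA] at l
  simp only [smul_eq_mul] at this
  omega

theorem npc {M : Ideal AlgInt} [PMod 2 M] (X : Type*) [Group X] [Fintype X] :
    blockRank 2 (principalBlock M X) = 1 ↔ HasNormalPComplement 2 X :=
  ((S4691.result 2 M PMod.out).trans (S4646.result 2 M PMod.out)).symm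

/-- Let G be a finite group whose Sylow 2-subgroup P is elementary abelian of order 16, suppose the centralizer of P has index 9 in its normalizer, and let M be a maximal ideal of the algebraic integers containing 2. Then the principal 2-block contains exactly 16 irreducible characters and has 2-regular rank 9. -/
theorem result {G : Type*} [Group G] [Finite G] (M : Ideal Cfsg.AlgInt) (hM : Cfsg.IsPModular 2 M) (P : Sylow 2 G) (hcard : Nat.card P = 16) (hel : ∀ x : P, x ^ 2 = 1) (he : (Subgroup.centralizer ((P : Subgroup G) : Set G)).relIndex (Subgroup.normalizer ((P : Subgroup G) : Set G)) = 9) : Nat.card (Cfsg.principalBlock M G) = 16 ∧ Cfsg.blockRank 2 (Cfsg.principalBlock M G) = 9 := by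
  have : PMod 2 M := ⟨hM⟩
  have := Fintype.ofFinite G
  have ab : IsMulCommutative P := ⟨⟨fun a b => commute_of_mul_sq (by rw [← pow_two, hel]) (by rw [← pow_two, hel])
    (by rw [← pow_two, hel])⟩⟩
  have l := IsMulCommutative.cent ab
  obtain ⟨E, hE⟩ : ∃ E, E = mim (conjAut (P : Subgroup G)) N[(P : Subgroup G)] := ⟨_, rfl⟩
  have cE : #E = 9 := by rw [hE, card_conjAut le_rfl, he]
  have st : ∀ y : P, #(stabilizer E y) = C[(P : Subgroup G)].relIndex (C1[(y : G)] ⊓ N[(P : Subgroup G)]) := fun y => by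
    rw [← card_conjAut inf_le_right, ← card_map_subtype]
    congr 2
    ext σ
    exact ⟨fun ⟨g, h, e⟩ => by
      obtain ⟨n, -, hn⟩ := mem_mim.1 (hE.le g.2)
      exact mem_mim.2 ⟨n, ⟨mem_cent1.2 (mul_inv_eq_iff_eq_mul.1 ((conjAut_apply _ n y).symm.trans
        (hn ▸ congrArg Subtype.val h))), n.2⟩, hn.trans e⟩, fun h => by
      obtain ⟨n, h', rfl⟩ := mem_mim.1 h
      exact ⟨⟨_, hE.ge (mem_mim_of n n.2)⟩, Subtype.ext (mul_inv_eq_iff_eq_mul.2 (mem_cent1.1 h'.1)), rfl⟩⟩
  have cj : ∀ a b : P, IsConj (a : G) b ↔ orbitRel E P b a := fun a b => ⟨fun h => by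
    obtain ⟨g, hg⟩ := isConj_iff.1 h
    obtain ⟨n, hn, e⟩ := fuse (sylowIn_top P) (mem_top g) (l a.2) (hg ▸ l b.2)
    exact ⟨⟨_, hE.ge (mem_mim_of ⟨n, hn.2⟩ hn.2)⟩, Subtype.ext (e.trans hg)⟩, fun ⟨g, hg⟩ => by
      obtain ⟨n, -, hn⟩ := mem_mim.1 (hE.le g.2)
      exact isConj_iff.2 ⟨n, (conjAut_apply _ n a).symm.trans (hn ▸ congrArg Subtype.val hg)⟩⟩
  have inj : ∀ a b : orbitRel.Quotient E P, IsConj (a.out : G) b.out → a = b := fun a b h =>
    Quotient.out_equiv_out.1 ((cj _ _).1 h.symm)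
  have o2 : ∀ y : P, ∃ k, orderOf (y : G) = 2 ^ k := fun y => by simpa using IsPGroup.iff_orderOf.1 P.isPGroup' y
  have h1 := BMod.card_eq_sum_rank_corr (M := M) (p := 2) (X := Finset.univ.image fun a : orbitRel.Quotient E P => (a.out : G))
    (by simpa using fun a => o2 _) (fun g ⟨k, hk⟩ => by
      obtain ⟨c, -, hc⟩ := Sylow_Jsub (sylowIn_top P) le_top (IsPGroup.of_card (p := 2) (Nat.card_zpowers _ |>.trans hk))
      have r := (isConj_iff.2 ⟨c, rfl⟩).trans ((cj ⟨_, hc (conj_mem_cj c (mem_zpowers g))⟩ _).2 (Quotient.mk_out _))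
      refine ⟨_, ⟨Finset.mem_image_of_mem _ (Finset.mem_univ _), r⟩, fun y hy => ?_⟩
      obtain ⟨a, -, rfl⟩ := Finset.mem_image.1 hy.1
      rw [inj _ _ (hy.2.symm.trans r)]) isPBlock_principalBlock.isBlockUnion
  rw [Finset.sum_image fun a _ b _ h => inj a b (isConj_iff.2 ⟨1, by simpa using h⟩)] at h1
  simp only [corr_principal_centralizer (o2 _)] at h1
  have h2 := card_eq_sum_card_group_div_card_stabilizer E P
  have h3 := orbits hcard E cE
  simp only [← Nat.card_eq_fintype_card (α := P), ← Nat.card_eq_fintype_card (α := E),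
    ← Nat.card_eq_fintype_card (α := stabilizer E _), hcard, cE] at h2
  obtain ⟨s, hs⟩ : ∃ s : orbitRel.Quotient E P → ℕ, ∀ a, s a = #(stabilizer E a.out) := ⟨_, fun _ => rfl⟩
  have s3 : ∀ a, s a = 9 ∨ s a = 3 ∨ s a = 1 := fun a => by
    have := hs a ▸ cE ▸ (stabilizer E a.out).card_subgroup_dvd_card
    have := Nat.le_of_dvd (by omega) this
    generalize s a = n at *
    interval_cases n <;> omega
  have o1 : (Quotient.mk (orbitRel E P) 1).out = 1 := Subtype.ext (isConj_one_right.1 ((cj 1 _).2 (Quotient.mk_out _)))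
  have s9 : ∀ a, a.out = 1 → s a = 9 := fun a h => by rw [hs, st, h, ← he]; simp
  rw [← Finset.card_univ, Finset.card_eq_sum_ones, Finset.sum_congr rfl fun a _ => show 1 = (if s a = 9 then 1 else 0) +
    (if s a = 3 then 1 else 0) + if s a = 1 then 1 else 0 by rcases s3 a with r | r | r <;> simp [r]] at h3
  rw [Finset.sum_congr rfl fun a _ => show 9 / #(stabilizer E a.out) = (if s a = 9 then 1 else 0) + 3 * (if s a = 3 then 1 else 0) +
    9 * if s a = 1 then 1 else 0 by rw [← hs]; rcases s3 a with r | r | r <;> simp [r]] at h2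
  simp only [Finset.sum_add_distrib, ← Finset.mul_sum, Finset.sum_boole, Nat.cast_id] at h2 h3
  have m : Quotient.mk (orbitRel E P) 1 ∈ Finset.univ.filter (s · = 9) := by simp [s9 _ o1]
  have := Finset.card_pos.2 ⟨_, m⟩
  have r1 : ∀ a, s a = 1 → HasNormalPComplement 2 C1[(a.out : G)] := fun a h =>
    complement_of_inf_le P (le_cent1_iff.2 (l a.out.2)) fun n hn hn' => relIndex_eq_one.1 ((st _).symm.trans (hs a ▸ h)) ⟨hn, hn'⟩
  rw [Finset.sum_congr rfl fun a _ => show blockRank 2 (principalBlock M C1[(a.out : G)]) = blockRank 2 (principalBlock M G) *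
      (if s a = 9 then 1 else 0) + 3 * (if s a = 3 then 1 else 0) + if s a = 1 then 1 else 0 by
    rcases s3 a with r | r | r <;> simp only [r] <;> norm_num
    · rw [Finset.card_le_one.1 (by omega) a (by simpa) _ m, o1]
      let e : C1[((1 : P) : G)] ≃* G := (MulEquiv.subgroupCongr (by simp)).trans topEquiv
      rw [← BMod.image_mapIrr_principalBlock e, BMod.blockRank_image_mapIrr e isPBlock_principalBlock.isBlockUnion]
    · have e := (ee_sub (le_cent1_iff.2 (l a.out.2))).trans ((st _).symm.trans (hs a ▸ r))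
      exact (prime_block (P.subtype (le_cent1_iff.2 (l a.out.2))) (hab_sub (hab_of_sylow P ab) _ _ (Sylow.isPGroup' _))
        (e ▸ Nat.prime_three)).1.trans e
    · exact (npc _).2 (r1 a r)] at h1
  simp only [Finset.sum_add_distrib, ← Finset.mul_sum, Finset.sum_boole, Nat.cast_id] at h1
  obtain ⟨a, ha⟩ := Finset.card_pos.1 (show 0 < (Finset.univ.filter (s · = 1)).card by omega)
  have ha := (Finset.mem_filter.1 ha).2
  have h4 := card_of_NC (M := M) (hab_of_sylow P ab) (orderOf_two_iff.2 ⟨by simpa [pow_two] using congrArg Subtype.val (hel a.out),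
    fun r => by have := s9 a (Subtype.ext r); omega⟩) (nc_iff.2 (r1 a ha)) P
  have h5 : blockRank 2 (principalBlock M G) ≠ 1 := fun r => by
    have := Fact.mk Nat.prime_three
    obtain ⟨R, hR⟩ := Sylow_exists 3 N[(P : Subgroup G)]
    refine hR.not_dvd ((Dvd.intro 3 he.symm).trans (relIndex_dvd_of_le_left _ fun x hx => ?_))
    obtain ⟨k, hk⟩ := IsPGroup.iff_orderOf.1 hR.pg ⟨x, hx⟩
    exact Transfer.mem_centralizer_of_hasNormalPComplement ((npc _).1 r) P.isPGroup' (hR.le hx)
      (by rw [← orderOf_coe] at hk; rw [hk]; exact Nat.Coprime.pow_left _ (by decide))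
  have a1 : (Finset.univ.filter (s · = 9)).card = 1 := by omega
  have a2 : (Finset.univ.filter (s · = 3)).card = 2 := by omega
  rw [a1, a2] at h1 h2
  omega

end Cfsg.Agent.S4569
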