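import Cfsg.Statements.S4698
import Cfsg.Agent.BMod.KW
-- import your own Cfsg.Agent.* helpers here

set_option autoImplicit false
open Cfsg

namespace Cfsg.Agent.S4698

open Cfsg.Agent.BMod Cfsg.Agent.Block Cfsg.Agent.Transfer Cfsg.Agent.Char Cfsg.Agent.CharDeep

universe u
variable {p : ℕ} [hp : Fact p.Prime] {M : Ideal AlgInt} [PMod p M]

theorem exists_gen {G : Type*} [Group G] [Finite G] {D : Subgroup G} {d : ℕ}
    (hD : Nat.card D = p ^ d) (hd : d ≤ 2) {z : G} (hz : z ∈ D) (h1 : z ≠ 1) :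
    ∃ y ∈ D, D ≤ Subgroup.zpowers z ⊔ Subgroup.zpowers y := by
  by_cases h : D ≤ Subgroup.zpowers z
  · exact ⟨1, one_mem _, h.trans le_sup_left⟩
  obtain ⟨y, hy, h⟩ := SetLike.not_le_iff_exists.1 h
  have h2 := sup_le (Subgroup.zpowers_le.2 hz) (Subgroup.zpowers_le.2 hy)
  obtain ⟨a, -, ha⟩ := (Nat.dvd_prime_pow hp.out).1
    (hD ▸ Subgroup.card_dvd_of_le (Subgroup.zpowers_le.2 hz))
  obtain ⟨b, hbd, hb⟩ := (Nat.dvd_prime_pow hp.out).1 (hD ▸ Subgroup.card_dvd_of_le h2)
  have h3 : a ≠ 0 := fun h3 => h1 (by simpa [h3] using ha)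
  have h4 : a < b := (Nat.pow_lt_pow_iff_right hp.out.one_lt).1 (ha ▸ hb ▸ lt_of_not_ge fun h4 =>
    h (Subgroup.eq_of_le_of_card_ge le_sup_left h4 ▸ Subgroup.mem_sup_right (Subgroup.mem_zpowers y)))
  exact ⟨y, hy, (Subgroup.eq_of_le_of_card_ge h2 (by rw [hD, hb, show d = b by omega])).ge⟩

theorem exists_center {G : Type*} [Group G] [Finite G] {D : Subgroup G} (hD : IsPGroup p D)
    (h : D ≠ ⊥) : ∃ z ∈ D ⊓ Subgroup.centralizer (D : Set G), z ≠ 1 := by
  have := (Subgroup.nontrivial_iff_ne_bot D).2 h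
  have := hD.center_nontrivial
  obtain ⟨z, hz⟩ := exists_ne (1 : Subgroup.center D)
  exact ⟨z, ⟨z.1.2, fun g hg => congrArg Subtype.val (Subgroup.mem_center_iff.1 z.2 ⟨g, hg⟩)⟩,
    by simpa using hz⟩

theorem small {G : Type*} [Group G] [Finite G] {B : Set (IrrCharacter G)} (hB : IsPBlock M B)
    (hd : blockDefect p B ≤ 2) : Nat.card B ≤ p ^ blockDefect p B := by
  have := Fintype.ofFinite G
  obtain ⟨D, hD⟩ := exists_isDefectGroup (p := p) hB
  by_cases h : D = ⊥
  · exact card_le_of_two_gen hB hD (one_mem _) (one_mem _) (h ▸ bot_le)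
  obtain ⟨z, hz, h1⟩ := exists_center (IsDefectGroup.isPGroup hD) h
  obtain ⟨y, hy, h2⟩ := exists_gen (IsDefectGroup.card_eq hB hD) hd hz.1 h1
  exact card_le_of_two_gen hB hD hz hy h2

theorem large (d : ℕ) : ∀ (G : Type u) [Group G] [Finite G] (B : Set (IrrCharacter G)),
    IsPBlock M B → blockDefect p B ≤ d + 2 → Nat.card B ≤ p ^ (2 * d + 2) := by
  induction d with
  | zero => exact fun G _ _ B hB h => (small hB h).trans (Nat.pow_le_pow_right hp.out.pos h)
  | succ d ih =>
    intro G _ _ B hB h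
    have := Fintype.ofFinite G
    by_cases h0 : ∃ χ ∈ B, blockHeight p B χ.1 ≠ 0
    · obtain ⟨χ, hχ, h0⟩ := h0
      have := (two_mul_card_le hB hχ h0).trans (Nat.pow_le_pow_right hp.out.pos
        (show _ ≤ 2 * (d + 1) + 2 by omega))
      omega
    push Not at h0
    obtain ⟨D, hD⟩ := exists_isDefectGroup (p := p) hB
    by_cases h1 : D = ⊥
    · exact (card_le_of_two_gen hB hD (one_mem _) (one_mem _) (h1 ▸ bot_le)).trans
        (Nat.pow_le_pow_right hp.out.pos (by omega))
    obtain ⟨z, hz, h1⟩ := exists_center (IsDefectGroup.isPGroup hD) h1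
    obtain ⟨b, h2, h3, -, -, h4⟩ := exists_major hB hD hz
    have := Fintype.ofFinite (Subgroup.centralizer (Subgroup.zpowers z : Set G))
    have hR := rc_of_center h2.pgroup h2.zpowers_le
    have := normal_of_sup_centralizer (sup_centralizer_of_le_center h2.zpowers_le)
    have h5 := blockDefect_infl (QuotientGroup.mk'_surjective _) hR.ker hR.cent' h3.1
    obtain ⟨k, hk⟩ := h2.ord'
    have h6 : k ≠ 0 := fun h6 => h1 (by simpa [h6, Subtype.ext_iff] using hk)
    rw [QuotientGroup.ker_mk', Nat.card_zpowers, hk, hp.out.factorization_pow,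
      Finsupp.single_eq_same] at h5
    have h7 := (blockRank_le_card p _).trans (ih _ _ (IsPBlock.preimage_infl_of_central
      (QuotientGroup.mk'_surjective _) hR.ker hR.cent' h3.1) (by omega))
    have h8 := h2.card_height_zero_sq_le h3
    rw [hR.rank_eq (IsPBlock.isBlockUnion h3.1)] at h7
    rw [show {χ | χ ∈ B ∧ blockHeight p B χ.1 = 0} = B from
      Set.ext fun χ => and_iff_left_of_imp (h0 χ)] at h8
    refine (Nat.pow_le_pow_iff_left two_ne_zero).1 (h8.trans ((Nat.mul_le_mul_left _ h7).trans ?_))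
    rw [← pow_add, ← pow_mul]
    exact Nat.pow_le_pow_right hp.out.pos (by omega)

/-- Let p be a prime, M a maximal ideal of the algebraic integers containing p, and B a p-block of defect d of the finite group G, containing k irreducible characters. Then k ≤ p^d when d ≤ 2, and k ≤ p^(2d − 2) when d ≥ 3. -/
theorem result {G : Type*} [Group G] [Finite G] (p : ℕ) [Fact p.Prime] (M : Ideal Cfsg.AlgInt) (hM : Cfsg.IsPModular p M) (B : Set (Cfsg.IrrCharacter G)) (hB : Cfsg.IsPBlock M B) (d : ℕ) (hd : Cfsg.blockDefect p B = d) : (d ≤ 2 → Nat.card B ≤ p ^ d) ∧ (3 ≤ d → Nat.card B ≤ p ^ (2 * d - 2)) := by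
  haveI : PMod p M := ⟨hM⟩
  subst hd
  refine ⟨small hB, fun h => ?_⟩
  convert large (blockDefect p B - 2) G B hB (by omega) using 2
  omega

end Cfsg.Agent.S4698
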