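import Cfsg.Statements.S4775
import Cfsg.Agent.SzCh.Tab
import Mathlib.Tactic.Group

set_option autoImplicit false
open Cfsg

namespace Cfsg.Agent.S4775
open scoped commutatorElement

open Cfsg.Agent.Sz Cfsg.Agent.SzCh Cfsg.Agent.Char in
theorem degs {F : Type*} [Field F] [Tits F] [Finite F] {G : Type*} [Group G] [SzRep F G] {m : ℕ} (hm : 1 ≤ m)
    (hq : Nat.card F = 2 ^ (2 * m + 1)) {n a b : ℕ} (hn : (n : ℤ) = 2 * (2 ^ m) ^ 2 - 1)
    (ha : (a : ℤ) = 2 * (2 ^ m) ^ 2 + 1 + 2 * 2 ^ m) (hb : (b : ℤ) = 2 * (2 ^ m) ^ 2 + 1 - 2 * 2 ^ m) (d : ℕ) :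
    d ∈ charDegrees G ↔ d = 1 ∨ d = 2 ^ (4 * m + 2) ∨ d = 2 ^ m * n ∨ d = a * b ∨ d = n * b ∨ d = n * a := by
  have := finite_G F G
  have := Fintype.ofFinite G
  obtain ⟨T, h, -⟩ := exists_tori F G hm hq
  obtain ⟨St, W, t⟩ := h.exists_tab
  have hn' : (n : ℂ) = 2 * (2 ^ m) ^ 2 - 1 := by exact_mod_cast congrArg (Int.cast : ℤ → ℂ) hn
  have ha' : (a : ℂ) = 2 * (2 ^ m) ^ 2 + 1 + 2 * 2 ^ m := by exact_mod_cast congrArg (Int.cast : ℤ → ℂ) ha
  have hb' : (b : ℂ) = 2 * (2 ^ m) ^ 2 + 1 - 2 * 2 ^ m := by exact_mod_cast congrArg (Int.cast : ℤ → ℂ) hb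
  have dS : charDegree St = 2 ^ (4 * m + 2) := charDegree_eq_of_apply_one (by rw [t.S1]; push_cast; ring)
  have dW : charDegree W = 2 ^ m * n := charDegree_eq_of_apply_one (by rw [t.W1]; push_cast; rw [hn'])
  have d0 : ∀ χ, Gen m T 0 χ → charDegree χ = a * b := fun χ g =>
    charDegree_eq_of_apply_one (by rw [g.one, dg]; push_cast; rw [ha', hb']; ring)
  have d1 : ∀ χ, Gen m T 1 χ → charDegree χ = n * b := fun χ g =>
    charDegree_eq_of_apply_one (by rw [g.one, dg]; push_cast; rw [hn', hb']; ring)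
  have d2 : ∀ χ, Gen m T (-1) χ → charDegree χ = n * a := fun χ g =>
    charDegree_eq_of_apply_one (by rw [g.one, dg]; push_cast; rw [hn', ha']; ring)
  constructor
  · rintro ⟨χ, rfl⟩
    rcases t.all χ χ.2 with e | e | e | e | ⟨ε, hε, e⟩
    · exact .inl (charDegree_eq_of_apply_one (by rw [e]; simp))
    · rw [e, dS]; tauto
    · rw [e, dW]; tauto
    · rw [show charDegree (χ : G → ℂ) = 2 ^ m * n from charDegree_eq_of_apply_one (by
        rw [e]; beta_reduce; rw [t.irrW.isCharacter.conj_apply_one, t.W1]; push_cast; rw [hn'])]; tauto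
    · simp only [Finset.mem_insert, Finset.mem_singleton] at hε
      rcases hε with rfl | rfl | rfl
      · rw [d0 _ e]; tauto
      · rw [d1 _ e]; tauto
      · rw [d2 _ e]; tauto
  · rintro (rfl | rfl | rfl | rfl | rfl | rfl)
    · exact ⟨irrOne G, charDegree_eq_of_apply_one (by simp)⟩
    · exact ⟨⟨St, t.irrS⟩, dS⟩
    · exact ⟨⟨W, t.irrW⟩, dW⟩
    · obtain ⟨χ, h1, h2⟩ := t.ex 0 (by simp); exact ⟨⟨χ, h1⟩, d0 _ h2⟩
    · obtain ⟨χ, h1, h2⟩ := t.ex 1 (by simp); exact ⟨⟨χ, h1⟩, d1 _ h2⟩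
    · obtain ⟨χ, h1, h2⟩ := t.ex (-1) (by simp); exact ⟨⟨χ, h1⟩, d2 _ h2⟩

/-- Let F be a finite field with q = 2^(2m+1) ≥ 8 elements and let S be isomorphic to the Suzuki group over F. Then the vertices of the character degree graph of S are 2 and the primes dividing (q − 1)(q² + 1); the primes dividing (q − 1)(q² + 1) are pairwise adjacent, and 2 is adjacent exactly to the primes dividing q − 1. -/
theorem result (F : Type*) [Field F] [Fintype F] (m : ℕ) (hm : 1 ≤ m) (q : ℕ) (hq : Fintype.card F = q) (hqm : q = 2 ^ (2 * m + 1)) {S : Type*} [Group S] [Finite S] (hS : Nonempty (S ≃* ↥(Cfsg.Lie.Sz F (2 ^ (m + 1))))) : Cfsg.degreePrimes S = {r : ℕ | r.Prime ∧ (r = 2 ∨ r ∣ (q - 1) * (q ^ 2 + 1))} ∧ ∀ r s : ℕ, (Cfsg.degreeGraph S).Adj r s ↔ (r ≠ s ∧ r.Prime ∧ s.Prime ∧ ((r ∣ (q - 1) * (q ^ 2 + 1) ∧ s ∣ (q - 1) * (q ^ 2 + 1)) ∨ (r = 2 ∧ s ∣ q - 1) ∨ (s = 2 ∧ r ∣ q - 1))) := by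
  obtain ⟨e⟩ := hS
  have hF : Fintype.card F = 2 ^ (2 * m + 1) := hq.trans hqm
  let := Sz.titsOfCard hm hF
  let := Sz.lieRep (Sz.titsOfCard_θ hm hF)
  let : Sz.SzRep F S := Sz.repOfEquiv e
  obtain ⟨a1, -, -⟩ := Sz.arith_tori hm
  have h2 : 2 ^ (m + 1) ≤ 2 ^ (2 * m + 1) := Nat.pow_le_pow_right (by norm_num) (by omega)
  have key := degs (F := F) (G := S) hm (by rw [Nat.card_eq_fintype_card, hF]) (n := q - 1)
    (a := 2 ^ (2 * m + 1) + 2 ^ (m + 1) + 1) (b := 2 ^ (2 * m + 1) - 2 ^ (m + 1) + 1)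
    (by rw [hqm, Nat.cast_sub Nat.one_le_two_pow]; push_cast; ring) (by push_cast; ring)
    (by push_cast [Nat.cast_sub h2]; ring)
  rw [hqm, ← a1, ← hqm]
  rw [← hqm] at key
  generalize q + 2 ^ (m + 1) + 1 = a at *
  generalize q - 2 ^ (m + 1) + 1 = b at *
  generalize q - 1 = n at *
  have p2 : ∀ {r k : ℕ}, r.Prime → r ∣ 2 ^ k → r = 2 := fun hr h =>
    (Nat.prime_dvd_prime_iff_eq hr Nat.prime_two).1 (hr.dvd_of_dvd_pow h)
  have m2 : 2 ∣ 2 ^ m := dvd_pow_self 2 (by omega)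
  refine ⟨Set.ext fun r => and_congr_right fun hr => ⟨?_, ?_⟩, fun r s => and_congr_right fun hne =>
    and_congr_right fun hr => and_congr_right fun hs => ⟨?_, ?_⟩⟩
  · rintro ⟨d, hd, h⟩
    rcases (key d).1 hd with rfl | rfl | rfl | rfl | rfl | rfl <;> simp only [hr.dvd_mul] at h ⊢
    · exact absurd h hr.not_dvd_one
    · exact .inl (p2 hr h)
    · exact h.elim (fun h => .inl (p2 hr h)) (by tauto)
    all_goals tauto
  · simp only [hr.dvd_mul]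
    rintro (rfl | h | h | h)
    · exact ⟨_, (key _).2 (.inr (.inr (.inl rfl))), m2.mul_right _⟩
    · exact ⟨_, (key _).2 (.inr (.inr (.inl rfl))), h.mul_left _⟩
    · exact ⟨_, (key _).2 (.inr (.inr (.inr (.inl rfl)))), h.mul_right _⟩
    · exact ⟨_, (key _).2 (.inr (.inr (.inr (.inl rfl)))), h.mul_left _⟩
  · rintro ⟨d, hd, h⟩
    have h1 := (Dvd.intro _ rfl).trans h
    have h2 := (Dvd.intro_left _ rfl).trans h
    rcases (key d).1 hd with rfl | rfl | rfl | rfl | rfl | rfl <;> simp only [hr.dvd_mul, hs.dvd_mul] at h1 h2 ⊢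
    · exact absurd h1 hr.not_dvd_one
    · exact absurd ((p2 hr h1).trans (p2 hs h2).symm) hne
    · rcases h1 with h1 | h1 <;> rcases h2 with h2 | h2
      · exact absurd ((p2 hr h1).trans (p2 hs h2).symm) hne
      · have := p2 hr h1; tauto
      · have := p2 hs h2; tauto
      · tauto
    all_goals tauto
  · have hc : ∀ {d}, r ∣ d → s ∣ d → r * s ∣ d := fun h1 h2 =>
      ((Nat.coprime_primes hr hs).2 hne).mul_dvd_of_dvd_of_dvd h1 h2
    have k3 := (key _).2 (.inr (.inr (.inl rfl)))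
    have k4 := (key _).2 (.inr (.inr (.inr (.inl rfl))))
    have k5 := (key _).2 (.inr (.inr (.inr (.inr (.inl rfl)))))
    have k6 := (key _).2 (.inr (.inr (.inr (.inr (.inr rfl)))))
    simp only [hr.dvd_mul, hs.dvd_mul]
    rintro (⟨h1 | h1 | h1, h2 | h2 | h2⟩ | ⟨rfl, h⟩ | ⟨rfl, h⟩)
    exacts [⟨_, k5, hc (h1.mul_right _) (h2.mul_right _)⟩, ⟨_, k6, hc (h1.mul_right _) (h2.mul_left _)⟩,
      ⟨_, k5, hc (h1.mul_right _) (h2.mul_left _)⟩, ⟨_, k6, hc (h1.mul_left _) (h2.mul_right _)⟩,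
      ⟨_, k4, hc (h1.mul_right _) (h2.mul_right _)⟩, ⟨_, k4, hc (h1.mul_right _) (h2.mul_left _)⟩,
      ⟨_, k5, hc (h1.mul_left _) (h2.mul_right _)⟩, ⟨_, k4, hc (h1.mul_left _) (h2.mul_right _)⟩,
      ⟨_, k4, hc (h1.mul_left _) (h2.mul_left _)⟩, ⟨_, k3, hc (m2.mul_right _) (h.mul_left _)⟩,
      ⟨_, k3, hc (h.mul_left _) (m2.mul_right _)⟩]

end Cfsg.Agent.S4775
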