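import Cfsg.Statements.S4776
import Cfsg.Agent.Isa.J4

set_option autoImplicit false
open Cfsg

namespace Cfsg.Agent.S4776

open Cfsg.Agent.PF Cfsg.Agent.PF.CH Cfsg.Agent.BG


/-- Let N be a normal subgroup of the finite group G that is not perfect and is contained in the derived subgroup of G. Consider the common-divisor graph on the relative degree set cd(G|N) (the degrees of the irreducible complex characters of G whose kernel does not contain N; two distinct degrees adjacent when they have a common divisor greater than one). Then this graph has at most two connected components; and if a, b ∈ cd(G|N) lie in different components, then one of a, b is coprime to the index m of the derived subgroup of N in N while the other is divisible by every prime divisor of m. -/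
theorem result {G : Type*} [Group G] [Finite G] (N : Subgroup G) [N.Normal] (hN : ⁅N, N⁆ < N) (hNG : N ≤ commutator G) : Nat.card (Cfsg.commonDivisorGraph.induce (Cfsg.relCharDegrees N)).ConnectedComponent ≤ 2 ∧ ∀ (a b : ℕ) (ha : a ∈ Cfsg.relCharDegrees N) (hb : b ∈ Cfsg.relCharDegrees N), ¬ (Cfsg.commonDivisorGraph.induce (Cfsg.relCharDegrees N)).Reachable ⟨a, ha⟩ ⟨b, hb⟩ → (Nat.Coprime a (⁅N, N⁆.relIndex N) ∧ ∀ r : ℕ, r.Prime → r ∣ ⁅N, N⁆.relIndex N → r ∣ b) ∨ (Nat.Coprime b (⁅N, N⁆.relIndex N) ∧ ∀ r : ℕ, r.Prime → r ∣ ⁅N, N⁆.relIndex N → r ∣ a) := by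
  classical
  refine ⟨?_, fun a b ha hb h => cdG_split hNG h⟩
  have h1 := mt Subgroup.relIndex_eq_one.1 hN.not_ge
  have hp := Nat.minFac_prime h1
  have h2 := Nat.minFac_dvd (⁅N, N⁆.relIndex N)
  refine (Nat.card_le_card_of_injective (fun c : (cdG N).ConnectedComponent => decide (∃ a ∈ c.supp,
    (⁅N, N⁆.relIndex N).minFac ∣ a.1)) fun c d e => ?_).trans (by simp)
  have e' := decide_eq_decide.1 e
  induction c using SimpleGraph.ConnectedComponent.ind with
  | _ a =>
  induction d using SimpleGraph.ConnectedComponent.ind with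
  | _ b =>
  by_cases h3 : ∃ c ∈ ((cdG N).connectedComponentMk a).supp, (⁅N, N⁆.relIndex N).minFac ∣ c.1
  · obtain ⟨d, h4, h5⟩ := e'.1 h3
    obtain ⟨c, h6, h7⟩ := h3
    exact h6.symm.trans ((SimpleGraph.ConnectedComponent.sound (reach_of_not_coprime
      (Nat.Prime.not_coprime_iff_dvd.2 ⟨_, hp, h7, h5⟩))).trans h4)
  · refine SimpleGraph.ConnectedComponent.sound (by_contra fun h4 => ?_)
    rcases cdG_split hNG h4 with h5 | h5
    · exact h3 (e'.2 ⟨b, rfl, h5.2 _ hp h2⟩)
    · exact h3 ⟨a, rfl, h5.2 _ hp h2⟩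

end Cfsg.Agent.S4776
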