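import Cfsg.Statements.S4779
import Cfsg.Agent.Isa.J4

set_option autoImplicit false
open Cfsg

namespace Cfsg.Agent.S4779

open Cfsg.Agent.PF Cfsg.Agent.PF.CH Cfsg.Agent.BG


/-- Let N be a solvable normal subgroup of the finite group G contained in the derived subgroup of G, and consider the common-divisor graph on the relative degree set cd(G|N) (degrees of irreducible complex characters of G whose kernel does not contain N, two distinct degrees adjacent when not coprime). If this graph has two vertices that are not joined by any path, then there is a vertex a₀ such that any two distinct vertices in the component of a₀ are adjacent, and any two distinct vertices outside that component are adjacent or have a common neighbour (one component is complete, the other has diameter at most 2). -/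
theorem result {G : Type*} [Group G] [Finite G] (N : Subgroup G) [N.Normal] [Group.IsSolvable N] (hNG : N ≤ commutator G) (hdisc : ¬ (Cfsg.commonDivisorGraph.induce (Cfsg.relCharDegrees N)).Preconnected) : ∃ a₀ : ↥(Cfsg.relCharDegrees N), (∀ b c : ↥(Cfsg.relCharDegrees N), (Cfsg.commonDivisorGraph.induce (Cfsg.relCharDegrees N)).Reachable a₀ b → (Cfsg.commonDivisorGraph.induce (Cfsg.relCharDegrees N)).Reachable a₀ c → b ≠ c → (Cfsg.commonDivisorGraph.induce (Cfsg.relCharDegrees N)).Adj b c) ∧ (∀ b c : ↥(Cfsg.relCharDegrees N), ¬ (Cfsg.commonDivisorGraph.induce (Cfsg.relCharDegrees N)).Reachable a₀ b → ¬ (Cfsg.commonDivisorGraph.induce (Cfsg.relCharDegrees N)).Reachable a₀ c → b ≠ c → (Cfsg.commonDivisorGraph.induce (Cfsg.relCharDegrees N)).Adj b c ∨ ∃ d : ↥(Cfsg.relCharDegrees N), (Cfsg.commonDivisorGraph.induce (Cfsg.relCharDegrees N)).Adj b d ∧ (Cfsg.commonDivisorGraph.induce (Cfsg.relCharDegrees N)).Adj d c) := by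
  classical
  obtain ⟨a, b, hab⟩ : ∃ a b, ¬ (cdG N).Reachable a b := by simpa [SimpleGraph.Preconnected] using hdisc
  have h0 : N ≠ ⊥ := fun e => by
    obtain ⟨χ, h, -⟩ := rs_mem.1 a.2
    exact h.2 (e.trans_le bot_le)
  have h1 := mt Subgroup.relIndex_eq_one.1 (sol_der1_proper (‹_› : Group.IsSolvable N) h0).not_ge
  have hp := Nat.minFac_prime h1
  have h2 := Nat.minFac_dvd (⁅N, N⁆.relIndex N)
  have nc : ∀ {c : ℕ}, (⁅N, N⁆.relIndex N).minFac ∣ c → ¬ c.Coprime (⁅N, N⁆.relIndex N) := fun h =>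
    Nat.Prime.not_coprime_iff_dvd.2 ⟨_, hp, h, h2⟩
  wlog h3 : a.1.Coprime (⁅N, N⁆.relIndex N) ∧ ∀ r : ℕ, r.Prime → r ∣ ⁅N, N⁆.relIndex N → r ∣ b
    generalizing a b
  · exact this b a (mt .symm hab) ((cdG_split hNG hab).resolve_left h3)
  refine ⟨b, fun c d hc hd e => ?_, fun c d hc hd e => ?_⟩
  · have key : ∀ c, (cdG N).Reachable b c → (⁅N, N⁆.relIndex N).minFac ∣ c := fun c hc =>
      ((cdG_split hNG fun h : (cdG N).Reachable a c => hab (h.trans hc.symm)).resolve_right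
        fun h => nc (h.2 _ hp h2) h3.1).2 _ hp h2
    exact adj_of_ne (Nat.Prime.not_coprime_iff_dvd.2 ⟨_, hp, key c hc, key d hd⟩) e
  have key : ∀ c, ¬ (cdG N).Reachable b c → c.1.Coprime (⁅N, N⁆.relIndex N) := fun c hc =>
    ((cdG_split hNG hc).resolve_left fun h => nc (h3.2 _ hp h2) h.1).1
  obtain ⟨χ, a1, a2⟩ := rs_mem.1 c.2
  obtain ⟨ψ, b1, b2⟩ := rs_mem.1 d.2
  refine or_iff_not_imp_left.2 fun h4 => ?_
  have h5 : (deg χ).Coprime (deg ψ) := by_contra fun h => h4 (adj_of_ne (a2 ▸ b2 ▸ h) e)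
  rcases rs_main (normal_top N) hNG a1 b1 (coprime_pi'.1 (a2 ▸ key c hc).symm)
    (coprime_pi'.1 (b2 ▸ key d hd).symm) with (h6 | ⟨ξ, h6, h7⟩) | ⟨θ, φ, c1, d1, c2, d2, c3, d3⟩
  · exact (h6.2.2 h5).elim
  · refine ⟨⟨_, rs_mem.2 ⟨_, h7.1, rfl⟩⟩, adj_of_ne (a2 ▸ h6.2.2) fun e => h7.2.2 ?_,
      adj_of_ne (b2 ▸ h7.2.2) fun e => h6.2.2 ?_⟩
    · rwa [← show c.1 = deg ξ from congrArg Subtype.val e, ← a2]
    · rwa [show deg ξ = d.1 from congrArg Subtype.val e, ← b2]
  have e1 := deg_dvd_deg (normal_top N) c1.irr a1.1 c3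
  have e2 := deg_dvd_deg (normal_top N) d1.irr b1.1 d3
  rcases sol_special (normal_top N) ‹_› c1 d1 c2 d2 with ⟨ξ, h6, h7, h8⟩ | h6
  swap
  · exact (h6 ((h5.coprime_dvd_left e1).coprime_dvd_right e2)).elim
  obtain ⟨r, h9, f1, f2⟩ := Nat.Prime.not_coprime_iff_dvd.1 h8
  obtain ⟨η, f3, f4⟩ := exists_rs (normal_top N) h6 h9 fun η f3 f4 =>
    f1.trans (deg_dvd_deg (normal_top N) h6 f3 f4)
  have f5 := deg_dvd_deg (normal_top N) h6 f3.1 f4
  have f6 : (cdG N).Reachable b ⟨_, rs_mem.2 ⟨η, f3, rfl⟩⟩ := reach_of_not_coprime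
    (Nat.Prime.not_coprime_iff_dvd.2 ⟨r, h9, h3.2 r h9 f2, f1.trans f5⟩)
  have f7 : ∀ {θ}, Tp (primesOf (⁅N, N⁆.relIndex N)) N θ → θ ≠ one N → deg θ ≠ 1 := fun h h' e => h' (by
    obtain ⟨k, rfl⟩ := Irr_exists_lin h.irr (by rw [Irr_apply_one h.irr, e, Nat.cast_one])
    exact lin_eq_one_iff.2 (orderOf_eq_one_iff.1 (pnat_1 ((pnat_pi _).of_dvd
      (by rw [← card_Dual']; exact orderOf_dvd_natCard k)) (dt_lin k ▸ h.ord))))
  rcases h7 with h7 | h7
  · exact (hc (f6.trans (reach_of_not_coprime fun h => f7 c1 c2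
      (Nat.eq_one_of_dvd_coprimes h (h7.trans f5) (a2 ▸ e1))))).elim
  · exact (hd (f6.trans (reach_of_not_coprime fun h => f7 d1 d2
      (Nat.eq_one_of_dvd_coprimes h (h7.trans f5) (b2 ▸ e2))))).elim

end Cfsg.Agent.S4779
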