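import Cfsg.Statements.S4976
import Cfsg.Agent.Hz.R3
-- import your own Cfsg.Agent.* helpers here

set_option autoImplicit false
open Cfsg

namespace Cfsg.Agent.S4976

/-- Let G be a finite group of order divisible by 3 that is generated by its 2-elements (G has no proper normal subgroup of odd index). Then no element of order 3 in G is conjugate to its inverse if and only if the quotient of G by its largest normal subgroup of order prime to 3 is isomorphic to a direct product of groups PSL₂ over fields with 3^{2f+1} elements, f ≥ 1 (the exponents may differ between factors). -/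
theorem result {G : Type*} [Group G] [Finite G] (h3 : 3 ∣ Nat.card G) (hgen : Subgroup.closure {g : G | ∃ k : ℕ, orderOf g = 2 ^ k} = ⊤) : (∀ x : G, orderOf x = 3 → ¬ IsConj x x⁻¹) ↔ ∃ (k : ℕ) (f : Fin k → ℕ), (∀ i, 1 ≤ f i) ∧ Nonempty (G ⧸ Cfsg.pPrimeCore 3 G ≃* ((i : Fin k) → Matrix.ProjectiveSpecialLinearGroup (Fin 2) (GaloisField 3 (2 * f i + 1)))) := by
  haveI := Fact.mk Nat.prime_three
  refine ⟨fun h => ?_, fun ⟨k, f, _, ⟨e⟩⟩ x hx hc => ?_⟩
  · have h1 : Hz3.NR G := fun t y y3 e => by_contra fun y1 =>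
      h y (orderOf_eq_prime y3 y1) (isConj_iff.2 ⟨t, e⟩)
    refine (h1.sec (PLocal.involves_quot _)).struct (Solv.pPrimeCore_quotient_pPrimeCore 3 G) fun K hK => ?_
    rw [eq_top_iff, ← Subgroup.map_top_of_surjective _ (QuotientGroup.mk'_surjective (pPrimeCore 3 G)), ← hgen,
      Subgroup.map_le_iff_le_comap, Subgroup.closure_le]
    rintro g ⟨k, hk⟩
    exact hK _ k (by rw [← map_pow, ← hk, pow_orderOf_eq_one, map_one])
  · obtain ⟨c, hc⟩ := isConj_iff.1 hc
    have h1 : e (QuotientGroup.mk x) = 1 := funext fun i => by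
      obtain ⟨h3, h4⟩ := Sig.psl_card_three (F := GaloisField 3 (2 * f i + 1)) (n := f i)
        (GaloisField.card 3 _ (by omega))
      refine Sig.psl_not_real h3 h4 (t := e (QuotientGroup.mk c) i) ?_ ?_
      · rw [← Pi.pow_apply, ← map_pow, ← QuotientGroup.mk_pow, show x ^ 3 = 1 by rw [← hx, pow_orderOf_eq_one]]; simp
      · have := congrArg (fun y : G => e (QuotientGroup.mk y) i) hc
        simpa using this
    have h2 := Subgroup.orderOf_dvd_natCard _ ((QuotientGroup.eq_one_iff _).1 (e.map_eq_one_iff.1 h1))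
    rw [hx] at h2
    exact Solv.not_dvd_card_pPrimeCore 3 G h2

end Cfsg.Agent.S4976
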