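import Cfsg.Statements.S4997
import Cfsg.Agent.Mult.NonVan3

set_option autoImplicit false
open Cfsg

namespace Cfsg.Agent.S4997



/-- Let p be an odd prime and G a finite solvable group with exactly one conjugacy class consisting of vanishing elements (elements at which some irreducible complex character is zero) of order divisible by p. Let P be a Sylow p-subgroup of G. Then the order of P is at most p times the order of the largest normal p-subgroup of G. -/
theorem result {G : Type*} [Group G] [Finite G] (hsolv : Group.IsSolvable G) (p : ℕ) [Fact p.Prime] (hp : p ≠ 2) (h1 : Set.ncard {C : ConjClasses G | (∀ g ∈ C.carrier, ∃ χ : Cfsg.IrrCharacter G, (χ : G → ℂ) g = 0) ∧ ∃ g ∈ C.carrier, p ∣ orderOf g} = 1) (P : Sylow p G) : Nat.card ↥(P : Subgroup G) ≤ p * Nat.card ↥(Cfsg.pCore p G) := by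
  obtain ⟨C, hC⟩ := Set.ncard_eq_one.1 h1
  have key : ∀ g : G, Mult.NV.Van g → p ∣ orderOf g → ConjClasses.mk g = C := by
    rintro g ⟨χ, h2, h3⟩ hd
    rw [← Set.mem_singleton_iff, ← hC]
    refine ⟨fun x hx => ⟨⟨χ, h2⟩, ?_⟩, g, ConjClasses.mem_carrier_mk, hd⟩
    obtain ⟨c, rfl⟩ := isConj_iff.1 (ConjClasses.mk_eq_mk_iff_isConj.1
      (ConjClasses.mem_carrier_iff_mk_eq.1 hx).symm)
    exact (Char.IsIrrCharacter.isClassFunction h2 g c).trans h3
  have h4 := Mult.NV.card_map_dvd (fun g g' a b c d => by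
    obtain ⟨t, rfl⟩ := isConj_iff.1 (ConjClasses.mk_eq_mk_iff_isConj.1
      ((key g a b).trans (key g' c d).symm))
    exact (MulEquiv.orderOf_eq (MulAut.conj t) g).symm) P
  have h5 := Subgroup.relIndex_ker (P : Subgroup G) (QuotientGroup.mk' (pCore p G))
  rw [QuotientGroup.ker_mk'] at h5
  have h6 := ((pCore p G).subgroupOf (P : Subgroup G)).card_mul_index
  rw [Nat.card_congr (Subgroup.subgroupOfEquivOfLe (Solv.pCore_le_sylow P)).toEquiv] at h6
  rw [← h6, mul_comm]
  rw [← h5] at h4
  exact Nat.mul_le_mul_right _ (Nat.le_of_dvd (Fact.out : p.Prime).pos h4)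

end Cfsg.Agent.S4997
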