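import Cfsg.Statements.S5044
import Cfsg.Agent.Root.Inv2

set_option autoImplicit false
open Cfsg

namespace Cfsg.Agent.S5044
open Cfsg.Agent.Root

/-- Let G be a finite group generated by a set D of root involutions (a conjugation-invariant set of involutions any two of which commute, have product of odd order, or have product of order 4 whose square lies in D), and suppose some product of two different commuting members of D lies again in D. Then either the commuting graph of D is connected, or the quotient of G by the preimage of the centre of G/O₂(G) is isomorphic to L₂(q), Sz(q) or U₃(q) for a power q > 2 of 2. -/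
theorem result {G : Type*} [Group G] [Finite G] {D : Set G} (hD : Cfsg.IsRootInvolutionSet D)
    (hDD : (D ∩ Cfsg.commutingProducts D).Nonempty) :
    Cfsg.IsConnectedSet (Cfsg.CommAdj D) D ∨
    (∃ (F : Type) (_ : Field F) (_ : Fintype F), CharP F 2 ∧ 4 ≤ Fintype.card F ∧
      Nonempty (G ⧸ Cfsg.twoZCore G ≃* Matrix.ProjectiveSpecialLinearGroup (Fin 2) F)) ∨
    Cfsg.Lie.IsoSuzuki (G ⧸ Cfsg.twoZCore G) ∨
    (∃ (F : Type) (_ : Field F) (_ : Fintype F) (q : ℕ), CharP F 2 ∧ Fintype.card F = q ^ 2 ∧ 4 ≤ q ∧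
      Nonempty (G ⧸ Cfsg.twoZCore G ≃* Cfsg.PSU 3 F q)) := by
  refine or_iff_not_imp_left.2 fun hn => ?_
  obtain ⟨H, β, h, -⟩ := RI.exists_blk hD hn
  obtain ⟨_, t, Q, k⟩ := h.hyp (h.rank2 hDD) (SE.pt H)
  have e0 : G ⧸ twoZCore G ≃* Im G (G ⧸ H) :=
    (QuotientGroup.quotientMulEquivOfEq (h.ker_eq hDD).symm).trans (QuotientGroup.quotientKerEquivRange _)
  have four : ∀ n, 2 ≤ n → 4 ≤ 2 ^ n := fun n hn => Nat.pow_le_pow_right (n := 2) (by norm_num) hn
  rcases k.suzuki_simple with ⟨F, i1, i2, n, h1, h2, -, ⟨e⟩⟩ | ⟨F, i1, i2, n, h1, h2, -, ⟨e⟩⟩ |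
    ⟨F, i1, i2, n, h1, h2, -, ⟨e⟩⟩
  · exact Or.inl ⟨F, i1, i2, charP_of_card_eq_prime_pow h2, h2 ▸ four n h1, ⟨e0.trans e⟩⟩
  · exact Or.inr (Or.inl ⟨F, i1, i2, n, h1, h2, ⟨e0.trans e⟩⟩)
  · exact Or.inr (Or.inr ⟨F, i1, i2, 2 ^ n, charP_of_card_eq_prime_pow (h2.trans (pow_mul 2 n 2).symm), h2,
      four n h1, ⟨e0.trans e⟩⟩)

end Cfsg.Agent.S5044
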