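import Cfsg.Statements.S5048
import Cfsg.Agent.Root.Inv2
import Cfsg.Agent.Gen2.SolRad

set_option autoImplicit false
open Cfsg

namespace Cfsg.Agent.S5048
open Cfsg.Agent.Root Cfsg.Agent.Gen2

/-- Let G be a finite group generated by a set D of root involutions whose odd-order-product graph is connected, with some product of two different commuting members of D again in D. Then the largest solvable normal subgroup of G is the preimage of the centre of G/O₂(G), and the quotient of G by it is a simple group. -/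
theorem result {G : Type*} [Group G] [Finite G] {D : Set G} (hD : Cfsg.IsRootInvolutionSet D)
    (hc : Cfsg.IsConnectedSet (Cfsg.OddAdj D) D) (hDD : (D ∩ Cfsg.commutingProducts D).Nonempty) :
    Cfsg.solvableRadical G = Cfsg.twoZCore G ∧ IsSimpleGroup (G ⧸ Cfsg.twoZCore G) := by
  obtain ⟨_, hm, a, ha, c, hc', k, hne, rfl⟩ := hDD
  have hcl : ∀ a ∈ D, ∀ b ∈ D, IsConj a b := fun a ha b hb => RI.oconn_isConj hD (hc a ha b hb)
  have top : ∀ N : Subgroup G, N.Normal → ∀ d ∈ D, d ∈ N → N = ⊤ := fun N hN d hd k => by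
    rw [eq_top_iff, ← hD.generates, Subgroup.closure_le]
    intro y hy
    obtain ⟨g, rfl⟩ := isConj_iff.1 (hcl d hd y hy)
    exact hN.conj_mem d k g
  have key : ∀ N : Subgroup G, N.Normal → N = ⊤ ∨ N ≤ twoZCore G := fun N hN =>
    or_iff_not_imp_left.2 fun hn => RI.le_twoZ hD fun d hd n hn' o => by
      obtain ⟨g, rfl⟩ := isConj_iff.1 (hcl a ha d hd)
      replace hm := hD.conj_mem _ hm g
      replace k := Commute.conj k g
      replace hc' := hD.conj_mem _ hc' g
      rw [← conj_mul] at hm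
      generalize g * a * g⁻¹ = a at *
      generalize g * c * g⁻¹ = c at *
      have hx := hD.conj_mem a hd n
      have e : ((n * a * n⁻¹ : G) : G ⧸ N) = a := by
        rw [QuotientGroup.mk_mul, QuotientGroup.mk_mul, QuotientGroup.mk_inv, (QuotientGroup.eq_one_iff n).2 hn']; simp
      have e2 : ((c : G ⧸ N) * a) ^ 2 = 1 := by
        rw [← QuotientGroup.mk_mul, ← QuotientGroup.mk_pow, sq, ← k.eq, RI.sq hD hm, QuotientGroup.mk_one]
      by_cases o' : Od c (n * a * n⁻¹)
      · refine hn (top N hN _ hm ((QuotientGroup.eq_one_iff _).1 ?_))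
        rw [k.eq, QuotientGroup.mk_mul]
        refine eq_one_of_odd (k := 1) o'.2 ?_ e2
        rw [← e, ← QuotientGroup.mk_mul, ← QuotientGroup.mk_pow, pow_orderOf_eq_one, QuotientGroup.mk_one]
      · refine hn (top N hN _ (RI.fo_mem hD hc' hx (RI.fo_of_not_od hD hd hx o hc' k hm o'))
          ((QuotientGroup.eq_one_iff _).1 ?_))
        rw [mul_assoc (c * _), QuotientGroup.mk_mul, QuotientGroup.mk_mul, e, ← sq, e2]
  obtain ⟨x, hx, o⟩ := OConn.exists_od (hc a ha c hc') fun e => hne (by rw [e, RI.sq hD ha])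
  obtain ⟨m, hm'⟩ := o.exists_conj (RI.sq hD ha) (RI.sq hD hx)
  have hZ : a * x ∉ twoZCore G := fun e => RI.not_od_twoZ hD ha (pow_mem e m) (hm'.symm ▸ o)
  have hs : Group.IsSolvable (twoZCore G) := by
    haveI := (Solv.isPGroup_pCore 2 G).isNilpotent
    haveI : Group.IsSolvable (Subgroup.center (G ⧸ pCore 2 G)) :=
      Group.isSolvable_of_comm fun a b => Subtype.ext (Subgroup.mem_center_iff.1 b.2 a)
    refine Group.isSolvable_of_ker_le_range (Subgroup.inclusion (show pCore 2 G ≤ twoZCore G from fun q hq => ?_))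
      (((QuotientGroup.mk' (pCore 2 G)).subgroupComap _)) fun q hq => ⟨⟨q, ?_⟩, rfl⟩
    · change _ ∈ Subgroup.center _
      rw [QuotientGroup.mk'_apply, (QuotientGroup.eq_one_iff q).2 hq]; exact one_mem _
    · exact (QuotientGroup.eq_one_iff _).1 (congrArg Subtype.val hq)
  refine ⟨le_antisymm ((key _ inferInstance).resolve_left fun e => ?_) le_solRad, ?_⟩
  · haveI := solRad_eq_top_iff.1 e
    haveI : Nontrivial G := ⟨⟨a, 1, RI.ne_one hD ha⟩⟩
    refine hZ ((key _ inferInstance).resolve_left (Group.IsSolvable.commutator_lt_top_of_nontrivial G).ne ?_)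
    have := Subgroup.commutator_mem_commutator (Subgroup.mem_top a) (Subgroup.mem_top ((a * x) ^ m))
    rwa [commutatorElement_def, mul_assoc, mul_assoc, ← mul_assoc _ a⁻¹, RI.inv hD ha, hm'] at this
  · haveI : Nontrivial (G ⧸ twoZCore G) := ⟨⟨_, 1, fun e => hZ ((QuotientGroup.eq_one_iff _).1 e)⟩⟩
    refine ⟨fun N hN => (key _ (hN.comap (QuotientGroup.mk' _))).symm.imp (fun e => ?_) fun e => ?_⟩
    · rw [eq_bot_iff]
      intro y hy
      obtain ⟨y, rfl⟩ := QuotientGroup.mk_surjective y
      exact (QuotientGroup.eq_one_iff _).2 (e hy)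
    · rw [eq_top_iff]
      intro y _
      obtain ⟨y, rfl⟩ := QuotientGroup.mk_surjective y
      exact e.ge (Subgroup.mem_top y)

end Cfsg.Agent.S5048
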