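import Cfsg.Statements.S5050
import Cfsg.Agent.Root.Inv8

set_option autoImplicit false
open Cfsg

namespace Cfsg.Agent.S5050
open Cfsg.Agent.Root

section
universe u
variable {G : Type u} [Group G] [Finite G] {D : Set G} {a c d f x : G}

theorem even_of_invol' {S : Set G} (g : G → G) (h1 : ∀ a ∈ S, g a ∈ S) (h2 : ∀ a ∈ S, g (g a) = a)
    (h3 : ∀ a ∈ S, g a ≠ a) : Even S.ncard := by
  have := Finset.sum_involution (s := S.toFinite.toFinset) (f := fun _ => (1 : ZMod 2)) (fun a _ => g a) (fun _ _ => rfl)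
    (fun a ha _ => h3 a (by simpa using ha)) (fun a ha => by simpa using h1 a (by simpa using ha))
    fun a ha => h2 a (by simpa using ha)
  rw [Finset.sum_const, nsmul_eq_mul, mul_one, ZMod.natCast_eq_zero_iff_even] at this
  rwa [Set.ncard_eq_toFinset_card]

theorem swap2 (h : OE D) (T : OE.Tri D d f c a x) : ∃ g ∈ XS D d {x}, Sm D (g * d * g⁻¹) d ∧ ∃ r ∈ XS D d {c, x},
    (∀ b, r * (r * b * r⁻¹) * r⁻¹ = b) ∧ (∀ b ∈ D, Commute b c → Commute b d → Commute b (r * c * r⁻¹) ∧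
      Commute b (r * d * r⁻¹)) ∧ ∀ b ∈ D, r * b * r⁻¹ = b → Commute b (g * x * g⁻¹) := by
  obtain ⟨g, hg, s0, t, ht, c1, ne, hr, s1⟩ := h.swap T
  have ht' := (h.tclY T).sub ht
  have hx := h.ri.conj_mem x T.hx g
  have r2 := mul_sq' (h.sq ht') (h.sq hx) c1
  have k : ∀ b ∈ D, Commute (t * (g * x * g⁻¹)) b → Commute b (g * x * g⁻¹) := fun b hb c2 =>
    h.toOC.cc hx ht' c1.symm ne.symm hb (c1.eq ▸ c2.symm)
  generalize t * (g * x * g⁻¹) = r at *
  have e : ∀ b, r * (r * b * r⁻¹) * r⁻¹ = b := fun b => by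
    rw [show r * (r * b * r⁻¹) * r⁻¹ = (r * r) * b * (r * r)⁻¹ by group, r2, inv_one, mul_one, one_mul]
  have s2 := RI.sm_conj h.ri s1 r
  rw [e] at s2
  exact ⟨g, hg, s0, r, hr.1, e, fun b hb k1 k2 => ⟨(s2 b hb).1 k2, (s1 b hb).2 k1⟩,
    fun b hb e => k b hb (mul_inv_eq_iff_eq_mul.1 e)⟩

theorem exists_comm (h : OE D) (hc : IsConnectedSet (CommAdj D) D) (hd : d ∈ D) (hx : x ∈ D) (n1 : ¬ Commute x d) :
    ∃ b ∈ D, Commute b d ∧ Commute b x := by
  classical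
  by_contra! H
  obtain ⟨c, hc, cd, ns, xc⟩ := h.good hc hd hx n1
  obtain ⟨f, a, T⟩ := h.exists_tri hd hc hx cd ns n1 xc
  let L : Set G := {b | b ∈ D ∧ ∀ y ∈ D, Commute y c → Commute y d → Commute y b}
  have inv : ∀ r, (∀ y ∈ D, Commute y c → Commute y d → Commute y (r * c * r⁻¹) ∧ Commute y (r * d * r⁻¹)) →
      ∀ b ∈ L, r * b * r⁻¹ ∈ L := fun r k b hb => ⟨h.ri.conj_mem b hb.1 r, fun y hy k1 k2 =>
    cmj_iff.2 (hb.2 _ (h.ri.conj_mem y hy _) (cmj_iff.1 (k y hy k1 k2).1) (cmj_iff.1 (k y hy k1 k2).2))⟩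
  have Ld : ∀ b ∈ L, Commute b d := fun b hb => (hb.2 d hd cd.symm (Commute.refl d)).symm
  have ev1 : Even L.ncard := by
    obtain ⟨g, -, s0, r, -, e, k1, k2⟩ := swap2 h T
    exact even_of_invol' (fun b => r * b * r⁻¹) (inv r k1) (fun b _ => e b) fun b hb e =>
      H _ (h.ri.conj_mem b hb.1 _) (cmj_iff.1 ((s0 b hb.1).2 (Ld b hb))) (cmj_iff.1 (k2 b hb.1 e))
  have ex : ∀ b ∈ D, ¬ Sm D b d → ∃ y ∈ D, Commute y d ∧ ¬ Commute y b := fun b hb n => by
    by_contra! K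
    exact n (h.toOC.sm_of_le hd hb K).symm
  have sym : ∀ b ∈ L, ¬ Sm D b d → ∀ y ∈ D, Commute y b → Commute y d → Commute y c := fun b hb n y hy k1 k2 => by
    obtain ⟨z, hz, zd, zb⟩ := ex b hb.1 n
    obtain ⟨g, c1, rfl⟩ := h.toOC.conj_in2 hc hb.1 hz (fun k => zb (hb.2 z hz k.symm zd)) zb cd.symm (Ld b hb).symm zd.symm
    have key : ∀ y ∈ D, Commute y (g * c * g⁻¹) → Commute y d →
        g⁻¹ * y * g⁻¹⁻¹ ∈ {y | y ∈ D ∧ Commute y c ∧ Commute y d} := fun y hy k1 k2 =>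
      ⟨h.ri.conj_mem y hy _, cmj_iff.1 k1, cmj_iff.1 (by rwa [← c1.eq, mul_inv_cancel_right])⟩
    exact (conj_sub (fun y hy => key y hy.1 (hb.2 y hy.1 hy.2.1 hy.2.2) hy.2.2) (key y hy k1 k2)).2.1
  have aL : a ∈ L := ⟨T.ha, fun y hy => h.line T hy⟩
  obtain ⟨y, hy, yd, yc⟩ := ex c hc ns
  obtain ⟨f', a', T'⟩ := h.exists_tri hc T.ha hy T.ac (fun s => (h.tri_ns T).2 s.symm) yc
    fun k => yc (sym a aL (h.tri_ns T).1 y hy k yd)
  obtain ⟨g, hg, s0, r, hr, e, k1, k2⟩ := swap2 h T'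
  have cE : ∀ b ∈ D, Sm D b d → Commute r b := fun b hb s => XS.comm
    (fun u hu s' => (s u hu).2 ((s' d hd).2 cd.symm).symm) (by
      rintro _ (rfl | rfl)
      exacts [(s _ T.ha).2 T.ad, (s _ hy).2 yd]) hr
  have iL := inv r fun z hz c1 c2 => ⟨(k1 z hz (aL.2 z hz c1 c2) c1).2, by
    rwa [(cE d hd (Sm.refl d)).eq, mul_inv_cancel_right]⟩
  have nS : ∀ b ∈ D, ¬ Sm D b d → ¬ Sm D (r * b * r⁻¹) d := fun b hb n s => n (by
    rwa [← e b, (cE _ (h.ri.conj_mem b hb r) s).eq, mul_inv_cancel_right])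
  have mS : ∀ b ∈ L \ {d}, Sm D b d → b * d ∈ D ∧ Sm D (b * d) d := fun b hb s =>
    (h.cls b hb.1.1 d hd s).resolve_left fun e => hb.2 ((eq_inv_of_mul_eq_one_left e).trans (RI.inv h.ri hd))
  have ev2 : Even (L \ {d}).ncard := by
    refine even_of_invol' (fun b => if Sm D b d then b * d else r * b * r⁻¹) (fun b hb => ?_) (fun b hb => ?_)
      fun b hb => ?_ <;> by_cases s : Sm D b d
    · simp only [if_pos s]
      exact ⟨⟨(mS b hb s).1, fun z hz _ k => ((mS b hb s).2 z hz).2 k⟩, fun e => RI.ne_one h.ri hb.1.1 (by simpa using e)⟩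
    · simp only [if_neg s]
      exact ⟨iL b hb.1, fun e => nS b hb.1.1 s (by rw [show r * b * r⁻¹ = d from e]; exact Sm.refl d)⟩
    · simp only [if_pos s, if_pos (mS b hb s).2, mul_assoc, h.sq hd, mul_one]
    · simp only [if_neg s, if_neg (nS b hb.1.1 s), e]
    · simpa only [if_pos s, ne_eq, mul_eq_left] using RI.ne_one h.ri hd
    simp only [if_neg s]
    intro e'
    have ht := h.ri.conj_mem y hy g
    have c1 : Commute g d := XS.comm (fun u hu s' => ((s' d hd).2 cd.symm).symm) (by rintro _ rfl; exact yd) hg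
    have := (s0 _ ht).2 (sym b hb.1 s _ ht (k2 b hb.1.1 e').symm ((c1.mul_left yd).mul_left c1.inv_left))
    exact yc (by simpa [mul_assoc] using this.conj g⁻¹)
  rw [← Set.ncard_sdiff_singleton_add_one (show d ∈ L from ⟨hd, fun _ _ _ k => k⟩), Nat.even_add_one] at ev1
  exact ev1 ev2

end

/-- Let G be a finite group generated by a class D of odd transpositions whose commuting graph is connected, with some product of two different commuting members again in D. Then for every d ∈ D and every x ∈ D with dx of odd order greater than 1, some member of D commutes with both d and x. -/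
theorem result {G : Type*} [Group G] [Finite G] {D : Set G} (hD : Cfsg.IsOddTranspositionSet D) (hcl : Cfsg.IsRootInvolutionClass D)
    (hc : Cfsg.IsConnectedSet (Cfsg.CommAdj D) D) (hDD : (D ∩ Cfsg.commutingProducts D).Nonempty)
    {d x : G} (hd : d ∈ D) (hx : x ∈ Cfsg.oddPartners D d) : ∃ e ∈ D, e * d = d * e ∧ e * x = x * e := by
  have h := oc_of hD hcl
  let φ := QuotientGroup.mk' (pCore 2 G)
  have hk : IsPGroup 2 φ.ker := by rw [QuotientGroup.ker_mk']; exact Solv.isPGroup_pCore 2 G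
  have n1 : ¬ Commute (φ x) (φ d) := fun c => h.nc hd hx.1 ⟨hx.2.1.symm, hx.2.2⟩ (h.comm_of_map φ hk hx.1 hd c).symm
  have ne : ∀ y ∈ D, φ y ≠ 1 := fun y hy e => n1 (by
    have := φ.map_isConj (h.cl y hy d hd)
    rw [e, isConj_one_right] at this
    rw [this]; exact Commute.one_right _)
  have h' := (h.map φ (QuotientGroup.mk'_surjective _) ne).oe (Solv.pCore_quotient_pCore 2 G) (by
    obtain ⟨_, hm, a, ha, b, hb, k, -, rfl⟩ := hDD
    exact ⟨_, ⟨_, hm, rfl⟩, _, ⟨a, ha, rfl⟩, _, ⟨b, hb, rfl⟩, Commute.map k φ, map_mul φ a b ▸ ne _ hm, map_mul φ a b⟩)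
  obtain ⟨_, ⟨b, hb, rfl⟩, c1, c2⟩ := exists_comm h' (by
    rintro _ ⟨a, ha, rfl⟩ _ ⟨b, hb, rfl⟩
    have := hc a ha b hb
    clear hb
    induction this with
    | refl => exact .refl
    | tail _ k ih => exact ih.trans (CConn.of_comm ⟨_, k.1, rfl⟩ ⟨_, k.2.1, rfl⟩ (Commute.map k.2.2.2 φ)))
    ⟨d, hd, rfl⟩ ⟨x, hx.1, rfl⟩ n1
  exact ⟨b, hb, h.comm_of_map φ hk hb hd c1, h.comm_of_map φ hk hb hx.1 c2⟩

end Cfsg.Agent.S5050
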