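import Cfsg.Statements.S5051
import Cfsg.Agent.Root.Inv5

set_option autoImplicit false
open Cfsg

namespace Cfsg.Agent.S5051
open Cfsg.Agent.Root

/-- Let G be a finite group generated by a set D of odd transpositions, d ∈ D, x ∈ D with dx of odd order greater than 1, and X the subgroup generated by x together with the members of D having the same commuting members as d. Then X/O₂(X) is isomorphic to L₂(q) or Sz(q) for a power q > 2 of 2, or is a dihedral group. -/
theorem result {G : Type*} [Group G] [Finite G] {D : Set G} (hD : Cfsg.IsOddTranspositionSet D) {d x : G} (hd : d ∈ D)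
    (hx : x ∈ Cfsg.oddPartners D d) :
    (∃ (F : Type) (_ : Field F) (_ : Fintype F), CharP F 2 ∧ 4 ≤ Fintype.card F ∧
      Nonempty ((↥(Subgroup.closure (Cfsg.sameCommutingClass D d ∪ {x})) ⧸
        Cfsg.pCore 2 ↥(Subgroup.closure (Cfsg.sameCommutingClass D d ∪ {x}))) ≃* Matrix.ProjectiveSpecialLinearGroup (Fin 2) F)) ∨
    Cfsg.Lie.IsoSuzuki ((↥(Subgroup.closure (Cfsg.sameCommutingClass D d ∪ {x})) ⧸
        Cfsg.pCore 2 ↥(Subgroup.closure (Cfsg.sameCommutingClass D d ∪ {x})))) ∨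
    (∃ n : ℕ, Nonempty ((↥(Subgroup.closure (Cfsg.sameCommutingClass D d ∪ {x})) ⧸
        Cfsg.pCore 2 ↥(Subgroup.closure (Cfsg.sameCommutingClass D d ∪ {x}))) ≃* DihedralGroup n)) := by
  have nf := nf_of hD
  have o : Od d x := ⟨hx.2.1.symm, hx.2.2⟩
  have sq := fun a (ha : a ∈ D) => RI.sq hD.1 ha
  have hE : ∀ e, e ∈ sameCommutingClass D d ∪ {x} → e ∈ Subgroup.closure (sameCommutingClass D d ∪ {x}) :=
    fun e he => Subgroup.subset_closure he
  generalize hX : Subgroup.closure (sameCommutingClass D d ∪ {x}) = X at *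
  have hdX : d ∈ X := hE d (Or.inl ⟨hd, rfl⟩)
  have hxX : x ∈ X := hE x (Or.inr rfl)
  obtain ⟨m, hm⟩ := o.exists_conj (sq d hd) (sq x hx.1)
  have hg := pow_mem (mul_mem hdX hxX) m
  have hS : ∀ s ∈ sameCommutingClass D d ∪ {x}, ∃ g ∈ X, s = g * d * g⁻¹ := by
    rintro s (hs | rfl)
    · obtain ⟨hs', k⟩ := mem_E_iff.1 hs
      obtain ⟨n, hn⟩ := (RI.od_of_comm hD.1 hd hs' (fun c hc => (k c hc).1) hx.1 o).symm.exists_conj (sq x hx.1) (sq s hs')
      exact ⟨_, mul_mem (pow_mem (mul_mem hxX (hE s (Or.inl hs))) n) hg, by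
        rw [mul_inv_rev, mul_assoc _ _ d, mul_assoc _ (_ * d), ← mul_assoc (_ * d), hm, ← mul_assoc, hn]⟩
    · exact ⟨_, hg, hm.symm⟩
  have h := OC.sub hD.1 nf hd hdX hX hS
  set E : Set X := Subtype.val ⁻¹' {y | ∃ g ∈ X, y = g * d * g⁻¹}
  have hED : ∀ y ∈ E, (y : G) ∈ D := by rintro ⟨_, _⟩ ⟨g, -, rfl⟩; exact hD.1.conj_mem d hd g
  have md : (⟨d, hdX⟩ : X) ∈ E := ⟨1, one_mem _, by simp⟩
  have mx : (⟨x, hxX⟩ : X) ∈ E := hS x (Or.inr rfl)
  let φ := QuotientGroup.mk' (pCore 2 X)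
  have hk : IsPGroup 2 φ.ker := by rw [QuotientGroup.ker_mk']; exact Solv.isPGroup_pCore 2 X
  have n1 : ¬ Commute (φ ⟨x, hxX⟩) (φ ⟨d, hdX⟩) := fun c =>
    o.symm.not_comm (sq x hx.1) (sq d hd) (congrArg Subtype.val (h.comm_of_map φ hk mx md c))
  have h' := h.map φ (QuotientGroup.mk'_surjective _) fun y hy e => n1 (by
    have := φ.map_isConj (h.cl y hy _ md)
    rw [e, isConj_one_right] at this
    rw [this]; exact Commute.one_right _)
  refine h'.list (Solv.pCore_quotient_pCore 2 X) ⟨_, md, rfl⟩ ⟨_, mx, rfl⟩ n1 ?_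
  rw [eq_top_iff, ← Subgroup.map_top_of_surjective φ (QuotientGroup.mk'_surjective _), Subgroup.map_le_iff_le_comap]
  subst hX
  rw [← Subgroup.closure_closure_coe_preimage, Subgroup.closure_le]
  rintro ⟨s, k⟩ (hs | hs)
  · have ms : (⟨s, k⟩ : Subgroup.closure _) ∈ E := hS s (Or.inl hs)
    refine Subgroup.subset_closure (Or.inl ⟨⟨_, ms, rfl⟩, ?_⟩)
    rintro _ ⟨c, hc, rfl⟩
    have := (mem_E_iff.1 hs).2 c (hED c hc)
    exact ⟨fun e => Commute.map (show Commute c _ from Subtype.ext (this.1 (congrArg Subtype.val (h.comm_of_map φ hk hc ms e))).eq) φ,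
      fun e => Commute.map (show Commute c _ from Subtype.ext (this.2 (congrArg Subtype.val (h.comm_of_map φ hk hc md e))).eq) φ⟩
  · exact Subgroup.subset_closure (Or.inr (congrArg φ (Subtype.ext hs)))

end Cfsg.Agent.S5051
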