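import Cfsg.Statements.S5053
import Cfsg.Agent.Root.Inv3

set_option autoImplicit false
open Cfsg

namespace Cfsg.Agent.S5053
open Cfsg.Agent.Root

/-- Let G be a finite group generated by a non-degenerate conjugacy class D of root involutions (some two different members commute, some two have product of odd order, some two have product of order 4) and T a weak TI-subset of D: a subset with more than one element, different from D, whose conjugate by any member of D equals T or is disjoint from it. Then T generates an abelian subgroup. -/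
theorem result {G : Type*} [Group G] [Finite G] {D : Set G} (hD : Cfsg.IsNondegenerateRootInvolutionSet D)
    (hcl : Cfsg.IsRootInvolutionClass D)     {T : Set G} (hT : Cfsg.IsWeakTISubsetOfElements D T) : IsMulCommutative ↥(Subgroup.closure T) := by
  have h := nd_of hD hcl
  have hD := h.ri
  obtain ⟨hsub, -, hne, hti⟩ := hT
  have hfix : ∀ a ∈ T, ∀ e ∈ D, Commute e a → ∀ c ∈ T, e * c * e⁻¹ ∈ T := by
    intro a ha e he hc c hc'
    rcases hti e he with h1 | h1
    · rw [← h1]; exact ⟨c, hc', rfl⟩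
    · exact absurd ha (Set.disjoint_left.1 h1 ⟨a, ha, by simp only [hc.eq, mul_inv_cancel_right]⟩)
  have hno : ∀ a ∈ T, ∀ b ∈ T, ¬ Od a b := by
    intro a ha b hb o
    let H : Subgroup G :=
      { carrier := {x | (∀ c ∈ T, x * c * x⁻¹ ∈ T) ∧ ∀ c ∈ T, x⁻¹ * c * x⁻¹⁻¹ ∈ T}
        one_mem' := by simp
        mul_mem' := by
          rintro x y ⟨hx, hx'⟩ ⟨hy, hy'⟩
          exact ⟨fun c hc => by simpa [mul_assoc] using hx _ (hy _ hc),
            fun c hc => by simpa [mul_assoc] using hy' _ (hx' _ hc)⟩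
        inv_mem' := by rintro x ⟨hx, hx'⟩; exact ⟨hx', by simpa using hx⟩ }
    have k : ∀ a ∈ T, ∀ e ∈ D, Commute e a → e ∈ H := fun a ha e he hc =>
      ⟨hfix a ha e he hc, by rw [inv_inv]; simpa only [RI.inv hD he] using hfix a ha e he hc⟩
    have hH : H = ⊤ := h.gen (hsub ha) (hsub hb) o (fun e p => k a ha e p.2.1 p.2.2.2.1.symm)
      (k b hb b (hsub hb) (Commute.refl b))
    refine hne (Set.Subset.antisymm hsub fun e he => ?_)
    obtain ⟨g, rfl⟩ := isConj_iff.1 (h.cl a (hsub ha) e he)
    exact (show g ∈ H from hH ▸ Subgroup.mem_top g).1 a ha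
  refine Subgroup.isMulCommutative_closure fun a ha b hb => ?_
  have ha' := hsub ha
  have hb' := hsub hb
  rcases RI.pair hD ha' hb' with k | k | k
  · exact k
  · exact absurd k (hno a ha b hb)
  exfalso
  have p := RI.prodAdj_fo hD ha' hb' k
  obtain ⟨z, hz, f, e⟩ := RI.key hD h.cl p.2.1 ha' p.2.2.2.1 (p.2.2.2.1 ▸ p.2.2.2.2) hb' fun e =>
    k.1 (e.1 (k.comm_right (RI.sq hD ha') (RI.sq hD hb')).symm).symm
  have h3 := RI.three hD hb' ha' hz k rfl f e
  have c : Commute a z := e ▸ f.comm_left (RI.sq hD hz) (RI.sq hD p.2.1)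
  have e2 : b * (z * b * z⁻¹) = (b * z) ^ 2 := by rw [RI.inv hD hz, sq]; simp only [mul_assoc]
  have h4 : orderOf ((b * z) ^ 2) = 3 := by rw [orderOf_pow, h3]; rfl
  refine hno b hb _ (hfix a ha z hz c.symm b hb) ⟨fun e' => ?_, by rw [e2, h4]; decide⟩
  rw [← e2, ← e', RI.sq hD hb', orderOf_one] at h4
  omega

end Cfsg.Agent.S5053
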