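import Cfsg.Statements.S5055
import Cfsg.Agent.Root.Inv6

set_option autoImplicit false
open Cfsg

namespace Cfsg.Agent.S5055
open Cfsg.Agent.Root
open scoped commutatorElement

/-- The Root Structure Theorem for root involutions. Let G be a finite group with O₂(G) = 1 and trivial centre, generated by a non-degenerate class D of root involutions such that for every d ∈ D the members of D with the same commuting members as d, together with 1, form a subgroup E(d). For d ∈ D let M_d be the subgroup generated by d and the members e ≠ d of D commuting with d with ed ∈ D, let W_d be the set of members of D commuting with d that have no partner with product of odd order among the members commuting with d, and let N_d be the subgroup generated by W_d. Then N_d = M_d; the members of D in N_d are d and the e just described; the commutator subgroup of N_d is E(d); and the members of D central in N_d are exactly those with the same commuting members as d. -/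
theorem result {G : Type*} [Group G] [Finite G] {D : Set G} (hD : Cfsg.IsNondegenerateRootInvolutionSet D)
    (hcl : Cfsg.IsRootInvolutionClass D) (hO : Cfsg.pCore 2 G = ⊥) (hZ : Subgroup.center G = ⊥)
    (hE : ∀ d ∈ D, (Cfsg.sameCommutingSubgroup D d : Set G) = Cfsg.sameCommutingClass D d ∪ {1}) {d : G} (hd : d ∈ D) :
    Subgroup.closure {w | Cfsg.IsIsolatedElem (Cfsg.OddAdj (Cfsg.commutingMembers D d)) (Cfsg.commutingMembers D d) w} =
      Subgroup.closure (Cfsg.productPartners D d ∪ {d}) ∧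
    D ∩ (Subgroup.closure (Cfsg.productPartners D d ∪ {d}) : Set G) = Cfsg.productPartners D d ∪ {d} ∧
    ⁅Subgroup.closure (Cfsg.productPartners D d ∪ {d}), Subgroup.closure (Cfsg.productPartners D d ∪ {d})⁆ =
      Cfsg.sameCommutingSubgroup D d ∧
    Cfsg.sameCommutingClass D d = {e | e ∈ D ∧ e ∈ Subgroup.closure (Cfsg.productPartners D d ∪ {d}) ∧
      ∀ y ∈ Subgroup.closure (Cfsg.productPartners D d ∪ {d}), e * y = y * e} := by
  have h0 := nd_of hD hcl
  have hD := h0.ri
  have mE : ∀ {d e : G}, e ∈ sameCommutingClass D d ↔ e ∈ D ∧ Sm D e d := fun {d e} =>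
    and_congr_right fun _ => ⟨fun k c hc => ⟨fun k' => (k.ge ⟨hc, k'⟩).2, fun k' => (k.le ⟨hc, k'⟩).2⟩,
      fun k => Set.ext fun c => and_congr_right fun hc => (k c hc).symm⟩
  have mE' : ∀ {d e : G}, d ∈ D → (e ∈ sameCommutingSubgroup D d ↔ EEl D d e) := fun {d e} hd => by
    rw [← SetLike.mem_coe, hE d hd, Set.mem_union, mE, or_comm]; rfl
  have h : RST D := ⟨h0, fun a ha b hb s => (mE' hb).1 (mul_mem ((mE' hb).2 (Or.inr ⟨ha, s⟩))
    ((mE' hb).2 (Or.inr ⟨hb, Sm.refl b⟩)))⟩
  have e1 : productPartners D d ∪ {d} = {w | WW D d w} := Set.ext fun w => by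
    constructor
    · rintro (k | rfl)
      · exact RI.ww_prod hD (prodAdj_symm ⟨k.1.1, hd, k.1.2.2, k.1.2.1, k.2⟩)
      · exact RI.ww_self hD hd
    · intro k
      by_cases e : d = w
      · exact Or.inr e.symm
      have p := prodAdj_symm (h.prod_of_ww hd k e)
      exact Or.inl ⟨⟨p.1, p.2.2.2.1, p.2.2.1⟩, p.2.2.2.2⟩
  have hc : ∀ {e}, EEl D d e → ∀ y ∈ Subgroup.closure {w | WW D d w}, e * y = y * e := fun k y hy =>
    (Subgroup.mem_centralizer_singleton_iff.1 ((Subgroup.closure_le (Subgroup.centralizer {_})).2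
      (fun w hw => Subgroup.mem_centralizer_singleton_iff.2 (k.comm hw.1 hw.2.1).symm) hy)).symm
  rw [e1]
  refine ⟨congrArg _ (Set.ext fun w => ⟨fun k => ⟨k.1.1, k.1.2, fun x hx c => (isolated_iff k.1).1 k x ⟨hx, c⟩⟩,
    fun k => (isolated_iff (show w ∈ commutingMembers D d from ⟨k.1, k.2.1⟩)).2 fun x hx => k.2.2 x hx.1 hx.2⟩),
    Set.ext fun w => ⟨fun k => RI.ww_of_mem hD k.1 k.2, fun k => ⟨k.1, Subgroup.subset_closure k⟩⟩,
    le_antisymm (Subgroup.commutator_le.2 fun g hg k hk => (mE' hd).2 ?_) ((Subgroup.closure_le _).2 fun v hv => ?_),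
    Set.ext fun e => ⟨fun k => ⟨(mE.1 k).1, Subgroup.subset_closure (RI.ww_sm hD (RI.ww_self hD hd) (mE.1 k).1
      (mE.1 k).2 hd), hc (Or.inr (mE.1 k))⟩, fun k => mE.2 ⟨k.1, h0.cent hd k.1 fun t p =>
        k.2.2 t (Subgroup.subset_closure (RI.ww_prod hD p))⟩⟩⟩
  · have inv : ∀ {e}, EEl D d e → EEl D d e⁻¹ := fun k => (mE' hd).1 (inv_mem ((mE' hd).2 k))
    have cj : ∀ {e}, EEl D d e → ∀ y ∈ Subgroup.closure {w | WW D d w}, EEl D d (y * e * y⁻¹) := fun k y hy => by
      rwa [← hc k y hy, mul_inv_cancel_right]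
    induction hg using Subgroup.closure_induction with
    | mem a ha =>
      induction hk using Subgroup.closure_induction with
      | mem b hb =>
        rw [commutatorElement_def, RI.inv hD ha.1, RI.inv hD hb.1]
        by_cases e : d = a
        · exact Or.inl (by rw [← e, mul_assoc, mul_sq' (RI.sq hD hd) (RI.sq hD hb.1) hb.2.1.symm])
        · exact h.main hd (Sm.refl d) (h.prod_of_ww hd ha e) hb
      | one => exact Or.inl (by simp)
      | mul x y hx _ k1 k2 =>
        have := h.ee_mul k1 (cj k2 x hx)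
        rwa [show ⁅a, x⁆ * (x * ⁅a, y⁆ * x⁻¹) = ⁅a, x * y⁆ by simp only [commutatorElement_def]; group] at this
      | inv x hx k1 =>
        have := cj (inv k1) _ (inv_mem hx)
        rwa [show x⁻¹ * ⁅a, x⁆⁻¹ * x⁻¹⁻¹ = ⁅a, x⁻¹⁆ by simp only [commutatorElement_def]; group] at this
    | one => exact Or.inl (by simp)
    | mul x y hx _ k1 k2 =>
      have := h.ee_mul (cj k2 x hx) k1
      rwa [show x * ⁅y, k⁆ * x⁻¹ * ⁅x, k⁆ = ⁅x * y, k⁆ by simp only [commutatorElement_def]; group] at this
    | inv x hx k1 =>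
      have := cj (inv k1) _ (inv_mem hx)
      rwa [show x⁻¹ * ⁅x, k⁆⁻¹ * x⁻¹⁻¹ = ⁅x⁻¹, k⁆ by simp only [commutatorElement_def]; group] at this
  · obtain ⟨hv, s⟩ := mE.1 hv
    obtain ⟨c, hc', f⟩ := h0.exists_fo hv
    have p := RI.prodAdj_fo hD hv hc' f
    obtain ⟨y, hy, f', e⟩ := RI.key hD h0.cl p.2.1 hv p.2.2.2.1 (p.2.2.2.1 ▸ p.2.2.2.2) hc' fun e =>
      f.1 (e.1 (f.comm_right (RI.sq hD hv) (RI.sq hD hc')).symm).symm
    have := Subgroup.commutator_mem_commutator
      (Subgroup.subset_closure (show y ∈ {w | WW D d w} from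
        (RI.ww_prod hD (prodAdj_symm (e ▸ RI.prodAdj_fo hD hy p.2.1 f'))).sm s))
      (Subgroup.subset_closure (show _ ∈ {w | WW D d w} from (RI.ww_prod hD p).sm s))
    rwa [commutatorElement_def, RI.inv hD hy, RI.inv hD p.2.1, e] at this

end Cfsg.Agent.S5055
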