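import Cfsg.Statements.S5282
import Cfsg.Agent.S2754
import Cfsg.Agent.Fus.Tri
import Cfsg.Agent.S2753
import Cfsg.Agent.S2755
import Cfsg.Agent.S2759
import Cfsg.Agent.S2761
import Cfsg.Agent.LieM.Triple
import Cfsg.Agent.LieM.Gold4
-- import your own Cfsg.Agent.* helpers here

set_option autoImplicit false
open Cfsg

namespace Cfsg.Agent.S5282

/-- Let p be a prime and F a saturated fusion system over a finite p-group S that is Qd(p)-free: the semidirect product of an elementary abelian group of order p² by SL₂(p) acting naturally (the symmetric group of degree 4 when p = 2) is not involved in any model of the normalizer system of a fully normalized F-centric subgroup. Then F is realizable — it is the fusion system of some finite group on a Sylow p-subgroup — and F is a solvable fusion system. -/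
theorem result {Ω : Type*} [Group Ω] {S : Subgroup Ω} [Finite S] (p : ℕ) [Fact p.Prime] (hS : IsPGroup p ↥S) (F : Cfsg.FusionSystem S) (hF : F.IsSaturated p) (hfree : F.IsSectionFree p ↥(Cfsg.qd p)) : F.IsRealizable p ∧ F.IsSolvableSystem :=
  open Subgroup Cfsg.Agent.Fus Cfsg.Agent.Loc Equiv in by
  have h : SolvT F S := by
    by_cases hp : p = 2
    swap
    · exact solv_of_free PLocal.ZJAF_char (ZJ_normal_of_free hp) ⟨hS, hF⟩ hfree
    subst hp
    refine solv_of_triple PLocal.JF_char LieM.OJH_char (fun S _ hS h0 => ?_) (fun G _ _ P hc h => ?_) F ⟨hS, hF⟩ hfree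
    · haveI := (nontrivial_iff_ne_bot S).2 h0
      obtain ⟨⟨z, hz⟩, h1⟩ := ne_bot_iff_exists_ne_one.1 (PLocal.OZ_ne_bot (hS.of_equiv topEquiv.symm) top_ne_bot)
      obtain ⟨A, hA⟩ := PLocal.eaMax_nonempty 2 (⊤ : Subgroup S)
      exact ⟨z, ⟨z.2, fun g hg => congrArg Subtype.val (PLocal.OZ_le_centralizer 2 ⊤ hz ⟨g, hg⟩ trivial)⟩,
        ⟨z, PLocal.le_J hA (PLocal.omega_center_le_of_mem_eaMax hA hz), rfl⟩, ⟨z, LieM.OZ_le_OJH S hz, rfl⟩,
        fun e => h1 (Subtype.ext (Subtype.ext e))⟩
    obtain ⟨f⟩ := S2761.result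
    have i4 : ¬ Cfsg.Involves (Equiv.Perm (Fin 4)) G := fun h' =>
      h ((PLocal.involves_iff_top.1 h').of_surjective (g := f.symm.toMonoidHom) f.symm.surjective)
    obtain ⟨h1, h2, h3⟩ := S2753.result (chP_top.1 hc) i4 (fun H _ N _ _ hna => by
      refine (S2755.result ((Cfsg.Agent.S2754.result hna).1 fun h' => i4 (PLocal.involves_iff_top.2
        ((PLocal.involves_sub H).trans' ((PLocal.involves_quot N).trans' (PLocal.involves_iff_top.1 h')))))).2.1 fun h' => i4 ?_
      exact S2759.result.2 ⟨_, Loc.isPGroup_pCore 2 _, PLocal.involves_iff_top.2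
        ((LieM.involves_factor (chP_top.1 hc) H N hna).1.trans' (PLocal.involves_iff_top.1 h'))⟩) P
    rw [PLocal.ind_JF, LieM.ind_OJH]
    exact ⟨h1, fun g => (h2 g).imp fun c k => ⟨k.1, k.2.imp fun n k => ⟨PLocal.normalizer_le_normalizer_OZ _ _ k.1, k.2⟩⟩, h3⟩
  obtain ⟨G, _, L, hL⟩ := exists_model_of_constrained hS (h.constrained ⟨hS, hF⟩)
  exact ⟨realizable_iff.2 ⟨G, _, hL.fin, L, hL.toReal, hL.syl⟩, (solv_iff ⟨hS, hF⟩).2 h⟩

end Cfsg.Agent.S5282
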