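import Cfsg.Statements.S5109
import Cfsg.Agent.S5282
import Cfsg.Agent.Fus.Solv
import Cfsg.Agent.S2761

set_option autoImplicit false
open Cfsg

namespace Cfsg.Agent.S5109

open Subgroup Equiv Cfsg.Agent

/-- the Klein four-subgroup of `S₄` -/
def V4 : Subgroup (Perm (Fin 4)) where
  carrier := {g | g * g = 1 ∧ Perm.sign g = 1}
  mul_mem' := by
    intro a b
    simp only [Set.mem_ofPred_eq]
    revert a b; decide +kernel
  one_mem' := by simp
  inv_mem' := by
    intro a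
    simp only [Set.mem_ofPred_eq]
    revert a; decide

theorem mem_V4 {g : Perm (Fin 4)} : g ∈ V4 ↔ g * g = 1 ∧ Perm.sign g = 1 := Iff.rfl

instance instV4Normal : V4.Normal := ⟨by simp only [mem_V4]; decide +kernel⟩

/-- the point stabilizer -/
def j3 : Perm (Fin 3) →* Perm (Fin 4) := MonoidHom.mk' (fun σ => Perm.decomposeFin.symm (0, σ)) (by decide)

theorem j3_inj : Function.Injective j3 := by
  intro a b; revert a b; unfold j3; simp only [MonoidHom.mk'_apply]; decide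

theorem j3_cent (σ : Perm (Fin 3)) (h : ∀ v ∈ V4, j3 σ * v = v * j3 σ) : σ = 1 := by
  revert σ; unfold j3; simp only [MonoidHom.mk'_apply, mem_V4]; decide

theorem s3_of_s4 {L : Type*} [Group L] [Finite L] (T : Sylow 2 L) (h : PLocal.Involves (⊤ : Subgroup L) (Perm (Fin 4))) :
    ∃ U : Subgroup L, U ≤ T ∧ ∃ (M : Subgroup L) (ρ : M →* Perm (Fin 3)), M ≤ normalizer (U : Set L) ∧
      Function.Surjective ρ ∧ ∀ m : M, (m : L) ∈ centralizer (U : Set L) → ρ m = 1 := by
  obtain ⟨K, -, π, hπ⟩ := h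
  let W : Subgroup K := V4.comap π
  let P : Sylow 2 W := default
  let U0 : Subgroup K := (P : Subgroup W).map W.subtype
  have hfr : normalizer (U0 : Set K) ⊔ W = ⊤ := Sylow.normalizer_sup_eq_top P
  have hU0 : ∀ v ∈ V4, ∃ u ∈ U0, π u = v := by
    let π' : W →* V4 := (π.comp W.subtype).codRestrict V4 fun x => x.2
    have hπ' : Function.Surjective π' := fun v => by
      obtain ⟨x, hx⟩ := hπ v
      exact ⟨⟨x, show π x ∈ V4 from hx ▸ v.2⟩, Subtype.ext hx⟩
    have hV : IsPGroup 2 (⊤ : Subgroup V4) := fun g => ⟨1, Subtype.ext (Subtype.ext (by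
      have := g.1.2.1; simpa [pow_two] using this))⟩
    have := (P.mapSurjective hπ').is_maximal' hV le_top
    intro v hv
    have h1 : (⟨v, hv⟩ : V4) ∈ (P.mapSurjective hπ' : Subgroup V4) := this ▸ mem_top _
    obtain ⟨u, hu, e⟩ := h1
    exact ⟨u, ⟨u, hu, rfl⟩, congrArg Subtype.val e⟩
  have hN : ∀ g : Perm (Fin 4), ∃ n ∈ normalizer (U0 : Set K), π n = g := by
    intro g
    obtain ⟨x, rfl⟩ := hπ g
    have hx : x ∈ normalizer (U0 : Set K) ⊔ W := hfr ▸ mem_top x
    obtain ⟨a, ha, b, hb, rfl⟩ := mem_sup_of_normal_right.1 hx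
    obtain ⟨u, hu, e⟩ := hU0 _ hb
    exact ⟨a * u, mul_mem ha (le_normalizer hu), by rw [map_mul, e, map_mul]⟩
  let U1 : Subgroup L := U0.map K.subtype
  have hU1 : IsPGroup 2 U1 := (P.isPGroup'.map _).map _
  obtain ⟨Q, hQ⟩ := hU1.exists_le_sylow
  obtain ⟨g, hg⟩ := MulAction.exists_smul_eq L Q T
  let c : K →* L := (MulAut.conj g).toMonoidHom.comp K.subtype
  have hc : Function.Injective c := (MulAut.conj g).injective.comp K.subtype_injective
  let M0 : Subgroup K := normalizer (U0 : Set K) ⊓ j3.range.comap π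
  let ρ0 : M0 →* Perm (Fin 3) := (MonoidHom.ofInjective j3_inj).symm.toMonoidHom.comp
    ((π.comp M0.subtype).codRestrict j3.range fun x => x.2.2)
  have hρ0 : ∀ m : M0, j3 (ρ0 m) = π m := fun m => by
    have := MonoidHom.apply_ofInjective_symm j3_inj (((π.comp M0.subtype).codRestrict j3.range fun x => x.2.2) m)
    exact this
  refine ⟨U0.map c, ?_, M0.map c, ρ0.comp (M0.equivMapOfInjective c hc).symm.toMonoidHom, ?_, ?_, ?_⟩
  · rintro _ ⟨u, hu, rfl⟩
    rw [← hg]
    exact Subgroup.smul_mem_pointwise_smul _ (MulAut.conj g) _ (hQ ⟨u, hu, rfl⟩)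
  · exact (map_mono inf_le_left).trans (le_normalizer_map c)
  · have : Function.Surjective ρ0 := fun σ => by
      obtain ⟨n, hn, e⟩ := hN (j3 σ)
      exact ⟨⟨n, hn, ⟨σ, e.symm⟩⟩, j3_inj ((hρ0 _).trans e)⟩
    exact this.comp (M0.equivMapOfInjective c hc).symm.surjective
  · intro m hm
    obtain ⟨m, rfl⟩ := (M0.equivMapOfInjective c hc).surjective m
    refine j3_cent _ fun v hv => ?_
    obtain ⟨u, hu, rfl⟩ := hU0 v hv
    have h1 : c u * c m = c m * c u := hm (c u) ⟨u, hu, rfl⟩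
    rw [← map_mul, ← map_mul] at h1
    simp only [MonoidHom.comp_apply, MulEquiv.coe_toMonoidHom, MulEquiv.symm_apply_apply, hρ0]
    rw [← map_mul, ← map_mul, hc h1]

theorem free_of_h3 {Ω : Type*} [Group Ω] {S : Subgroup Ω} [Finite S] (F : Cfsg.FusionSystem S)
    (h3 : ∀ U : Subgroup Ω, U ≤ S → ¬ Cfsg.Involves (Perm (Fin 3)) ↥(F.autGroup U)) :
    F.IsSectionFree 2 (Perm (Fin 4)) := by
  intro Q _ _ N hN L _ ι ⟨_, ⟨hι, hr⟩, ⟨T, hT⟩, _⟩ h4
  obtain ⟨U, hU, M, ρ, hM, hρ, hc⟩ := s3_of_s4 T (PLocal.involves_iff_top.1 h4)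
  rw [hT] at hU
  let P : Subgroup Ω := (U.comap ι).map (FusionSystem.normalizerIn S Q).subtype
  have hP : P ≤ FusionSystem.normalizerIn S Q := map_subtype_le _
  let e0 : P →* U := (ι.comp (inclusion hP)).codRestrict U fun x => by
    obtain ⟨_, y, hy, rfl⟩ := x
    exact hy
  have he0 : Function.Bijective e0 := by
    refine ⟨fun a b h => inclusion_injective hP (hι (congrArg Subtype.val h)), fun u => ?_⟩
    obtain ⟨y, hy⟩ := hU u.2
    exact ⟨⟨y, y, show ι y ∈ U from hy ▸ u.2, rfl⟩, Subtype.ext hy⟩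
  let e : P ≃* U := MulEquiv.ofBijective e0 he0
  let σ : M →* MulAut P := (MulAut.congr e).symm.toMonoidHom.comp (U.normalizerMonoidHom.comp (inclusion hM))
  have hσ : ∀ (m : M) (x : P), ι ⟨σ m x, hP (σ m x).2⟩ = m * ι ⟨x, hP x.2⟩ * (m : L)⁻¹ := fun m x => by
    have : ((e (σ m x) : U) : L) = m * (e x : L) * (m : L)⁻¹ := by
      simp [σ, MulAut.congr]
    exact this
  refine h3 P (hP.trans inf_le_left) (PLocal.involves_iff_sub.2 (PLocal.involves_of_ker_le σ ρ hρ ?_ ?_))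
  · intro m hm
    refine hc m fun u hu => ?_
    obtain ⟨x, hx⟩ := e.surjective ⟨u, hu⟩
    have h1 := hσ m x
    rw [MonoidHom.mem_ker.1 hm] at h1
    have h2 : ι ⟨x, hP x.2⟩ = u := congrArg Subtype.val hx
    have h3 : u = m * u * (m : L)⁻¹ := by rw [← h2]; exact h1
    calc u * m = m * u * (m : L)⁻¹ * m := by rw [← h3]
      _ = m * u := by group
  · rintro _ ⟨m, rfl⟩
    refine subset_closure ?_
    have : P.subtype.comp (σ m).toMonoidHom ∈ N.Hom P :=
      (hr P hP _ fun x => hP (σ m x).2).2 ⟨m, fun x => hσ m x⟩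
    rw [hN P] at this
    exact this.1

/-- A saturated fusion system over a finite 2-group S in which no automorphism group Aut_F(U), U ≤ S, has a section isomorphic to the symmetric group of degree 3 is constrained. -/
theorem result {Ω : Type*} [Group Ω] {S : Subgroup Ω} [Finite S] (hS : IsPGroup 2 S) (F : Cfsg.FusionSystem S) (hF : F.IsSaturated 2) (h3 : ∀ U : Subgroup Ω, U ≤ S → ¬ Cfsg.Involves (Equiv.Perm (Fin 3)) ↥(F.autGroup U)) : F.IsConstrained 2 := by
  open Cfsg.Agent.Fus Cfsg.Agent.Loc in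
  obtain ⟨e⟩ := S2761.result
  have h := (solv_iff ⟨hS, hF⟩).1 (Cfsg.Agent.S5282.result 2 hS F hF fun Q k1 k2 N hN L _ ι hL ⟨K, R, _, ⟨e'⟩⟩ =>
    free_of_h3 F h3 Q k1 k2 N hN L ι hL ⟨K, R, _, ⟨e'.trans e⟩⟩).2
  exact h.constrained ⟨hS, hF⟩

end Cfsg.Agent.S5109
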