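import Cfsg.Statements.S5138
import Cfsg.Agent.Fus.Fit
-- import your own Cfsg.Agent.* helpers here

set_option autoImplicit false
open Cfsg

namespace Cfsg.Agent.S5138

/-- Let F be a saturated fusion system over a finite p-group S and E₁, E₂ normal subsystems over T₁, T₂ with [T₁, T₂] = 1. Then there is a normal subsystem of F over T₁T₂ which, if moreover T₁ ∩ T₂ lies in the centre of E₁ and in the centre of E₂, is a central product of E₁ and E₂ (the factor system of a direct product of E₁ and E₂ modulo a subgroup of its centre meeting both factors trivially). -/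
theorem result {Ω : Type*} [Group Ω] {S : Subgroup Ω} [Finite S] (p : ℕ) [Fact p.Prime] (hS : IsPGroup p S) (F : Cfsg.FusionSystem S) (hF : F.IsSaturated p) {T₁ T₂ : Subgroup Ω} (E₁ : Cfsg.FusionSystem T₁) (E₂ : Cfsg.FusionSystem T₂) (hE₁ : E₁.IsNormalIn F p) (hE₂ : E₂.IsNormalIn F p) (hc : ⁅T₁, T₂⁆ = ⊥) : ∃ D : Cfsg.FusionSystem (T₁ ⊔ T₂), D.IsNormalIn F p ∧ (T₁ ⊓ T₂ ≤ E₁.center → T₁ ⊓ T₂ ≤ E₂.center → Cfsg.FusionSystem.IsCentralProductOf E₁ E₂ D) :=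
  open Subgroup Cfsg.Agent.Fus Cfsg.Agent.Loc Equiv in by
  have h₁ := (ni_iff hS).1 hE₁
  have h₂ := (ni_iff hS).1 hE₂
  haveI := h₁.finite
  haveI := h₂.finite
  have hc' : ∀ x ∈ T₁, ∀ y ∈ T₂, x * y = y * x := fun x hx y hy =>
    ((commutator_eq_bot_iff_le_centralizer.1 hc hx) y hy).symm
  by_cases k : T₁ ⊓ T₂ ≤ E₁.center ∧ T₁ ⊓ T₂ ≤ E₂.center
  · obtain ⟨D, hD⟩ := exists_cp hc' (central_iff_le_center.2 k.1) (central_iff_le_center.2 k.2)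
    exact ⟨D, (ni_iff hS).2 (hD.ni h₁ h₂), fun _ _ => cp_iff.2 hD⟩
  have hn := h₁.satF.normal_of_abelian (sc_inf h₁.sc h₂.sc) (eq_bot_iff.2 ((commutator_mono inf_le_left inf_le_right).trans hc.le))
  obtain ⟨D₁, d₁⟩ := exists_isNK E₁ (inf_le_left : T₁ ⊓ T₂ ≤ T₁) ⊥ ((NK_bot _ _).trans (CS_eq_of_le fun x hx =>
    mem_centralizer_iff.2 fun y (hy : y ∈ T₁ ⊓ T₂) => (hc' x hx y hy.2).symm)).symm
  obtain ⟨D₂, d₂⟩ := exists_isNK E₂ (inf_le_right : T₁ ⊓ T₂ ≤ T₂) ⊥ ((NK_bot _ _).trans (CS_eq_of_le fun x hx =>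
    mem_centralizer_iff.2 fun y (hy : y ∈ T₁ ⊓ T₂) => hc' y hy.1 x hx)).symm
  obtain ⟨D, hD⟩ := exists_cp hc' (d₁.central le_rfl inf_le_left) (d₂.central le_rfl inf_le_right)
  exact ⟨D, (ni_iff hS).2 (hD.ni (h₁.ni_nk_bot hn inf_le_left d₁) (h₂.ni_nk_bot hn inf_le_right d₂)),
    fun a b => absurd ⟨a, b⟩ k⟩

end Cfsg.Agent.S5138
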