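import Cfsg.Statements.S5152
import Cfsg.Agent.Fus.Fit
-- import your own Cfsg.Agent.* helpers here

set_option autoImplicit false
open Cfsg

namespace Cfsg.Agent.S5152

/-- Dichotomy for saturated fusion systems: a saturated fusion system over a finite p-group is of characteristic p-type (the normalizer system of every nontrivial fully normalized subgroup is constrained) or of component type (the centralizer system of some fully normalized subgroup of order p has a component). -/
theorem result {Ω : Type*} [Group Ω] {S : Subgroup Ω} [Finite S] (p : ℕ) [Fact p.Prime] (hS : IsPGroup p S) (F : Cfsg.FusionSystem S) (hF : F.IsSaturated p) : F.IsOfCharacteristicPType p ∨ F.IsOfComponentType p :=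
  open Subgroup Cfsg.Agent.Fus Cfsg.Agent.Loc Equiv in by
  have h : Sat F p := ⟨hS, hF⟩
  refine or_iff_not_imp_right.2 fun k U h0 hU E hE => h.charP_of (fun X h1 h2 C hC => ?_) hU h0 (isNK_top_iff.2 ⟨hU.1, hE⟩)
  exact (h.centralizer (h.fc_of_fn h2) hC).constrained_iff.2 fun k' => k ⟨X, h1, h2, C, (isNK_bot_iff.1 hC).2, k'⟩

end Cfsg.Agent.S5152
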