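import Cfsg.Statements.S5178
import Cfsg.Agent.Fus.Exs
-- import your own Cfsg.Agent.* helpers here

set_option autoImplicit false
universe u
open Cfsg

namespace Cfsg.Agent.S5178

/-- Let p be an odd prime, S a finite p-group containing an extraspecial subgroup Q of index p, and F a saturated fusion system over S whose largest subgroup normal in F is trivial. Then the centre of S equals the centre of Q. -/
theorem result {Ω : Type u} [Group Ω] {S : Subgroup Ω} [Finite S] (p : ℕ) [Fact p.Prime] (hp : Odd p) (hS : IsPGroup p S)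
    (Q : Subgroup Ω) (hQS : Q ≤ S) (hQ : Cfsg.IsExtraspecial p ↥Q) (hQi : (Q.subgroupOf S).index = p)
    (F : Cfsg.FusionSystem S) (hF : F.IsSaturated p) (hO : F.core = ⊥) :
    S ⊓ Subgroup.centralizer (S : Set Ω) = Q ⊓ Subgroup.centralizer (Q : Set Ω) :=
  open Subgroup Cfsg.Agent.Fus Cfsg.Agent.Loc Equiv in by
  have hF' : Sat F p := ⟨hS, hF⟩
  obtain ⟨z, hz, hzp, h1, h2⟩ := es_center hS hQS hQi.dvd hQ
  refine le_antisymm (fun y hy => ⟨by_contra fun hy' => ?_, centralizer_anti hQS hy.2⟩) (h1.le.trans (zpowers_le.2 hz))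
  have e := sup_zpowers_of_relIndex hQi.dvd hQS hy.1 hy'
  have hn : S ≤ normalizer (zpowers z : Set Ω) := le_normalizer_of_le_centralizer ((le_cen_CS S).trans
    (centralizer_anti (zpowers_le.2 hz)))
  have hy2 : zpowers y ≤ centralizer (S : Set Ω) := zpowers_le.2 hy.2
  have hD : ⁅S, S⁆ ≤ zpowers z := by
    nth_rw 1 [← e]
    refine commutator_sup_left_le (hQS.trans hn) (zpowers_le.2 (hn hy.1)) ?_ (commutator_le_of_le_centralizer hy2 _)
    rw [← e]
    exact commutator_sup_right_le (hQS.trans hn) (zpowers_le.2 (hn hy.1)) h2.le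
      (commutator_le_of_le_centralizer' (hy2.trans (centralizer_anti hQS)) _)
  have := finite_of_le (zpowers_le.2 hz.1)
  refine hy' ((h1.ge.trans (CS_le Q Q)) (hD (hF'.Z_le_of_odd (fun e => by rw [e] at hp; exact absurd hp (by decide)) hO
    ((card_le_card (inf_le_right.trans hD)).trans (Nat.le_of_dvd (Fact.out : p.Prime).pos
      (Nat.card_zpowers z ▸ orderOf_dvd_of_pow_eq_one hzp))) (fun P hP => .inl ?_) hy)))
  have e : Es F p P := ⟨hF', hP⟩
  obtain ⟨h3, h4⟩ := e.ai_of_der le_rfl e.lt hD hz hzp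
  exact ⟨e, h3.ab, h3.Z_le, h4.dvd, (NS_le S P).trans (le_cen_CS S)⟩

end Cfsg.Agent.S5178
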