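import Cfsg.Statements.S5185
import Cfsg.Agent.Fus.Exs
-- import your own Cfsg.Agent.* helpers here

set_option autoImplicit false
universe u
open Cfsg

namespace Cfsg.Agent.S5185

/-- Let F be a saturated fusion system over a finite p-group S and H an essential subgroup of order p². Then H is elementary abelian (isomorphic to C_p × C_p) and its F-automorphism group contains a subgroup isomorphic to SL(2,p). -/
theorem result {Ω : Type u} [Group Ω] {S : Subgroup Ω} [Finite S] (p : ℕ) [Fact p.Prime] (hS : IsPGroup p S)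
    (F : Cfsg.FusionSystem S) (hF : F.IsSaturated p) (H : Subgroup Ω) (hH : F.IsEssential p H) (hcard : Nat.card H = p ^ 2) :
    Cfsg.IsElementaryAbelian p H ∧
      ∃ K : Subgroup ↥(F.autGroup H), Nonempty (↥K ≃* Matrix.SpecialLinearGroup (Fin 2) (ZMod p)) :=
  open Subgroup Cfsg.Agent.Fus Cfsg.Agent.Loc Equiv in by
  have e : Es F p H := ⟨⟨hS, hF⟩, hH⟩
  have hp : p.Prime := Fact.out
  have := e.finite
  obtain ⟨t, z, d⟩ := (e.tv_of_card hcard).exists_tvd
  obtain ⟨g, hg⟩ := e.exists_far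
  have hw := (maps_of_AutF hg.1).mem d.hzP
  have hel : ∀ x ∈ H, x ^ p = 1 := fun x hx => by
    have h1 : zpowers z < H := lt_of_le_of_ne (zpowers_le.2 d.hzP) fun e => d.far g hg (zpowers_le.2 d.hz (e.ge hw))
    have := finite_of_le h1.le
    obtain ⟨b, hb, i, rfl⟩ := exists_mul_zpow (B := zpowers z) (relIndex_of_card h1.le (by rw [d.card_z, hcard, sq])).dvd
      h1.le (d.norm h1.le) hw (fun e => d.far g hg (zpowers_le.2 d.hz e)) hx
    rw [(commute_of_le_centralizer d.ab (h1.le hb) (zpow_mem hw i)).mul_pow, pow_eq_one_of_mem_zpowers d.hzp hb,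
      pow_eq_one_of_mem_zpowers (z := g z) (by rw [← (homOn_of_AutF hg.1).map_pow d.hzP, d.hzp,
        (homOn_of_AutF hg.1).map_one]) ⟨i, rfl⟩, one_mul]
  refine ⟨isElementaryAbelian_iff.2 ⟨d.ab, hel⟩, ?_⟩
  letI : CommGroup H := { (inferInstance : Group H) with mul_comm := fun a b => Subtype.ext (d.ab b.2 a a.2) }
  have hc := e.cr_mem d.ht
  have h1 : cr H t ^ p = 1 := by
    rw [← (homOn_cr H).map_pow d.ht.2, (cr_eq_one_iff (le_normalizer d.htp)).2 (d.ab d.htp)]
  obtain ⟨a, ha, ea⟩ := hc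
  obtain ⟨b, hb, eb⟩ := (AutF F H).mul_mem (mul_mem hg.1 (e.cr_mem d.ht)) (inv_mem hg.1)
  refine exists_sl2 (fun v => Subtype.ext (hel v v.2)) hcard _ (a := ⟨a, ha⟩) (b := ⟨b, hb⟩)
    (Subtype.ext (toPerm_injective H (by simp [ea, h1]))) (Subtype.ext (toPerm_injective H (by simp [eb, h1]))) fun k => ?_
  have k2 : Commute (cr H t) (g * cr H t * g⁻¹) := by simpa [ea, eb] using (k.map (Subgroup.subtype _)).map (toPerm H)
  exact e.far_false hg d.ht d.ht0 d.ht d.ht0 (X := zpowers (cr H t) ⊔ zpowers (g * cr H t * g⁻¹))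
    (sup_le (zpowers_le.2 (ea ▸ ⟨a, ha, rfl⟩)) (zpowers_le.2 (eb ▸ ⟨b, hb, rfl⟩)))
    (IsPGroup.to_sup_of_normal_right' (isPGroup_zpowers_of_pow (k := 1) (by rwa [pow_one]))
      (isPGroup_zpowers_of_pow (k := 1) (by simp [h1])) (zpowers_le.2 (le_normalizer_of_le_centralizer
        (centralizer_zpowers _).ge (mem_centralizer_singleton_iff.2 k2)))) (mem_sup_left (mem_zpowers _))
    (mem_sup_right (mem_zpowers _))

end Cfsg.Agent.S5185
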