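import Cfsg.Statements.S5186
import Cfsg.Agent.Fus.Exs
-- import your own Cfsg.Agent.* helpers here

set_option autoImplicit false
universe u
open Cfsg

namespace Cfsg.Agent.S5186

/-- Let F be a saturated fusion system over a finite p-group S and H an essential subgroup of order p³. Then H is elementary abelian, or p is odd and H is extraspecial of exponent p, or p = 2 and H is the quaternion group of order 8. -/
theorem result {Ω : Type u} [Group Ω] {S : Subgroup Ω} [Finite S] (p : ℕ) [Fact p.Prime] (hS : IsPGroup p S)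
    (F : Cfsg.FusionSystem S) (hF : F.IsSaturated p) (H : Subgroup Ω) (hH : F.IsEssential p H) (hcard : Nat.card H = p ^ 3) :
    Cfsg.IsElementaryAbelian p H ∨ (Odd p ∧ Cfsg.IsExtraspecial p ↥H ∧ ∀ x ∈ H, x ^ p = 1) ∨
      (p = 2 ∧ Nonempty (↥H ≃* QuaternionGroup 2)) :=
  open Subgroup Cfsg.Agent.Fus Cfsg.Agent.Loc Equiv in by
  have e : Es F p H := ⟨⟨hS, hF⟩, hH⟩
  have hp : p.Prime := Fact.out
  have := e.finite
  by_cases hab : H ≤ centralizer (H : Set Ω)
  · by_cases h0 : Phi H = ⊥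
    · exact .inl (isElementaryAbelian_iff.2 ⟨hab, fun x hx => mem_bot.1 (h0 ▸ pow_mem_Phi e.pg hx)⟩)
    obtain ⟨k, hk⟩ := dvd_card_of_isPGroup (e.pg.to_le (Phi_le H)) h0
    have c := Solv.card_mul_relIndex (Phi_le H)
    rw [hk, hcard, pow_succ', mul_assoc] at c
    rcases e.rank_two hab (Dvd.intro_left _ (Nat.eq_of_mul_eq_mul_left hp.pos c)) with ⟨-, h⟩ | ⟨-, k, ⟨f⟩⟩
    · exact absurd (Nat.pow_right_injective hp.two_le (hcard.symm.trans h)) (by decide)
    · have := Nat.pow_right_injective hp.two_le (show p ^ 3 = p ^ (k + k) by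
        simpa [hcard, pow_add] using Nat.card_congr f.toEquiv)
      omega
  have h := es_of_card hcard hab
  obtain ⟨h1, h2, h3⟩ := es_data h
  rcases e.nf.core e.pg hab (h1 ▸ h3) (fun z hz => congrArg Subtype.val (h3 ▸ pow_card_eq_one' (x := (⟨z, hz⟩ :
    FusionSystem.centralizerIn H H)))) (by simp [h1]) (relIndex_of_card (CS_le H H) (by rw [hcard, h3, pow_succ'])).dvd
    with ⟨k1, k2⟩ | ⟨rfl, k2⟩
  exacts [.inr (.inl ⟨k1, h, k2⟩), .inr (.inr ⟨rfl, q8_of_card hcard hab k2⟩)]

end Cfsg.Agent.S5186
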