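import Cfsg.Statements.S5188
import Cfsg.Agent.Fus.Exs
-- import your own Cfsg.Agent.* helpers here

set_option autoImplicit false
universe u
open Cfsg

namespace Cfsg.Agent.S5188

section
open Subgroup Cfsg.Agent.Fus Cfsg.Agent.Loc Equiv
open Cfsg.FusionSystem (normalizerIn centralizerIn)

open scoped commutatorElement
variable {Ω : Type*} [Group Ω] {H : Subgroup Ω} {p : ℕ} [hp : Fact p.Prime] [Finite H]

theorem two (h : NF p H) (hH : IsPGroup p H) (na : ¬ H ≤ centralizer (H : Set Ω)) (hc : Nat.card (Phi H) = p ^ 2)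
    (hi : (Phi H).relIndex H = p ^ 2) : False := by
  have := finite_of_le (Phi_le H)
  have hab := ab_of_card hc.dvd
  have hn := (chr_Phi H).le_normalizer
  rcases h.two' hi.dvd (chr_Phi H).cen (le_inf (Phi_le H) hab) with k | k
  · have h1 := inf_centralizer_ne_bot_of_dvd hH hn (hc ▸ dvd_pow_self p two_ne_zero)
    have h0 : (⊥ : Subgroup Ω).relIndex (Phi H) ∣ p ^ 2 := by rw [relIndex_bot_left, hc]
    have h2 : Phi H ⊓ centralizer (H : Set Ω) ≠ Phi H := fun e => h.phi (relIndex_eq_one.2 ((le_inf le_rfl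
      (le_centralizer_iff.1 (e.ge.trans inf_le_right))).trans k.le) ▸ one_dvd p)
    have h3 := relIndex_dvd_right h0 bot_le inf_le_left h1
    obtain ⟨c, hc, hc'⟩ := SetLike.exists_of_lt (lt_of_le_of_ne inf_le_left h2)
    have n := le_normalizer_of_le_centralizer (le_centralizer_iff.1 (inf_le_right : Phi H ⊓ centralizer (H : Set Ω) ≤ _))
    refine h.phi ((relIndex_dvd_of_le_left H (H := centralizer {c⁻¹} ⊓ H) fun s hs => k.le ⟨hs.2, ?_⟩).trans (by
      rw [inf_relIndex_right]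
      refine (relIndex_cen_dvd (D := Phi H ⊓ centralizer (H : Set Ω)) inf_le_right fun s hs => ?_).trans
        (relIndex_bot_left (H := Phi H ⊓ centralizer (H : Set Ω)) ▸ relIndex_dvd_left h0 bot_le inf_le_left h2)
      obtain ⟨k, hk⟩ := exists_pow_of_isPGroup hH hs
      rw [show ⁅c⁻¹, s⁆ = c⁻¹ * (s * c * s⁻¹) by simp [commutatorElement_def, mul_assoc]]
      exact tv_of_relIndex (a := cp s) (k := k) (by rw [← map_pow, hk, map_one])
        (homOn_cp s _) (maps_cp (hn hs)) (maps_cp (n hs)) ((Phi_le H).trans n) h3 c hc))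
    rw [← sup_zpowers_of_relIndex h3 inf_le_left (inv_mem hc) fun e => hc' (inv_mem_iff.1 e), centralizer_sup',
      centralizer_zpowers]
    exact ⟨le_centralizer_iff.1 inf_le_right hs.2, hs.1⟩
  have h1 : Phi H ≤ centralizer (H : Set Ω) := le_centralizer_iff.1 (k.ge.trans inf_le_right)
  have h2 := (h.two' hi.dvd (chr_CS H) (le_inf (Phi_le H) h1)).resolve_right fun e => na (e.ge.trans inf_le_right)
  obtain ⟨x, hx, hx'⟩ := SetLike.not_le_iff_exists.1 fun e : H ≤ Phi H => h.phi (relIndex_eq_one.2 e ▸ one_dvd p)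
  have hA := sup_le (Phi_le H) (zpowers_le.2 hx)
  have ab := sup_zpowers_ab hab (le_centralizer_iff.1 h1 hx)
  have ai : AI p H (Phi H ⊔ zpowers x) := ⟨hH, hA, ab, (hp.out.eq_one_or_self_of_dvd _ (relIndex_dvd_right hi.dvd
    le_sup_left hA fun e => hx' (e ▸ mem_sup_right (mem_zpowers x)))).resolve_left fun e =>
      na (le_centralizer_self_of_le ab (relIndex_eq_one.1 e)), na⟩
  have c := ai.card_A
  rw [PGrp.card_sup_zpowers hp.out (hn hx) hx' (pow_mem_Phi hH hx), h2, mul_comm] at c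
  replace c := Nat.eq_of_mul_eq_mul_right Nat.card_pos c
  have hD := commutator_le_Phi hH
  have := finite_of_le hD
  obtain ⟨u, hu, hu', e⟩ := exists_pow_mem (D := ⁅H, H⁆) h1 (fun x hx => ⟨pow_mem_Phi hH hx, pow_mem_Phi hH hx⟩)
    (hD.trans h1) (fun x hx => pow_mem hx _) hD (Phi_le H) (relIndex_of_card hD (by rw [hc, ← c, sq])).dvd (Phi_le H) hn h.phi
  let B : Subgroup Ω :=
    { carrier := {x | x ∈ H ∧ x ^ p ∈ ⁅H, H⁆}
      one_mem' := ⟨one_mem H, by simp⟩
      inv_mem' := fun hx => ⟨inv_mem hx.1, by rw [inv_pow]; exact inv_mem hx.2⟩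
      mul_mem' := fun {a b} ha hb => ⟨mul_mem ha.1 hb.1, by
        have hc := commutator_mem_commutator hb.1 ha.1
        rw [PGrp.mul_pow_of_commute_commutator (h1 (hD hc) a ha.1).symm (h1 (hD hc) b hb.1).symm]
        exact mul_mem (pow_mem hc _) (mul_mem ha.2 hb.2)⟩ }
  have hB : Chr H B := chr_of (fun _ hx => hx.1) fun f k1 k2 x hx =>
    ⟨k2.mem hx.1, k1.map_pow hx.1 p ▸ ((chr_der H).2 f k1 k2).mem hx.2⟩
  have h3 := eq_of_le_sup_Phi hB.1 ((h.two' hi.dvd (hB.sup (chr_Phi H)) le_sup_right).resolve_left fun k =>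
    hu' (k.le (mem_sup_left ⟨hu, e⟩))).ge
  have := card_le_card ((Phi_le_iff hH).2 ⟨le_rfl, fun x hx => (h3.ge hx).2⟩)
  rw [hc, ← c, sq] at this
  nlinarith [hp.out.two_le]

theorem ab (hH : IsPGroup p H) (hab : H ≤ centralizer (H : Set Ω)) (hc : Nat.card (Phi H) = p)
    (hcard : Nat.card H = p ^ 4) : Nonempty (H ≃* Multiplicative (ZMod (p ^ 2) × ZMod p × ZMod p)) := by
  obtain ⟨_, hz, h1, -⟩ := exists_pow_eq_one_of_isPGroup (hH.to_le (Phi_le H)) fun e => hp.out.one_lt.ne (by simp [← hc, e])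
  obtain ⟨x, hx, rfl⟩ := (mem_Phi_ab hH hab).1 hz
  have ox : orderOf x = p ^ 2 := orderOf_eq_prime_pow (n := 1) (by rwa [pow_one]) (by
    rw [pow_succ, pow_one, pow_mul]; exact congrArg Subtype.val (hc ▸ pow_card_eq_one' (x := (⟨_, hz⟩ : Phi H))))
  have c := (homOn_pow hab p).card_img_mul
  rw [show img (· ^ p) H = Phi H from Subgroup.ext fun _ => (homOn_pow hab p).mem_img.trans (mem_Phi_ab hH hab).symm,
    hc, hcard, pow_succ'] at c
  replace c := Nat.eq_of_mul_eq_mul_left hp.out.pos c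
  have n : ∀ {B}, B ≤ H → H ≤ normalizer (B : Set Ω) := fun h =>
    le_normalizer_of_le_centralizer (hab.trans (centralizer_anti h))
  have hX := zpowers_le.2 hx
  have := finite_of_le hX
  obtain ⟨y, ⟨hy, hy1⟩, hy'⟩ := SetLike.not_le_iff_exists.1 fun e : (homOn_pow hab p).pre ⊥ ≤ zpowers x => by
    have := card_le_card e
    rw [c, Nat.card_zpowers, ox, Nat.pow_le_pow_iff_right hp.out.one_lt] at this
    omega
  have hY := sup_le hX (zpowers_le.2 hy)
  have := finite_of_le hY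
  have c1 := PGrp.card_sup_zpowers hp.out (n hX hy) hy' ((show y ^ p = 1 from hy1).symm ▸ one_mem _)
  rw [Nat.card_zpowers, ox, ← pow_succ] at c1
  obtain ⟨w, ⟨hw, hw1⟩, hw'⟩ := SetLike.not_le_iff_exists.1 fun e : (homOn_pow hab p).pre ⊥ ≤ zpowers x ⊔ zpowers y =>
    h1 ((eq_of_le_of_card_le e (by rw [c, c1])).ge (mem_sup_left (mem_zpowers x))).2
  have c2 := PGrp.card_sup_zpowers hp.out (n hY hw) hw' ((show w ^ p = 1 from hw1).symm ▸ one_mem _)
  rw [c1, ← pow_succ, ← hcard] at c2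
  obtain ⟨e1⟩ := exists_sup_equiv (centralizer_anti hY (hab hw)) hw' hw1
  obtain ⟨e2⟩ := exists_sup_equiv (centralizer_anti hX (hab hy)) hy' hy1
  obtain ⟨e3⟩ := exists_zmod_equiv ox
  exact ⟨(MulEquiv.subgroupCongr (eq_of_le_of_card_le (sup_le hY (zpowers_le.2 hw)) c2.ge).symm).trans (e1.trans
    (((e2.trans (e3.prodCongr (MulEquiv.refl _))).prodCongr (MulEquiv.refl _)).trans (MulEquiv.prodAssoc.trans
      (((MulEquiv.refl _).prodCongr (MulEquiv.prodMultiplicative _ _).symm).trans (MulEquiv.prodMultiplicative _ _).symm))))⟩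

theorem nab (hH : IsPGroup p H) (na : ¬ H ≤ centralizer (H : Set Ω)) (hc : Nat.card (Phi H) = p)
    (hcard : Nat.card H = p ^ 4) : Nat.card (centralizerIn H H) = p ^ 2 ∧ ((∀ z ∈ centralizerIn H H, z ^ p = 1) →
      ∃ E ≤ H, Nat.card E = p ^ 3 ∧ ¬ E ≤ centralizer (E : Set Ω) ∧ Nonempty (H ≃* E × Multiplicative (ZMod p))) := by
  have := finite_of_le (Phi_le H)
  have hP := le_centralizer_of_card hH (chr_Phi H).le_normalizer hc
  have hD := commutator_le_Phi hH
  obtain ⟨x, hx, hx'⟩ := SetLike.not_le_iff_exists.1 na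
  obtain ⟨y, hy, hy'⟩ := SetLike.not_le_iff_exists.1 fun e : H ≤ centralizer {x} => hx' fun y hy =>
    mem_centralizer_singleton_iff.1 (e hy)
  have i1 : (centralizer {x} ⊓ H).relIndex H = p := (hp.out.eq_one_or_self_of_dvd _ (by
    rw [inf_relIndex_right, ← hc]
    exact relIndex_cen_dvd hP fun s hs => hD (commutator_mem_commutator hx hs))).resolve_left fun e =>
      hy' (relIndex_eq_one.1 e hy).1
  have c1 := Solv.card_mul_relIndex (inf_le_right : centralizer {x} ⊓ H ≤ H)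
  rw [i1, hcard, pow_succ] at c1
  replace c1 := Nat.eq_of_mul_eq_mul_right hp.out.pos c1
  have hW := sup_le (Phi_le H) (zpowers_le.2 hx)
  have := finite_of_le hW
  have c2 := PGrp.card_sup_zpowers hp.out ((chr_Phi H).le_normalizer hx) (fun e => hx' (hP e)) (pow_mem_Phi hH hx)
  rw [hc, ← sq] at c2
  have hW2 : centralizer {x} ⊓ H ≤ centralizer ((Phi H ⊔ zpowers x : Subgroup Ω) : Set Ω) := by
    rw [centralizer_sup', centralizer_zpowers, inf_comm]
    exact inf_le_inf_right _ (le_centralizer_iff.1 hP)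
  have hW3 : Phi H ⊔ zpowers x ≤ centralizer {x} ⊓ H := le_inf (sup_le (hP.trans (centralizer_le (by simpa)))
    (zpowers_le.2 (mem_centralizer_singleton_iff.2 rfl))) hW
  have ai : AI p H (centralizer {x} ⊓ H) := ⟨hH, inf_le_right, ab_of_relIndex hW3 hW2
    (relIndex_of_card hW3 (by rw [c1, c2, pow_succ])).dvd, i1, na⟩
  have c3 := ai.card_A
  rw [c1, (eq_or_eq_of_relIndex_dvd (p := p) (B := ⊥) (by rw [relIndex_bot_left, hc]) bot_le hD).resolve_left
    fun e => na (commutator_eq_bot_iff'.1 e), hc, pow_succ'] at c3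
  replace c3 := (Nat.eq_of_mul_eq_mul_left hp.out.pos c3).symm
  refine ⟨c3, fun hZ => ?_⟩
  have hE := sup_le hW (zpowers_le.2 hy)
  have c4 := PGrp.card_sup_zpowers hp.out (le_normalizer_of_Phi_le hH le_sup_left hW hy) (fun e => hy' (hW3 e).1)
    (mem_sup_left (pow_mem_Phi hH hy))
  rw [c2, ← pow_succ] at c4
  have na' : ¬ (Phi H ⊔ zpowers x) ⊔ zpowers y ≤ centralizer (((Phi H ⊔ zpowers x) ⊔ zpowers y : Subgroup Ω) : Set Ω) := fun e =>
    hy' (mem_centralizer_singleton_iff.2 (e (mem_sup_left (mem_sup_right (mem_zpowers x))) y (mem_sup_right (mem_zpowers y))))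
  obtain ⟨c, hc1, hc'⟩ := SetLike.not_le_iff_exists.1 fun e : centralizerIn H H ≤ Phi H => by
    have := card_le_card e
    rw [c3, hc, sq] at this
    nlinarith [hp.out.two_le]
  have := finite_of_le hE
  have hc2 : c ∉ (Phi H ⊔ zpowers x) ⊔ zpowers y := fun e => hc' ((eq_of_le_of_card_le (K := centralizerIn _ _)
    (le_inf (le_sup_left.trans le_sup_left) (hP.trans (centralizer_anti hE)))
    (by rw [(es_data (es_of_card c4 na')).2.2, hc])).ge ⟨e, centralizer_anti hE hc1.2⟩)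
  have c5 := PGrp.card_sup_zpowers hp.out (le_normalizer_of_le_centralizer le_rfl (centralizer_anti hE hc1.2)) hc2
    ((hZ c hc1).symm ▸ one_mem _)
  rw [c4, ← pow_succ, ← hcard] at c5
  obtain ⟨e⟩ := exists_sup_equiv (centralizer_anti hE hc1.2) hc2 (hZ c hc1)
  exact ⟨_, hE, c4, na', ⟨(MulEquiv.subgroupCongr (eq_of_le_of_card_le (sup_le hE (zpowers_le.2 hc1.1)) c5.ge).symm).trans e⟩⟩

end

/-- Let F be a saturated fusion system over a finite p-group S and H an essential subgroup of order p⁴. Then H is isomorphic to one of: C_p⁴ or C_{p²} × C_p × C_p (any p); C_{p²} × C_{p²} with p ∈ {2, 3}; p^{1+2}_+ × C_p with p odd (the direct product of an extraspecial group of order p³ and exponent p with a group of order p); Q₈ × C₂ (p = 2); or the non-abelian group of order p⁴ of exponent p² whose centre is cyclic of order p² (the central product of an extraspecial group of order p³ with a cyclic group of order p²; for p = 2 this is D₈ ∘ C₄). -/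
theorem result {Ω : Type u} [Group Ω] {S : Subgroup Ω} [Finite S] (p : ℕ) [Fact p.Prime] (hS : IsPGroup p S)
    (F : Cfsg.FusionSystem S) (hF : F.IsSaturated p) (H : Subgroup Ω) (hH : F.IsEssential p H) (hcard : Nat.card H = p ^ 4) :
    Cfsg.IsElementaryAbelian p H ∨
      Nonempty (↥H ≃* Multiplicative (ZMod (p ^ 2) × ZMod p × ZMod p)) ∨
      ((p = 2 ∨ p = 3) ∧ Nonempty (↥H ≃* Multiplicative (ZMod (p ^ 2) × ZMod (p ^ 2)))) ∨
      (Odd p ∧ ∃ (E : Type) (_ : Group E) (_ : Finite E), Cfsg.IsExtraspecial p E ∧ Nat.card E = p ^ 3 ∧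
        (∀ x : E, x ^ p = 1) ∧ Nonempty (↥H ≃* E × Multiplicative (ZMod p))) ∨
      (p = 2 ∧ Nonempty (↥H ≃* QuaternionGroup 2 × Multiplicative (ZMod 2))) ∨
      (¬ IsMulCommutative ↥H ∧ (∀ x ∈ H, x ^ (p ^ 2) = 1) ∧ IsCyclic ↥(Subgroup.center ↥H) ∧
        Nat.card (Subgroup.center ↥H) = p ^ 2) :=
  open Subgroup Cfsg.Agent.Fus Cfsg.Agent.Loc Equiv in by
  have e : Es F p H := ⟨⟨hS, hF⟩, hH⟩
  have hp : p.Prime := Fact.out
  have := e.finite
  have := finite_of_le (Phi_le H)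
  obtain ⟨j, hj⟩ := IsPGroup.iff_card.1 (e.pg.to_le (Phi_le H))
  have h4 : j ≤ 4 := (Nat.pow_le_pow_iff_right hp.one_lt).1 (hj ▸ hcard ▸ card_le_card (Phi_le H))
  have hi : (Phi H).relIndex H = p ^ (4 - j) := relIndex_of_card (Phi_le H) (by rw [hj, hcard, ← pow_add]; congr 1; omega)
  interval_cases j
  · have h0 := card_eq_one.1 (hj.trans (pow_zero p))
    exact .inl (isElementaryAbelian_iff.2 ⟨commutator_eq_bot_iff'.1 (eq_bot_iff.2 (h0 ▸ commutator_le_Phi e.pg)),
      fun x hx => mem_bot.1 (h0 ▸ pow_mem_Phi e.pg hx)⟩)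
  · rw [pow_one] at hj
    by_cases hab : H ≤ centralizer (H : Set Ω)
    · exact .inr (.inl (ab e.pg hab hj hcard))
    obtain ⟨c, h⟩ := nab e.pg hab hj hcard
    by_cases hZ : ∀ z ∈ FusionSystem.centralizerIn H H, z ^ p = 1
    · obtain ⟨E, h1, h2, h3, ⟨f⟩⟩ := h hZ
      rcases e.nf.core e.pg hab hj hZ (relIndex_of_card (le_inf (Phi_le H) (le_centralizer_of_card e.pg
        (chr_Phi H).le_normalizer hj)) (c.trans (by rw [hj, sq]))).dvd (relIndex_of_card (CS_le H H) (by
          rw [hcard, c, ← pow_add])).dvd with ⟨k1, k2⟩ | ⟨rfl, k2⟩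
      · have := finite_of_le h1
        let s : Shrink.{0} E ≃* E := Shrink.mulEquiv
        exact .inr (.inr (.inr (.inl ⟨k1, Shrink.{0} E, inferInstance, Finite.of_equiv _ s.symm.toEquiv,
          PGrp.ES_of_mulEquiv (es_of_card h2 h3) s.symm, (Nat.card_congr s.toEquiv).trans h2,
          fun x => s.injective (by rw [map_pow, map_one]; exact Subtype.ext (k2 _ (h1 (s x).2))),
          ⟨f.trans (s.symm.prodCongr (MulEquiv.refl _))⟩⟩)))
      · obtain ⟨s⟩ := q8_of_card h2 h3 fun x hx e => centralizer_anti h1 (k2 x (h1 hx) e)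
        exact .inr (.inr (.inr (.inr (.inl ⟨rfl, ⟨f.trans (s.prodCongr (MulEquiv.refl _))⟩⟩))))
    push Not at hZ
    obtain ⟨z, hz, hz'⟩ := hZ
    have oz : orderOf z = p ^ 2 := orderOf_eq_prime_pow (n := 1) (by rwa [pow_one])
      (congrArg Subtype.val (c ▸ pow_card_eq_one' (x := (⟨z, hz⟩ : FusionSystem.centralizerIn H H))))
    rw [FusionSystem.centralizerIn, ← map_subtype_center, card_map_subtype] at c
    refine .inr (.inr (.inr (.inr (.inr ⟨fun e => hab (le_centralizer_iff_isMulCommutative.2 e), fun x hx => ?_,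
      isCyclic_of_orderOf_eq_card ⟨⟨z, hz.1⟩, Subgroup.mem_center_iff.2 fun y => Subtype.ext (hz.2 y y.2)⟩
        (by rw [orderOf_mk, orderOf_mk, oz, c]), c⟩))))
    rw [sq, pow_mul]
    exact congrArg Subtype.val (hj ▸ pow_card_eq_one' (x := (⟨_, pow_mem_Phi e.pg hx⟩ : Phi H)))
  · by_cases hab : H ≤ centralizer (H : Set Ω)
    swap
    · exact (two e.nf e.pg hab hj hi).elim
    rcases e.rank_two hab hi.dvd with ⟨-, h⟩ | ⟨h3, k, ⟨f⟩⟩
    · exact absurd (Nat.pow_right_injective hp.two_le (hcard.symm.trans h)) (by decide)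
    · have := Nat.pow_right_injective hp.two_le (show p ^ 4 = p ^ (k + k) by
        simpa [hcard, pow_add] using Nat.card_congr f.toEquiv)
      obtain rfl : k = 2 := by omega
      exact .inr (.inr (.inl ⟨by have := hp.two_le; omega, ⟨f⟩⟩))
  all_goals exact (e.nf.phi (by simp [hi])).elim

end Cfsg.Agent.S5188
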