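import Cfsg.Statements.S5191
import Cfsg.Agent.Fus.Fac2
import Cfsg.Agent.Solv.Core
-- import your own Cfsg.Agent.* helpers here

set_option autoImplicit false
open Cfsg

namespace Cfsg.Agent.S5191

/-- Fusion in a finite group G and in its quotient by O_{p'}(G) agree. Let S be a Sylow p-subgroup of G, N = O_{p'}(G) and P ≤ S. If an element of G/N conjugates the image of P into the image of S, then some element g of G conjugates P into S and induces the same map on P modulo N. (Together with the injectivity of S → G/N this says that g ↦ gN induces an isomorphism of the fusion system of G on S with that of G/N on SN/N.) -/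
theorem result {G : Type*} [Group G] [Finite G] {p : ℕ} [Fact p.Prime]
    [hN : (Cfsg.pPrimeCore p G).Normal] (S : Sylow p G) (P : Subgroup G) (hP : P ≤ (S : Subgroup G))
    (γ : G ⧸ Cfsg.pPrimeCore p G)
    (hγ : ∀ x ∈ P, γ * QuotientGroup.mk x * γ⁻¹ ∈ ((S : Subgroup G).map (QuotientGroup.mk' (Cfsg.pPrimeCore p G)))) :
    ∃ g : G, ∀ x ∈ P, g * x * g⁻¹ ∈ S ∧
      (QuotientGroup.mk (g * x * g⁻¹) : G ⧸ Cfsg.pPrimeCore p G) = γ * QuotientGroup.mk x * γ⁻¹ :=
  open Subgroup Cfsg.Agent.Fus Cfsg.Agent.Loc Equiv in by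
  have h := (grpFS_group (S : Subgroup G)).epi (grpFS_group ((S : Subgroup G).map (QuotientGroup.mk' (pPrimeCore p G))))
    (sylIn_top S) (homOn_hom (QuotientGroup.mk' _) ⊤)
    (by rw [img_hom, map_top_of_surjective _ (QuotientGroup.mk'_surjective _)]) (img_hom _ _)
  have h1 := (grpFS_group _).mor_cp (h.img_le hP) (mem_top γ) (cj_le_iff_forall.2 fun y hy => by
    obtain ⟨x, hx, rfl⟩ := (homOn_hom _ P).mem_img.1 hy
    exact hγ x hx)
  obtain ⟨f, hf, e⟩ := h.lift' h1
  obtain ⟨g, -, e'⟩ := (grpFS_group _).exists_of_mor hf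
  refine ⟨g, fun x hx => ?_⟩
  have hx' := h.hom.le_pre_img hP hx
  exact ⟨e' x hx' ▸ hf.mem_S hx', e' x hx' ▸ (e x hx').symm⟩

end Cfsg.Agent.S5191
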