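import Cfsg.Statements.S5192
import Cfsg.Agent.Fus.Trf
-- import your own Cfsg.Agent.* helpers here

set_option autoImplicit false
open Cfsg

namespace Cfsg.Agent.S5192

/-- A Thompson-type transfer for saturated fusion systems. Let F be a saturated fusion system on a finite 2-group S, T a subgroup of S of index 2, and i an involution of S such that every fully normalized F-conjugate of i lies in S but outside T. Then i does not lie in the hyperfocal subgroup of F (the Sylow group of the 2-residual subsystem). -/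
theorem result {Ω : Type*} [Group Ω] [Finite Ω] {S : Subgroup Ω}
    (hS : IsPGroup 2 ↥S) (F : Cfsg.FusionSystem S) (hF : F.IsSaturated 2)
    (T : Subgroup Ω) (hTS : T ≤ S) (hT : T.relIndex S = 2)
    (i : Ω) (hi : i ∈ S) (hi2 : orderOf i = 2)
    (h : ∀ j : Ω, F.IsConjElt i j → F.IsFullyNormalized (Subgroup.zpowers j) → j ∉ T) :
    i ∉ F.hyperfocalSubgroup 2 :=
  open Subgroup Cfsg.Agent.Fus Cfsg.Agent.Loc Equiv in by
  have h' : Sat F 2 := ⟨hS, hF⟩
  have hi2' : i ^ 2 = 1 := hi2 ▸ pow_orderOf_eq_one i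
  refine fun k => h'.thompson_transfer hT hi hi2' (fun f hf hc => h _ (isConjElt_iff.2 ⟨f, hf, rfl⟩) ?_) (hyp_le_foc F 2 k)
  have e : ∀ {x : Ω}, orderOf x = 2 → FusionSystem.normalizerIn S (zpowers x) = FusionSystem.centralizerIn S (zpowers x) := fun {x} hx => by
    refine le_antisymm (fun g hg => mem_CS.2 ⟨hg.1, ?_⟩) (CS_le_NS _ _)
    rw [centralizer_zpowers, mem_centralizer_singleton_iff]
    obtain ⟨n, hn⟩ := conj_mem_of_mem_normalizer hg.2 (mem_zpowers x)
    have h2 : x ^ (2 : ℤ) = 1 := by rw [zpow_ofNat, ← hx, pow_orderOf_eq_one]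
    rcases Int.even_or_odd' n with ⟨m, rfl | rfl⟩
    · simp only [zpow_mul, h2, one_zpow] at hn
      rw [eq_comm, mul_inv_eq_one, mul_eq_left] at hn
      rw [hn, orderOf_one] at hx
      exact absurd hx (by decide)
    · simp only [zpow_add, zpow_mul, h2, one_zpow, one_mul, zpow_one] at hn
      exact (eq_mul_inv_iff_mul_eq.1 hn).symm
  have ho : orderOf (f i) = 2 := (hf.homOn.orderOf_eq (mem_zpowers i)).trans hi2
  refine fn_iff.2 ⟨hc.1, fun g Q hg => ?_⟩
  obtain rfl := hg.maps.unique hg.homOn.maps_zpowers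
  rw [e ho, e ((hg.homOn.orderOf_eq (mem_zpowers _)).trans ho)]
  exact (fc_iff.1 hc).2 _ _ hg

end Cfsg.Agent.S5192
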