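import Cfsg.Statements.S5193
import Cfsg.Agent.S2799
import Cfsg.Agent.Fus.Ctl2
-- import your own Cfsg.Agent.* helpers here

set_option autoImplicit false
open Cfsg

namespace Cfsg.Agent.S5193

section
open Subgroup Cfsg.Agent.Fus Cfsg.Agent.Loc Equiv
open Cfsg.FusionSystem (normalizerIn centralizerIn)

theorem aux.{u} {p : ℕ} [Fact p.Prime] {Ω : Type u} [Group Ω] {S : Subgroup Ω} [Finite S] {F : FusionSystem S}
    (hF : Sat F p) (hp : p ≠ 2 ∨ F.IsSectionFree p (Perm (Fin 4))) : ∀ z ∈ centralizerIn S S,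
      (∀ P (f : Perm Ω), NMor F (inducedFunctor PLocal.JAF S) ⊤ P f → Fx z P f) → z ∈ F.center := fun _ =>
  center_ctl_grp PLocal.JAF_char (fun _ => CS_le_JA _) (fun G _ _ P h x hx hx' => by
    rw [PLocal.ind_JAF] at hx'
    refine Cfsg.Agent.S2799.result P x hx ?_ (h.imp_right fun h => Or.inr (PLocal.involves_iff_top.not.2 h))
    rw [map_subtype_center]
    have := le_normalizer.trans (normalizer_le_ind PLocal.JAF_char P.isPGroup')
    rw [PLocal.ind_JAF] at this
    exact ⟨this hx, hx'⟩) hF hp

end

/-- Glauberman's Theorem for fusion systems. Let F be a saturated fusion system over a finite p-group S, let J(S) be the subgroup generated by the abelian subgroups of S of largest order, and let N be the normalizer fusion system of J(S) in F (a fusion system over N_S(J(S)) = S). Then every p-th power of an element of Z(S) that lies in the centre of N lies in the centre of F; and if p is odd, or if the symmetric group of degree 4 is not involved in any model of the normalizer system of a fully normalized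 F-centric subgroup (F is S₄-free), then the centre of N equals the centre of F. -/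
theorem result {Ω : Type*} [Group Ω] {S : Subgroup Ω} [Finite S] (p : ℕ) [Fact p.Prime] (hS : IsPGroup p S) (F : Cfsg.FusionSystem S) (hF : F.IsSaturated p) (N : Cfsg.FusionSystem (Cfsg.FusionSystem.normalizerIn S (Cfsg.thompsonSubgroupAOf S))) (hN : F.IsNormalizerSystem (Cfsg.thompsonSubgroupAOf S) N) : Subgroup.closure ((fun z : Ω => z ^ p) '' ((S ⊓ Subgroup.centralizer (S : Set Ω) : Subgroup Ω) : Set Ω)) ⊓ N.center ≤ F.center ∧ (p ≠ 2 ∨ F.IsSectionFree p (Equiv.Perm (Fin 4)) → N.center = F.center) :=
  open Subgroup Cfsg.Agent.Fus Cfsg.Agent.Loc Equiv in by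
  have hN' : IsNK F (Cfsg.inducedFunctor PLocal.JAF S) ⊤ N := by
    have := isNK_top_iff.2 ⟨PLocal.ind_JAF S ▸ ind_le' _ S, hN⟩
    rwa [PLocal.ind_JAF]
  have hn := le_normalizer.trans (normalizer_le_ind PLocal.JAF_char hS)
  refine ⟨?_, fun hp => center_nrm_eq ⟨hS, hF⟩ hN' hn (aux ⟨hS, hF⟩ hp)⟩
  rintro z ⟨hz, hzN⟩
  obtain ⟨y, hy, rfl⟩ : ∃ y ∈ FusionSystem.centralizerIn S S, z = y ^ p := by
    have := (mem_powerClosure_iff (p := p) (n := 1) (x := z) (CS_self_le_centralizer S)).1
      (closure_mono (by rintro _ ⟨x, hx, rfl⟩; exact ⟨x, hx, by simp⟩) hz)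
    simpa using this
  exact pow_mem_center PLocal.JAF_char (fun h _ => normal_JA_or_quad h) ⟨hS, hF⟩ hy fun P f hf =>
    fx_of_center hzN (hN'.mor (hf.mor.le.trans (hN'.eq.trans ((NK_top _ _).trans (NS_eq_of_le hn))).ge) hf)

end Cfsg.Agent.S5193
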