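import Cfsg.Statements.S5194
import Cfsg.Agent.S5193
import Cfsg.Agent.Fus.Ctl2
-- import your own Cfsg.Agent.* helpers here

set_option autoImplicit false
open Cfsg

namespace Cfsg.Agent.S5194

/-- Thompson's normal p-complement Theorem for fusion systems. Let F be a saturated fusion system over a finite p-group S such that p is odd or F is S₄-free (the symmetric group of degree 4 is not involved in any model of the normalizer system of a fully normalized F-centric subgroup), and let J(S) be the subgroup generated by the abelian subgroups of S of largest order. If the centralizer fusion system of Z(S) in F is the inner fusion system of C_S(Z(S)) = S and the normalizer fusion system of J(S) in F is the inner fusion system of N_S(J(S)) = S, then F is the inner fusion system of S. -/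
theorem result {Ω : Type*} [Group Ω] {S : Subgroup Ω} [Finite S] (p : ℕ) [Fact p.Prime] (hS : IsPGroup p S) (F : Cfsg.FusionSystem S) (hF : F.IsSaturated p) (hp : p ≠ 2 ∨ F.IsSectionFree p (Equiv.Perm (Fin 4))) (hC : ∀ C : Cfsg.FusionSystem (Cfsg.FusionSystem.centralizerIn S (S ⊓ Subgroup.centralizer (S : Set Ω))), F.IsCentralizerSystem (S ⊓ Subgroup.centralizer (S : Set Ω)) C → ∀ P : Subgroup Ω, C.Hom P = (Cfsg.innerFusionSystem (Cfsg.FusionSystem.centralizerIn S (S ⊓ Subgroup.centralizer (S : Set Ω)))).Hom P) (hN : ∀ N : Cfsg.FusionSystem (Cfsg.FusionSystem.normalizerIn S (Cfsg.thompsonSubgroupAOf S)), F.IsNormalizerSystem (Cfsg.thompsonSubgroupAOf S) N → ∀ P : Subgroup Ω, N.Hom P = (Cfsg.innerFusionSystem (Cfsg.FusionSystem.normalizerIn S (Cfsg.thompsonSubgroupAOf S))).Hom P) : ∀ P : Subgroup Ω, F.Hom P = (Cfsg.innerFusionSystem S).Hom P :=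
  open Subgroup Cfsg.Agent.Fus Cfsg.Agent.Loc Equiv in by
  have hn := le_normalizer.trans (normalizer_le_ind PLocal.JAF_char hS)
  rw [PLocal.ind_JAF] at hn
  have hJ : Cfsg.thompsonSubgroupAOf S ≤ S := PLocal.ind_JAF S ▸ ind_le' _ S
  obtain ⟨N, h1, h2⟩ := exists_normalizerSystem F hJ
  obtain ⟨C, h3, h4⟩ := exists_centralizerSystem F (CS_le S S)
  have hT := NS_eq_of_le hn
  have hT' := CS_eq_of_le (le_centralizer_iff.1 (CS_le_centralizer S S))
  refine inner_iff_hom.2 (inner_of_center ⟨hS, hF⟩ (fun P f hf => ((nk_inner_iff h3).1 (inner_iff_hom.1 (hC C h4)) P f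
    (hf.mor.le.trans hT'.ge) hf).mono hT'.le) fun z hz => ?_)
  rw [← (Cfsg.Agent.S5193.result p hS F hF N h2).2 hp]
  haveI := h1.finite
  exact (Sat.normalizer ⟨hS, hF⟩ (fn_of_normal F hJ hn) h1).mem_center (CS_self_le_nk h1 hz) fun P f hf =>
    ((eq_inner_iff.1 (inner_iff_hom.1 (hN N h2)) P f hf).fx (CS_self_le_nk h1 hz)).fix

end Cfsg.Agent.S5194
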