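import Cfsg.Statements.S5206
import Cfsg.Agent.PLocal.StabF
-- import your own Cfsg.Agent.* helpers here

set_option autoImplicit false
universe u
open Cfsg

namespace Cfsg.Agent.S5206


open Subgroup Cfsg Cfsg.Agent.Transfer Cfsg.Agent.BG Cfsg.Agent.PLocal Pointwise
open scoped commutatorElement

/-- Let p be an odd prime, G a finite group and P a Sylow p-subgroup of G. Then the fusion system of G on P is Qd(p)-free (Qd(p), the natural semidirect product of an elementary abelian group of order p² by SL₂(p), is not involved in any model of the normalizer system of a fully normalized centric subgroup) if and only if Qd(p) is not involved in G. -/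
theorem result {G : Type u} [Group G] [Finite G] {p : ℕ} [Fact p.Prime] (hp : p ≠ 2) (P : Sylow p G) : (Cfsg.groupFusionSystem (P : Subgroup G)).IsSectionFree p ↥(Cfsg.qd p) ↔ ¬ Cfsg.Involves ↥(Cfsg.qd p) G := by
  rw [involves_iff_top]
  refine ⟨not_involves_of_free hp (Fus.grpFS_group _) (Loc.sylIn_top P), fun h => ?_⟩
  refine (Fus.FIso.real (Fus.fiso_id _) (Fus.grpFS_group _)).free ?_ h
  rw [Fus.img_id]
  exact Loc.sylIn_top P


end Cfsg.Agent.S5206
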