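import Cfsg.Statements.S5213
import Cfsg.Agent.FusC.Rk2

set_option autoImplicit false
open Cfsg

namespace Cfsg.Agent.S5213

open Subgroup Cfsg.Agent.Fus

/-- Let S be a finite 2-group of 2-rank 2 (it has an elementary abelian subgroup of order 4 and none of order 8) and F a saturated fusion system over S with trivial centre. Then S is dihedral, semidihedral, wreathed, homocyclic abelian (a direct product of cyclic groups of one common order), or isomorphic to a Sylow 2-subgroup of the projective special unitary group PSU₃(4) (realised over the field with 16 elements). -/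
theorem result {Ω : Type*} [Group Ω] {S : Subgroup Ω} [Finite S] (hS : IsPGroup 2 S) (F : Cfsg.FusionSystem S) (hF : F.IsSaturated 2) (hr : Cfsg.PRankAtLeast 2 2 ↥S ∧ ¬ Cfsg.PRankAtLeast 2 3 ↥S) (hZ : F.center = ⊥) {K : Type*} [Field K] [Fintype K] (hK : Fintype.card K = 16) : (∃ m : ℕ, Nonempty (↥S ≃* DihedralGroup m)) ∨ Cfsg.IsQuasiDihedral ↥S ∨ Cfsg.IsWreathed ↥S ∨ (∃ n k : ℕ, Nonempty (↥S ≃* Multiplicative (Fin k → ZMod (2 ^ n)))) ∨ ∃ T : Sylow 2 (Cfsg.PSU 3 K 4), Nonempty (↥S ≃* ↥(T : Subgroup (Cfsg.PSU 3 K 4))) := by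
  have h2 : PRankLE 2 2 S := fun A hc hA => by
    obtain ⟨k, hk⟩ := IsPGroup.iff_card.1 (hS.to_subgroup A)
    rw [hk]
    exact Nat.pow_le_pow_right two_pos (Nat.le_of_lt_succ (lt_of_not_ge fun h =>
      hr.2 ⟨A, hc, hA, hk ▸ Nat.pow_le_pow_right two_pos h⟩))
  have h0 : S ≠ ⊥ := by
    rintro rfl
    obtain ⟨A, -, -, h⟩ := hr.1
    have := card_le_card_group A
    rw [card_bot] at this; omega
  obtain ⟨P⟩ : Nonempty (Sylow 2 (PSU 3 K 4)) := inferInstance
  rcases rank_two' ⟨hS, hF⟩ h2 h0 (fun z hz h => by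
    have := hZ ▸ le_center h (mem_zpowers z)
    rw [mem_bot.1 this, orderOf_one] at hz; omega) hK P with ⟨m, -, e⟩ | h | h | ⟨n, -, ⟨e⟩⟩ | h
  · exact .inl ⟨m, e⟩
  · exact .inr (.inl h)
  · exact .inr (.inr (.inl h))
  · exact .inr (.inr (.inr (.inl ⟨n, 2, ⟨e.trans (AddEquiv.toMultiplicative
      (LinearEquiv.finTwoArrow ℤ _).symm.toAddEquiv)⟩⟩)))
  · exact .inr (.inr (.inr (.inr ⟨P, h⟩)))

end Cfsg.Agent.S5213
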