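import Cfsg.Statements.S5215
import Cfsg.Agent.FusC.Rz

set_option autoImplicit false
open Cfsg

namespace Cfsg.Agent.S5215

open Subgroup Cfsg.Agent.Fus Cfsg.Agent.Loc Cfsg.Agent.ABG Cfsg.Agent.Invol
open scoped MatrixGroups

theorem facts {Ω : Type*} [Group Ω] {S : Subgroup Ω} [Finite S] {F : FusionSystem S} (hS : IsPGroup 2 S)
    (h : F.IsSimple 2) (h4 : 4 ≤ Nat.card S) : (∀ z, orderOf z = 2 → ¬ F.IsCentral (zpowers z)) ∧
      F ≠ innerFusionSystem S ∧ S ≤ F.focalSubgroup := by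
  have hF : Sat F 2 := ⟨hS, h.1⟩
  have hZ : ∀ z, orderOf z = 2 → ¬ F.IsCentral (zpowers z) := fun z hz k => by
    rcases simple_normal hS h (normal_of_central k) with e | e
    · exact ne_one_of hz (zpowers_eq_bot.1 e)
    · rw [← e, Nat.card_zpowers] at h4; omega
  have hi : F ≠ innerFusionSystem S := fun e => by
    obtain ⟨⟨z, hzS⟩, -, hz, hc⟩ := exists_central_invol (T := (⊤ : Subgroup S)) (hS.to_subgroup ⊤)
      (by have := (nontrivial_iff_ne_bot S).2 h.2.1; exact top_ne_bot)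
    refine hZ z ((orderOf_mk _ _).symm.trans hz) (hF.central_of_fix (zpowers_le.2 hzS) fun P f hf x hx ⟨i, k⟩ => ?_)
    obtain ⟨-, g, hg, k'⟩ := mor_inner.1 (e ▸ hf)
    have : Commute g z := congrArg Subtype.val (hc ⟨g, hg⟩ trivial).eq
    rw [k' x hx, ← k, (this.zpow_right i).eq, mul_inv_cancel_right]
  obtain ⟨E, h1, h2⟩ := hF.exists_ppi (hyp_le F 2) le_rfl
  exact ⟨hZ, hi, (((simple_iff hS).1 h).2.2 _ E (h2.ni hF h1 (le_normalizer_hyp F 2))).elim
    (fun e => (hi (hF.eq_inner_of_hyp e)).elim) fun e => (sub_le e).trans (hyp_le_foc F 2)⟩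

/-- Let S be a finite 2-group of 2-rank 2 (an elementary abelian subgroup of order 4, none of order 8) and F a simple saturated fusion system over S. Then S is dihedral, semidihedral or wreathed, and F is the fusion system of the projective special linear group PSL₂(q) for some odd prime power q ≡ ±1 (mod 8) or of PSL₃(q) for some odd prime power q: it is realized by an injective homomorphism of S into that group whose image is a Sylow 2-subgroup. -/
theorem result {Ω : Type*} [Group Ω] {S : Subgroup Ω} [Finite S] (hS : IsPGroup 2 S) (F : Cfsg.FusionSystem S) (hF : F.IsSaturated 2) (hr : Cfsg.PRankAtLeast 2 2 ↥S ∧ ¬ Cfsg.PRankAtLeast 2 3 ↥S) (hsimple : F.IsSimple 2) : ((∃ m : ℕ, Nonempty (↥S ≃* DihedralGroup m)) ∨ Cfsg.IsQuasiDihedral ↥S ∨ Cfsg.IsWreathed ↥S) ∧ ∃ (K : Type) (_ : Field K) (_ : Fintype K) (q : ℕ), Fintype.card K = q ∧ Odd q ∧ (((q % 8 = 1 ∨ q % 8 = 7) ∧ ∃ ι : ↥S →* Matrix.ProjectiveSpecialLinearGroup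 (Fin 2) K, F.IsRealizedBy ι ∧ ∃ T : Sylow 2 (Matrix.ProjectiveSpecialLinearGroup (Fin 2) K), (T : Subgroup (Matrix.ProjectiveSpecialLinearGroup (Fin 2) K)) = ι.range) ∨ (∃ ι : ↥S →* Matrix.ProjectiveSpecialLinearGroup (Fin 3) K, F.IsRealizedBy ι ∧ ∃ T : Sylow 2 (Matrix.ProjectiveSpecialLinearGroup (Fin 3) K), (T : Subgroup (Matrix.ProjectiveSpecialLinearGroup (Fin 3) K)) = ι.range)) := by
  have hF : Sat F 2 := ⟨hS, hF⟩
  obtain ⟨h2, h0⟩ := rank_two_of hS hr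
  have h4 : 4 ≤ Nat.card S := let ⟨A, _, _, k⟩ := hr.1; k.trans A.card_le_card_group
  obtain ⟨hZ, hi, -⟩ := facts hS hsimple h4
  obtain ⟨E, e⟩ := exists_fin F
  have hE := e.sat hF
  obtain ⟨kZ, -, kf⟩ := facts hE.pg (e.simple hS hsimple) (by rwa [Subgroup.card_top])
  have fin : ∀ {G : Type} [Group G], (∃ L : S → G, Real E L ∧ SylIn 2 (img L ⊤) ⊤) → ∃ ι : S →* G, F.IsRealizedBy ι ∧
      ∃ T : Sylow 2 G, (T : Subgroup G) = ι.range := fun ⟨L, h1, h3⟩ =>
    ⟨_, (e.real_comp h1).realized, h3.toSylowTop, by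
      rw [← HomOn.img_eq_range, ← e.hom.img_img, e.img_eq]; rfl⟩
  have od : ∀ n k : ℕ, Odd (2 ^ (n + 2) * k + 1) := fun n k => Even.add_one (by simp [Nat.even_mul, Nat.even_pow])
  rcases rank_two hF h2 h0 hZ with ⟨φ, -, a, T⟩ | ⟨n, h, ⟨f⟩⟩ | h | h
  · exact (hi (simple_inner hS hsimple (normal_of_tri hF T))).elim
  · obtain ⟨n, rfl⟩ := Nat.exists_eq_add_of_le' h
    obtain ⟨r, s, T⟩ := mt_dihedral (topEquiv.trans f)
    obtain ⟨K, _, _, k, h1, h3⟩ := exists_field_pred (n + 1)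
    exact ⟨.inl ⟨_, ⟨f⟩⟩, K, _, _, _, Nat.card_eq_fintype_card.symm.trans h3, od _ _, .inl ⟨.inl (by
      rw [pow_add _ n 3, mul_right_comm]; omega), fin (T.real' hE (mtm_psl2 h3 h1) (iff_true_intro (kf trivial))
        (iff_true_intro (kf trivial)))⟩⟩
  · obtain ⟨n, r, s, T⟩ := mt_qd (isQuasiDihedral_top h)
    obtain ⟨K, _, _, k, h1, -, h3⟩ := exists_field_succ n
    exact ⟨.inr (.inl h), K, _, _, _, Nat.card_eq_fintype_card.symm, Nat.odd_iff.2 (by
      rw [pow_add, mul_right_comm] at h3; omega), .inr (fin (T.real' hE (mtm_psl3 h3 h1) (iff_true_intro (kf trivial))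
        (iff_true_intro (kf trivial))))⟩
  · obtain ⟨n, u, v, W⟩ := exists_wr_top h
    obtain ⟨K, _, _, k, h1, h3⟩ := exists_field_pred n
    exact ⟨.inr (.inr h), K, _, _, _, Nat.card_eq_fintype_card.symm.trans h3, od _ _, .inr (fin (wr_real W hE
      (wm_psl3 h3 h1) (fun k => W.v_not_mem_U 0 0 (k (kf trivial)))
      (iff_true_intro ((W.mv_U hE).2 (kZ _ (W.invol_u.2 (.inl ⟨rfl, rfl⟩)))))))⟩

end Cfsg.Agent.S5215
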