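import Cfsg.Statements.S5243
import Cfsg.Agent.Fus.Ppr
-- import your own Cfsg.Agent.* helpers here

set_option autoImplicit false
open Cfsg

namespace Cfsg.Agent.S5243

/-- Let F be a saturated fusion system over a finite p-group S, E a normal subsystem of F over T ≤ S, and χ a surjective homomorphism from Aut_F(T) onto a nontrivial finite group Δ of order prime to p whose kernel contains Aut_E(T). Then there is a proper normal subsystem F₀ of F over S containing E such that Aut_{F₀}(S) consists of those α ∈ Aut_F(S) whose restriction to T is an element of Aut_F(T) in the kernel of χ; moreover every p'-residual subsystem O^{p'}(F) of F is contained in F₀. -/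
theorem result {Ω : Type*} [Group Ω] {S : Subgroup Ω} [Finite S] (p : ℕ) [Fact p.Prime] (hS : IsPGroup p S) (F : Cfsg.FusionSystem S) (hF : F.IsSaturated p) {T : Subgroup Ω} (hTS : T ≤ S) (E : Cfsg.FusionSystem T) (hE : E.IsNormalIn F p) {Δ : Type*} [Group Δ] [Finite Δ] [Nontrivial Δ] (hΔ : (Nat.card Δ).Coprime p) (χ : ↥(F.autGroup T) →* Δ) (hχ : Function.Surjective χ) (hker : (E.autGroup T).subgroupOf (F.autGroup T) ≤ χ.ker) : ∃ F₀ : Cfsg.FusionSystem S, F₀.IsNormalIn F p ∧ ¬ (∀ P : Subgroup Ω, F₀.Hom P = F.Hom P) ∧ E.IsSubsystemOf F₀ ∧ (∀ α : MulAut ↥S, α ∈ F₀.autGroup S ↔ α ∈ F.autGroup S ∧ ∃ β : ↥(F.autGroup T), χ β = 1 ∧ ∀ t : ↥T, (((β : MulAut ↥T) t : ↥T) : Ω) = ((α ⟨(t : Ω), hTS t.2⟩ : ↥S) : Ω)) ∧ ∀ R : Cfsg.FusionSystem S, F.IsPPrimeResidual p R → R.IsSubsystemOf F₀ :=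
  open Subgroup Cfsg.Agent.Fus Cfsg.Agent.Loc Equiv in by
  have hF' : Sat F p := ⟨hS, hF⟩
  have h := (ni_iff hS).1 hE
  haveI := h.finite
  have hT := h.sc
  set K : Subgroup (Perm Ω) := (χ.ker.map (F.autGroup T).subtype).map (toPerm T)
  have memK : ∀ β : F.autGroup T, toPerm T β ∈ K ↔ χ β = 1 := fun β => by
    rw [toPerm_mem_map]
    exact ⟨fun ⟨γ, h1, h2⟩ => (Subtype.ext h2 : γ = β) ▸ h1, fun h1 => ⟨β, h1, rfl⟩⟩
  have ex : ∀ a ∈ AutF F T, ∃ β : F.autGroup T, toPerm T β = a := fun a ⟨β, h1, h2⟩ => ⟨⟨β, h1⟩, h2⟩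
  have hK : K ≤ AutF F T := Subgroup.map_mono (Subgroup.map_subtype_le _)
  have hKn : AutF F T ≤ normalizer (K : Set (Perm Ω)) := le_normalizer_of_cj_le fun a ha => cj_le_iff_forall.2 fun b hb => by
    obtain ⟨α, rfl⟩ := ex a ha
    obtain ⟨β, rfl⟩ := ex b (hK hb)
    have := (memK (α * β * α⁻¹)).2 (by simp [(memK β).1 hb])
    simpa using this
  have hEK : AutF E T ≤ K := fun a ha => by
    obtain ⟨β, rfl⟩ := ex a (AutF_mono h.sub T ha)
    exact (memK β).2 (hker (toPerm_mem_AutF.1 ha))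
  have hpow : ∀ a ∈ AutF F T, a ^ Nat.card Δ ∈ K := fun a ha => by
    obtain ⟨β, rfl⟩ := ex a ha
    have := (memK (β ^ Nat.card Δ)).2 (by simp)
    simpa using this
  have hpe : ∀ a ∈ AutF F T, (∃ k, a ^ p ^ k = 1) → a ∈ K := fun a ha ⟨k, hk⟩ => mem_of_pow_mem hΔ (hpow a ha) (hk ▸ one_mem _)
  have hST : AutF F S ≤ Stab T := fun a ha => sc_maps hT (iso_of_AutF le_rfl ha).mor hTS
  set Γ := ((homOn_res T).mono hST).pre K
  have hres : ∀ a ∈ AutF F S, res T a ∈ AutF F T := fun a ha => Iso.res_mem ⟨(iso_of_AutF le_rfl ha).mor.mono hTS, hST ha⟩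
  have hΓ : Γ ≤ AutF F S := HomOn.pre_le _ _
  have hΓn : AutF F S ≤ normalizer (Γ : Set (Perm Ω)) := le_normalizer_of_cj_le fun a ha => cj_le_iff_forall.2 fun b hb =>
    ⟨mul_mem (mul_mem ha hb.1) (inv_mem ha), by
      rw [((homOn_res T).mono hST).map_conj ha hb.1]; exact conj_mem_of_mem_normalizer (hKn (hres a ha)) hb.2⟩
  have hC := closed_KE hT h.inv.ainv hK
  have hcp : ∀ s ∈ S, KE K E S (cp s) := fun s hs => KE.of_mem (hpe _ (cr_mem_AutF F hTS ⟨hs, sc_le_normalizer hT hs⟩)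
    (exists_pow_of_isPGroup (isPGroup_AutK hS T) (cr_mem_AutK hs (sc_le_normalizer hT hs)))) E
    fun x hx => (cr_apply (sc_le_normalizer hT hs) hx.2).symm
  have hE0 : ∀ P (f : Perm Ω), Mor (E0 F p) P f → KE K E P f := fun P f hf => E0_ind (hC.sub (E0_sub F p)) hcp (fun Q hQ _ a ha ⟨k, hk⟩ => by
    obtain ⟨g, R, hg, -, hR⟩ := hF'.conj_into_AutK hQ.1 ((zpowers_le (G := Perm Ω)).2 ha) (isPGroup_zpowers_of_pow hk)
    obtain ⟨s, hs, hsn, e⟩ := mem_AutK.1 (hR (conj_mem_cj (mem_zpowers a)))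
    obtain ⟨c, hc, h1⟩ := h.inv.ke hg.mor
    have hci := iso_of_AutF hTS hc
    have hsi : Iso F (cp s) T T := iso_cp_self F hTS ⟨hs, sc_le_normalizer hT hs⟩
    have hm := sc_maps_inf hT hg
    have ham := AutF_le_Stab_inf hQ.1 hT ha
    have h2 : KE K E (img (c⁻¹ * g) (Q ⊓ T)) (c⁻¹ * cp s * c) := by
      have h3 := hci.trans (hsi.trans hci.symm)
      refine KE.of_mem (hpe _ h3.res_mem ?_) E fun x hx => (res_apply h3.maps hx.2).symm
      obtain ⟨j, hj⟩ := exists_pow_of_isPGroup hS hs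
      exact pelt_res h3.maps ⟨j, by
        have := conj_pow (a := c⁻¹) (b := cp s) (i := p ^ j)
        rw [inv_inv] at this
        rw [this, ← map_pow, hj]; simp⟩
    have h4 := hC.conj (h1.sub h.sub) (KE.of_mor K (h1.mono inf_le_left)) ((iso_of_AutF hQ.1 ha).mor.mono inf_le_left) le_rfl
      (fun _ hx => ham.mem hx) (hC.congr h2 fun x hx => by
        obtain ⟨y, hy, rfl⟩ := h1.homOn.mem_img.1 hx
        have := congrArg (fun b : Perm Ω => b (g y)) e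
        simp only [Perm.mul_apply, perm_inv_apply, cr_apply hsn (hg.mem hy.1)] at this
        simp [this])
    obtain ⟨b, hb, h5⟩ := h4
    exact ⟨b, hb, by rwa [inf_assoc, inf_idem] at h5⟩) hf
  have h0 : Aut0 F p ≤ Γ := (Subgroup.closure_le _).2 fun a ⟨ha, P, h1, h2, h3⟩ => ⟨ha, by
    obtain ⟨b, hb, h4⟩ := hE0 P a h3
    have h5 := h.inv.up h.satE hK hKn hEK hΔ _ inf_le_right (h.toWN.centric_inf h1 h2) _ (mul_mem (inv_mem (hK hb)) (hres a ha))
      (hpow _ (mul_mem (inv_mem (hK hb)) (hres a ha))) (h4.congr fun x hx => by rw [Perm.mul_apply, res_apply (hST ha) hx.2]; rfl)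
    simpa using K.mul_mem hb h5⟩
  have hni := hF'.ni_MG hΓ h0 hΓn
  have hA := hF'.AutF_MG hΓ h0
  refine ⟨_, (ni_iff hS).2 hni, fun k => ?_, ?_, fun α => ?_, fun R hR => hR.2.2 _ hni.satE.sat (ppr_iff.2 (hF'.ppr_MG hΓ))⟩
  · obtain ⟨δ, hδ⟩ := exists_ne (1 : Δ)
    obtain ⟨β, rfl⟩ := hχ δ
    obtain ⟨n, hn, g, hg, hgm, e⟩ := hF'.frattini (fn_of_sc hT) hK hKn (fun a ha => hpe a (AutK_le_AutF F le_rfl hTS ha)
      (exists_pow_of_isPGroup (isPGroup_AutK hS T) ha)) (toPerm_mem_AutF.2 β.2)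
    have hN : Cfsg.FusionSystem.normalizerIn S T = S := le_antisymm (NS_le S T) fun x hx => ⟨hx, sc_le_normalizer hT hx⟩
    rw [hN] at hg
    have h1 : res S g ∈ Γ := by rw [← hA, fs_ext k]; exact hg.res_mem
    refine hδ ((memK β).1 ?_)
    rw [(supp_toPerm _).ext ((supp_of_AutF (hK hn)).mul (supp_res T (res S g))) fun x hx => by
      rw [e x hx, Perm.mul_apply, res_res hg.maps hgm hTS, res_apply hgm hx]]
    exact K.mul_mem hn h1.2
  · refine sub_iff_perm.2 (h.satE.alperin_p (closed_mor _) (fun a ha => ?_) fun P hP a ha hp =>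
      (hF'.ppr_MG hΓ).mor P ((h.satE.ess_lt hP).le.trans hTS) a (AutF_mono h.sub P ha) hp)
    have hai := iso_of_AutF hTS (AutF_mono h.sub T ha)
    obtain ⟨b, hb, h1⟩ := hF'.fra0 hai.mor
    refine (mor_MG hΓ).2 ⟨b, ⟨hb, ?_⟩, h1⟩
    obtain ⟨c, hc, h2⟩ := hE0 _ _ h1
    rw [inf_idem] at h2
    have h3 := hEK ((mem_AutF le_rfl).2 ⟨h2.congr (g := ⇑(c⁻¹ * ((res T b)⁻¹ * a))) fun x hx => by
      simp only [Perm.mul_apply]; rw [res_inv_apply (hST hb) (hai.mem hx)],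
      (supp_of_AutF (hK hc)).inv.mul ((supp_res T b).inv.mul (supp_of_AutF ha))⟩)
    simpa using K.inv_mem (K.mul_mem (K.mul_mem hc h3) (K.inv_mem (hEK ha)))
  · rw [← toPerm_mem_AutF, hA, ← toPerm_mem_AutF]
    refine ⟨fun k => ⟨k.1, ?_⟩, fun ⟨k, β, h1, h2⟩ => ⟨k, ?_⟩⟩
    · obtain ⟨β, e⟩ := ex _ (hres _ k.1)
      refine ⟨β, (memK β).1 (e ▸ k.2), fun t => ?_⟩
      rw [← toPerm_apply _ t.2, e, res_apply (hST k.1) t.2, toPerm_apply]
    · rw [(res_eq_iff (hST k) (supp_toPerm β)).2 fun x hx => by rw [toPerm_apply _ hx, toPerm_apply _ (hTS hx), h2]]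
      exact (memK β).2 h1

end Cfsg.Agent.S5243
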