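import Cfsg.Statements.S5264
import Cfsg.Agent.P5.D

set_option autoImplicit false
open Cfsg

namespace Cfsg.Agent.S5264

/-- Let p be an odd prime other than 7, S a finite p-group of order p^5, and F a saturated fusion system over S with no nontrivial normal subgroup and with hyperfocal subgroup equal to S (so F is its own p-residual subsystem). Then S has an abelian subgroup of index p. -/
theorem result {Ω : Type*} [Group Ω] {S : Subgroup Ω} [Finite S] (p : ℕ) [Fact p.Prime] (hS : IsPGroup p ↥S) (F : Cfsg.FusionSystem S) (hF : F.IsSaturated p) (hp : p ≠ 2) (hp7 : p ≠ 7) (hcard : Nat.card S = p ^ 5) (hcore : F.core = ⊥) (hhyp : F.hyperfocalSubgroup p = S) : ∃ A : Subgroup Ω, A ≤ S ∧ IsMulCommutative ↥A ∧ (A.subgroupOf S).index = p := by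
  by_contra! k
  refine Fus.Sat.noAb_false ⟨hS, hF⟩ hp hp7 hcard hcore
    (le_antisymm (Fus.foc_le F) (hhyp.ge.trans (Fus.hyp_le_foc F p))) fun A hA ab c => ?_
  have := Loc.finite_of_le hA
  exact k A hA (Subgroup.le_centralizer_iff_isMulCommutative.1 ab)
    (Fus.relIndex_of_card hA (k := p) (by rw [hcard, c, pow_succ]))

end Cfsg.Agent.S5264
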