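import Cfsg.Statements.S5265
import Cfsg.Agent.Fus.AbI
import Cfsg.Agent.PGrp.ES
-- import your own Cfsg.Agent.* helpers here

set_option autoImplicit false
open Cfsg

namespace Cfsg.Agent.S5265

section
open Subgroup Cfsg.Agent.Fus Cfsg.Agent.Loc Equiv
open Cfsg.FusionSystem (normalizerIn centralizerIn)

open scoped commutatorElement
variable {Ω : Type*} [Group Ω] {S P B C : Subgroup Ω} {p : ℕ} {F : FusionSystem S} {x y z t : Ω}

theorem mul_mem_two (h : B.relIndex C = 2) (hx : x ∈ C) (hy : y ∈ C) (hx' : x ∉ B) (hy' : y ∉ B) : x * y ∈ B :=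
  (mul_mem_iff_of_index_two (a := ⟨x, hx⟩) (b := ⟨y, hy⟩) h).2 (iff_of_false hx' hy')

variable [hp : Fact p.Prime] [Finite S]

theorem tv (hi : (centralizerIn S S).relIndex S ∣ p ^ 2) (e : Es F p P) : TV F p P (centralizerIn S S) := by
  have hZ := CS_self_le_centric e.ess.1
  obtain ⟨k, hk⟩ := dvd_relIndex_of_not_le e.sat.pg e.lt.not_ge
  rw [← relIndex_mul_relIndex _ _ _ hZ e.le, hk, sq, mul_left_comm] at hi
  have h1 := (dvd_mul_right _ _).trans (Nat.dvd_of_mul_dvd_mul_left hp.out.pos hi)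
  refine ⟨e, ?_, hZ, h1, (NS_le S P).trans (le_cen_CS S)⟩
  by_cases h : P ≤ centralizerIn S S
  · exact h.trans ((CS_le_centralizer S S).trans (centralizer_anti e.le))
  obtain ⟨x, hx, hx'⟩ := SetLike.not_le_iff_exists.1 h
  rw [← sup_zpowers_of_relIndex h1 hZ hx hx']
  exact sup_zpowers_ab ((CS_le S S).trans (le_cen_CS S)) (le_cen_CS S (e.le hx))

theorem ai (hi : (centralizerIn S S).relIndex S ∣ p ^ 2) (na : ¬ S ≤ centralizer (S : Set Ω))
    (d : TVD F p P (centralizerIn S S) t z) : AI p S P ∧ (centralizerIn S S).relIndex P = p ∧ ⁅S, S⁆ = zpowers z := by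
  obtain ⟨g, hg⟩ := d.exists_far
  have h1 : (centralizerIn S S).relIndex P = p := ((Nat.dvd_prime hp.out).1 d.idx).resolve_left fun e =>
    d.far g hg (relIndex_eq_one.1 e ((maps_of_AutF hg.1).mem d.hzP))
  rw [← relIndex_mul_relIndex _ _ _ d.leZ d.le, h1, sq] at hi
  have h : AI p S P := ⟨d.sat.pg, d.le, d.ab, ((Nat.dvd_prime hp.out).1 (Nat.dvd_of_mul_dvd_mul_left hp.out.pos
    hi)).resolve_left fun e => d.lt.not_ge (relIndex_eq_one.1 e), na⟩
  have c := h.card_A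
  rw [← Solv.card_mul_relIndex d.leZ, h1, mul_comm] at c
  have := finite_of_le (h.der_le.trans d.le)
  exact ⟨h, h1, (eq_of_le_of_card_le (zpowers_le.2 d.mem_der)
    (d.card_z ▸ (Nat.eq_of_mul_eq_mul_right Nat.card_pos c).ge)).symm⟩

theorem es (hi : (centralizerIn S S).relIndex S ∣ p ^ 2) (na : ¬ S ≤ centralizer (S : Set Ω))
    (d : TVD F p P (centralizerIn S S) t z) (hZ : centralizerIn S S = zpowers z) :
    IsExtraspecial p S ∧ Nat.card S = p ^ 3 := by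
  obtain ⟨h, h1, h2⟩ := ai hi na d
  have hz := d.le d.hzP
  have k : ∀ x : S, x.1 ∈ zpowers z → x ∈ zpowers (⟨z, hz⟩ : S) := fun x ⟨i, e⟩ => ⟨i, Subtype.ext e⟩
  have c : (⟨z, hz⟩ : S) ∈ center S := Subgroup.mem_center_iff.2 fun y => Subtype.ext (d.hz.2 y y.2)
  refine ⟨PGrp.IsES.isExtraspecial (z := ⟨z, hz⟩) ⟨?_, c, fun x y => k _ (h2 ▸ commutator_mem_commutator x.2 y.2),
    fun x => k _ (hZ ▸ ?_)⟩ (le_antisymm (fun x hx => k _ (hZ ▸ ⟨x.2, fun y hy =>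
      congrArg Subtype.val (Subgroup.mem_center_iff.1 hx ⟨y, hy⟩)⟩)) (zpowers_le.2 c))
    fun e => na (le_centralizer_iff_isMulCommutative.2 e), ?_⟩
  · rw [orderOf_mk, orderOf_eq_prime d.hzp d.ne_one]
  · by_cases hx : x.1 ∈ P
    exacts [pow_mem_of_relIndex d.idx (d.norm d.leZ) hx, h.pow_mem x.2 hx]
  · rw [← Solv.card_mul_relIndex d.le, ← Solv.card_mul_relIndex d.leZ, h1, h.idx, hZ, d.card_z]; ring

theorem exp (hF : Sat F p) (h2 : p ≠ 2) (hi : (centralizerIn S S).relIndex S ∣ p ^ 2)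
    (na : ¬ S ≤ centralizer (S : Set Ω)) (hcore : F.core = ⊥) (d : TVD F p P (centralizerIn S S) t z)
    (hZ : centralizerIn S S = zpowers z) (hx : x ∈ S) : x ^ p = 1 := by
  obtain ⟨-, -, h3⟩ := ai hi na d
  have hp1 : ∀ y ∈ zpowers z, y ^ p = 1 := by
    rintro _ ⟨i, rfl⟩
    rw [← zpow_natCast, ← zpow_mul, mul_comm, zpow_mul, zpow_natCast, d.hzp, one_zpow]
  have key : ∀ x ∈ omegaOne p S, x ^ p = 1 := fun x hx => by
    induction hx using closure_induction with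
    | mem x hx => exact hx.2
    | one => exact one_pow p
    | mul x y hx hy h1 h2' =>
      have hx := omegaOne_le p S hx
      have hy := omegaOne_le p S hy
      have hc := h3 ▸ commutator_mem_commutator hy hx
      rw [PGrp.mul_pow_prime hp.out h2 (CS_cen (hZ ▸ hc) hx).symm (CS_cen (hZ ▸ hc) hy).symm (hp1 _ hc), h1, h2', one_mul]
    | inv x _ h1 => rw [inv_pow, h1, inv_one]
  by_contra hx'
  refine d.ne_one (mem_bot.1 (hcore ▸ le_core (hF.normal_of_base (Q := omegaOne p S) ?_)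
    (mem_omegaOne (d.le d.hzP) d.hzp)))
  rintro Q (rfl | hQ)
  · exact ⟨omegaOne_le p Q, fun a ha => (homOn_of_AutF ha).maps_omega (maps_of_AutF ha)⟩
  obtain ⟨t', z', d'⟩ := (tv hi ⟨hF, hQ⟩).exists_tvd
  obtain ⟨g, hg⟩ := d'.exists_far
  have hw := (maps_of_AutF hg.1).mem d'.hzP
  have hle : Q ≤ omegaOne p S := by
    rw [← sup_zpowers_of_relIndex d'.idx d'.leZ hw (d'.far g hg)]
    exact sup_le (le_omegaOne (CS_le S S) (hZ ▸ hp1)) (zpowers_le.2 (mem_omegaOne (d'.le hw) (by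
      rw [← (homOn_of_AutF hg.1).map_pow d'.hzP, d'.hzp, (homOn_of_AutF hg.1).map_one])))
  rw [(eq_or_eq_of_relIndex_dvd (ai hi na d').1.idx.dvd hle (omegaOne_le p S)).resolve_right fun e =>
    hx' (key x (e.ge hx))]
  exact ⟨le_rfl, fun _ => maps_of_AutF⟩

def W (S P : Subgroup Ω) (w : Ω) : Prop :=
  AI 2 S P ∧ (centralizerIn S S).relIndex P = 2 ∧ w ∈ P ∧ w ∉ centralizerIn S S ∧ w * w = 1

omit hp in
theorem W.eq {w : Ω} (h : W S P w) : P = centralizerIn S S ⊔ zpowers w :=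
  (sup_zpowers_of_relIndex h.2.1.dvd h.1.Z_le h.2.2.1 h.2.2.2.1).symm

omit hp in
theorem W.nmem {Q : Subgroup Ω} {w u : Ω} (h : W S P w) (h' : W S Q u) (hne : P ≠ Q) : u ∉ P := fun e =>
  hne ((sup_zpowers_of_relIndex h.2.1.dvd h.1.Z_le e h'.2.2.2.1).symm.trans h'.eq.symm)

omit hp in
theorem W.sq {Q : Subgroup Ω} {w u : Ω} (h : W S P w) (h' : W S Q u) (hne : P ≠ Q) (hz : z * z = 1)
    (hD : ⁅S, S⁆ = zpowers z) : w * u * (w * u) = z := by
  have e : w * u * (w * u) = ⁅w, u⁆ := by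
    rw [commutatorElement_def, inv_eq_of_mul_eq_one_right h.2.2.2.2, inv_eq_of_mul_eq_one_right h'.2.2.2.2, mul_assoc _ w]
  have hu := h'.1.le h'.2.2.1
  refine e ▸ ((Invol.mem_zpowers_invol hz).1 (hD ▸ commutator_mem_commutator (h.1.le h.2.2.1) hu)).resolve_left fun e =>
    h.2.2.2.1 (h.1.mem_Z hu (h.nmem h' hne) h.2.2.1 (commutatorElement_eq_one_iff_commute.1 e).symm)

omit hp in
theorem W.map {w : Ω} (h : W S P w) {a : Perm Ω} (ha : Iso F a S S) : W S (img a P) (a w) := by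
  have hm := (ha.homOn.mono h.1.le).maps_img
  have hz := ha.homOn.maps_CS_self ha.maps
  have hle := (hm.le_iff ha.maps).2 h.1.le
  have hZ := (hz.le_iff hm).2 h.1.Z_le
  have := finite_of_le hle
  have c1 := Solv.card_mul_relIndex hle
  have c2 := Solv.card_mul_relIndex hZ
  rw [← hm.card_eq, ← Solv.card_mul_relIndex h.1.le, h.1.idx] at c1
  rw [← hm.card_eq, ← Solv.card_mul_relIndex h.1.Z_le, h.2.1] at c2
  exact ⟨⟨h.1.pg, hle, fun x hx => by
    obtain ⟨y, hy, rfl⟩ := hm.exists_eq hx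
    exact ha.homOn.mem_centralizer h.1.le hm (h.1.le hy) (h.1.ab hy),
    Nat.eq_of_mul_eq_mul_left (hm.card_eq ▸ Nat.card_pos) c1, h.1.na⟩, Nat.eq_of_mul_eq_mul_left Nat.card_pos c2,
    hm.mem h.2.2.1, fun e => h.2.2.2.1 ((hz w).1 e), by
      rw [← ha.homOn w (h.1.le h.2.2.1) w (h.1.le h.2.2.1), h.2.2.2.2, ha.homOn.map_one]⟩

omit hp in
theorem two (hF : Sat F 2) (hi : (centralizerIn S S).relIndex S ∣ 2 ^ 2) (na : ¬ S ≤ centralizer (S : Set Ω))
    (hcore : F.core = ⊥) (hhyp : F.hyperfocalSubgroup 2 = S) (d : TVD F 2 P (centralizerIn S S) t z) :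
    Nonempty (S ≃* DihedralGroup 4) := by
  obtain ⟨-, -, hD⟩ := ai hi na d
  have hz : z * z = 1 := by rw [← sq, d.hzp]
  have ess : ∀ Q, F.IsEssential 2 Q → ∃ t g, TVD F 2 Q (centralizerIn S S) t z ∧ Far F Q g ∧ W S Q (g z) := fun Q hQ => by
    obtain ⟨t', z', d'⟩ := (tv hi ⟨hF, hQ⟩).exists_tvd
    obtain rfl := ((Invol.mem_zpowers_invol hz).1 (hD ▸ d'.mem_der)).resolve_left d'.ne_one
    obtain ⟨g, hg⟩ := d'.exists_far
    exact ⟨t', g, d', hg, (ai hi na d').1, (ai hi na d').2.1, (maps_of_AutF hg.1).mem d'.hzP, d'.far g hg, by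
      rw [← homOn_of_AutF hg.1 _ d'.hzP _ d'.hzP, hz, (homOn_of_AutF hg.1).map_one]⟩
  have three : ∀ {P₁ P₂ P₃ w₁ w₂ w₃}, W S P₁ w₁ → W S P₂ w₂ → W S P₃ w₃ → P₁ ≠ P₂ → P₁ ≠ P₃ → P₂ = P₃ := by
    intro P₁ P₂ P₃ w₁ w₂ w₃ h₁ h₂ h₃ n₁ n₂
    by_contra n₃
    have s₁ := h₁.1.le h₁.2.2.1
    have s₂ := h₂.1.le h₂.2.2.1
    have k1 := mul_mem_two h₁.1.idx (h₃.1.le h₃.2.2.1) s₂ (h₁.nmem h₃ n₂) (h₁.nmem h₂ n₁)
    have k2 := mul_mem_two h₁.2.1 k1 h₁.2.2.1 (fun e => h₂.nmem h₃ n₃ ((P₂.mul_mem_cancel_right h₂.2.2.1).1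
      (h₂.1.Z_le e))) h₁.2.2.2.1
    obtain ⟨c, hc, i, e⟩ := d.decompZ k2
    have k3 : w₃ = w₃ * w₂ * w₁ * (w₁ * w₂) := by
      rw [mul_assoc _ w₁, ← mul_assoc w₁, h₁.2.2.2.2, one_mul, mul_assoc, h₂.2.2.2.2, mul_one]
    have k4 := h₃.2.2.2.2
    rw [k3, ← sq, (CS_cen k2 (mul_mem s₁ s₂)).symm.mul_pow, ← e, (CS_cen (zpow_mem d.hz i)
      (CS_le S S (Dz_le F P _ hc))).mul_pow, sq (z ^ i), ← (Commute.refl z).mul_zpow, hz, one_zpow, mul_one,
      sq (w₁ * w₂), h₁.sq h₂ n₁ hz hD] at k4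
    exact d.not_mem_Dz (eq_inv_of_mul_eq_one_right k4 ▸ inv_mem (pow_mem hc 2))
  have stab : ∀ {Q w}, W S Q w → ∀ a, Iso F a S S → Maps a Q Q := fun {Q w} hQ a ha => by
    have := finite_AutF F S
    obtain ⟨n, hn, u, hu, e⟩ := exists_op_mul_syl hF.syl_S ha.res_mem
    obtain ⟨s, hs, hs', rfl⟩ := mem_AutK.1 hu
    have h1 : n ∈ Stab Q := (closure_le (K := Stab Q)).2 (fun b hb => by
      have hi := iso_of_AutF le_rfl hb.1
      have m1 := (hi.homOn.mono hQ.1.le).maps_img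
      have m2 := (hi.homOn.mono (hQ.map hi).1.le).maps_img
      by_cases e : img b Q = Q
      · rwa [e] at m1
      rw [three (hQ.map hi) ((hQ.map hi).map hi) hQ (fun e' => e (m2.unique_left (e' ▸ m1))) e] at m2
      obtain ⟨k, hk⟩ := exists_pow_eq_self_of_coprime hb.2.symm
      exact hk ▸ (Stab Q).pow_mem (sq b ▸ m1.trans m2) k) hn
    have h2 := (Stab Q).mul_mem h1 ((maps_cr_iff hQ.1.le hs').2 (hQ.1.norm hs))
    exact Maps.congr (e ▸ h2) fun x hx => (res_apply ha.maps (hQ.1.le hx)).symm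
  obtain ⟨t₁, g₁, d₁, f₁, w₁⟩ := ess P d.ess
  obtain ⟨Q, hQ, hne⟩ : ∃ Q, F.IsEssential 2 Q ∧ P ≠ Q := by
    by_contra! h
    refine d.ne_one (mem_bot.1 (hcore ▸ le_core (hF.normal_of_base (Q := P) ?_) d.hzP))
    rintro Q (rfl | hQ)
    exacts [⟨d.le, fun a ha => stab w₁ a (iso_of_AutF le_rfl ha)⟩, h Q hQ ▸ ⟨le_rfl, fun _ => maps_of_AutF⟩]
  obtain ⟨t₂, g₂, d₂, f₂, w₂⟩ := ess Q hQ
  have all : ∀ R, F.IsEssential 2 R → R = P ∨ R = Q := fun R hR => by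
    obtain ⟨_, _, -, -, w⟩ := ess R hR
    exact or_iff_not_imp_left.2 fun e => (three w₁ w₂ w hne (Ne.symm e)).symm
  have mS : ∀ a, Iso F a S S → Maps a (Dz F P (centralizerIn S S) ⊓ Dz F Q (centralizerIn S S))
      (Dz F P (centralizerIn S S) ⊓ Dz F Q (centralizerIn S S)) := fun a ha =>
    have := ha.homOn.maps_CS_self ha.maps
    (Iso.maps_Dz ⟨ha.mor.mono d₁.le, stab w₁ a ha⟩ this).inf (Iso.maps_Dz ⟨ha.mor.mono d₂.le, stab w₂ a ha⟩ this)
  have nS : ∀ {R w}, W S R w → normalizerIn S R = S := fun h => inf_eq_left.2 h.1.norm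
  have hb : Dz F P (centralizerIn S S) ⊓ Dz F Q (centralizerIn S S) ≤ ⊥ := hcore ▸ le_core (hF.normal_of_base fun R hR =>
    ⟨(inf_le_left.trans (Dz_le _ _ _)).trans (CS_self_le_centric (hF.base_fcr hR).2.1), fun a ha => by
      rcases hR with rfl | hR
      · exact mS a (iso_of_AutF le_rfl ha)
      rcases all R hR with rfl | rfl
      exacts [d₁.maps_of_le_Dz inf_le_left (by rwa [nS w₁]) ha, d₂.maps_of_le_Dz inf_le_right (by rwa [nS w₂]) ha]⟩)
  have hw₁ := w₁.1.le w₁.2.2.1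
  have hw₂ := w₂.1.le w₂.2.2.1
  have hU : closure {g₁ z, g₁ z * g₂ z} ≤ S := (closure_le _).2 (Set.pair_subset hw₁ (mul_mem hw₁ hw₂))
  have hr := w₁.sq w₂ hne hz hD
  have u1 : g₁ z ∈ closure {g₁ z, g₁ z * g₂ z} := subset_closure (by simp)
  have u2 : g₁ z * g₂ z ∈ closure {g₁ z, g₁ z * g₂ z} := subset_closure (by simp)
  have u3 : z ∈ closure {g₁ z, g₁ z * g₂ z} := by have := Subgroup.mul_mem _ u2 u2; rwa [hr] at this
  have hd := Invol.closure_equiv_dihedral (t := g₁ z) (r := g₁ z * g₂ z) w₁.2.2.2.2 (by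
    rw [← mul_assoc, w₁.2.2.2.2, one_mul, mul_inv_rev, inv_eq_of_mul_eq_one_right w₂.2.2.2.2]) (by
    rintro ⟨i, e⟩
    have := (Commute.refl (g₁ z * g₂ z)).zpow_left i
    rw [show (g₁ z * g₂ z) ^ i = g₁ z from e, commute_iff_eq, mul_assoc, mul_right_inj] at this
    rw [mul_assoc, ← mul_assoc (g₂ z), ← this, mul_assoc, w₂.2.2.2.2, mul_one, w₁.2.2.2.2] at hr
    exact d.ne_one hr.symm)
  rw [orderOf_eq_prime_pow (p := 2) (n := 1) (by rw [pow_one, sq, hr]; exact d.ne_one)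
    (by rw [show 2 ^ (1 + 1) = 2 * 2 from rfl, pow_mul, sq (_ * _), hr, d.hzp])] at hd
  generalize closure {g₁ z, g₁ z * g₂ z} = U at *
  have := finite_of_le hU
  have hn : S ≤ normalizer (U : Set Ω) := fun s hs => mem_normalizer_of_comm fun c hc =>
    zpowers_le.2 u3 (hD ▸ commutator_mem_commutator hs (hU hc))
  have cu : ∀ {R R' s s' g}, TVD F 2 R (centralizerIn S S) s z → TVD F 2 R' (centralizerIn S S) s' z → Far F R g →
      W S R (g z) → Dz F R (centralizerIn S S) ⊓ Dz F R' (centralizerIn S S) ≤ ⊥ → g z ∈ U →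
      ∀ a, Iso F a R R → Tv a U R := by
    intro R R' s s' g e e' f w hb hu a ha
    have ha' := ha.res_mem
    refine fun x hx => res_apply ha.maps hx ▸ ?_
    generalize res R a = b at ha'
    have H := homOn_of_AutF ha'
    have hV : zpowers z ⊔ zpowers (g z) ≤ U := sup_le (zpowers_le.2 u3) (zpowers_le.2 hu)
    have k : ∀ c ∈ Dz F R (centralizerIn S S), c ≠ 1 → c * z ∈ Dz F R' (centralizerIn S S) := fun c hc h1 => by
      obtain ⟨c', hc', i, rfl⟩ := e'.decompZ (Dz_le _ _ _ hc)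
      rcases Invol.zpow_invol hz i with h | h
      · rw [h, mul_one] at hc h1
        exact (h1 (mem_bot.1 (hb ⟨hc, hc'⟩))).elim
      · rwa [h, mul_assoc, hz, mul_one]
    have fx : ∀ c ∈ Dz F R (centralizerIn S S), b c = c := fun c hc => by
      by_cases h1 : c = 1
      · rw [h1, H.map_one]
      have hc' := (maps_Dz ha').mem hc
      have := Subgroup.mul_mem _ (k _ hc' fun h => h1 (b.injective (h.trans H.map_one.symm))) (inv_mem (k c hc h1))
      rw [mul_inv_rev, mul_assoc, mul_inv_cancel_left] at this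
      exact mul_inv_eq_one.1 (mem_bot.1 (hb ⟨Subgroup.mul_mem _ hc' (Subgroup.inv_mem _ hc), this⟩))
    have hR := w.eq
    refine Tv.sup (B := centralizerIn S S) (fun y hy => ?_) (Tv.zpowers (mul_mem (inv_mem hu) (hV (e.orbit f
      (mul_mem ha' f.1)))) (H.mono (zpowers_le.2 w.2.2.1)) (hn (e.le w.2.2.1))) (hR ▸ H)
      (zpowers_le.2 (hn (e.le w.2.2.1))) ((CS_le S S).trans hn) x (hR ▸ hx)
    obtain ⟨c, hc, i, rfl⟩ := e.decompZ hy
    rw [H c hc.1 _ (zpow_mem e.hzP i), fx c hc, H.map_zpow e.hzP, mul_inv_rev, mul_assoc, inv_mul_cancel_left]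
    exact mul_mem (inv_mem (zpow_mem u3 i)) (zpow_mem (hV (e.orbit f ha')) i)
  have c₁ := cu d₁ d₂ f₁ w₁ hb u1
  have c₂ := cu d₂ d₁ f₂ w₂ ((inf_comm _ _).le.trans hb) ((U.mul_mem_cancel_left u1).1 u2)
  have hfoc : S ≤ U := (hhyp.ge.trans (hyp_le_foc F 2)).trans (foc_le_iff.2 (hF.alperin (closed_CU F U) (by
    rintro R (rfl | hR) a ha
    · have hi := iso_of_AutF le_rfl ha
      have e := w₁.1.sup hw₂ (w₁.nmem w₂ hne)
      have := Tv.sup (c₁ a ⟨hi.mor.mono d₁.le, stab w₁ a hi⟩) ((c₂ a ⟨hi.mor.mono d₂.le, stab w₂ a hi⟩).mono le_rfl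
        (zpowers_le.2 w₂.2.2.1)) (e.symm ▸ hi.homOn) (zpowers_le.2 (hn hw₂)) (d₁.le.trans hn)
      rwa [e] at this
    · rcases all R hR with rfl | rfl
      exacts [c₁ a (iso_of_AutF d₁.le ha), c₂ a (iso_of_AutF d₂.le ha)])))
  exact le_antisymm hU hfoc ▸ hd

end

/-- Let p be a prime, S a nontrivial finite p-group whose centre has index at most p², and F a saturated fusion system over S with no nontrivial normal subgroup and with hyperfocal subgroup equal to S. Then S is extraspecial of order p³; for odd p it has exponent p, and for p = 2 it is dihedral of order 8. -/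
theorem result {Ω : Type*} [Group Ω] {S : Subgroup Ω} [Finite S] (p : ℕ) [Fact p.Prime] (hS : IsPGroup p ↥S) (F : Cfsg.FusionSystem S) (hF : F.IsSaturated p) (hS1 : S ≠ ⊥) (hcore : F.core = ⊥) (hhyp : F.hyperfocalSubgroup p = S) (hZ : (Subgroup.center ↥S).index ≤ p ^ 2) : Cfsg.IsExtraspecial p ↥S ∧ Nat.card S = p ^ 3 ∧ (p ≠ 2 → Monoid.exponent ↥S = p) ∧ (p = 2 → Nonempty (↥S ≃* DihedralGroup 4)) :=
  open Subgroup Cfsg.Agent.Fus Cfsg.Agent.Loc Equiv in by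
  have hF' : Sat F p := ⟨hS, hF⟩
  have hp : p.Prime := Fact.out
  have na : ¬ S ≤ centralizer (S : Set Ω) := fun h =>
    hS1 (eq_bot_iff.2 (hcore ▸ le_core (hF'.normal_S_of_abelian (commutator_eq_bot_iff'.2 h))))
  have hi : (FusionSystem.centralizerIn S S).relIndex S ∣ p ^ 2 := by
    obtain ⟨k, hk⟩ := hS.index (center S)
    rw [FusionSystem.centralizerIn, ← map_subtype_center, relIndex, subgroupOf_map_subtype', hk]
    exact pow_dvd_pow p ((Nat.pow_le_pow_iff_right hp.one_lt).1 (hk ▸ hZ))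
  obtain ⟨P, hP⟩ := hF'.exists_tv hcore hS1 fun P hP => .inl (tv hi ⟨hF', hP⟩)
  obtain ⟨t, z, d⟩ := hP.exists_tvd
  obtain ⟨h, h1, h2⟩ := ai hi na d
  by_cases h3 : p = 2
  · subst h3
    obtain ⟨e⟩ := two hF' hi na hcore hhyp d
    have c := Nat.card_congr e.toEquiv
    rw [DihedralGroup.nat_card, ← Solv.card_mul_relIndex d.le, ← Solv.card_mul_relIndex d.leZ, h1, h.idx] at c
    obtain ⟨k1, k2⟩ := es hi na d (eq_of_le_of_card_le (zpowers_le.2 d.hz) (by rw [d.card_z]; omega)).symm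
    exact ⟨k1, k2, fun h => (h rfl).elim, fun _ => ⟨e⟩⟩
  have hZ : FusionSystem.centralizerIn S S = zpowers z := le_antisymm (h2 ▸ hF'.Z_le_of_odd h3 hcore (by
    rw [h2, inf_eq_right.2 (zpowers_le.2 d.hz), d.card_z]) fun P hP => .inl (tv hi ⟨hF', hP⟩)) (zpowers_le.2 d.hz)
  obtain ⟨k1, k2⟩ := es hi na d hZ
  refine ⟨k1, k2, fun _ => ?_, fun h => (h3 h).elim⟩
  haveI := (nontrivial_iff_ne_bot S).2 hS1
  exact (Monoid.exponent_eq_prime_iff hp).2 fun g hg =>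
    orderOf_eq_prime (Subtype.ext (exp hF' h3 hi na hcore d hZ g.2)) hg

end Cfsg.Agent.S5265
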