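import Cfsg.Statements.S5270
import Cfsg.Agent.Fus.Mx2
-- import your own Cfsg.Agent.* helpers here

set_option autoImplicit false
open Cfsg

namespace Cfsg.Agent.S5270

/-- Let p ≥ 5 be a prime, S a finite p-group of maximal class of order p^n with n ≥ 4, and F a saturated fusion system over S. If some map of F defined on the second centre Z₂(S) with image Z₂(S) does not carry Z(S) into itself, then the centralizer C_S(Z₂(S)) is an F-essential subgroup. -/
theorem result {Ω : Type*} [Group Ω] {S : Subgroup Ω} [Finite S] (p : ℕ) [Fact p.Prime] (hS : IsPGroup p ↥S) (n : ℕ) (hn : Nat.card S = p ^ n) (h4 : 4 ≤ n) (hmax : Subgroup.lowerCentralSeries S (n - 2) ≠ ⊥) (F : Cfsg.FusionSystem S) (hF : F.IsSaturated p) (hp : 5 ≤ p) (φ : ↥((Subgroup.upperCentralSeries ↥S 2).map S.subtype) →* Ω) (hφ : φ ∈ F.Hom ((Subgroup.upperCentralSeries ↥S 2).map S.subtype)) (hφZ : φ.range = ((Subgroup.upperCentralSeries ↥S 2).map S.subtype)) (hmove : ∃ (z : Ω)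 (hz : z ∈ ((Subgroup.upperCentralSeries ↥S 2).map S.subtype)), z ∈ ((Subgroup.center ↥S).map S.subtype) ∧ φ ⟨z, hz⟩ ∉ ((Subgroup.center ↥S).map S.subtype)) : F.IsEssential p (S ⊓ Subgroup.centralizer (((Subgroup.upperCentralSeries ↥S 2).map S.subtype) : Set Ω)) :=
  open Subgroup Cfsg.Agent.Fus Cfsg.Agent.Loc Equiv in by
    obtain ⟨m, rfl⟩ : ∃ m, n = m + 1 + 2 := ⟨n - 3, by omega⟩
    have h : MX p S (m + 1) := mx_of_sub hn (by omega) hmax
    have h1 : 1 ≤ m := by omega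
    have e : Sat F p := ⟨hS, hF⟩
    obtain ⟨f, hf, ef⟩ := exists_perm_of_mem hφ
    have hm : Maps f (Zs S 2) (Zs S 2) := by have := hf.maps_img; rwa [img_eq_range_of_eq φ ef, hφZ] at this
    have hn2 := le_normalizer_Zs S 2
    obtain ⟨g, hg, eg⟩ := e.ext_CS (e.fc_of_fn (fn_of_normal F (Zs_le S 2) hn2)) ⟨hf, hm⟩
    have hC := Mor.maps_CS (by rwa [sup_comm]) (hm.congr eg)
    have hfn := fn_of_normal F (CS_le S (Zs S 2)) ((le_inf le_rfl hn2).trans (NS_le_normalizer_CS S _))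
    refine e.ess_iff.2 ⟨e.centric_of_fc (e.fc_of_fn hfn) (CS_anti S (h.Zs_le_CZ h1)), hfn, h.CZ_lt h1, fun k => ?_⟩
    have hZ : FusionSystem.centralizerIn S S ≤ Zs S 2 := (Zs_one S).ge.trans (Zs_mono S one_le_two)
    have : Hgen F (FusionSystem.centralizerIn S (Zs S 2)) ≤ Stab (FusionSystem.centralizerIn S S) :=
      (closure_le _).2 fun a ⟨_, R, hR, b, hb, eb⟩ => by
        obtain rfl := h.eq_of_CZ_lt h1 hR hb.le
        exact (hb.homOn.maps_CS_self hb.iso_S.maps).congr fun x hx => (eb x (CS_anti R le_rfl (CS_anti R (Zs_le R 2) hx))).symm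
    obtain ⟨z, hz, k1, k2⟩ := hmove
    have k3 : ∀ y, y ∈ (center S).map S.subtype ↔ y ∈ FusionSystem.centralizerIn S S := fun y => by
      rw [← Zs_one, Zs, Subgroup.upperCentralSeries_one]
    have := (this (k.ge (Iso.res_mem ⟨hg.mono le_sup_left, hC⟩))).mem ((k3 z).1 k1)
    exact k2 ((k3 _).2 (by rw [ef, ← eg z hz, ← res_apply hC (h.Zs_le_CZ h1 hz)]; exact this))

end Cfsg.Agent.S5270
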