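import Cfsg.Statements.S5272
import Cfsg.Agent.PLocal.StabF
-- import your own Cfsg.Agent.* helpers here

set_option autoImplicit false
open Cfsg

namespace Cfsg.Agent.S5272


open Subgroup Cfsg Cfsg.Agent.Transfer Cfsg.Agent.BG Cfsg.Agent.PLocal Pointwise
open scoped commutatorElement

/-- An axiomatic Glauberman–Thompson nilpotency criterion for fusion systems. Let p be an odd prime, F a saturated fusion system over a finite p-group S, and 𝒜 a nonempty family of abelian subgroups of S. For Q ≤ S write I(Q) for the intersection of the members of 𝒜 contained in Q. Assume (invariance) that for every Q ≤ S containing a member of 𝒜, every F-automorphism of Q maps I(Q) into itself, and (replacement) that for every subgroup B of S of nilpotency class at most 2, if some member of 𝒜 contains [B,B] but not B, then B normalizes some member of 𝒜 that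 contains [B,B] but not B. Then F is the inner fusion system of S if and only if the normalizer fusion system of I(S) in F is the inner fusion system of N_S(I(S)). -/
theorem result {Ω : Type*} [Group Ω] {S : Subgroup Ω} [Finite S] (p : ℕ) [Fact p.Prime] (hS : IsPGroup p ↥S) (F : Cfsg.FusionSystem S) (hF : F.IsSaturated p) (hp : p ≠ 2) (𝒜 : Set (Subgroup Ω)) (h𝒜 : ∀ A ∈ 𝒜, A ≤ S ∧ IsMulCommutative ↥A) (hne : 𝒜.Nonempty) (hinv : ∀ Q : Subgroup Ω, Q ≤ S → (∃ A ∈ 𝒜, A ≤ Q) → ∀ α ∈ F.autGroup Q, ∀ x : ↥Q, (x : Ω) ∈ (⨅ A ∈ {A : Subgroup Ω | A ∈ 𝒜 ∧ A ≤ Q}, A) → (((α : MulAut ↥Q) x : ↥Q) : Ω) ∈ (⨅ A ∈ {A : Subgroup Ω | A ∈ 𝒜 ∧ A ≤ Q}, A)) (hrep : ∀ B : Subgroup Ω, B ≤ S → ⁅⁅B, B⁆, B⁆ = ⊥ → (∃ A ∈ 𝒜, ⁅B, B⁆ ≤ A ∧ ¬ B ≤ A) → ∃ A ∈ 𝒜, ⁅B, B⁆ ≤ A ∧ ¬ B ≤ A ∧ B ≤ Subgroup.normalizer (A : Set Ω)) : (∀ P : Subgroup Ω, F.Hom P = (Cfsg.innerFusionSystem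 S).Hom P) ↔ ∀ N : Cfsg.FusionSystem (Cfsg.FusionSystem.normalizerIn S (⨅ A ∈ 𝒜, A)), F.IsNormalizerSystem (⨅ A ∈ 𝒜, A) N → ∀ P : Subgroup Ω, N.Hom P = (Cfsg.innerFusionSystem (Cfsg.FusionSystem.normalizerIn S (⨅ A ∈ 𝒜, A))).Hom P := by
  let I : Subgroup Ω → Subgroup Ω := fun Q => ⨅ A ∈ {A : Subgroup Ω | A ∈ 𝒜 ∧ A ≤ Q}, A
  have e : I S = ⨅ A ∈ 𝒜, A := le_antisymm (le_iInf₂ fun A hA => iInf₂_le A ⟨hA, (h𝒜 A hA).1⟩)
    (le_iInf₂ fun A hA => iInf₂_le A hA.1)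
  have hI : ∀ Q, ∀ A ∈ 𝒜, A ≤ Q → I Q ≤ A := fun Q A h1 h2 => iInf₂_le A ⟨h1, h2⟩
  have hinv' : ∀ Q ≤ S, (∃ A ∈ 𝒜, A ≤ Q) → ∀ f : Equiv.Perm Ω, Fus.Iso F f Q Q → ∀ x ∈ I Q, f x ∈ I Q := by
    rintro Q hQ ⟨A, hA, h1⟩ f hf x hx
    obtain ⟨α, hα, e⟩ := hf.res_mem
    have h2 := h1 (hI Q A hA h1 hx)
    rw [← Fus.res_apply hf.maps h2, ← e, Fus.toPerm_apply α h2]
    exact hinv Q hQ ⟨A, hA, h1⟩ α hα ⟨x, h2⟩ hx
  obtain ⟨A, hA⟩ := hne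
  have h0 : I S ≤ S := (hI S A hA (h𝒜 A hA).1).trans (h𝒜 A hA).1
  haveI := Loc.finite_of_le h0
  have h1 : S ≤ normalizer (I S : Set Ω) := fun g hg => Fus.maps_cp_iff.1 ((Fus.homOn_cp g _).maps_self
    (hinv' S le_rfl ⟨A, hA, (h𝒜 A hA).1⟩ _ (Fus.iso_cp_self F le_rfl ⟨hg, le_normalizer hg⟩)))
  rw [Fus.inner_iff_hom, ← e, Fus.normalizer_inner_iff' h0 h1]
  exact ⟨fun h P f hf => Fus.eq_inner_iff.1 h P f hf.mor, inner_of_family hp ⟨hS, hF⟩ h𝒜 ⟨A, hA⟩ hI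
    (fun B _ h => le_iInf₂ fun A hA => h A hA.1) (fun Q hQ => le_iInf₂ fun A hA => iInf₂_le A ⟨hA.1, hA.2.trans hQ⟩)
    hinv' hrep⟩


end Cfsg.Agent.S5272
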