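import Cfsg.Statements.S5296
import Cfsg.Agent.PLocal.Sm
-- import your own Cfsg.Agent.* helpers here

set_option autoImplicit false
universe u
open Cfsg

namespace Cfsg.Agent.S5296


open Subgroup Cfsg Cfsg.Agent.Transfer Cfsg.Agent.BG Cfsg.Agent.PLocal Pointwise
open scoped commutatorElement

/-- Small-exponent abelian subgroups of the hyperfocal subgroup control fusion. Let E and F be saturated fusion systems over the same finite p-group S with E contained in F. Suppose that E and F have the same maps between A and B for all subgroups A, B of the hyperfocal subgroup of F that are elementary abelian when p is odd, respectively abelian of exponent dividing 4 when p = 2. Then E = F. -/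
theorem result {Ω : Type u} [Group Ω] {S : Subgroup Ω} [Finite S] (p : ℕ) [Fact p.Prime] (hS : IsPGroup p S)
    (E F : Cfsg.FusionSystem S) (hE : E.IsSaturated p) (hF : F.IsSaturated p) (hEF : E.IsSubsystemOf F)
    (hodd : p ≠ 2 → ∀ A B : Subgroup Ω, A ≤ (F.hyperfocalSubgroup p) → B ≤ (F.hyperfocalSubgroup p) →
      Cfsg.IsElementaryAbelian p A → Cfsg.IsElementaryAbelian p B → E.homSet A B = F.homSet A B)
    (htwo : p = 2 → ∀ A B : Subgroup Ω, A ≤ (F.hyperfocalSubgroup p) → B ≤ (F.hyperfocalSubgroup p) →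
      IsMulCommutative ↥A → IsMulCommutative ↥B → (∀ a ∈ A, a ^ 4 = 1) → (∀ b ∈ B, b ^ 4 = 1) → E.homSet A B = F.homSet A B) :
    ∀ P : Subgroup Ω, E.Hom P = F.Hom P := by
  open Cfsg.Agent.Fus in
  have sF : Sat F p := ⟨hS, hF⟩
  refine congrFun (congrArg FusionSystem.Hom (Fus.sub_antisymm hEF (ctl_small sF ⟨hS, hE⟩ hEF fun A f hA hf => ?_)))
  have hB := hA.iso sF hf.iso
  have e : E.homSet A (Fus.img f A) = F.homSet A (Fus.img f A) := by
    by_cases h : p = 2
    · have q : PLocal.sq p = 4 := if_pos h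
      exact htwo h _ _ hA.1 hB.1 (le_centralizer_iff_isMulCommutative.1 hA.2.1)
        (le_centralizer_iff_isMulCommutative.1 hB.2.1) (q ▸ hA.2.2) (q ▸ hB.2.2)
    · have q : PLocal.sq p = p := if_neg h
      exact hodd h _ _ hA.1 hB.1 ⟨le_centralizer_iff_isMulCommutative.1 hA.2.1, q ▸ hA.2.2⟩
        ⟨le_centralizer_iff_isMulCommutative.1 hB.2.1, q ▸ hB.2.2⟩
  exact ⟨_, (e.ge ⟨hf.toHom_mem, fun x => Fus.mem_img_of_mem f x.2⟩).1, fun _ => rfl⟩


end Cfsg.Agent.S5296
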