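import Cfsg.Statements.S5275
import Cfsg.Agent.PLocal.StabF
-- import your own Cfsg.Agent.* helpers here

set_option autoImplicit false
open Cfsg

namespace Cfsg.Agent.S5275


open Subgroup Cfsg Cfsg.Agent.Transfer Cfsg.Agent.BG Cfsg.Agent.PLocal Pointwise
open scoped commutatorElement

/-- A Glauberman–Thompson nilpotency criterion for fusion systems relative to a strongly closed subgroup. Let p be an odd prime, F a saturated fusion system over a finite p-group S, and D a subgroup of S that is strongly closed in F. Let Z(J(D)) be the centre of the subgroup of D generated by the abelian subgroups of D of largest order. Then F is the inner fusion system of S if and only if the normalizer fusion system of Z(J(D)) in F is the inner fusion system of N_S(Z(J(D))) = S. -/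
theorem result {Ω : Type*} [Group Ω] {S : Subgroup Ω} [Finite S] (p : ℕ) [Fact p.Prime] (hS : IsPGroup p ↥S) (F : Cfsg.FusionSystem S) (hF : F.IsSaturated p) (hp : p ≠ 2) (D : Subgroup Ω) (hD : F.StronglyClosed D) : (∀ P : Subgroup Ω, F.Hom P = (Cfsg.innerFusionSystem S).Hom P) ↔ ∀ N : Cfsg.FusionSystem (Cfsg.FusionSystem.normalizerIn S (Cfsg.centerThompsonAOf D)), F.IsNormalizerSystem (Cfsg.centerThompsonAOf D) N → ∀ P : Subgroup Ω, N.Hom P = (Cfsg.innerFusionSystem (Cfsg.FusionSystem.normalizerIn S (Cfsg.centerThompsonAOf D))).Hom P := by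
  haveI := Loc.finite_of_le hD.1
  have h1 : S ≤ normalizer (centerThompsonAOf D : Set Ω) := ind_ZJAF D ▸
    (Fus.sc_le_normalizer hD).trans (Fus.normalizer_le_ind ZJAF_char (hS.to_le hD.1))
  rw [Fus.inner_iff_hom, Fus.normalizer_inner_iff' ((ind_ZJAF D).ge.trans ((Fus.ind_le' _ D).trans hD.1)) h1]
  exact ⟨fun h P f hf => Fus.eq_inner_iff.1 h P f hf.mor,
    fun h => inner_of_sc hp ZJAF_char (scNormal_ZJA hp) ⟨hS, hF⟩ hD (ind_ZJAF D ▸ h)⟩


end Cfsg.Agent.S5275
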