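import Cfsg.Statements.S5287
import Cfsg.Agent.FusC.Rz
import Cfsg.Agent.FusC.Meta
import Cfsg.Agent.FusC.Aut
import Cfsg.Agent.S1447

set_option autoImplicit false
open Cfsg

namespace Cfsg.Agent.S5287

open Subgroup Cfsg.Agent.Fus Cfsg.Agent.Loc Cfsg.Agent.ABG Cfsg.Agent.Invol
open scoped commutatorElement

variable {Ω : Type*} [Group Ω] {S : Subgroup Ω} [Finite S]

theorem not_ss {G : Type*} [Group G] [Finite G] {N : ℕ} {r s : ZMod N → Ω} {ρ c q : ZMod N} (T : MT S r s ρ c q)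
    (h : MTM G ρ c q True True) : ¬ ∀ F : FusionSystem S, F.IsSaturated 2 → SS F := fun k => by
  obtain ⟨P, r', s', T', h0, -⟩ := h
  obtain ⟨θ, k1, k2, k3, -, k4⟩ := tab_exists_hom T'.toTab T.toTab
  obtain ⟨F, e⟩ := exists_fiso (groupFusionSystem P.1) k1 k2 k3
  have hF := e.sat (sat_group P)
  have := mem_img_of_mem θ (((grpFS_group P.1).foc_eq (sylIn_top P)).ge ⟨T'.s_mem 0, h0.2 trivial⟩)
  rw [← e.foc_eq, k4, (k F hF.sat).inner hF, foc_inner hF.pg] at this
  obtain ⟨l, hl⟩ := T.s_mem_two.1 ((commutator_le.2 fun x hx y hy => by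
    simpa [commutatorElement_def, mul_assoc] using T.comm_mem 1 hy (inv_mem hx) : ⁅S, S⁆ ≤ sub r s 2 1) this)
  exact T.H.even_ne_odd 0 l (by linear_combination hl)

theorem ss_odd {p : ℕ} [Fact p.Prime] (hp : p ≠ 2) {F : FusionSystem S} (hF : Sat F p) (hm : IsMetacyclic S)
    (hab : ¬ IsMulCommutative S) : SS F := by
  have hn := normal_of_meta_odd hF hp (sc_S F) hm
  obtain ⟨G, _, L, M⟩ := hF.exists_model hn (centric_self F)
  have := M.fin
  have hN := M.normal hn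
  obtain ⟨k, hk⟩ := M.syl.pg.exists_card_eq
  have hc := ((Fact.out : p.Prime).coprime_iff_not_dvd.2 M.syl.not_dvd_relIndex)
  obtain ⟨A, -, h2, -, h3⟩ := Solv.exists_complement_in le_top (normalizer_eq_top _).ge (hk ▸ hc.pow_left k)
  have hm' : IsMetacyclic (img L S) := M.hom.img_eq_range ▸ meta_surj _ M.hom.toHom.rangeRestrict_surjective hm
  obtain ⟨_, hx', _, hy', h4, h5⟩ : ∃ x ∈ img L S, ∃ y ∈ img L S, (zpowers x).Normal ∧ zpowers x ⊔ zpowers y = img L S := by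
    by_cases hA : A ≤ centralizer (img L S : Set G)
    · obtain ⟨c, d, h4, h5⟩ := meta_gen hm'
      refine ⟨c, c.2, d, d.2, normalizer_eq_top_iff.1 (top_le_iff.1 (h2.ge.trans (sup_le (fun g hg => ?_) (hA.trans
        ((centralizer_le (zpowers_le.2 c.2)).trans (centralizer_le_normalizer _)))))),
        le_antisymm (sup_le (zpowers_le.2 c.2) (zpowers_le.2 d.2)) fun g hg => ?_⟩
      · obtain ⟨k, hk⟩ := h5 ⟨g, hg⟩
        refine mem_normalizer_fintype ?_
        rintro _ ⟨i, rfl⟩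
        simp only [← conj_zpow, show g * c * g⁻¹ = c ^ k from congrArg Subtype.val hk]
        exact zpow_mem (zpow_mem_zpowers _ _) _
      · obtain ⟨i, j, e⟩ := h4 ⟨g, hg⟩
        rw [show g = c ^ i * d ^ j from congrArg Subtype.val e]
        exact mul_mem (mem_sup_left (zpow_mem_zpowers _ _)) (mem_sup_right (zpow_mem_zpowers _ _))
    obtain ⟨-, h4, -, h5⟩ := S1447.result p hp (img L S) A M.syl.pg hm' (le_top.trans (normalizer_eq_top _).ge)
      (h3 ▸ hc.symm)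
    obtain ⟨-, h6, -, h7, -⟩ := h5 (fun k => hab ⟨⟨fun a b => Subtype.ext (M.fiso.injOn (a * b).2 (b * a).2 (by
      rw [Subgroup.coe_mul, Subgroup.coe_mul, M.hom.map_mul a.2 b.2, M.hom.map_mul b.2 a.2]
      exact setLike_mul_comm (mem_img_of_mem L a.2) (mem_img_of_mem L b.2)))⟩⟩) hA
    obtain ⟨x, hx⟩ := (Subgroup.isCyclic_iff_exists_zpowers_eq_top _).1 h6
    obtain ⟨y, hy⟩ := (Subgroup.isCyclic_iff_exists_zpowers_eq_top _).1 h7
    exact ⟨x, (le_sup_left.trans h4.le) (hx ▸ mem_zpowers x), y, (hy ▸ mem_zpowers y :).1, hx ▸ normalizer_eq_top_iff.1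
      (top_le_iff.1 (h2.ge.trans (sup_le (normalizer_commutator_ge_left _ _) (normalizer_commutator_ge_right _ _)))),
      by rw [hx, hy, h4]⟩
  obtain ⟨x, hx, rfl⟩ := M.hom.mem_img.1 hx'
  obtain ⟨y, hy, rfl⟩ := M.hom.mem_img.1 hy'
  have e1 := (M.hom.mono (zpowers_le.2 hx)).img_zpowers
  have hle := sup_le (zpowers_le.2 hx) (zpowers_le.2 hy)
  exact ss_iff.2 (.tail (.single ⟨sc_of_normal ((M.normal_iff (zpowers_le.2 hx)).2 (e1 ▸ h4)), x, hx, (bot_sup_eq _).symm⟩)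
    ⟨sc_S F, y, hy, M.fiso.img_inj le_rfl hle (by
      rw [(M.hom.mono hle).img_sup, e1, (M.hom.mono (zpowers_le.2 hy)).img_zpowers, h5])⟩)

/-- Let S be a finite metacyclic p-group (an extension of a cyclic group by a cyclic group). Every saturated fusion system over S is supersoluble (S has a chain of F-strongly closed subgroups from 1 to S with cyclic steps) if and only if S is not homocyclic of rank two (isomorphic to Z/p^n × Z/p^n with n ≥ 1) and, when p = 2, S is not dihedral of order at least 4, not quasi-dihedral (semidihedral) and not generalized quaternion of order at least 8. -/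
theorem result {Ω : Type*} [Group Ω] {S : Subgroup Ω} [Finite S] (p : ℕ) [Fact p.Prime] (hS : IsPGroup p ↥S) (hm : Cfsg.IsMetacyclic ↥S) : (∀ F : Cfsg.FusionSystem S, F.IsSaturated p → (∃ (m : ℕ) (c : Fin (m + 1) → Subgroup Ω), c 0 = ⊥ ∧ c (Fin.last m) = S ∧ (∀ i : Fin (m + 1), F.StronglyClosed (c i)) ∧ ∀ i : Fin m, c i.castSucc ≤ c i.succ ∧ ∃ x ∈ S, c i.succ = c i.castSucc ⊔ Subgroup.zpowers x)) ↔ ¬ ((∃ n : ℕ, 0 < n ∧ Nonempty (↥S ≃* Multiplicative (ZMod (p ^ n)) × Multiplicative (ZMod (p ^ n)))) ∨ (p = 2 ∧ ((∃ n : ℕ, 2 ≤ n ∧ Nonempty (↥S ≃* DihedralGroup n)) ∨ Cfsg.IsQuasiDihedral ↥S ∨ (∃ n : ℕ, 2 ≤ n ∧ Nonempty (↥S ≃* QuaternionGroup n))))) := by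
  have hom : ∀ n, 0 < n → (S ≃* Multiplicative (ZMod (p ^ n)) × Multiplicative (ZMod (p ^ n))) →
      ¬ ∀ F : FusionSystem S, F.IsSaturated p → SS F := fun n hn e h =>
    not_pa hn Unit ((pa_of_ss hS h).congr (e.trans MulEquiv.prodUnique.symm))
  refine ⟨fun h k => ?_, fun h F hF => ?_⟩
  · rcases k with ⟨n, hn, ⟨e⟩⟩ | ⟨rfl, ⟨m, hm, ⟨e⟩⟩ | k | ⟨m, hm, ⟨e⟩⟩⟩
    · exact hom n hn e h
    · obtain rfl | hm := hm.eq_or_lt
      · have : IsKleinFour (Multiplicative (ZMod (2 ^ 1) × ZMod (2 ^ 1))) :=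
          inferInstanceAs (IsKleinFour (Multiplicative (ZMod 2 × ZMod 2)))
        obtain ⟨f⟩ : Nonempty (DihedralGroup 2 ≃* Multiplicative (ZMod (2 ^ 1) × ZMod (2 ^ 1))) :=
          IsKleinFour.nonempty_mulEquiv
        exact hom 1 one_pos ((e.trans f).trans (MulEquiv.prodMultiplicative _ _)) h
      obtain ⟨n, rfl⟩ := PGrp.exists_pow_of_dihedral hS e
      obtain ⟨n, rfl⟩ := Nat.exists_eq_add_of_le' ((Nat.pow_lt_pow_iff_right one_lt_two (n := 1)).1 hm)
      obtain ⟨r, s, T⟩ := mt_dihedral e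
      obtain ⟨K, _, _, k, h1, h2⟩ := exists_field_pred (n + 1)
      exact not_ss T (mtm_psl2 h2 h1) h
    · obtain ⟨n, r, s, T⟩ := mt_qd (isQuasiDihedral_top k)
      obtain ⟨K, _, _, k, h1, -, h2⟩ := exists_field_succ n
      have := T.map (homOn_hom S.subtype ⊤) fun x _ e => Subtype.ext e
      rw [img_hom, ← MonoidHom.range_eq_map, range_subtype] at this
      exact not_ss this (mtm_psl3 h2 h1) h
    · obtain ⟨n, rfl⟩ := pow_of_quaternion hS hm e
      obtain ⟨r, s, T⟩ := mt_quaternion e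
      obtain ⟨K, _, _, k, h1, h2⟩ := exists_field_pred n
      exact not_ss T (mtm_sl2 h2 h1) h
  have hF : Sat F p := ⟨hS, hF⟩
  have hp : p.Prime := Fact.out
  by_cases hab : IsMulCommutative S
  · refine ss_of_di hF hab ((di_or hS hab).resolve_right fun ⟨n, H, _, hn, ⟨e⟩⟩ => h (.inl ⟨n, hn, ?_⟩))
    have : Finite H := (Finite.of_equiv _ e.toEquiv).of_surjective _ Prod.snd_surjective
    refine (subsingleton_or_nontrivial H).elim (fun _ => have := uniqueOfSubsingleton (1 : H); ⟨e.trans MulEquiv.prodUnique⟩) fun _ => ?_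
    obtain ⟨k, hk, e1⟩ := ((hS.of_equiv e).of_surjective (.snd _ _) Prod.snd_surjective).nontrivial_iff_card.1 ‹_›
    obtain ⟨x, hx⟩ := exists_prime_orderOf_dvd_card' (G := H) p (e1 ▸ dvd_pow_self p hk.ne')
    obtain ⟨g, hg⟩ := exists_prime_orderOf_dvd_card' (G := Multiplicative (ZMod (p ^ n))) p (by simp [hn.ne'])
    have k1 : ∀ {X : Type} [Group X] {a b : X}, orderOf a = p → b ∈ zpowers a → b ^ p = 1 := by
      rintro _ _ a _ h ⟨i, rfl⟩
      simp only [← zpow_natCast, zpow_comm a i]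
      rw [zpow_natCast, ← h, pow_orderOf_eq_one, one_zpow]
    have := pRankLE_of_meta hp.pos (meta_surj e.toMonoidHom e.surjective hm)
      (((zpowers g).prod (zpowers g)).prod (zpowers x)) inferInstance
      fun a ha => Prod.ext (Prod.ext (k1 hg ha.1.1) (k1 hg ha.1.2)) (k1 hx ha.2)
    rw [Nat.card_congr (prodEquiv _ _).toEquiv, Nat.card_prod, Nat.card_congr (prodEquiv _ _).toEquiv, Nat.card_prod,
      Nat.card_zpowers, Nat.card_zpowers, hx, hg, ← sq] at this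
    exact absurd (Nat.le_of_mul_le_mul_left (this.trans_eq (mul_one _).symm) (pow_pos hp.pos 2)) hp.one_lt.not_ge
  obtain rfl | h2 := eq_or_ne p 2
  · refine inner_of_meta_two hF hm (fun ⟨a, x, n, k⟩ => h (.inr ⟨rfl, ?_⟩))
      (fun n _ => ⟨fun e => hab ⟨⟨fun a b => e.injective (by rw [map_mul, map_mul, mul_comm])⟩⟩⟩) ▸ ss_inner hS
    have := k.two_le
    rcases k.dqs_cases with e | e | e
    exacts [.inl ⟨_, (Nat.pow_le_pow_right two_pos (by omega : 1 ≤ n) :), e⟩,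
      .inr (.inr ⟨_, (Nat.pow_le_pow_right two_pos (by omega : 1 ≤ n - 1) :), e⟩), .inr (.inl e)]
  · exact ss_odd h2 hF hm hab

end Cfsg.Agent.S5287
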