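import Cfsg.Statements.S5292
import Cfsg.Agent.Fus.Misc
-- import your own Cfsg.Agent.* helpers here

set_option autoImplicit false
universe u
open Cfsg

namespace Cfsg.Agent.S5292

/-- Let F be a saturated fusion system over a finite p-group S. Then F is the fusion system of some finite p-solvable group on a Sylow p-subgroup if and only if F is constrained (some subgroup normal in F is centric in F) and the group of automorphisms that F induces on its largest normal subgroup O_p(F) is p-solvable. -/
theorem result {Ω : Type u} [Group Ω] {S : Subgroup Ω} [Finite S] (p : ℕ) [Fact p.Prime] (hS : IsPGroup p S)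
    (F : Cfsg.FusionSystem S) (hF : F.IsSaturated p) :
    (∃ (G : Type u) (_ : Group G) (_ : Finite G) (ι : S →* G), Cfsg.IsPSolvable p G ∧ F.IsRealizedBy ι ∧
        ∃ T : Sylow p G, (T : Subgroup G) = ι.range) ↔
      (F.IsConstrained p ∧ Cfsg.IsPSolvable p ↥(F.autGroup F.core)) :=
  open Subgroup Cfsg.Agent.Fus Cfsg.Agent.Loc Equiv in by
  refine ⟨fun ⟨G, _, _, ι, h1, h2, T, h3⟩ => ?_, fun ⟨h1, h2⟩ => ?_⟩
  · have := (real_iff.1 h2).model_of_pSolv (by rw [← range_eq_img, ← h3]; exact sylIn_top T) h1
    exact ⟨this.constrained, this.pSolv_iff.1 (PLocal.pSolv_quotient h1 _)⟩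
  · obtain ⟨G, _, L, h⟩ := exists_model_of_constrained hS h1
    exact ⟨G, _, h.fin, _, h.pSolv_iff.2 h2, h.toReal.realized, h.syl.toSylowTop, h.hom.img_eq_range⟩

end Cfsg.Agent.S5292
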