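import Cfsg.Statements.S5299
import Cfsg.Agent.Fus.Free
-- import your own Cfsg.Agent.* helpers here

set_option autoImplicit false
universe u
open Cfsg

namespace Cfsg.Agent.S5299

/-- Let F be a saturated fusion system over a finite p-group S, H a finite group and Q a p-subgroup of H. If Q is not involved in S (no section of S is isomorphic to Q), then F is H-free: H is involved in no model of the normalizer system of a fully normalized centric subgroup. -/
theorem result {Ω : Type u} [Group Ω] {S : Subgroup Ω} [Finite S] (p : ℕ) [Fact p.Prime] (hS : IsPGroup p S)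
    (F : Cfsg.FusionSystem S) (hF : F.IsSaturated p) (H : Type*) [Group H] [Finite H] (Q : Subgroup H) (hQ : IsPGroup p Q)
    (hfree : ¬ Cfsg.Involves (↥Q) (↥S)) : F.IsSectionFree p H :=
  open Subgroup Cfsg.Agent.Fus Cfsg.Agent.Loc Equiv in by
  refine free_iff.2 fun R hR _ T N hN G _ L hL ⟨K, _, f, hf⟩ => hfree ?_
  haveI := hL.fin
  haveI := hN.finite
  obtain ⟨P, hP, e⟩ := PLocal.exists_lift_pgroup hf hQ
  obtain ⟨g, -, hg⟩ := hL.syl.exists_conj_le le_top (hP.map K.subtype)
  obtain ⟨σ, hσ, -⟩ := hL.fiso.symm
  have h1 : PLocal.Involves (⊤ : Subgroup P) Q := by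
    subst e
    exact involves_of_surj' (f.subgroupMap_surjective P)
  let φ : P →* Ω := hσ.hom.toHom.comp ((inclusion hg).comp ((cjEquiv g _).toMonoidHom.comp
    (P.equivMapOfInjective _ K.subtype_injective).toMonoidHom))
  have h2 : Function.Injective φ :=
    ((injective_iff_map_eq_one hσ.hom.toHom).2 fun x hx => Subtype.ext (hσ.inj x x.2 hx)).comp ((inclusion_injective hg).comp
      ((cjEquiv g _).injective.comp (P.equivMapOfInjective _ K.subtype_injective).injective))
  refine PLocal.involves_iff_sub.2 (involves_trans (PLocal.involves_of_injective h2 ?_) h1)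
  rintro _ ⟨x, rfl⟩
  exact hN.T_le (hσ.mem (inclusion hg _).2)

end Cfsg.Agent.S5299
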