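import Cfsg.Statements.S5310
import Cfsg.Agent.Fus.Fit
-- import your own Cfsg.Agent.* helpers here

set_option autoImplicit false
open Cfsg

namespace Cfsg.Agent.S5310

/-- A saturated fusion system F over a finite p-group S is constrained (its largest normal subgroup O_p(F) is centric) if and only if the inner fusion system of O_p(F) is itself a generalized Fitting subsystem of F (that is, F*(F) = O_p(F)). -/
theorem result {Ω : Type*} [Group Ω] {S : Subgroup Ω} [Finite S] (p : ℕ) [Fact p.Prime] (hS : IsPGroup p S) (F : Cfsg.FusionSystem S) (hF : F.IsSaturated p) :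
    F.IsConstrained p ↔ (Cfsg.innerFusionSystem F.core).IsGeneralizedFittingOf F p :=
  open Subgroup Cfsg.Agent.Fus Cfsg.Agent.Loc Equiv in by
  have h : Sat F p := ⟨hS, hF⟩
  haveI := finite_of_le (core_le F)
  rw [h.constrained_iff, gf_iff hS]
  refine ⟨fun k => ?_, fun k ⟨V, C, hC⟩ => ?_⟩
  · obtain ⟨D, h1, -⟩ := (h.lay_bot k).exists_cp
    exact (same_of_sub h1.sub₁ (sub_iff.2 fun P f hf => (h1.mor₁ (hf.le.trans (sup_bot_eq _).le)).1 hf)).elim
      (C := fun D => GF D F p) ⟨_, _, h.lay_bot k, h1⟩
  · haveI := finite_of_le (comp_le hC)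
    have := hyp_mono (p := p) (k.ac _ C hC)
    rw [hC.2.2.1, hyp_inner (hS.to_le (core_le F)), le_bot_iff] at this
    exact qs_not_abelian (hS.to_le (comp_le hC)) hC.2 (by simp [this])

end Cfsg.Agent.S5310
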