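import Cfsg.Statements.S5316
import Cfsg.Agent.MxE.F

set_option autoImplicit false
open Cfsg

namespace Cfsg.Agent.S5316

/-- Let p ≥ 5 be a prime, S a finite p-group of maximal class of order p^n with n ≥ 5 (nilpotency class n − 1), F a saturated fusion system over S, and E an F-essential subgroup that is not a pearl (not elementary abelian of order p² and not extraspecial of order p³ and exponent p). Then E has order at least p⁴. -/
theorem result {Ω : Type*} [Group Ω] {S : Subgroup Ω} [Finite S] (p : ℕ) [Fact p.Prime] (hp : 5 ≤ p) (hS : IsPGroup p ↥S) (n : ℕ) (hn : Nat.card S = p ^ n) (h5 : 5 ≤ n)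
    (hmax : Subgroup.lowerCentralSeries S (n - 2) ≠ ⊥) (F : Cfsg.FusionSystem S) (hF : F.IsSaturated p)
    (E : Subgroup Ω) (hE : F.IsEssential p E)
    (hnp : ¬ ((Nat.card ↥E = p ^ 2 ∧ Cfsg.IsElementaryAbelian p E) ∨ (Nat.card ↥E = p ^ 3 ∧ Cfsg.IsExtraspecial p ↥E ∧ Monoid.exponent ↥E = p))) :
    p ^ 4 ≤ Nat.card ↥E := by
  open Cfsg.Agent.Fus Subgroup Cfsg.FusionSystem in
  have e : Es F p E := ⟨⟨hS, hF⟩, hE⟩
  have := e.finite
  have c := (Fus.mx_of_sub hn (by omega) hmax).mcl (by omega)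
  obtain ⟨j, hj⟩ := IsPGroup.iff_card.1 e.pg
  by_contra hc
  have hj3 : j ≤ 3 := by
    rw [hj, Nat.pow_le_pow_iff_right (Fact.out : p.Prime).one_lt] at hc; omega
  have hrel := Solv.card_mul_relIndex (Fus.Phi_le E)
  by_cases hab : E ≤ Subgroup.centralizer (E : Set Ω)
  · by_cases hi : (Fus.Phi E).relIndex E ∣ p ^ 2
    · rcases e.rank_two hab hi with h | h
      · exact hnp (.inl ⟨h.2, h.1⟩)
      · omega
    · obtain ⟨i, h1, h2⟩ := (Nat.dvd_prime_pow (Fact.out : p.Prime)).1 (Dvd.intro_left _ (hrel.trans hj))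
      have hi3 : i = 3 := by
        by_contra h3
        exact hi (h2 ▸ pow_dvd_pow p (by omega))
      obtain rfl : j = 3 := by omega
      rw [h2, hi3, hj] at hrel
      have h4 : Fus.Phi E = ⊥ := Subgroup.card_eq_one.1 (Nat.eq_of_mul_eq_mul_right
        (pow_pos (Fact.out : p.Prime).pos 3) (hrel.trans (one_mul _).symm))
      exact Fus.El3.false ⟨e, hab, fun x hx => Subgroup.mem_bot.1 (h4 ▸ Fus.pow_mem_Phi e.pg hx), hj⟩ c hp
  · obtain rfl : j = 3 := by
      by_contra h3
      exact hab (Fus.ab_of_card (p := p) (hj ▸ pow_dvd_pow p (by omega)))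
    have es := Fus.es_of_card hj hab
    obtain ⟨h1, -, h3⟩ := Fus.es_data es
    have := Loc.finite_of_le (Fus.CS_le E E)
    rcases e.nf.core e.pg hab (h1 ▸ h3) (fun z hz => by
      have := pow_card_eq_one' (x := (⟨z, hz⟩ : FusionSystem.centralizerIn E E))
      rw [h3] at this
      exact congrArg Subtype.val this) (by rw [h1, Subgroup.relIndex_self]; exact one_dvd _)
      (Fus.relIndex_of_card (Fus.CS_le E E) (k := p ^ 2) (by rw [h3, hj]; ring)).dvd with h | h
    · refine hnp (.inr ⟨hj, es, ?_⟩)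
      haveI : Nontrivial E := (Subgroup.nontrivial_iff_ne_bot E).2 fun h => hab (h ▸ bot_le)
      exact (Monoid.exponent_eq_prime_iff (Fact.out : p.Prime)).2 fun g hg =>
        orderOf_eq_prime (Subtype.ext (h.2 g g.2)) hg
    · omega

end Cfsg.Agent.S5316
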