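import Cfsg.Statements.S5317
import Cfsg.Agent.Fus.Two
import Cfsg.Agent.S0261
-- import your own Cfsg.Agent.* helpers here

set_option autoImplicit false
open Cfsg

namespace Cfsg.Agent.S5317

section
open Subgroup Cfsg.Agent.Fus Cfsg.Agent.Loc Equiv
open Cfsg.FusionSystem (normalizerIn centralizerIn)

theorem ta_of_quat {G : Type*} [Group G] [Finite G] {n : ℕ} (ψ : QuaternionGroup n →* G) (hs : Function.Surjective ψ)
    (h : ψ (.xa 0) * ψ (.xa 0) = 1) (hG : IsPGroup 2 G) (h8 : 8 ≤ Nat.card G) : TA G := by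
  have h1 : ∀ i, ψ (.a i) ∈ zpowers (ψ (.a 1)) := fun i => by
    obtain ⟨k, rfl⟩ := ZMod.intCast_surjective i
    refine ⟨k, ?_⟩
    simp only [← map_zpow]
    congr 1
    induction k using Int.induction_on with
    | zero => simp
    | succ k ih => rw [zpow_add_one, ih]; simp
    | pred k ih => rw [zpow_sub_one, ih, mul_inv_eq_iff_eq_mul]; simp
  have h2 : ∀ g, g ∈ zpowers (ψ (.a 1)) ∨ g * ψ (.xa 0) ∈ zpowers (ψ (.a 1)) := fun g => by
    obtain ⟨i | i, rfl⟩ := hs g
    · exact .inl (h1 i)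
    · exact .inr (by rw [← map_mul]; exact h1 _)
  have h3 : ψ (.xa 0) ∉ zpowers (ψ (.a 1)) := fun h3 => by
    have h4 : zpowers (ψ (.a 1)) = ⊤ := eq_top_iff.2 fun g _ => (h2 g).elim id fun h => (mul_mem_cancel_right h3).1 h
    have h5 : ψ (.a 1) ^ 2 = 1 := by
      obtain ⟨k, hk⟩ := h3
      have : ψ (.a 1) * ψ (.xa 0) * ψ (.a 1) = ψ (.xa 0) := by simp [← map_mul]
      rw [← hk] at this
      simp only at this
      rwa [← zpow_one_add, ← zpow_add_one, add_assoc, add_comm k, ← add_assoc, zpow_add, mul_eq_right, one_add_one_eq_two, zpow_ofNat] at this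
    have := orderOf_le_of_pow_eq_one two_pos h5
    rw [← Nat.card_zpowers, h4, Subgroup.card_top] at this
    omega
  refine ta_of_cyclic hG (index_eq_two_iff.2 ⟨ψ (.xa 0), fun g => ?_⟩) h3 h h8
  rcases h2 g with h4 | h4
  · exact .inr ⟨h4, fun h5 => h3 ((mul_mem_cancel_left h4).1 h5)⟩
  · exact .inl ⟨h4, fun h5 => h3 ((mul_mem_cancel_left h5).1 h4)⟩

end

/-- Let F be a finite field of odd order q with q² ≡ 1 mod 16 (so that a Sylow 2-subgroup of PSL(2,q), dihedral of order the 2-part of (q²−1)/2, has order at least 8). Then the 2-fusion system of PSL(2,F) on a Sylow 2-subgroup is simple: saturated, over a nontrivial 2-group, with no normal subsystem other than the trivial one and itself. -/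
theorem result {F : Type*} [Field F] [Fintype F] (hodd : Fintype.card F % 2 = 1) (h16 : 16 ∣ Fintype.card F ^ 2 - 1)
    (S : Sylow 2 (Matrix.ProjectiveSpecialLinearGroup (Fin 2) F)) :
    (Cfsg.groupFusionSystem (S : Subgroup (Matrix.ProjectiveSpecialLinearGroup (Fin 2) F))).IsSimple 2 :=
  open Subgroup Cfsg.Agent.Fus Cfsg.Agent.Loc Equiv in by
  have hq : 4 ≤ Nat.card F := by
    rw [Nat.card_eq_fintype_card]
    by_contra h
    have := Fintype.one_lt_card (α := F)
    obtain h3 : Fintype.card F = 3 := by omega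
    rw [h3] at h16; omega
  have := Matrix.ProjectiveSpecialLinearGroup.rank_two_simple hq
  have ho : Odd (Fintype.card F) := Nat.odd_iff.2 hodd
  obtain ⟨Q⟩ : Nonempty (Sylow 2 (Matrix.SpecialLinearGroup (Fin 2) F)) := inferInstance
  obtain ⟨k, -, ⟨e⟩⟩ := S0261.result ho Q
  let P := Q.mapSurjective (Classical.pslMk_surjective (F := F))
  have h8 : 8 ≤ Nat.card S := by
    refine Nat.le_of_dvd Nat.card_pos (S.pow_dvd_card_of_pow_dvd_card (n := 3) (Nat.dvd_of_mul_dvd_mul_left two_pos ?_))
    have := Classical.card_PSL2_mul (F := F)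
    rw [Nat.card_eq_fintype_card (α := F), Classical.gcd_two_pred_of_odd ho] at this
    rw [this, mul_assoc, mul_comm (_ - 1), ← Nat.pow_two_sub_pow_two _ 1]
    exact h16.mul_left _
  refine simple_of_TA S ((ta_of_quat (((Classical.pslMk F).subgroupMap Q).comp e.symm.toMonoidHom) (((Classical.pslMk F).subgroupMap_surjective Q).comp e.symm.surjective) (Subtype.ext ?_) P.2 ((Nat.card_congr (P.equiv S).toEquiv).symm ▸ h8)).congr (P.equiv S)) (by omega)
  change Classical.pslMk F _ * Classical.pslMk F _ = 1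
  rw [← map_mul, Classical.pslMk_eq_one_iff, Classical.sl_isScal_iff]
  refine Classical.sl_eq_of_mul_self_eq_one (Classical.two_ne_zero_iff_odd.2 (Nat.card_eq_fintype_card (α := F) ▸ ho)) ?_
  change ((e.symm _ * e.symm _ * (e.symm _ * e.symm _) : Q) : Matrix.SpecialLinearGroup (Fin 2) F) = 1
  simp only [← map_mul]
  rw [← sq, ← sq, ← pow_mul, QuaternionGroup.xa_pow_four, map_one]; rfl

end Cfsg.Agent.S5317
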