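import Cfsg.Statements.S5320
import Cfsg.Agent.FusE.Quat3

set_option autoImplicit false
open Cfsg

namespace Cfsg.Agent.S5320

/-- For a finite field F of odd order, the 2-fusion system of the projective symplectic group PSp(4,F) on a Sylow 2-subgroup is simple. -/
theorem result {F : Type*} [Field F] [Fintype F] (hodd : Fintype.card F % 2 = 1) (S : Sylow 2 (Cfsg.PSp 2 F)) :
    (Cfsg.groupFusionSystem (S : Subgroup (Cfsg.PSp 2 F))).IsSimple 2 := by
  open Cfsg.Agent.FusE in
  haveI : NeZero (2 : F) := ⟨Ring.two_ne_zero fun h => by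
    have := FiniteField.even_card_iff_char_two.1 h; omega⟩
  obtain ⟨e⟩ := exists_equiv_sp (F := F)
  refine simple_HH ((QuotientGroup.mk' _).comp e.toMonoidHom) ((QuotientGroup.mk'_surjective _).comp e.surjective)
    (fun x => ?_) S
  rw [← mem_center_HH]
  exact (QuotientGroup.eq_one_iff _).trans (MulEquivClass.apply_mem_center_iff e)

end Cfsg.Agent.S5320
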