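import Cfsg.Statements.S5321
import Cfsg.Agent.Fus.Par
import Cfsg.Agent.Ico.Cent
import Cfsg.Agent.HJ.FC
-- import your own Cfsg.Agent.* helpers here

set_option autoImplicit false
open Cfsg

namespace Cfsg.Agent.S5321

section
open Subgroup Cfsg.Agent.Fus Cfsg.Agent.Loc Cfsg.Agent.Comp Cfsg.Agent.Ico.T Cfsg.Agent.Spor.MdJ2
set_option maxRecDepth 100000
set_option exponentiation.threshold 100000

/-- polycyclic generators of a Sylow 2-subgroup -/
noncomputable def ys : List ℕ := [nat_lit 0xb189360be2c6327f695e346a1dbe3cba8c4080e6cc6a28e2525194d08655a17b750d3caaa9c883ada5c16770f902348701b2ea2d64f86422ae91094634dbc936f4305800a1200f1d7b01eb46ddbd284b82664c4f9c59600,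
  nat_lit 0x5624e271e283d722e6c59b9165987089b252a761bcaa2d3440236b489a10fb05e14ccc6a0ad530745db1368da407e90a12c659429c12682e654800e82227616619ed420aa7ad18b2d97be82313957b11eba69f426eea3a1,
  nat_lit 0xaf458a198e872b6f19923c642242482313b0abd9df905a0cb0d68bd537524a93a5560fa1786aeb62529c9b670a89ce063db82e030007dad3b07b0074c89fb486049048b29f1328641d67975cad5409b52411e7982228d27,
  nat_lit 0x5284ad1be44630156ab458164d1fa74b02c38aa6cc0cfc247911ac018698c5794c5dbc7a0dcb8049cc856641f5c16b8750513b1ab6d089242e8b114a878b4f3755ac146770a00e96f321eb46dd5f6c008272da4974de209,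
  nat_lit 0x2a9f18999116c190364c2a8127403d4802f566a6df2c4ab0ab6e5311871581f4a5dd0f06ee3086b8811066d119858b860b39570cf43625247c89b13af4e5a836a9bdc621948728fc0857976d0ea11e8b840759597a66f60,
  nat_lit 0x3224b361e616d06235e8690ed44a5c793dc06119bc8b5155780e65b236dc8c73e2acccac7232285814af9b12dac694eeb03525ad5a2091884ae00077f48aba86af1de2584e93285e081be32d0e0afb12441605ce9e98821,
  nat_lit 0x346ce298a9c1f931992c14c0bc240b50c17a1998f9011dde5f6a2349b59bbf38551df812dc878a2529d36c533e9c3a985b8d681000ac58c957702ec2514d5875e396b76145244441d47878688753db13484811a338cc27]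

/-- fusing elements -/
noncomputable def steps : List (ℕ × List ℕ) := [(nat_lit 0x323859336c57554d7e44b8896b8200843ab752634dc70819060f1ad6b4be5502a760332e126270a822db72f5bbb7d8a9d924703472846e5159816a22c260aa1a8d48a02d2f2410c8f9a86787d2a986eb67161fce9e6140c, [0]),
  (nat_lit 0x503c1218c909370cf09d6b1498adb89713b0b119e0ba44d235932a556c11aca32395d13f004ce7e3464b4e75c4929213410e5df2e725ab95c70afba10cadbd876698b15167aa600501cb58404744be683207af18a0a5a1b, [0, 2]),
  (nat_lit 0x8b0d7dfa24919914d92a92640d152c047a0bb79e4d9d5521f969cc1442a31889509f9b7aadcc91d681d8c419d5464b281e91642b08c458c00e5d9b754096a2996f0b470bab1d9ed6e3ec1106d78eec01c089a08c174a989, [4, 2]),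
  (nat_lit 0x2518d1486205557ce53c8314b180816d050077261342de22f656ac01bb3ea2b3e252878a456c250cf13118f4f1cc128cce6c2d4ae9aeef0668d4695a68ecac1f1d11dad064a6aec2884372c73f7059e612e9012a2015d5f, [4, 2]),
  (nat_lit 0x6f898271ad100308ced9d5e2a86344b9b35b2547daaa71425250cb4b78c8b8b9f600c6889a6d37c25dc0993a2ba314ae997f8414a0042438222108e5292a56beb1ea3bc7ee2d0f1c2aa7230d94832689e266abab84c4360, [4, 6, 8])]

theorem syl : ∃ S : Subgroup G, SylIn 2 S ⊤ ∧
    (∀ T, (groupFusionSystem S).StronglyClosed T → T = ⊥ ∨ T = S) ∧ normalizer (S : Set G) ≤ centralizer {z} :=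
  perm_par par (n := 7) (ys := ys) (steps := steps) (ws := [[0], [4, 11, 9], [6, 8], [0, 2], [4, 8, 10, 8], [0, 4, 9, 10], [4, 6, 8]]) (by decide)
    (by rw [card]; exact Known.fact_eq Nat.prime_two (by decide) (by decide) (by decide))
    (((isGrp_PRep E par).mapW codes [[8, 0, 12, 10, 2], [12, 4, 4, 14, 8, 8, 2, 14, 2], [10, 4, 14, 10, 2, 14, 12, 4], [8, 8, 6, 14, 4, 8, 8], [4, 14, 8, 8, 12, 8, 14, 4, 4], [8, 14, 0, 14, 2, 12, 14, 2, 14, 6], [10, 4, 14, 0, 14, 4, 8, 0], [4, 10, 14, 4, 4, 10, 14, 8, 2], [14, 6, 8, 12, 2, 14, 4, 10], [4, 2, 14, 10, 6, 2], [12, 10, 14, 8, 6, 14, 4, 10, 12], [2, 12, 14, 12, 8, 2, 14, 8]]).of_subset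
      (by decide +kernel)) (by decide +kernel) (by decide +kernel) rep_z

theorem gen : closure {g : centralizer ({z} : Set G) | (orderOf g).Coprime 2} = ⊤ := by
  have h := closure_pow_sub (le_closure_pow_of_codes (isGrp_CRep E par) (isCanon_CRep E par) (L := Lc) (k := 15)
    (K := centralizer {z}) (le_antisymm ((codesC.toCRep (by decide +kernel)).closure_le (isCanon_CRep E par).func)
      ((closure_eq_of_slpP E par codesC [2, 0, 1] [[3, 1, 3, 3, 0, 3], [3, 1, 5, 3, 3]] 100 cardC
        (by decide +kernel)).ge.trans (closure_mono fun g ⟨c, hc, r⟩ => ⟨c, hc, r, nblt.1 (allL_iff.1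
          (show allL Lc (fun c => Nat.blt c (2 ^ (7 * 100))) = true by decide +kernel) c hc)⟩)))
    (by decide +kernel))
  exact eq_top_iff.2 (h.ge.trans (closure_mono fun g hg =>
    Nat.Coprime.coprime_dvd_left (orderOf_dvd_of_pow_eq_one hg) (by decide)))

theorem model (P : Sylow 2 G) : (groupFusionSystem (P : Subgroup G)).IsSimple 2 := by
  obtain ⟨S, h1, h2, h3⟩ := syl
  obtain ⟨π, k1, -, k3⟩ := cent
  exact simple_of_par_hom h1 h2 π k1 k3.1.1 (by rw [nat_card_alternatingGroup, Nat.card_fin]; decide)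
    (cent_ker_le π k1 k3.1.1 (PGrp.ES_not_comm k3) gen) h3 P

end

/-- For a finite group G isomorphic to the Hall–Janko group J₂ (as constructed in the problem's definitions), the 2-fusion system of G on a Sylow 2-subgroup is simple: saturated, over a nontrivial 2-group, with no normal subsystem other than the trivial one and itself. -/
theorem result {G : Type*} [Group G] [Finite G] (hG : Cfsg.Spor.IsoJ2 G) (S : Sylow 2 G) : (Cfsg.groupFusionSystem (S : Subgroup G)).IsSimple 2 :=
  have := Ico.T.fin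
  Fus.simple_congr (HJ.equivJ2 hG).some.symm model S

end Cfsg.Agent.S5321
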