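import Cfsg.Statements.S5322
import Cfsg.Agent.HJ.J3c
import Cfsg.Agent.HJ.J3s
import Cfsg.Agent.Known.J3Eq
-- import your own Cfsg.Agent.* helpers here

set_option autoImplicit false
open Cfsg

namespace Cfsg.Agent.S5322

/-- For a finite group G isomorphic to the third Janko group J₃, the 2-fusion system of G on a Sylow 2-subgroup is simple: saturated, over a nontrivial 2-group, with no normal subsystem other than the trivial one and itself. -/
theorem result {G : Type*} [Group G] [Finite G] (hG : Cfsg.Spor.IsoJ3 G) (S : Sylow 2 G) : (Cfsg.groupFusionSystem (S : Subgroup G)).IsSimple 2 := by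
  obtain ⟨F, _, _, w, hF, hw, ⟨e⟩⟩ := hG
  obtain ⟨f⟩ := Known.J3T.equiv hF hw
  have M := Known.J3T.mdl.congr (e.trans f)
  obtain ⟨-, π, h1, h2, h3, A, h4⟩ := HJ.J3c.cent M
  exact HJ.J3t.simple (HJ.J3c.ord M) h1 h3 h2 (fun _ _ => HJ.J3c.one M) h4 S

end Cfsg.Agent.S5322
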