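import Cfsg.Statements.S5323
import Cfsg.Agent.Fus.Cert2
import Cfsg.Agent.Leech.Simple
-- import your own Cfsg.Agent.* helpers here

set_option autoImplicit false
open Cfsg

namespace Cfsg.Agent.S5323

section
open Subgroup Cfsg.Agent.Fus Cfsg.Agent.Loc Equiv
open Cfsg.FusionSystem (normalizerIn centralizerIn)

open Cfsg.Agent.Leech Cfsg.Agent.Golay

/-- eight times the trace. -/
def tr (g : CG) : ℤ := ∑ j, ((g • e8 j : LL) : V) j

theorem tr_mul (g h : CG) :
    8 * tr (g * h) = ∑ j, ∑ k, ((h • e8 j : LL) : V) k * ((g • e8 k : LL) : V) j := by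
  rw [tr, Finset.mul_sum]
  refine Finset.sum_congr rfl fun j _ => ?_
  have := congrFun (sum_cols g (h • e8 j)) j
  simpa [Finset.sum_apply, mul_smul] using this.symm

theorem tr_conj (g x : CG) : tr (g * x * g⁻¹) = tr x := by
  have := tr_mul (g * x) g⁻¹
  rw [Finset.sum_comm] at this
  simp only [mul_comm (((g⁻¹ • e8 _ : LL) : V) _)] at this
  rw [← tr_mul, inv_mul_cancel_left] at this
  omega

theorem tr_pm (σ : MG) : tr (pm σ) = 8 * ({a : GolayPt | (σ : Perm GolayPt) • a = a}.ncard : ℤ) := by
  classical
  rw [tr, Set.ncard_eq_toFinset_card', Set.toFinset_setOf, Finset.card_filter]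
  push_cast
  rw [Finset.mul_sum]
  refine Finset.sum_congr rfl fun j _ => ?_
  rw [pm_e8, e8_apply]
  by_cases h : σ • j = j
  · rw [if_pos h.symm, if_pos (show (σ : Perm GolayPt) • j = j from h)]; rfl
  · rw [if_neg (Ne.symm h), if_neg (show ¬ (σ : Perm GolayPt) • j = j from h)]; rfl

end

/-- For a finite group G isomorphic to the McLaughlin group, the 2-fusion system of G on a Sylow 2-subgroup is simple: saturated, over a nontrivial 2-group, with no normal subsystem other than the trivial one and itself. -/
theorem result {G : Type*} [Group G] [Finite G] (hG : Cfsg.Spor.IsoMcL G) (S : Sylow 2 G) : (Cfsg.groupFusionSystem (S : Subgroup G)).IsSimple 2 :=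
  open Subgroup Cfsg.Agent.Fus Cfsg.Agent.Loc Equiv in by
  obtain ⟨e⟩ := hG
  have e' := e.trans Leech.equivMcL.symm
  have hle : Leech.pM Spor.M22 ≤ Leech.St2 Leech.vv Leech.uu := Leech.St3_M22 ▸ inf_le_left
  let φ : Spor.M22 →* Leech.St2 Leech.vv Leech.uu := (Leech.pm.comp (inclusion Golay.M22_le)).codRestrict _ fun x => hle ⟨inclusion Golay.M22_le x, x.2, rfl⟩
  refine perm_simple_of_hom (E := Golay.EG) Golay.par24 (e'.symm.toMonoidHom.comp φ) (e'.symm.injective.comp fun x y h => inclusion_injective _ (Leech.pm_inj (congrArg Subtype.val h))) (fun x y g h => ?_) (n := 7) (f := 4) (W := 800) (ys := [984794144309361592928604374356570752, 984815711694528072641956329919356096, 984652858371083944333035590839972032, 984640170734373929065016576255278592, 962047496298199119813634016006357216, 962750373820247208505083556844120096, 984713093390188445415386470434743936]) (steps := [(983554304768337677648912091398669664, [0]), (963619943755973384331830285753324128, [2]), (967362805367223752877851064449601984, [0])]) (ws := [[0], [2, 6, 2, 6], [2,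 4, 6, 4, 6, 2], [2, 4, 2, 6, 4, 6], [2, 4, 6], [0, 4], [0, 2, 6, 2]]) (sq := [[56], [118], [111], [31]]) (by norm_num) (by norm_num) ?_ (Golay.codes22 (by decide +kernel)) (by decide +kernel) (by decide +kernel) S
  · have h1 : φ y = e' g * φ x * (e' g)⁻¹ := by simpa using congrArg e' h
    have h2 := tr_conj (e' g : Leech.CG) (φ x)
    have h3 : Leech.pm (inclusion Golay.M22_le y) = (e' g : Leech.CG) * Leech.pm (inclusion Golay.M22_le x) * (e' g : Leech.CG)⁻¹ := congrArg Subtype.val h1
    have h4 := tr_pm (inclusion Golay.M22_le y)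
    rw [h3, tr_conj, tr_pm] at h4
    simp only [coe_inclusion] at h4
    omega
  · rw [Nat.card_congr e'.toEquiv, Leech.card_McL, show 898128000 = 2 ^ 7 * 7016625 from rfl, Nat.factorization_mul (by norm_num) (by norm_num), Nat.Prime.factorization_pow Nat.prime_two, Finsupp.add_apply, Finsupp.single_eq_same, Nat.factorization_eq_zero_of_not_dvd (by norm_num)]

end Cfsg.Agent.S5323
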