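import Cfsg.Statements.S5379
import Cfsg.Agent.S1719
import Cfsg.Agent.SuzR.G2
-- import your own Cfsg.Agent.* helpers here

set_option autoImplicit false
open Cfsg

namespace Cfsg.Agent.S5379

/-- Let G be a finite group of Suzuki sporadic type: it has an involution z whose centralizer C has generalized Fitting subgroup Q extraspecial of order 2^7 with C/Q isomorphic to the commutator subgroup of the isometry group of the elliptic quadratic form in dimension 6 over the field with two elements, and some conjugate of z other than z lies in Q. Then G has exactly two conjugacy classes of involutions. -/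
theorem result {G : Type*} [Group G] [Finite G] (z : G) (hz : orderOf z = 2) (Q : Subgroup (Subgroup.centralizer ({z} : Set G))) [Q.Normal] (hF : Cfsg.generalizedFittingSubgroup (Subgroup.centralizer ({z} : Set G)) = Q) (hQ : Cfsg.IsExtraspecial 2 Q) (hcard : Nat.card Q = 2 ^ 7) (e : (Subgroup.centralizer ({z} : Set G)) ⧸ Q ≃* Cfsg.Omega (ZMod 2) (Cfsg.quadFormMinus 2 (ZMod 2) 1 1)) (hnwc : ∃ g : G, (∃ hq : g * z * g⁻¹ ∈ Subgroup.centralizer ({z} : Set G), (⟨g * z * g⁻¹, hq⟩ : Subgroup.centralizer ({z} : Set G)) ∈ Q) ∧ g * z * g⁻¹ ≠ z) : ∃ a b : G, orderOf a = 2 ∧ orderOf b = 2 ∧ ¬ IsConj a b ∧ ∀ x : G, orderOf x = 2 → IsConj x a ∨ IsConj x b := by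
  obtain ⟨φ, y, M, -⟩ := SuzR.exists_md0 (Cfsg.Agent.S1719.result z hz Q hF hQ hcard e hnwc) hz hcard e
  have h : ∀ x : G, orderOf x = 2 → IsConj x (y 0) ∨ IsConj x (y 4) := fun x hx =>
    ((SuzR.G1.inv_cl M (w := x) (by rw [← sq, ← hx, pow_orderOf_eq_one])).resolve_left fun h => by
      rw [h, orderOf_one] at hx; omega).imp IsConj.symm IsConj.symm
  exact ⟨y 0, y 4, orderOf_eq_prime (by rw [sq, SuzR.G1.a_sq M]) (SuzR.G1.a_ne M),
    by simpa using SuzR.ord_of M (w := [4]) (a := 0) Nat.prime_two (by decide +kernel), SuzR.G1.nc M, h⟩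

end Cfsg.Agent.S5379
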