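import Cfsg.Statements.S5381
import Cfsg.Agent.Co1R.R
import Cfsg.Agent.S1719
import Cfsg.Agent.S1694
import Cfsg.Agent.SuzR.G2

set_option autoImplicit false
open Cfsg

namespace Cfsg.Agent.S5381

/-- Let G be a finite group of Conway type (involution z with generalized Fitting subgroup Q of its centralizer C extraspecial of order 2^9, C/Q the commutator subgroup of the isometry group of the hyperbolic quadratic form in dimension 8 over the field with two elements, z not weakly closed in Q), and let X be a subgroup of C of order 3 whose commutator subgroup with Q is non-abelian of order 8, contained in an elementary abelian subgroup Y of C of order 9 whose centralizer in Q is extraspecial of order 32 containing an elementary abelian subgroup of order 8. Then the centralizer of X in G is quasisimple and its quotient by X is isomorphic to the presented sporadic Suzuki group. -/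
theorem result {G : Type*} [Group G] [Finite G] (z : G) (hz : orderOf z = 2) (Q : Subgroup (Subgroup.centralizer ({z} : Set G))) [Q.Normal] (hF : Cfsg.generalizedFittingSubgroup (Subgroup.centralizer ({z} : Set G)) = Q) (hQ : Cfsg.IsExtraspecial 2 Q) (hcard : Nat.card Q = 2 ^ 9) (e : (Subgroup.centralizer ({z} : Set G)) ⧸ Q ≃* Cfsg.Omega (ZMod 2) (Cfsg.quadFormPlus 4 (ZMod 2))) (hnwc : ∃ g : G, (∃ hq : g * z * g⁻¹ ∈ Subgroup.centralizer ({z} : Set G), (⟨g * z * g⁻¹, hq⟩ : Subgroup.centralizer ({z} : Set G)) ∈ Q) ∧ g * z * g⁻¹ ≠ z) (X : Subgroup (Subgroup.centralizer ({z} : Set G))) (hX : Nat.card X = 3) (hQX : Nat.card ↥⁅Q, X⁆ = 8) (hQXna : ¬ IsMulCommutative ↥⁅Q, X⁆) (Y₉ : Subgroup (Subgroup.centralizer ({z} : Set G))) (hXY : X ≤ Y₉) (hY₉ : Nat.card Y₉ = 9) (hY₉e : ∀ y ∈ Y₉, y ^ 3 = 1) (hCQ₉ : Cfsg.IsExtraspecial 2 ↥(Q ⊓ Subgroup.centralizer (Y₉ : Set (Subgroup.centralizer ({z} : Set G))))) (hCQ₉c : Nat.card ↥(Q ⊓ Subgroup.centralizer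 (Y₉ : Set (Subgroup.centralizer ({z} : Set G)))) = 32) (hCQ₉p : ∃ A : Subgroup (Subgroup.centralizer ({z} : Set G)), A ≤ Q ⊓ Subgroup.centralizer (Y₉ : Set (Subgroup.centralizer ({z} : Set G))) ∧ Cfsg.IsElementaryAbelian 2 A ∧ Nat.card A = 8) [((X.map (Subgroup.subtype (Subgroup.centralizer ({z} : Set G)))).subgroupOf (Subgroup.centralizer ((X.map (Subgroup.subtype (Subgroup.centralizer ({z} : Set G)))) : Set G))).Normal] : Cfsg.IsQuasisimple ↥(Subgroup.centralizer ((X.map (Subgroup.subtype (Subgroup.centralizer ({z} : Set G)))) : Set G)) ∧ Cfsg.Spor.IsoSuz (↥(Subgroup.centralizer ((X.map (Subgroup.subtype (Subgroup.centralizer ({z} : Set G)))) : Set G)) ⧸ (X.map (Subgroup.subtype (Subgroup.centralizer ({z} : Set G)))).subgroupOf (Subgroup.centralizer ((X.map (Subgroup.subtype (Subgroup.centralizer ({z} : Set G)))) : Set G))) := by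
  open Cfsg.Agent.Co1T Cfsg.Agent.Co1R Cfsg.Agent.Co1A Cfsg.Agent.BG Cfsg.Agent.Mon Subgroup Module in
  rename_i inst
  obtain ⟨⟨p, μ, F⟩, hf⟩ := fr_of ⟨hz, hF, hQ, hcard, hnwc⟩ e
  obtain ⟨a, -, rfl⟩ := exists_zpowers_of_prime (Q := X) (hX ▸ Nat.prime_three)
  have ho : orderOf a.1 = 3 := by rwa [orderOf_coe, ← Nat.card_zpowers]
  have l : (⁅Q, zpowers a⁆).map (Subgroup.subtype _) ≤ Q.map (Subgroup.subtype _) := map_mono (commutator_le_left _ _)
  have zP : z ∈ (⁅Q, zpowers a⁆).map (Subgroup.subtype _) := by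
    by_contra n
    refine hQXna ⟨⟨fun x y => Subtype.ext (Subtype.ext (LES.cj_eq_iff_comm.1
      ((F.es.comm _ (l ⟨_, x.2, rfl⟩) _ (l ⟨_, y.2, rfl⟩)).resolve_right fun e => n ?_)))⟩⟩
    exact (Subgroup.mul_mem_cancel_left _ (mem_map_of_mem _ y.2)).1 (e ▸ mem_map_of_mem _ (x * y * x⁻¹).2)
  have c := F.card_im zP
  rw [inf_eq_left.2 l, card_map_subtype, hQX] at c
  have r := ((μ a).1.toLinearMap - LinearMap.id).finrank_range_add_finrank_ker
  have r' : finrank (ZMod 2) (LinearMap.range ((μ a).1.toLinearMap - LinearMap.id)) ≤ _ := Submodule.finrank_mono (by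
    rintro _ ⟨w, rfl⟩
    obtain ⟨_, ⟨q, h, rfl⟩, rfl⟩ := F.surj w
    have hq := mem_map_of_mem (Subgroup.subtype _) h
    have m := mem_map_of_mem (Subgroup.subtype _) (commutator_comm _ Q ▸ commutator_mem_commutator (mem_zpowers a) h)
    exact ⟨_, ⟨m, l m⟩, (F.add (F.conj a hq) (inv_mem hq)).trans (by rw [F.inv hq, F.act a _ hq, ← W_sub]; rfl)⟩ :
      _ ≤ F.im ((⁅Q, zpowers a⁆).map (Subgroup.subtype _)))
  obtain ⟨σ, -, k⟩ := conj3 (mu_ne F Nat.prime_three (by decide) ho a.2).1 (mu_ne F Nat.prime_three (by decide) ho a.2).2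
    (U := LinearMap.ker ((μ a).1.toLinearMap - LinearMap.id)) (fun w hw => sub_eq_zero.1 (LinearMap.mem_ker.1 hw)) (by
      have := (Nat.pow_le_pow_iff_right (a := 2) (m := 2) (by decide)).1 (Nat.le_of_mul_le_mul_left c.le two_pos)
      rw [rk] at r; omega)
  revert inst
  rw [show (zpowers a).map (Subgroup.subtype _) = zpowers a.1 from MonoidHom.map_zpowers _ _]
  intro inst
  have := simple2
  obtain ⟨zD, hN, ⟨h1, h2, h3, h4, h5⟩, ⟨s⟩⟩ := setting (F.twist σ) std3 a.2 k Nat.prime_three (by decide) ho hf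
    (card_L2 ▸ by decide) two_ne_zero
  obtain ⟨s⟩ := S1719.result _ h1 _ h2 h3 h4 s h5
  obtain ⟨b, hb, ob, cb, x, hx, y, hy, e⟩ := dat3
  obtain ⟨f, hf⟩ := conjD (F.twist σ) hf (d := 6) Nat.prime_three (by decide) conj3 hb ob cb a.2 ho k
  have m : ∀ x ∈ C1[b], f x ∈ C[zpowers a.1] := fun x hx => mem_CB.2 (hf ▸ Commute.map (mem_cent1.1 hx).symm f)
  have := S1694.result.1
  refine ⟨SuzR.qs_of_quot (Comp.not_comm_of_card S1694.result.2 (by norm_num)) s
    (fun u hu => mem_center_iff.2 fun v => Subtype.ext (mem_cent.1 v.2 _ hu).symm) fun u ⟨n, hu⟩ => ?_, ⟨s⟩⟩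
  have k : (⟨_, m x hx⟩ * ⟨_, m y hy⟩ * ⟨_, m x hx⟩⁻¹ * ⟨_, m y hy⟩⁻¹ : C[zpowers a.1]) ∈ commutator _ :=
    commutator_mem_commutator (mem_top _) (mem_top _)
  have e' : a.1 = (f x * f y * (f x)⁻¹ * (f y)⁻¹) ^ 22 := by simp only [← map_inv, ← map_mul, ← map_pow, e, hf]
  have : u = ((⟨_, m x hx⟩ * ⟨_, m y hy⟩ * ⟨_, m x hx⟩⁻¹ * ⟨_, m y hy⟩⁻¹) ^ 22) ^ n :=
    Subtype.ext (hu.symm.trans (congrArg (· ^ n) e'))
  exact this ▸ zpow_mem (pow_mem k _) _

end Cfsg.Agent.S5381
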