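import Cfsg.Statements.S5385
import Cfsg.Agent.Co1R.R
import Cfsg.Agent.HJ.Main
import Cfsg.Agent.SuzR.G2

set_option autoImplicit false
open Cfsg

namespace Cfsg.Agent.S5385

/-- Let G be a finite group of Conway type (involution z with generalized Fitting subgroup Q of its centralizer C extraspecial of order 2^9, C/Q the commutator subgroup of the isometry group of the hyperbolic quadratic form in dimension 8 over the field with two elements, z not weakly closed in Q), and let B be a subgroup of C of order 5 such that the centralizer of B in Q is extraspecial of order 32 containing no elementary abelian subgroup of order 8 (the quaternion-times-dihedral type). Then the layer L of the centralizer of B in G is isomorphic to the Hall–Janko group and the centralizer of L is isomorphic to the alternating group of degree 5. -/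
theorem result {G : Type*} [Group G] [Finite G] (z : G) (hz : orderOf z = 2) (Q : Subgroup (Subgroup.centralizer ({z} : Set G))) [Q.Normal] (hF : Cfsg.generalizedFittingSubgroup (Subgroup.centralizer ({z} : Set G)) = Q) (hQ : Cfsg.IsExtraspecial 2 Q) (hcard : Nat.card Q = 2 ^ 9) (e : (Subgroup.centralizer ({z} : Set G)) ⧸ Q ≃* Cfsg.Omega (ZMod 2) (Cfsg.quadFormPlus 4 (ZMod 2))) (hnwc : ∃ g : G, (∃ hq : g * z * g⁻¹ ∈ Subgroup.centralizer ({z} : Set G), (⟨g * z * g⁻¹, hq⟩ : Subgroup.centralizer ({z} : Set G)) ∈ Q) ∧ g * z * g⁻¹ ≠ z) (B : Subgroup (Subgroup.centralizer ({z} : Set G))) (hB : Nat.card B = 5) (hCQ : Cfsg.IsExtraspecial 2 ↥(Q ⊓ Subgroup.centralizer (B : Set (Subgroup.centralizer ({z} : Set G))))) (hCQcard : Nat.card ↥(Q ⊓ Subgroup.centralizer (B : Set (Subgroup.centralizer ({z} : Set G)))) = 32) (hminus : ∀ A : Subgroup (Subgroup.centralizer ({z} : Set G)), A ≤ Q ⊓ Subgroup.centralizer (B : Set (Subgroup.centralizer ({z} : Set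 G))) → Cfsg.IsElementaryAbelian 2 A → Nat.card A ≤ 4) : Cfsg.Spor.IsoJ2 ↥(Cfsg.layer ↥(Subgroup.centralizer ((B.map (Subgroup.subtype (Subgroup.centralizer ({z} : Set G)))) : Set G))) ∧ Nonempty (↥(Subgroup.centralizer (((Cfsg.layer ↥(Subgroup.centralizer ((B.map (Subgroup.subtype (Subgroup.centralizer ({z} : Set G)))) : Set G))).map (Subgroup.subtype _)) : Set G)) ≃* alternatingGroup (Fin 5)) := by
  open Cfsg.Agent.Co1T Cfsg.Agent.Co1R Cfsg.Agent.Co1A Cfsg.Agent.BG Cfsg.Agent.Mon Subgroup in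
  obtain ⟨⟨p, μ, F⟩, hf⟩ := fr_of ⟨hz, hF, hQ, hcard, hnwc⟩ e
  obtain ⟨a, -, rfl⟩ := exists_zpowers_of_prime (Q := B) (hB ▸ Nat.prime_five)
  have ho : orderOf a.1 = 5 := by rwa [orderOf_coe, ← Nat.card_zpowers]
  obtain ⟨U, u1, u2⟩ := fixU F a.2 (d := 4) (((card_map_subtype _).trans hCQcard).ge.trans (card_le_card (by
    rintro _ ⟨x, hx, rfl⟩
    exact ⟨mem_cent1.2 (congrArg Subtype.val (mem_CB.1 hx.2).symm.eq), x, hx.1, rfl⟩)))
  obtain ⟨σ, -, k⟩ := conj5 (mu_ne F Nat.prime_five (by decide) ho a.2).1 (mu_ne F Nat.prime_five (by decide) ho a.2).2 u1 u2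
  rw [show (zpowers a).map (Subgroup.subtype _) = zpowers a.1 from MonoidHom.map_zpowers _ _]
  have : ((zpowers a.1).subgroupOf C[zpowers a.1]).Normal := ⟨fun n hn g => by
    rwa [show g * n * g⁻¹ = n from Subtype.ext (mul_inv_eq_iff_eq_mul.2 (mem_cent.1 g.2 _ hn).symm)]⟩
  have := simple1
  obtain ⟨zD, hN, ⟨h1, h2, h3, h4, g, ⟨h5, -⟩, h6⟩, ⟨s⟩⟩ := setting (F.twist σ) std5 a.2 k Nat.prime_five (by decide) ho hf
    (card_L1 ▸ by decide) one_ne_zero
  obtain ⟨b, hb, ob, cb, φ, i, bφ, cφ⟩ := dat5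
  obtain ⟨f, hf⟩ := conjD (F.twist σ) hf (d := 4) Nat.prime_five (by decide) conj5 hb ob cb a.2 ho k
  obtain ⟨⟨j⟩, -⟩ := (HJ.master' h1 _ h3 h4 (h2 ▸ S1265.result) (HJ.card_cent _ h4 s HJ.card_omega) h5 h6
    (isConj_iff.2 ⟨g, rfl⟩)).resolve_right fun h => absurd (h.2.1 ▸ (card_quotient_dvd_card _).trans
      ((card_subgroup_dvd_card _).trans ((Nat.card_congr f.toEquiv).symm.trans Leech.card_Co1).dvd)) (by norm_num)
  let ψ := f.toMonoidHom.comp φ
  have iψ : Function.Injective ψ := f.injective.comp i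
  have aA : zpowers a.1 ≤ ψ.range := zpowers_le.2 (let ⟨u, e⟩ := bφ; ⟨u, (congrArg f e).trans hf⟩)
  have lK : C[ψ.range] ≤ C[zpowers a.1] := centralizer_le aA
  let θ := (QuotientGroup.mk' ((zpowers a.1).subgroupOf C[zpowers a.1])).comp (inclusion lK)
  have bθ : Function.Bijective θ := ((injective_iff_map_eq_one θ).2 fun x hx => by
      obtain ⟨u, e⟩ := aA (mem_subgroupOf.1 ((QuotientGroup.eq_one_iff (inclusion lK x)).1 hx))
      have : u = 1 := mem_bot.1 (alternatingGroup.center_eq_bot (α := Fin 5) (by simp) ▸ mem_center_iff.2 fun v => iψ (by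
        rw [map_mul, map_mul, e]; exact mem_cent.1 x.2 _ ⟨v, rfl⟩))
      exact Subtype.ext (e.symm.trans (this ▸ map_one ψ))).bijective_of_nat_card_le
    (((Nat.card_congr j.toEquiv).trans Ico.card_J2).trans_le (cφ.trans
      ((card_map_of_injective (f := f.toMonoidHom) f.injective).ge.trans (card_le_card (by
        rintro _ ⟨x, hx, rfl⟩ _ ⟨u, rfl⟩
        exact Commute.map (hx _ ⟨u, rfl⟩) f)))))
  have eL := (MulEquiv.ofBijective θ bθ).trans j
  have d : ∀ x ∈ C[zpowers a.1], ∃ l ∈ C[ψ.range], ∃ t ∈ zpowers a.1, x = l * t := fun x hx => by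
    obtain ⟨l, e⟩ := bθ.2 (QuotientGroup.mk ⟨x, hx⟩)
    exact ⟨l, l.2, _, mem_subgroupOf.1 (QuotientGroup.eq.1 e), (mul_inv_cancel_left _ _).symm⟩
  have n : ∀ x ∈ C[zpowers a.1], ∀ y ∈ C[ψ.range], x * y * x⁻¹ ∈ C[ψ.range] := fun x hx y hy => by
    obtain ⟨l, hl, t, ht, rfl⟩ := d x hx
    rw [mul_assoc l, mem_cent.1 (lK hy) t ht, show l * (y * t) * (l * t)⁻¹ = l * y * l⁻¹ by group]
    exact mul_mem (mul_mem hl hy) (inv_mem hl)
  have := Ico.simple_J2
  have na := Comp.not_comm_of_card Ico.card_J2 (by norm_num)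
  have eL' := (subgroupOfEquivOfLe lK).trans eL
  have hL : layer C[zpowers a.1] = C[ψ.range].subgroupOf _ := le_antisymm (sSup_le fun E hE => by
      rw [← (isPerfect_iff.1 hE.2.1 : ⁅E, E⁆ = E)]
      refine commutator_le.2 fun x _ y _ => ?_
      obtain ⟨l, hl, t, ht, e⟩ := d _ y.2
      show x.1 * y * x.1⁻¹ * y.1⁻¹ ∈ C[ψ.range]
      rw [e, ← mul_assoc, mul_assoc _ t, mem_cent.1 (inv_mem x.2) t ht,
        show x * l * (x.1⁻¹ * t) * (l * t)⁻¹ = x * l * x.1⁻¹ * l⁻¹ by group]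
      exact mul_mem (n _ x.2 _ hl) (inv_mem hl))
    (le_sSup ⟨Normal.isSubnormal ⟨fun y hy x => n _ x.2 _ hy⟩,
      SuzR.qs_of_quot na (QuotientGroup.quotientBot.trans eL') bot_le bot_le⟩)
  rw [hL, map_subgroupOf_eq_of_le lK]
  have w : ∀ q ∈ Q.map (Subgroup.subtype _) ⊓ C[zpowers a.1], q ∈ C[ψ.range] := fun q hq => by
    obtain ⟨l, hl, t, ht, e⟩ := d q hq.2
    have : q ^ 4 = 1 := by
      rw [show 4 = 2 * 2 from rfl, pow_mul, pow_two, pow_two]
      rcases F.es.sq _ hq.1 with f | f <;> rw [f] <;> simp [F.es.zz]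
    rw [← one_mul q, ← this, ← pow_succ, e, Commute.mul_pow (mem_cent.1 (lK hl) t ht).symm,
      show t ^ (4 + 1) = 1 from orderOf_dvd_iff_pow_eq_one.1 ((orderOf_dvd_of_mem_zpowers ht).trans ho.dvd), mul_one]
    exact pow_mem hl _
  have zL := w z ⟨F.es.zQ, zD⟩
  have AY : ψ.range ≤ C[C[ψ.range]] := le_centralizer_iff.1 le_rfl
  have := eL.isSimpleGroup
  rw [← eq_of_le_of_card_ge AY ((card_cc (F.twist σ) a.2 k ho (fun h => ?_) (AY (aA (mem_zpowers _))) (cent_le_cent1 zL)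
    fun y hy q hq => (mem_cent.1 hy q (w q hq)).symm).trans
      (HJ.card_a5.symm.trans (Nat.card_congr (MonoidHom.ofInjective iψ).toEquiv)).le)]
  · exact ⟨⟨eL'⟩, ⟨(MonoidHom.ofInjective iψ).symm⟩⟩
  · rcases (inferInstance : (center C[ψ.range]).Normal).eq_bot_or_eq_top with e | e
    · exact F.es.z1 (congrArg Subtype.val (mem_bot.1 (e.le (x := ⟨z, zL⟩) (mem_center_iff.2 fun y => Subtype.ext (h _ y.2)))))
    · exact na ⟨⟨fun x y => eL.symm.injective (by rw [map_mul, map_mul]; exact mem_center_iff.1 (e.ge (mem_top _)) _)⟩⟩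

end Cfsg.Agent.S5385
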