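import Cfsg.Statements.S5386
import Cfsg.Agent.Co1T.Main
import Cfsg.Agent.Co1R.A7

set_option autoImplicit false
open Cfsg

namespace Cfsg.Agent.S5386

/-- Let G be a finite group of Conway type (involution z with generalized Fitting subgroup Q of its centralizer C extraspecial of order 2^9, C/Q the commutator subgroup of the isometry group of the hyperbolic quadratic form in dimension 8 over the field with two elements, z not weakly closed in Q). Then G has a subgroup V of order 7 whose centralizer is isomorphic to the direct product of a cyclic group of order 7 and the alternating group of degree 7, and a subgroup W of order 3 whose normalizer is isomorphic to the direct product of the symmetric group of degree 3 and the alternating group of degree 9. -/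
theorem result {G : Type*} [Group G] [Finite G] (z : G) (hz : orderOf z = 2) (Q : Subgroup (Subgroup.centralizer ({z} : Set G))) [Q.Normal] (hF : Cfsg.generalizedFittingSubgroup (Subgroup.centralizer ({z} : Set G)) = Q) (hQ : Cfsg.IsExtraspecial 2 Q) (hcard : Nat.card Q = 2 ^ 9) (e : (Subgroup.centralizer ({z} : Set G)) ⧸ Q ≃* Cfsg.Omega (ZMod 2) (Cfsg.quadFormPlus 4 (ZMod 2))) (hnwc : ∃ g : G, (∃ hq : g * z * g⁻¹ ∈ Subgroup.centralizer ({z} : Set G), (⟨g * z * g⁻¹, hq⟩ : Subgroup.centralizer ({z} : Set G)) ∈ Q) ∧ g * z * g⁻¹ ≠ z) : (∃ V : Subgroup G, Nat.card V = 7 ∧ Nonempty (↥(Subgroup.centralizer (V : Set G)) ≃* Multiplicative (ZMod 7) × alternatingGroup (Fin 7))) ∧ ∃ W : Subgroup G, Nat.card W = 3 ∧ Nonempty (↥(Subgroup.normalizer (W : Set G)) ≃* Equiv.Perm (Fin 3) × alternatingGroup (Fin 9)) := by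
  open Cfsg.Agent.Co1T Cfsg.Agent.Co1R Subgroup in
  obtain ⟨f, -⟩ := main ⟨hz, hF, hQ, hcard, hnwc⟩ e
  obtain ⟨V, hV, ⟨eV⟩⟩ := loc7
  obtain ⟨W, hW, ⟨eW⟩⟩ := loc3
  have c : ∀ K : Subgroup CC, Nonempty (K.map f.symm.toMonoidHom ≃* K) := fun K =>
    ⟨(equivMapOfInjective K _ f.symm.injective).symm⟩
  have hC : centralizer ((V.map f.symm.toMonoidHom : Subgroup G) : Set G) = (centralizer (V : Set CC)).map f.symm.toMonoidHom := by
    ext g
    rw [mem_map_equiv, mem_centralizer_iff, mem_centralizer_iff]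
    refine ⟨fun h v hv => f.symm.injective (by simpa using h _ ⟨v, hv, rfl⟩), ?_⟩
    rintro h _ ⟨v, hv, rfl⟩
    exact f.injective (by simpa using h v hv)
  refine ⟨⟨V.map f.symm.toMonoidHom, (Nat.card_congr (c V).some.toEquiv).trans hV, ?_⟩,
    W.map f.symm.toMonoidHom, (Nat.card_congr (c W).some.toEquiv).trans hW, ?_⟩
  · rw [hC]; exact ⟨(c _).some.trans eV⟩
  · rw [← map_equiv_normalizer_eq]; exact ⟨(c _).some.trans eW⟩

end Cfsg.Agent.S5386
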