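import Cfsg.Statements.S5397
import Cfsg.Agent.Co1T.Main

set_option autoImplicit false
open Cfsg

namespace Cfsg.Agent.S5397

/-- Let G be a finite group of Conway type (involution z with generalized Fitting subgroup Q of its centralizer C extraspecial of order 2^9, C/Q the commutator subgroup of the isometry group of the hyperbolic quadratic form in dimension 8 over the field with two elements, z not weakly closed in Q). Then G has an elementary abelian subgroup A of order 2^11 containing z whose normalizer N is a split extension of A with N/A isomorphic to the automorphism group of the length-24 code built from the squares modulo 23, and N has exactly two orbits on the non-identity elements of A. -/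
theorem result {G : Type*} [Group G] [Finite G] (z : G) (hz : orderOf z = 2) (Q : Subgroup (Subgroup.centralizer ({z} : Set G))) [Q.Normal] (hF : Cfsg.generalizedFittingSubgroup (Subgroup.centralizer ({z} : Set G)) = Q) (hQ : Cfsg.IsExtraspecial 2 Q) (hcard : Nat.card Q = 2 ^ 9) (e : (Subgroup.centralizer ({z} : Set G)) ⧸ Q ≃* Cfsg.Omega (ZMod 2) (Cfsg.quadFormPlus 4 (ZMod 2))) (hnwc : ∃ g : G, (∃ hq : g * z * g⁻¹ ∈ Subgroup.centralizer ({z} : Set G), (⟨g * z * g⁻¹, hq⟩ : Subgroup.centralizer ({z} : Set G)) ∈ Q) ∧ g * z * g⁻¹ ≠ z) : ∃ A : Subgroup G, Cfsg.IsElementaryAbelian 2 A ∧ Nat.card A = 2 ^ 11 ∧ z ∈ A ∧ ∃ _ : (A.subgroupOf (Subgroup.normalizer (A : Set G))).Normal, Nonempty (↥(Subgroup.normalizer (A : Set G)) ⧸ A.subgroupOf (Subgroup.normalizer (A : Set G)) ≃* ↥Cfsg.M24) ∧ (∃ K : Subgroup ↥(Subgroup.normalizer (A : Set G)), (A.subgroupOf (Subgroup.normalizer (A : Set G))).IsComplement' K) ∧ ∃ a ∈ A, ∃ b ∈ A, a ≠ 1 ∧ b ≠ 1 ∧ (∀ n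 ∈ Subgroup.normalizer (A : Set G), n * a * n⁻¹ ≠ b) ∧ ∀ c ∈ A, c ≠ 1 → ∃ n ∈ Subgroup.normalizer (A : Set G), n * c * n⁻¹ = a ∨ n * c * n⁻¹ = b := by
  open Cfsg.Agent.Co1T Subgroup in
  obtain ⟨f, hf⟩ := main ⟨hz, hF, hQ, hcard, hnwc⟩ e
  have hN : normalizer ((V0.map f.symm.toMonoidHom : Subgroup G) : Set G) = N0.map f.symm.toMonoidHom := by
    rw [← map_equiv_normalizer_eq, norm_V0]
  obtain ⟨h1, -, h3, h4, K, h5, h6, h7, ⟨eK⟩⟩ := Mon.shape_Co1.map f.symm.toMonoidHom f.symm.injective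
  change V0.map _ ≤ N0.map _ at h1
  change IsElementaryAbelian 2 (V0.map _) at h3
  change Nat.card (V0.map _) = _ at h4
  change K ≤ N0.map _ at h5
  change V0.map _ ⊓ K = ⊥ at h6
  change V0.map _ ⊔ K = N0.map _ at h7
  rw [← hN] at h1 h5 h7
  have hc : ((V0.map f.symm.toMonoidHom).subgroupOf (normalizer ((V0.map f.symm.toMonoidHom : Subgroup G) : Set G))).IsComplement'
      (K.subgroupOf _) := isComplement'_of_disjoint_and_mul_eq_univ
    (by rw [disjoint_iff, subgroupOf, subgroupOf, ← comap_inf, h6]; exact bot_subgroupOf _)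
    (by rw [← normal_mul, ← subgroupOf_sup h1 h5, h7, subgroupOf_self, coe_top])
  refine ⟨_, h3, h4, ⟨z0, z0_V, by simp [← hf]⟩, inferInstance,
    ⟨(hc.symm.QuotientMulEquiv.trans (subgroupOfEquivOfLe h5)).trans eK⟩, ⟨_, hc⟩, _, ⟨z0, z0_V, rfl⟩, _, ⟨t0, t0_V, rfl⟩,
    fun e => ?_, fun e => ?_, fun n _ e => not_conj_z0_t0 (isConj_iff.2 ⟨f n, by simpa using congrArg f e⟩), ?_⟩
  · exact absurd (orderOf_eq_one_iff.2 (by simpa using e)) (by rw [ord_z0]; decide)
  · exact absurd (orderOf_eq_one_iff.2 (by simpa using e)) (by rw [ord_t0]; decide)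
  rintro _ ⟨c, hc, rfl⟩ h
  rw [hN]
  rcases V0_orb c hc with rfl | ⟨k, hk, rfl⟩ | ⟨k, hk, rfl⟩
  · exact absurd (map_one _) h
  · exact ⟨_, ⟨k⁻¹, N0.inv_mem hk, rfl⟩, Or.inl (by simp [mul_assoc])⟩
  · exact ⟨_, ⟨k⁻¹, N0.inv_mem hk, rfl⟩, Or.inr (by simp [mul_assoc])⟩

end Cfsg.Agent.S5397
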