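import Cfsg.Statements.S5405
import Cfsg.Agent.Small.H1O

set_option autoImplicit false
open scoped MatrixGroups
open Cfsg

namespace Cfsg.Agent.S5405

open Cfsg.Agent.Small.H1O Cfsg.Agent.Geom Cfsg.Agent.Geom.Formed Cfsg.Agent.Classical Matrix

def M {ι : Type} (e : ι → ℕ) (l : List (List ℕ)) : Matrix ι ι (ZMod 2) :=
  Matrix.of fun i j => ((l.getD (e i) []).getD (e j) 0 : ℕ)

theorem T_of {ι : Type} [Fintype ι] [DecidableEq ι] {Q : QuadraticForm (ZMod 2) (ι → ZMod 2)}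
    (A : Matrix ι ι (ZMod 2)) (h : A * A = A + 1) (hq : ∀ v, Q (A *ᵥ v) = Q v) : ∃ a : OG Q, T a := by
  obtain ⟨a, ha⟩ := exists_og A (A + 1 + A + 1 + (A + 1)) (by
    have : A + 1 + A + 1 + (A + 1) = A + 1 := by ext i j; simp only [Matrix.add_apply]; generalize A i j = x; generalize (1 : Matrix ι ι (ZMod 2)) i j = y; revert x y; decide
    rw [this, mul_add, h, mul_one]
    ext i j; simp only [Matrix.add_apply]; generalize A i j = x; generalize (1 : Matrix ι ι (ZMod 2)) i j = y; revert x y; decide) hq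
  exact ⟨a, fun v => by rw [← omat_mulVec, ← omat_mulVec, ha, mulVec_mulVec, h, add_mulVec, one_mulVec]⟩

def e8 : Fin 4 ⊕ Fin 4 → ℕ := Sum.elim (fun i => i) fun i => 4 + i
def e6 : (Fin 2 ⊕ Fin 2) ⊕ Fin 2 → ℕ := Sum.elim (Sum.elim (fun i => i) fun i => 2 + i) fun i => 4 + i
def e4 : (Fin 1 ⊕ Fin 1) ⊕ Fin 2 → ℕ := Sum.elim (Sum.elim (fun i => i) fun i => 1 + i) fun i => 2 + i

def A8 := M e8 [[0,1,0,0,0,0,0,0],[1,1,0,0,0,0,0,0],[0,0,0,1,0,0,0,0],[0,0,1,1,0,0,0,0],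
  [0,0,0,0,1,1,0,0],[0,0,0,0,1,0,0,0],[0,0,0,0,0,0,1,1],[0,0,0,0,0,0,1,0]]
def A6 := M e6 [[0,1,0,0,0,0],[1,1,0,0,0,0],[0,0,1,1,0,0],[0,0,1,0,0,0],[0,0,0,0,0,1],[0,0,0,0,1,1]]
def A4 := M e4 [[1,1,1,0],[1,0,0,0],[1,0,0,1],[0,0,1,0]]
def T4 := M e4 [[1,1,1,0],[0,1,0,0],[0,0,1,0],[0,1,0,1]]
def S4 := M e4 [[1,1,0,1],[0,1,0,0],[0,1,1,0],[0,0,0,1]]
def u4 : (Fin 1 ⊕ Fin 1) ⊕ Fin 2 → ZMod 2 := fun i => ([0,0,0,1].getD (e4 i) 0 : ℕ)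
def d4 : (Fin 1 ⊕ Fin 1) ⊕ Fin 2 → ZMod 2 := fun i => ([1,0,1,0].getD (e4 i) 0 : ℕ)

theorem q8 : ∀ v, quadFormPlus 4 (ZMod 2) (A8 *ᵥ v) = quadFormPlus 4 (ZMod 2) v := by decide +kernel
theorem q6 : ∀ v, quadFormMinus 2 (ZMod 2) 1 1 (A6 *ᵥ v) = quadFormMinus 2 (ZMod 2) 1 1 v := by decide +kernel
theorem q4 : ∀ v, quadFormMinus 1 (ZMod 2) 1 1 (A4 *ᵥ v) = quadFormMinus 1 (ZMod 2) 1 1 v := by decide +kernel

set_option synthInstance.maxSize 2000 in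
theorem k4 : ∀ w, S4 *ᵥ w = w → 0 = 0 + A4 *ᵥ w + (A4 * T4) *ᵥ (0 + A4 *ᵥ w + (A4 * T4) *ᵥ (0 + A4 *ᵥ w)) →
    0 = w + T4 *ᵥ w → w = 0 := by decide +kernel

theorem hab : ∀ z₁ z₂ : ZMod 2, z₁ ^ 2 + 1 * z₁ * z₂ + 1 * z₂ ^ 2 = 0 → z₁ = 0 ∧ z₂ = 0 := by decide

abbrev Q4 := quadMinus (ZMod 2) 1 1 1

theorem rf4 {u : (Fin 1 ⊕ Fin 1) ⊕ Fin 2 → ZMod 2} (hu : quadFormMinus 1 (ZMod 2) 1 1 u = 1) (x) :
    (refl Q4 u).1 x = x + (quadFormMinus 1 (ZMod 2) 1 1 (u + x) - quadFormMinus 1 (ZMod 2) 1 1 u -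
      quadFormMinus 1 (ZMod 2) 1 1 x) • u := by
  rw [refl1 (by rw [coe_quadMinus, hu]), QuadraticMap.polar, coe_quadMinus]

theorem four (f : OG Q4 → _) (hf : Coc f) : ∃ v, ∀ g ∈ commutator (OG Q4), f g = g.1 v - v := by
  have hn := quadMinus_nondeg (ZMod 2) 1 (disc_ne_zero_of_anisotropic hab)
  have hw := quadMinus_wittIndex (ZMod 2) 1 hab
  have hx : NotExc Q4 := .inr (.inr fun h => by have := h.unique hw; omega)
  obtain ⟨a, ha⟩ := exists_og (Q := Q4) A4 (A4 * A4 * A4 * A4) (by decide +kernel) (by rw [coe_quadMinus]; exact q4)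
  have av : ∀ v, a.1 v = A4 *ᵥ v := fun v => by rw [← omat_mulVec, ha]
  have fp : ∀ w, a.1 w = w → w = 0 := by simp only [av]; decide +kernel
  refine principal_of (mem_of_odd hn hx (by simp) (b := a * a * a) (omat_injective ?_)) fp (fun f hf hK => ?_) hf
  · simp only [omat_mul, ha]; decide +kernel
  have hu : Q4 u4 = 1 := by rw [coe_quadMinus]; decide +kernel
  have hd : Q4 d4 = 1 := by rw [coe_quadMinus]; decide +kernel
  have ht : omat (refl Q4 u4 * refl Q4 (a.1 (a.1 u4))) = T4 := omat_eq_iff.2 fun v => by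
    rw [OG.mul_apply, av, av, rf4 (by decide +kernel), rf4 (by decide +kernel)]
    revert v; decide +kernel
  have hs : omat (refl Q4 d4 * refl Q4 (a.1 u4)) = S4 := omat_eq_iff.2 fun v => by
    rw [OG.mul_apply, av, rf4 (by decide +kernel), rf4 (by decide +kernel)]
    revert v; decide +kernel
  have tO := rr hn hu (show Q4 (a.1 (a.1 u4)) = 1 by rw [OG.map_Q, OG.map_Q, hu])
  have sO := rr hn hd (show Q4 (a.1 u4) = 1 by rw [OG.map_Q, hu])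
  have sK : refl Q4 d4 * refl Q4 (a.1 u4) ∈ K hf :=
    ⟨sO, fp _ (fix_of hf hK (mul_mem (mul_mem (mul_mem hK hK) hK) hK) sO (omat_injective (by
      rw [omat_mul, omat_mul _ (_ * _), hs]; simp only [omat_mul, ha]; decide +kernel)))⟩
  have tK : refl Q4 u4 * refl Q4 (a.1 (a.1 u4)) ∈ K hf := by
    refine ⟨tO, ?_⟩
    generalize refl Q4 u4 * refl Q4 (a.1 (a.1 u4)) = t at ht tO
    generalize refl Q4 d4 * refl Q4 (a.1 u4) = s at hs sK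
    have h1 := fix_of hf sK sK tO (omat_injective (by simp only [omat_mul, hs, ht]; decide +kernel))
    have aO := mul_mem hK.1 tO
    have h2 := hf _ aO _ (mul_mem aO aO)
    rw [show a * t * (a * t * (a * t)) = 1 from omat_injective (by
      simp only [omat_mul, ha, ht, omat_one]; decide +kernel), hf.one, hf _ aO _ aO, hf _ hK.1 _ tO, hK.2] at h2
    have h3 := hf _ tO _ tO
    rw [show t * t = 1 from omat_injective (by simp only [omat_mul, ht, omat_one]; decide +kernel), hf.one] at h3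
    simp only [← omat_mulVec, omat_mul, ha, hs, ht] at h1 h2 h3
    exact k4 _ h1 h2 h3
  have cj : ∀ {u w}, refl Q4 u * refl Q4 w ∈ K hf → refl Q4 (a.1 u) * refl Q4 (a.1 w) ∈ K hf := fun {u w} h => by
    have := mul_mem (mul_mem hK h) (inv_mem hK)
    rw [← conj_refl, ← conj_refl]
    convert this using 1; group
  have tr : ∀ {u v w}, refl Q4 u * refl Q4 v ∈ K hf → refl Q4 v * refl Q4 w ∈ K hf →
      refl Q4 u * refl Q4 w ∈ K hf := fun {u v w} h1 h2 => by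
    simpa only [mul_assoc, refl_mul_cancel] using mul_mem h1 h2
  have sy : ∀ {u v}, refl Q4 u * refl Q4 v ∈ K hf → refl Q4 v * refl Q4 u ∈ K hf := fun h => by
    simpa only [_root_.mul_inv_rev, refl_inv] using inv_mem h
  have k0 : refl Q4 u4 * refl Q4 u4 ∈ K hf := by rw [refl_mul_self]; exact one_mem _
  have k4 := tr tK (cj (cj tK))
  have k1 : refl Q4 u4 * refl Q4 (a.1 u4) ∈ K hf := by
    have := cj k4
    rw [show a.1 (a.1 (a.1 (a.1 (a.1 u4)))) = u4 by simp only [av]; decide +kernel] at this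
    exact sy this
  have st : ∀ {w}, refl Q4 u4 * refl Q4 w ∈ K hf → refl Q4 u4 * refl Q4 (a.1 w) ∈ K hf := fun h => tr k1 (cj h)
  have kd := tr k1 (sy sK)
  have all : ∀ w, Q4 w = 1 → refl Q4 u4 * refl Q4 w ∈ K hf := fun w hw => by
    have : w = u4 ∨ w = a.1 u4 ∨ w = a.1 (a.1 u4) ∨ w = a.1 (a.1 (a.1 u4)) ∨ w = a.1 (a.1 (a.1 (a.1 u4))) ∨
        w = d4 ∨ w = a.1 d4 ∨ w = a.1 (a.1 d4) ∨ w = a.1 (a.1 (a.1 d4)) ∨ w = a.1 (a.1 (a.1 (a.1 d4))) := by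
      rw [coe_quadMinus] at hw
      simp only [av]; revert w; decide +kernel
    rcases this with rfl | rfl | rfl | rfl | rfl | rfl | rfl | rfl | rfl | rfl
    exacts [k0, k1, tK, st tK, k4, kd, st kd, st (st kd), st (st (st kd)), st (st (st (st kd)))]
  exact le_of_pol hn hx fun u w hu hw _ => tr (sy (all u hu)) (all w hw)

/-- Vanishing of first cohomology on the natural module for three small orthogonal groups over the field with two elements: for the commutator subgroup of the isometry group of the elliptic quadratic form in dimension 4, of the elliptic form in dimension 6, and of the hyperbolic form in dimension 8, every crossed homomorphism into the natural module (a map f with f(gh) = f(g) + g·f(h)) is principal (of the form g ↦ g·v − v). -/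
theorem result : (∀ f : ↥(Cfsg.Omega (ZMod 2) (Cfsg.quadFormMinus 1 (ZMod 2) 1 1)) → ((Fin 1 ⊕ Fin 1) ⊕ Fin 2 → ZMod 2), (∀ g h : ↥(Cfsg.Omega (ZMod 2) (Cfsg.quadFormMinus 1 (ZMod 2) 1 1)), f (g * h) = f g + Matrix.mulVec (((g : ↥(Cfsg.isometryGroup (ZMod 2) (Cfsg.quadFormMinus 1 (ZMod 2) 1 1))) : GL ((Fin 1 ⊕ Fin 1) ⊕ Fin 2) (ZMod 2)) : Matrix ((Fin 1 ⊕ Fin 1) ⊕ Fin 2) ((Fin 1 ⊕ Fin 1) ⊕ Fin 2) (ZMod 2)) (f h)) → ∃ v : (Fin 1 ⊕ Fin 1) ⊕ Fin 2 → ZMod 2, ∀ g : ↥(Cfsg.Omega (ZMod 2) (Cfsg.quadFormMinus 1 (ZMod 2) 1 1)), f g = Matrix.mulVec (((g : ↥(Cfsg.isometryGroup (ZMod 2) (Cfsg.quadFormMinus 1 (ZMod 2) 1 1))) : GL ((Fin 1 ⊕ Fin 1) ⊕ Fin 2) (ZMod 2)) : Matrix ((Fin 1 ⊕ Fin 1) ⊕ Fin 2) ((Fin 1 ⊕ Fin 1) ⊕ Fin 2) (ZMod 2)) v - v) ∧ (∀ f : ↥(Cfsg.Omega (ZMod 2) (Cfsg.quadFormMinus 2 (ZMod 2) 1 1)) → ((Fin 2 ⊕ Fin 2) ⊕ Fin 2 → ZMod 2), (∀ g h : ↥(Cfsg.Omega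 (ZMod 2) (Cfsg.quadFormMinus 2 (ZMod 2) 1 1)), f (g * h) = f g + Matrix.mulVec (((g : ↥(Cfsg.isometryGroup (ZMod 2) (Cfsg.quadFormMinus 2 (ZMod 2) 1 1))) : GL ((Fin 2 ⊕ Fin 2) ⊕ Fin 2) (ZMod 2)) : Matrix ((Fin 2 ⊕ Fin 2) ⊕ Fin 2) ((Fin 2 ⊕ Fin 2) ⊕ Fin 2) (ZMod 2)) (f h)) → ∃ v : (Fin 2 ⊕ Fin 2) ⊕ Fin 2 → ZMod 2, ∀ g : ↥(Cfsg.Omega (ZMod 2) (Cfsg.quadFormMinus 2 (ZMod 2) 1 1)), f g = Matrix.mulVec (((g : ↥(Cfsg.isometryGroup (ZMod 2) (Cfsg.quadFormMinus 2 (ZMod 2) 1 1))) : GL ((Fin 2 ⊕ Fin 2) ⊕ Fin 2) (ZMod 2)) : Matrix ((Fin 2 ⊕ Fin 2) ⊕ Fin 2) ((Fin 2 ⊕ Fin 2) ⊕ Fin 2) (ZMod 2)) v - v) ∧ (∀ f : ↥(Cfsg.Omega (ZMod 2) (Cfsg.quadFormPlus 4 (ZMod 2))) → (Fin 4 ⊕ Fin 4 → ZMod 2), (∀ g h : ↥(Cfsg.Omega (ZMod 2) (Cfsg.quadFormPlus 4 (ZMod 2))), f (g * h) = f g + Matrix.mulVec (((g : ↥(Cfsg.isometryGroup (ZMod 2) (Cfsg.quadFormPlus 4 (ZMod 2)))) : GL (Fin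 4 ⊕ Fin 4) (ZMod 2)) : Matrix (Fin 4 ⊕ Fin 4) (Fin 4 ⊕ Fin 4) (ZMod 2)) (f h)) → ∃ v : Fin 4 ⊕ Fin 4 → ZMod 2, ∀ g : ↥(Cfsg.Omega (ZMod 2) (Cfsg.quadFormPlus 4 (ZMod 2))), f g = Matrix.mulVec (((g : ↥(Cfsg.isometryGroup (ZMod 2) (Cfsg.quadFormPlus 4 (ZMod 2)))) : GL (Fin 4 ⊕ Fin 4) (ZMod 2)) : Matrix (Fin 4 ⊕ Fin 4) (Fin 4 ⊕ Fin 4) (ZMod 2)) v - v) := by
  refine ⟨bridge four (coe_quadMinus _ _ _ _), bridge (fun f hf => ?_) (coe_quadMinus _ _ _ _),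
    bridge (fun f hf => ?_) (coe_quadPlus _ _)⟩
  · obtain ⟨a, ha⟩ := T_of (Q := quadMinus (ZMod 2) 2 1 1) A6 (by decide +kernel) (by rw [coe_quadMinus]; exact q6)
    exact three (quadMinus_nondeg (ZMod 2) 2 (disc_ne_zero_of_anisotropic hab)) (notExc_of_finrank (by simp))
      (by simp) ha hf
  · obtain ⟨a, ha⟩ := T_of (Q := quadPlus (ZMod 2) 4) A8 (by decide +kernel) (by rw [coe_quadPlus]; exact q8)
    exact three (quadPlus_nondeg _ _) (notExc_of_finrank (by simp)) (by simp) ha hf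

end Cfsg.Agent.S5405
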