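import Cfsg.Statements.S5418
import Cfsg.Agent.MonHe.C

set_option autoImplicit false
open Cfsg

namespace Cfsg.Agent.S5418

/-- Let G be a finite group of Monster type at the involution z with Q the extraspecial normal subgroup of order 2^25 of C = C_G(z) (so C/Q is identified with the first Conway group with Q modulo its centre the Leech lattice modulo 2, and z is not weakly closed in Q). Let s be a conjugate of z in Q other than z and let B be a Sylow 7-subgroup of the joint centralizer of z and s. Then the centralizer of B has index 6 in the normalizer of B; and some involution inverting B induces, by conjugation, a non-inner automorphism of the layer of the centralizer of B. -/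
theorem result {G : Type*} [Group G] [Finite G] (z : G) (Q : Subgroup (Subgroup.centralizer ({z} : Set G))) [Q.Normal] (hM : Cfsg.IsOfMonsterType z Q) (s : G) (hsQ : ∃ hsc : s ∈ Subgroup.centralizer ({z} : Set G), (⟨s, hsc⟩ : Subgroup.centralizer ({z} : Set G)) ∈ Q) (hs : IsConj z s) (hs1 : s ≠ z) (B : Subgroup G) (hB : B ≤ Subgroup.centralizer ({z, s} : Set G)) (hBp : Nat.card B = 7 ^ (Nat.card ↥(Subgroup.centralizer ({z, s} : Set G))).factorization 7) : (Subgroup.centralizer (B : Set G)).relIndex (Subgroup.normalizer (B : Set G)) = 6 ∧ ∃ t : G, orderOf t = 2 ∧ (∀ b ∈ B, t * b * t⁻¹ = b⁻¹) ∧ (∀ x ∈ (Cfsg.layer ↥(Subgroup.centralizer (B : Set G))).map (Subgroup.centralizer (B : Set G)).subtype, t * x * t⁻¹ ∈ (Cfsg.layer ↥(Subgroup.centralizer (B : Set G))).map (Subgroup.centralizer (B : Set G)).subtype) ∧ ¬ ∃ l ∈ (Cfsg.layer ↥(Subgroup.centralizer (B : Set G))).map (Subgroup.centralizer (B : Set G)).subtype, ∀ x ∈ (Cfsg.layer ↥(Subgroup.centralizer (B : Set G))).map (Subgroup.centralizer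 (B : Set G)).subtype, t * x * t⁻¹ = l * x * l⁻¹ := by
  obtain ⟨π, P, H⟩ := Mon.MT.of_type hM
  obtain ⟨π, P, β, H, h1, rfl, ho⟩ := H.norm_B ⟨_, hsQ.2, rfl⟩ hs hs1 hB (by norm_num) (by decide) hBp Mon.T7.ord
    (by norm_num)
  obtain ⟨t, t2, ht⟩ := MonHe.ex_inv H h1 ho
  obtain ⟨n, hn⟩ := MonHe.ex_three H h1 ho
  refine ⟨MonHe.index_six ho ht hn, t, orderOf_eq_prime (by rw [pow_two, t2]) fun e => ?_, ?_, fun x hx => ?_,
    MonHe.outer H h1 ho ⟨_, hsQ.2, rfl⟩ hs hs1 (Mon.mem_C2.1 (hB (Subgroup.mem_zpowers β))).2 ht⟩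
  · rw [e, one_mul, inv_one, mul_one] at ht
    exact absurd (ho ▸ orderOf_dvd_of_pow_eq_one (n := 2) (by rw [pow_two]; nth_rw 1 [ht]; simp)) (by decide)
  · rintro _ ⟨k, rfl⟩
    simp only [← conj_zpow, ht, inv_zpow']
    exact zpow_neg β k
  · exact (Subgroup.mem_normalizer_iff.1 (Sig.normalizer_le_normalizer_layerIn _ (BG.norms_cent le_rfl
      (MonHe.mem_N (ht ▸ inv_mem (Subgroup.mem_zpowers β))))) x).1 hx

end Cfsg.Agent.S5418
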