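import Cfsg.Statements.S5435
import Cfsg.Agent.S2911
import Cfsg.Agent.S3279
import Cfsg.Agent.PGrp.MaxClassP
import Cfsg.Agent.PGrp.ES
import Cfsg.Agent.GW.D8A6
import Mathlib.Tactic.Group

set_option autoImplicit false
open Cfsg

namespace Cfsg.Agent.S5435
open scoped commutatorElement

open Subgroup BG PGrp Invol

/-- Let L be a finite non-abelian simple group with an involution z whose centralizer R is a Sylow 2-subgroup of L whose Frattini subgroup is the subgroup generated by z. Then R is dihedral of order 8. -/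
theorem result {L : Type*} [Group L] [Finite L] [IsSimpleGroup L] (hL : ¬ IsMulCommutative L) (z : L) (hz : orderOf z = 2) (R : Sylow 2 L) (hR : (R : Subgroup L) = Subgroup.centralizer ({z} : Set L)) (hΦ : (frattini ↥(R : Subgroup L)).map (R : Subgroup L).subtype = Subgroup.zpowers z) : Nonempty (↥(R : Subgroup L) ≃* DihedralGroup 4) := by
  have hΦ' : Phi (R : Subgroup L) = zpowers z := hΦ
  have hzc : z ∉ center L := fun h => by
    rcases (inferInstance : (center L).Normal).eq_bot_or_eq_top with e | e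
    · exact ne_one_of hz (e.le h)
    · exact hL (center_eq_top_iff.1 e)
  obtain ⟨g, hc, hne⟩ : ∃ g : L, Commute z (g * z * g⁻¹) ∧ g * z * g⁻¹ ≠ z := by
    by_contra! h
    exact hzc (mem_center_iff.2 fun g => mul_inv_eq_iff_eq_mul.1
      (S3279.eq_of_isolated ⟨hz, h⟩ ((BG.orderOf_conj' g z).trans hz)))
  set t := g * z * g⁻¹ with ht
  have ht2 : orderOf t = 2 := (BG.orderOf_conj' g z).trans hz
  have htR : t ∈ (R : Subgroup L) := hR ▸ mem_cent1.2 hc.symm.eq
  have hzR : z ∈ (R : Subgroup L) := hR ▸ cent1_self z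
  have sq : ∀ y ∈ (R : Subgroup L), y * y = 1 ∨ y * y = z := fun y hy =>
    (mem_zpowers_invol (mul_self_of hz)).1 (hΦ' ▸ sq y ▸ pow_mem_Phi R.isPGroup' hy)
  have hA : ∀ y ∈ (R : Subgroup L), Commute y t → y * y = 1 := fun y hy hyt => (sq y hy).resolve_right fun e => by
    rcases sq (g⁻¹ * y * g) (hR ▸ mem_cj.1 ((C1_conj g z).le (mem_cent1.2 hyt.eq))) with e' | e'
    · exact ne_one_of hz (by simpa [← e, mul_assoc] using congrArg (fun w => g * w * g⁻¹) e')
    · exact hne ((congrArg (fun w => g * w * g⁻¹) e').symm.trans (Eq.trans (by group) e))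
  have hG : ∀ H : Subgroup L, H.index ≠ 2 := GW.no_index_two_of_simple fun e =>
    hL (isCyclic_of_prime_card (p := 2) e).isMulCommutative
  have hES : IsES 2 (⟨z, hzR⟩ : (R : Subgroup L)) := ⟨(orderOf_mk _ _).trans hz,
    mem_center_iff.2 fun y => Subtype.ext (mem_cent1.1 (hR ▸ y.2)),
    fun x y => by
      obtain ⟨i, e⟩ := hΦ'.le (der1_sub_Phi (pgroup_nil R.isPGroup') (commutator_mem_commutator x.2 y.2))
      exact ⟨i, Subtype.ext e⟩,
    fun x => by
      obtain ⟨i, e⟩ := hΦ'.le (pow_mem_Phi R.isPGroup' x.2)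
      exact ⟨i, Subtype.ext e⟩⟩
  have hZ : center (R : Subgroup L) = zpowers ⟨z, hzR⟩ := le_antisymm (fun u hu => by_contra fun hn => by
    have hu' : ∀ y ∈ (R : Subgroup L), y * u = u * y := fun y hy => congrArg Subtype.val (mem_center_iff.1 hu ⟨y, hy⟩)
    obtain ⟨T, hT, huT⟩ : ∃ T, MaxSub T (R : Subgroup L) ∧ (u : L) ∉ T := by
      by_contra! h
      obtain ⟨i, e⟩ := hΦ'.le (le_Phi_iff.2 ⟨zpowers_le.2 u.2, fun B hB => zpowers_le.2 (h B hB)⟩ (mem_zpowers _))
      exact hn ⟨i, Subtype.ext e⟩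
    obtain ⟨k, hk, h1⟩ := S2911.central_transfer hG R hT.lt.le (p_maximal_index R.isPGroup' hT)
      (hA u u.2 (hu' t htR).symm) u.2 huT fun y hy => mem_cent1.2 (hu' y hy)
    have h2 : k * z * k⁻¹ = z := ((mem_zpowers_invol (mul_self_of hz)).1
      (conj_mem_of_norm (hΦ' ▸ norms_Phi le_rfl hk) (mem_zpowers z))).resolve_left (by simpa using ne_one_of hz)
    rw [hu' k (hR ▸ mem_cent1.2 (mul_inv_eq_iff_eq_mul.1 h2)), mul_inv_cancel_right] at h1
    exact huT h1) hES.le_center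
  have z2 : (⟨z, hzR⟩ : (R : Subgroup L)) * ⟨z, hzR⟩ = 1 := Subtype.ext (mul_self_of hz)
  have t2 : (⟨t, htR⟩ : (R : Subgroup L)) * ⟨t, htR⟩ = 1 := Subtype.ext (mul_self_of ht2)
  have z1 : (⟨z, hzR⟩ : (R : Subgroup L)) ≠ 1 := fun e => ne_one_of hz (congrArg Subtype.val e)
  have t1 : (⟨t, htR⟩ : (R : Subgroup L)) ≠ 1 := fun e => ne_one_of ht2 (congrArg Subtype.val e)
  have zt : (⟨z, hzR⟩ : (R : Subgroup L)) ≠ ⟨t, htR⟩ := fun e => hne (congrArg Subtype.val e).symm
  have hV := isKleinFour_closure z2 t2 (Subtype.ext hc.eq) z1 t1 zt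
  set V := closure ({⟨z, hzR⟩, ⟨t, htR⟩} : Set (R : Subgroup L))
  have hzV : ⟨z, hzR⟩ ∈ V := subset_closure (by simp)
  have htV : ⟨t, htR⟩ ∈ V := subset_closure (by simp)
  have hVC : V ≤ C[V] := le_cent_iff.2 fun u hu v hv => commute_of_mem_four hV hu hv
  have hab : C[V] ≤ C[C[V]] := le_cent_iff.2 fun u hu v hv =>
    have k : ∀ w ∈ C[V], w * w = 1 := fun w hw =>
      Subtype.ext (hA w w.2 (congrArg Subtype.val (mem_cent.1 hw _ htV)).symm)
    commute_of_mul_sq (k u hu) (k v hv) (k _ (mul_mem hu hv))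
  have e1 := hES.card_mul_card_centralizer hZ hzV
  have e2 := hES.card_mul_card_centralizer hZ (hVC hzV)
  have e3 := card_le_card hVC
  have e4 := card_le_card hab
  have e5 := cardG_pos C[V]
  rw [hV.card_four] at e1 e3
  have e6 : #C[C[V]] = 4 := Nat.eq_of_mul_eq_mul_left e5 (by omega)
  have h8 : Nat.card (R : Subgroup L) = 2 ^ (0 + 3) := by omega
  have hC : C1[(⟨t, htR⟩ : (R : Subgroup L))] ≤ C[V] := fun u hu => centsC.1 ((closure_le _).2 (by
    rintro _ (rfl | rfl)
    exacts [(C_zpowers u).ge (center_le_centralizer _ hES.cen), (C_zpowers u).ge (mem_cent1_comm.1 hu)]))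
    (mem_zpowers u)
  obtain ⟨a, x, hd⟩ := exists_dqs_of_class h8 (class_of_cent 1 h8 ⟨t, htR⟩ ((card_le_card hC).trans (by omega)))
  rcases hd.iso with e | ⟨⟨e⟩⟩ | ⟨n, h3, e, -⟩
  · exact e
  · have key : ∀ u v : QuaternionGroup (2 ^ (0 + 2 - 1)), u * u = 1 → v * v = 1 → u ≠ 1 → v ≠ 1 → u = v := by decide
    exact absurd (e.injective (key _ _ (by rw [← map_mul, z2, map_one]) (by rw [← map_mul, t2, map_one])
      (by simpa using z1) (by simpa using t1))) zt
  · exact absurd (Nat.pow_right_injective le_rfl (e.symm.trans h8)) (by omega)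

end Cfsg.Agent.S5435
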