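import Cfsg.Statements.S5440
import Cfsg.Agent.F24T.R12

set_option autoImplicit false
open Cfsg

namespace Cfsg.Agent.S5440


open Subgroup Cfsg.Agent.F24T Cfsg.Agent.J4T

/-- Let G be a finite group of large Fischer type at the involution z: the generalized Fitting subgroup Q of H = C_G(z) is extraspecial of order 2^13, H has normal subgroups Q ≤ H₁ ≤ H₂ with H₁/Q of order 3, H₂/H₁ the projective special unitary group of dimension 4 over the field with nine elements and H₂ of index 2 in H, and some conjugate of z other than z lies in Q. Then H has exactly two orbits, under conjugation, on the involutions of Q other than z. -/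
theorem result {G : Type*} [Group G] [Finite G] (z : G) (Q : Subgroup (Subgroup.centralizer ({z} : Set G))) [Q.Normal] (hF : Cfsg.IsOfLargeFischerTypeAt z Q) : ∃ s t : Subgroup.centralizer ({z} : Set G), s ∈ Q ∧ t ∈ Q ∧ orderOf s = 2 ∧ orderOf t = 2 ∧ (s : G) ≠ z ∧ (t : G) ≠ z ∧ (¬ ∃ h : Subgroup.centralizer ({z} : Set G), h * s * h⁻¹ = t) ∧ ∀ x : Subgroup.centralizer ({z} : Set G), x ∈ Q → orderOf x = 2 → (x : G) ≠ z → (∃ h : Subgroup.centralizer ({z} : Set G), h * s * h⁻¹ = x) ∨ ∃ h : Subgroup.centralizer ({z} : Set G), h * t * h⁻¹ = x := by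
  obtain ⟨hQ, p, θ, μ, x, ν, g, B, hg, -⟩ := F24T.main hF
  have S := B.toSt
  have kq : ∀ k : centralizer ({z} : Set G), k ∈ Q ↔ k.1 ∈ twoCoreOfCentralizer z := fun k =>
    hQ ▸ (mem_map_iff_mem (subtype_injective _)).symm
  refine ⟨⟨θ F24T.s0, S.θH (by decide)⟩, ⟨θ F24T.x0, S.θH (by decide)⟩, (kq _).2 (S.θE (by decide)),
    (kq _).2 (S.θE (by decide)), (orderOf_mk ..).trans (S.ord (by decide) (by decide) (by decide +kernel)),
    (orderOf_mk ..).trans (S.ord (by decide) (by decide) (by decide +kernel)), (S.ne_of (by decide) (by decide)).2,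
    (S.ne_of (by decide) (by decide)).2, fun ⟨h, e⟩ => S.not_fused X0_le
      ((isConj_iff.2 ⟨g, hg⟩).trans (isConj_iff.2 ⟨h, congrArg Subtype.val e⟩)), fun y hy o hz => ?_⟩
  obtain ⟨h, hh, e⟩ := S.inv_E' ((kq y).1 hy) ((orderOf_coe y).trans o) hz
  exact e.imp (fun e => ⟨⟨h, hh⟩⁻¹, Subtype.ext (by simp [← e, mul_assoc])⟩)
    fun e => ⟨⟨h, hh⟩⁻¹, Subtype.ext (by simp [← e, mul_assoc])⟩

end Cfsg.Agent.S5440
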