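import Cfsg.Statements.S5441
import Cfsg.Agent.F24T.R12

set_option autoImplicit false
open Cfsg

namespace Cfsg.Agent.S5441


open Subgroup Cfsg.Agent.F24T Cfsg.Agent.J4T

/-- Let G be a finite group of large Fischer type at the involution z: the generalized Fitting subgroup Q of H = C_G(z) is extraspecial of order 2^13, H has normal subgroups Q ≤ H₁ ≤ H₂ with H₁/Q of order 3, H₂/H₁ the projective special unitary group of dimension 4 over the field with nine elements and H₂ of index 2 in H, and some conjugate of z other than z lies in Q. Then the conjugates of z lying in Q and different from z form a single orbit under conjugation by H. -/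
theorem result {G : Type*} [Group G] [Finite G] (z : G) (Q : Subgroup (Subgroup.centralizer ({z} : Set G))) [Q.Normal] (hF : Cfsg.IsOfLargeFischerTypeAt z Q) (s t : G) (hsQ : ∃ hsc : s ∈ Subgroup.centralizer ({z} : Set G), (⟨s, hsc⟩ : Subgroup.centralizer ({z} : Set G)) ∈ Q) (htQ : ∃ htc : t ∈ Subgroup.centralizer ({z} : Set G), (⟨t, htc⟩ : Subgroup.centralizer ({z} : Set G)) ∈ Q) (hs : IsConj z s) (ht : IsConj z t) (hs1 : s ≠ z) (ht1 : t ≠ z) : ∃ h ∈ Subgroup.centralizer ({z} : Set G), h * s * h⁻¹ = t := by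
  obtain ⟨hQ, p, θ, μ, x, ν, g, B, hg, -⟩ := F24T.main hF
  obtain ⟨a, ha, e⟩ := B.toSt.to_s0 (hQ ▸ ⟨_, hsQ.2, rfl⟩) hs hs1
  obtain ⟨b, hb, e'⟩ := B.toSt.to_s0 (hQ ▸ ⟨_, htQ.2, rfl⟩) ht ht1
  exact ⟨b⁻¹ * a, mul_mem (inv_mem hb) ha, by
    rw [show b⁻¹ * a * s * (b⁻¹ * a)⁻¹ = b⁻¹ * (a * s * a⁻¹) * b by group, e, ← e']; group⟩

end Cfsg.Agent.S5441
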