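import Cfsg.Statements.S5442
import Cfsg.Agent.F24T.R12

set_option autoImplicit false
open Cfsg

namespace Cfsg.Agent.S5442


open Subgroup Cfsg.Agent.F24T Cfsg.Agent.J4T Cfsg.Agent.Comp Cfsg.Agent.BG

/-- Let G be a finite group of large Fischer type at the involution z: the generalized Fitting subgroup Q of H = C_G(z) is extraspecial of order 2^13, H has normal subgroups Q ≤ H₁ ≤ H₂ with H₁/Q of order 3, H₂/H₁ the projective special unitary group of dimension 4 over the field with nine elements and H₂ of index 2 in H, and some conjugate of z other than z lies in Q. Let s = g z g⁻¹ be a conjugate of z lying in Q and different from z. Then the intersection of Q and g Q g⁻¹ (as subgroups of G) is elementary abelian of order 2^7; and in H/Q, writing X for the image of the centralizer of s in H and E for the image of the intersection of g Q g⁻¹ with H, E is a normal subgroup of X, elementary abelian of order 32, with X/E isomorphic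 to the alternating group of degree 6. -/
theorem result {G : Type*} [Group G] [Finite G] (z : G) (Q : Subgroup (Subgroup.centralizer ({z} : Set G))) [Q.Normal] (hF : Cfsg.IsOfLargeFischerTypeAt z Q) (s : G) (hsQ : ∃ hsc : s ∈ Subgroup.centralizer ({z} : Set G), (⟨s, hsc⟩ : Subgroup.centralizer ({z} : Set G)) ∈ Q) (hs : IsConj z s) (hs1 : s ≠ z) (g : G) (hg : g * z * g⁻¹ = s) (X E : Subgroup ((Subgroup.centralizer ({z} : Set G)) ⧸ Q)) (hX : X = ((Subgroup.centralizer ({z} : Set G) ⊓ Subgroup.centralizer ({s} : Set G)).subgroupOf (Subgroup.centralizer ({z} : Set G))).map (QuotientGroup.mk' Q)) (hE : E = ((((Q.map (Subgroup.centralizer ({z} : Set G)).subtype)).map (MulAut.conj g).toMonoidHom ⊓ Subgroup.centralizer ({z} : Set G)).subgroupOf (Subgroup.centralizer ({z} : Set G))).map (QuotientGroup.mk' Q)) : Cfsg.IsElementaryAbelian 2 ((Q.map (Subgroup.centralizer ({z} : Set G)).subtype) ⊓ ((Q.map (Subgroup.centralizer ({z} : Set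 G)).subtype)).map (MulAut.conj g).toMonoidHom) ∧ Nat.card ↥((Q.map (Subgroup.centralizer ({z} : Set G)).subtype) ⊓ ((Q.map (Subgroup.centralizer ({z} : Set G)).subtype)).map (MulAut.conj g).toMonoidHom) = 2 ^ 7 ∧ E ≤ X ∧ (∀ x ∈ X, ∀ y ∈ E, x * y * x⁻¹ ∈ E) ∧ Cfsg.IsElementaryAbelian 2 E ∧ Nat.card E = 32 ∧ ∃ _ : (E.subgroupOf X).Normal, Nonempty (↥X ⧸ E.subgroupOf X ≃* alternatingGroup (Fin 6)) := by
  obtain ⟨hQ, p, θ, μ, x, ν, g', B, -, -⟩ := F24T.main hF
  obtain ⟨h, hh, e⟩ := B.toSt.to_s0 (hQ ▸ ⟨_, hsQ.2, rfl⟩) hs hs1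
  obtain ⟨p, θ, μ, S, rfl⟩ : ∃ p θ μ, F24T.St F24T.Xs z p θ μ ∧ s = θ F24T.s0 :=
    ⟨_, _, _, B.toSt.conj ⟨h, hh⟩, by simp [← e, mul_assoc]⟩
  rw [hQ] at hE ⊢
  have kq : μ.ker = Q := ext fun k => (S.ker k).trans (hQ ▸ mem_map_iff_mem (subtype_injective _))
  have P := S.pair (by decide) (by decide) hg
  refine ⟨⟨⟨⟨fun a b => Subtype.ext (S.D_comm (by decide) (by decide) hg a.2 b.2)⟩⟩, fun a ha => ?_⟩, S.card_D' hg, ?_⟩
  · rw [pow_two]
    exact (S.es.sq a ha.1).resolve_right fun e1 => (P.hQ.sq a ha.2).elim (fun e2 => S.toFr.z1 (e1.symm.trans e2))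
      fun e2 => hs1 (e2.symm.trans e1)
  let f := QuotientGroup.lift Q μ kq.ge
  have fi : Function.Injective f := (QuotientGroup.injective_lift_iff ..).2 kq.symm
  have fc : f.comp (QuotientGroup.mk' Q) = μ := QuotientGroup.lift_comp_mk' ..
  have hE' : E.map f = AB μ g := by rw [hE, map_map, fc, inf_subgroupOf_right]; rfl
  have hX' : X.map f = F24T.Xs ⊓ MulAction.stabilizer _ (XV.mk' 12 F24T.s0) := by
    rw [hX, map_map, fc, inf_subgroupOf_left]
    refine le_antisymm ?_ fun a ha => ?_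
    · rintro _ ⟨k, hk, rfl⟩
      obtain ⟨c, hc⟩ := S.exists_IR k
      obtain ⟨b, hb, e⟩ := S.act' k hc.1 (x := F24T.s0) (by decide)
      refine ⟨S.μ_mem k, (hc.1.mk'_eq (by decide)).trans (congrArg _ (S.toFr.cancel (app_lt _ _) (by decide) hb two_pos ?_).1)⟩
      rw [← e, pow_zero, mul_one]; exact mul_inv_eq_iff_eq_mul.2 (mem_centralizer_singleton_iff.1 hk)
    · obtain ⟨k, rfl, e⟩ := S.conj_of (s := F24T.s0) (x := F24T.s0) (by decide) (by decide) (by decide) ha.1 (by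
        rw [show a _ = _ from ha.2, XV.mk'_val (by decide)]; rfl)
      exact ⟨k, mem_centralizer_singleton_iff.2 (mul_inv_eq_iff_eq_mul.1 e), rfl⟩
  obtain ⟨h1, h2, h3, φ, h4, h5⟩ := stab_s0 S.card_Xs (S.listsA hg) fun c hc =>
    let ⟨a, h1, h2⟩ := S.exA hg hc; ⟨_, ⟨a, h1, rfl⟩, h2⟩
  have mE : ∀ y, y ∈ E ↔ f y ∈ AB μ g := fun y => hE' ▸ (mem_map_iff_mem fi).symm
  let φ' := (φ.codRestrict _ fun y => h4.le ⟨y, rfl⟩).comp ((f.comp X.subtype).codRestrict _ fun y =>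
    hX'.le ⟨_, y.2, rfl⟩)
  have h6 : E.subgroupOf X = φ'.ker := ext fun y => (mE _).trans ((h5 ⟨_, hX'.le ⟨_, y.2, rfl⟩⟩).symm.trans
    (Subtype.ext_iff (a1 := φ' y) (a2 := 1)).symm)
  have h7 : Function.Surjective φ' := fun ⟨a, ha⟩ => by
    obtain ⟨⟨b, hb⟩, rfl⟩ := h4.ge ha
    obtain ⟨y, hy, rfl⟩ := hX'.ge hb
    exact ⟨⟨y, hy⟩, rfl⟩
  have h8 : E ≤ X := (map_le_map_iff_of_injective fi).1 (hE' ▸ hX' ▸ h1)
  have h9 : (E.subgroupOf X).Normal := h6 ▸ inferInstance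
  exact ⟨h8, fun a ha b hb => h9.conj_mem ⟨b, h8 hb⟩ hb ⟨a, ha⟩, ⟨⟨⟨fun a b => Subtype.ext (fi (by
      simpa using congrArg Subtype.val (h2.1.1.1 ⟨_, (mE _).1 a.2⟩ ⟨_, (mE _).1 b.2⟩)))⟩⟩,
      fun a ha => fi (by rw [map_pow, h2.2 _ ((mE a).1 ha), map_one])⟩,
    by rw [← card_map_of_injective fi, hE', h3], h9,
    ⟨(QuotientGroup.quotientMulEquivOfEq h6).trans (QuotientGroup.quotientKerEquivOfSurjective _ h7)⟩⟩

end Cfsg.Agent.S5442
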