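import Cfsg.Statements.S5443
import Cfsg.Agent.F24T.Main
import Cfsg.Agent.Small.F24O

set_option autoImplicit false
open Cfsg

namespace Cfsg.Agent.S5443

open Subgroup Cfsg.Agent.F24T Cfsg.Agent.J4T

/-- Let G be a finite group of large Fischer type at the involution z: the generalized Fitting subgroup Q of H = C_G(z) is extraspecial of order 2^13, H has normal subgroups Q ≤ H₁ ≤ H₂ with H₁/Q of order 3, H₂/H₁ the projective special unitary group of dimension 4 over the field with nine elements and H₂ of index 2 in H, and some conjugate of z other than z lies in Q. Let t be an involution of Q not conjugate to z in G, and S the set of elements of H conjugating t to t or to t z (the stabilizer of the image of t in Q modulo its centre). Then the image of S in H/Q is isomorphic to the full isometry group of the elliptic quadratic form in dimension 6 over the field with two elements. -/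
theorem result {G : Type*} [Group G] [Finite G] (z : G) (Q : Subgroup (Subgroup.centralizer ({z} : Set G))) [Q.Normal] (hF : Cfsg.IsOfLargeFischerTypeAt z Q) (t : Subgroup.centralizer ({z} : Set G)) (htQ : t ∈ Q) (ht2 : orderOf t = 2) (ht : ¬ IsConj z (t : G)) (S : Subgroup (Subgroup.centralizer ({z} : Set G))) (hS : ∀ h : Subgroup.centralizer ({z} : Set G), h ∈ S ↔ (h * t * h⁻¹ = t ∨ ((h * t * h⁻¹ : Subgroup.centralizer ({z} : Set G)) : G) = t * z)) : Nonempty (↥(S.map (QuotientGroup.mk' Q)) ≃* Cfsg.isometryGroup (ZMod 2) (Cfsg.quadFormMinus 2 (ZMod 2) 1 1)) := by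
  obtain ⟨hQ, p, θ, μ, x, ν, g, B, hg, -⟩ := F24T.main hF
  have W := B.toSt
  have kq : ∀ k, μ k = 1 ↔ k ∈ Q := fun k => (W.ker k).trans (hQ ▸ mem_map_iff_mem (subtype_injective _))
  obtain ⟨u, hu, e⟩ := (W.core _).1 ((W.ker t).1 ((kq t).2 htQ))
  have := Fact.mk Nat.prime_two
  obtain ⟨h, hh, e1 | e1⟩ := W.inv_E X0_le hu (by
    rintro rfl; rw [show t = 1 from Subtype.ext (e.symm.trans W.toFr.θ0)] at ht2; simp at ht2)
    (by rintro rfl; exact ht (e ▸ W.hz ▸ IsConj.refl _)) (by
      have h1 := W.toFr.sq hu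
      rw [e, ← pow_two, ← coe_pow, ← ht2, pow_orderOf_eq_one, coe_one, eq_comm, ← orderOf_dvd_iff_pow_eq_one, W.toFr.oz] at h1
      have := bt_lt u u
      omega)
  · exact absurd ((isConj_iff.2 ⟨g, hg⟩).trans (isConj_iff.2 ⟨h, e ▸ e1⟩).symm) ht
  lift h to centralizer ({z} : Set G) using hh
  have k1 : ∀ k, k ∈ S ↔ μ (h * k * h⁻¹) (XV.mk' 12 F24T.x0) = XV.mk' 12 F24T.x0 := fun k => by
    rw [hS, W.stab_iff (by decide), ← e1, e, Subtype.ext_iff]
    have c := mem_centralizer_singleton_iff.1 h.2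
    have : ∀ y : G, ((h * k * h⁻¹ : centralizer ({z} : Set G)) : G) * (h * t * (h : G)⁻¹) *
        ((h * k * h⁻¹ : centralizer ({z} : Set G)) : G)⁻¹ = h * y * (h : G)⁻¹ ↔ ((k * t * k⁻¹ : centralizer ({z} : Set G)) : G) = y :=
      fun y => by simp [← mul_assoc]; simp [mul_assoc]
    rw [← this, ← this, show (h : G) * (t * z) * (h : G)⁻¹ = h * t * (h : G)⁻¹ * z by
      rw [mul_assoc _ _ z, (Commute.inv_left c).eq]; simp [mul_assoc]]
    rfl
  obtain ⟨a⟩ := equiv_of_ker (f := (QuotientGroup.mk' Q).subgroupMap S) (g := (μ.comp ((MulAut.conj h).toMonoidHom.comp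
    S.subtype)).codRestrict (F24T.Xs ⊓ MulAction.stabilizer _ (XV.mk' 12 F24T.x0)) fun k => ⟨W.μ_mem _, (k1 k).1 k.2⟩)
    (MonoidHom.subgroupMap_surjective _ _) (by
      rintro ⟨a, ha, ha'⟩
      obtain ⟨k, rfl⟩ := W.range.ge ha
      exact ⟨⟨h⁻¹ * k * h, (k1 _).2 (by simpa [mul_assoc] using ha')⟩, Subtype.ext (by simp [mul_assoc])⟩) fun k => by
    rw [Subtype.ext_iff, Subtype.ext_iff]
    refine (QuotientGroup.eq_one_iff _).trans ((kq _).symm.trans ?_)
    simp
  obtain ⟨b⟩ := stab_iso W.card_Xs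
  obtain ⟨c⟩ := Small.O6mT.equiv
  exact ⟨a.trans (b.trans c.symm)⟩

end Cfsg.Agent.S5443
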