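import Cfsg.Statements.S5444
import Cfsg.Agent.F24T.Main
import Cfsg.Agent.F24T.Thm

set_option autoImplicit false
open Cfsg

namespace Cfsg.Agent.S5444
open Subgroup Cfsg.Agent.F24T Cfsg.Agent.J4T

/-- Let G be a finite group of large Fischer type at the involution z: the generalized Fitting subgroup Q of H = C_G(z) is extraspecial of order 2^13, H has normal subgroups Q ≤ H₁ ≤ H₂ with H₁/Q of order 3, H₂/H₁ the projective special unitary group of dimension 4 over the field with nine elements and H₂ of index 2 in H, and some conjugate of z other than z lies in Q. Let T be a Sylow 2-subgroup of H. Then T has exactly one elementary abelian subgroup A of largest order; A has order 2^11, it meets Q in a subgroup of order 2^7, and its image in H/Q has order 16. -/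
theorem result {G : Type*} [Group G] [Finite G] (z : G) (Q : Subgroup (Subgroup.centralizer ({z} : Set G))) [Q.Normal] (hF : Cfsg.IsOfLargeFischerTypeAt z Q) (T : Sylow 2 ↥(Subgroup.centralizer ({z} : Set G))) : ∃ A : Subgroup ↥(T : Subgroup (Subgroup.centralizer ({z} : Set G))), Cfsg.maxElementaryAbelianSubgroups 2 ↥(T : Subgroup (Subgroup.centralizer ({z} : Set G))) = {A} ∧ Nat.card A = 2 ^ 11 ∧ Nat.card ↥(A.map (T : Subgroup (Subgroup.centralizer ({z} : Set G))).subtype ⊓ Q) = 2 ^ 7 ∧ Nat.card ↥((A.map (T : Subgroup (Subgroup.centralizer ({z} : Set G))).subtype).map (QuotientGroup.mk' Q)) = 16 := by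
  obtain ⟨hQ, p, θ, μ, x, ν, -, B, -⟩ := F24T.main hF
  obtain ⟨g, hg⟩ := exists_conj_eq T (S := F24T.Ts.comap μ) (k := 21)
    ((card_map_of_injective (subtype_injective _)).symm.trans B.card_TT) (by rw [B.cardH]; norm_num)
  obtain ⟨h1, h2⟩ := B.max_eq (φ := (Subgroup.subtype _).comp ((MulAut.conj g).toMonoidHom.comp (T : Subgroup _).subtype))
    (Subtype.val_injective.comp ((MulAut.conj g).injective.comp Subtype.val_injective))
    (by rw [MonoidHom.range_comp, MonoidHom.range_comp, range_subtype, hg]; rfl)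
  refine ⟨_, h1, h2, ?_⟩
  generalize hA : Subgroup.map (T : Subgroup (centralizer ({z} : Set G))).subtype _ = A
  have c1 : Nat.card A = 2 ^ 11 := hA ▸ (card_map_of_injective (subtype_injective _)).trans h2
  have c2 : Nat.card ↥(A ⊓ Q) = 2 ^ 7 := by
    rw [← B.card_VE, ← hQ, ← card_map_of_injective (f := (Subgroup.subtype _).comp (MulAut.conj g).toMonoidHom)
      (Subtype.val_injective.comp (MulAut.conj g).injective), ← hA]
    congr 2
    refine le_antisymm ?_ ?_
    · rintro _ ⟨_, ⟨⟨a, ha, rfl⟩, h⟩, rfl⟩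
      exact ⟨ha, _, (inferInstance : Q.Normal).conj_mem _ h g, rfl⟩
    · rintro _ ⟨hv, a, ha, rfl⟩
      obtain ⟨b, hb, e⟩ := B.V_le hv
      obtain ⟨c, hc, rfl⟩ := hg.ge hb
      obtain rfl : g * c * g⁻¹ = a := Subtype.ext e
      exact ⟨c, ⟨⟨⟨c, hc⟩, hv, rfl⟩, by
        simpa [mul_assoc] using (inferInstance : Q.Normal).conj_mem _ ha g⁻¹⟩, rfl⟩
  refine ⟨c2, ?_⟩
  have := (Q.subgroupOf A).card_mul_index
  rw [← inf_subgroupOf_left, Nat.card_congr (subgroupOfEquivOfLe inf_le_left).toEquiv, c1, c2, inf_subgroupOf_left] at this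
  rw [← relIndex_ker, QuotientGroup.ker_mk', relIndex]
  omega

end Cfsg.Agent.S5444
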