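import Cfsg.Statements.S5445
import Cfsg.Agent.F24T.Main
import Cfsg.Agent.Small.F24V

set_option autoImplicit false
open Cfsg

namespace Cfsg.Agent.S5445

open Subgroup Cfsg.Agent.F24T Cfsg.Agent.J4T

/-- Let G be a finite group of large Fischer type at the involution z: the generalized Fitting subgroup Q of H = C_G(z) is extraspecial of order 2^13, H has normal subgroups Q ≤ H₁ ≤ H₂ with H₁/Q of order 3, H₂/H₁ the projective special unitary group of dimension 4 over the field with nine elements and H₂ of index 2 in H, and some conjugate of z other than z lies in Q. Then G has an elementary abelian subgroup V of order 8 containing z whose normalizer L has the following structure: the largest normal 2-subgroup R of L is special of order 2^15 with centre V, and L/R is isomorphic to the direct product of SL(3, 2) and the alternating group of degree 6. -/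
theorem result {G : Type*} [Group G] [Finite G] (z : G) (Q : Subgroup (Subgroup.centralizer ({z} : Set G))) [Q.Normal] (hF : Cfsg.IsOfLargeFischerTypeAt z Q) : ∃ V : Subgroup G, Cfsg.IsElementaryAbelian 2 V ∧ Nat.card V = 8 ∧ z ∈ V ∧ ∃ R : Subgroup G, R = (Cfsg.pCore 2 ↥(Subgroup.normalizer (V : Set G))).map (Subgroup.normalizer (V : Set G)).subtype ∧ Cfsg.IsSpecial 2 ↥R ∧ Nat.card R = 2 ^ 15 ∧ (Subgroup.center ↥R).map R.subtype = V ∧ ∃ _ : (R.subgroupOf (Subgroup.normalizer (V : Set G))).Normal, Nonempty (↥(Subgroup.normalizer (V : Set G)) ⧸ R.subgroupOf (Subgroup.normalizer (V : Set G)) ≃* Matrix.SpecialLinearGroup (Fin 3) (ZMod 2) × ↥(alternatingGroup (Fin 6))) := by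
  obtain ⟨-, p, θ, μ, x, ν, g, B, hg, -⟩ := F24T.main hF
  have W := B.toSt
  obtain ⟨h1, ⟨e⟩⟩ := W.trio hg
  obtain ⟨h2, h3⟩ := W.special3
  have k : W.R3.subgroupOf (normalizer (W.ι3.range : Set G)) = pCore 2 _ :=
    h1 ▸ comap_map_eq_self_of_injective (subtype_injective _) _
  have : (W.R3.subgroupOf (normalizer (W.ι3.range : Set G))).Normal := k ▸ inferInstance
  refine ⟨W.ι3.range, ⟨⟨⟨fun a b => Subtype.ext (W.V_C b.2 a a.2)⟩⟩, ?_⟩, W.card_ι3, W.z_mem, W.R3, h1.symm, h2, W.card_R3,
    by rw [h3, subgroupOf_map_subtype, inf_eq_left.2 ((le_inf W.V_E W.V_C).trans W.D_le)], this,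
    ⟨(QuotientGroup.quotientMulEquivOfEq k).trans e⟩⟩
  rintro _ ⟨v, rfl⟩; rw [← map_pow, XV.sq, map_one]

end Cfsg.Agent.S5445
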