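import Cfsg.Statements.S5447
import Cfsg.Agent.F24T.Main
import Cfsg.Agent.F24T.Thm

set_option autoImplicit false
open Cfsg

namespace Cfsg.Agent.S5447
open Subgroup Cfsg.Agent.F24T Cfsg.Agent.J4T

/-- Let G be a finite group of large Fischer type at the involution z: the generalized Fitting subgroup Q of H = C_G(z) is extraspecial of order 2^13, H has normal subgroups Q ≤ H₁ ≤ H₂ with H₁/Q of order 3, H₂/H₁ the projective special unitary group of dimension 4 over the field with nine elements and H₂ of index 2 in H, and some conjugate of z other than z lies in Q. Let T be a Sylow 2-subgroup of G, A its Thompson subgroup and M = N_G(A) its normalizer. Then M controls fusion in A (elements of A conjugate in G are conjugate in M), and M has exactly two orbits on the non-identity elements of A: those conjugate to z in G and those not. -/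
theorem result {G : Type*} [Group G] [Finite G] (z : G) (Q : Subgroup (Subgroup.centralizer ({z} : Set G))) [Q.Normal] (hF : Cfsg.IsOfLargeFischerTypeAt z Q) (T : Sylow 2 G) (A M : Subgroup G) (hA : A = Cfsg.thompsonSubgroupOf 2 (T : Subgroup G)) (hM : M = Subgroup.normalizer (A : Set G)) : (∀ a ∈ A, ∀ g : G, g * a * g⁻¹ ∈ A → ∃ m ∈ M, m * a * m⁻¹ = g * a * g⁻¹) ∧ (∃ a ∈ A, a ≠ 1 ∧ IsConj z a) ∧ (∃ a ∈ A, a ≠ 1 ∧ ¬ IsConj z a) ∧ ∀ a ∈ A, ∀ b ∈ A, a ≠ 1 → b ≠ 1 → (IsConj z a ↔ IsConj z b) → ∃ m ∈ M, m * a * m⁻¹ = b := by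
  obtain ⟨-, p, θ, μ, x, ν, -, B, -, hy⟩ := F24T.main hF
  obtain ⟨ν, W, h, h1, h2⟩ := B.thom hy T
  subst hM
  rw [hA, h]
  have o : ∀ a ∈ ν.range, a ≠ 1 → ∃ m ∈ normalizer (ν.range : Set G),
      m * ν (XV.mk' 11 64) * m⁻¹ = a ∨ m * ν (XV.mk' 11 2) * m⁻¹ = a := by
    rintro _ ⟨v, rfl⟩ h
    obtain ⟨a, ha, e⟩ := B.orbM hy (v := v) (by rintro rfl; exact h (map_one ν))
    obtain ⟨n, hn⟩ := W.real a ha
    exact ⟨n, actIn_norm ⟨a, ha, hn⟩, e.imp (fun e => (hn _).trans (congrArg ν e)) fun e => (hn _).trans (congrArg ν e)⟩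
  have k : ∀ a ∈ ν.range, ∀ b ∈ ν.range, a ≠ 1 → b ≠ 1 → (IsConj z a ↔ IsConj z b) →
      ∃ m ∈ normalizer (ν.range : Set G), m * a * m⁻¹ = b := fun a ha b hb a1 b1 e => by
    obtain ⟨m, hm, rfl | rfl⟩ := o a ha a1 <;> obtain ⟨n, hn, rfl | rfl⟩ := o b hb b1
    · exact ⟨n * m⁻¹, mul_mem hn (inv_mem hm), by group⟩
    · exact absurd ((e.1 (h1.trans (isConj_iff.2 ⟨m, rfl⟩))).trans (isConj_iff.2 ⟨n, rfl⟩).symm) h2
    · exact absurd ((e.2 (h1.trans (isConj_iff.2 ⟨n, rfl⟩))).trans (isConj_iff.2 ⟨m, rfl⟩).symm) h2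
    · exact ⟨n * m⁻¹, mul_mem hn (inv_mem hm), by group⟩
  refine ⟨fun a ha g hg => ?_, ⟨_, ⟨_, rfl⟩, fun e => B.toSt.z1 (isConj_one_left.1 (e ▸ h1)), h1⟩,
    ⟨_, ⟨_, rfl⟩, fun e => absurd (congrArg XV.val (W.inj (e.trans (map_one ν).symm))) (by decide), h2⟩, k⟩
  by_cases a1 : a = 1
  · exact ⟨1, one_mem _, by simp [a1]⟩
  have c : IsConj a (g * a * g⁻¹) := isConj_iff.2 ⟨g, rfl⟩
  exact k a ha _ hg a1 (by simpa using a1) ⟨fun h => h.trans c, fun h => h.trans c.symm⟩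

end Cfsg.Agent.S5447
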