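import Cfsg.Statements.S5449
import Cfsg.Agent.F24T.Main
import Cfsg.Agent.F24U.Main

set_option autoImplicit false
open Cfsg

namespace Cfsg.Agent.S5449
open Subgroup Cfsg.Agent.F24T Cfsg.Agent.F24U Cfsg.Agent.Fischer

/-- Let G be a finite group of large Fischer type at the involution z: the generalized Fitting subgroup Q of H = C_G(z) is extraspecial of order 2^13, H has normal subgroups Q ≤ H₁ ≤ H₂ with H₁/Q of order 3, H₂/H₁ the projective special unitary group of dimension 4 over the field with nine elements and H₂ of index 2 in H, and some conjugate of z other than z lies in Q. Then Q contains a four-group E, not containing z and containing an involution not conjugate to z in G, whose centralizer in G is quasisimple with quotient by E isomorphic to the projective special unitary group of dimension 6 over the field with four elements. -/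
theorem result {G : Type*} [Group G] [Finite G] (z : G) (Q : Subgroup (Subgroup.centralizer ({z} : Set G))) [Q.Normal] (hF : Cfsg.IsOfLargeFischerTypeAt z Q) : ∃ E : Subgroup G, E ≤ (Q.map (Subgroup.centralizer ({z} : Set G)).subtype) ∧ Cfsg.IsElementaryAbelian 2 E ∧ Nat.card E = 4 ∧ z ∉ E ∧ (∃ t ∈ E, orderOf t = 2 ∧ ¬ IsConj z t) ∧ Cfsg.IsQuasisimple ↥(Subgroup.centralizer (E : Set G)) ∧ ∃ (_ : (E.subgroupOf (Subgroup.centralizer (E : Set G))).Normal) (K : Type) (_ : Field K) (_ : Fintype K), Fintype.card K = 4 ∧ Nonempty (↥(Subgroup.centralizer (E : Set G)) ⧸ E.subgroupOf (Subgroup.centralizer (E : Set G)) ≃* Cfsg.PSU 6 K 2) := by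
  obtain ⟨hQ, p, θ, μ, x, ν, g, B, hg, hy⟩ := F24T.main hF
  have B : Hy z p θ μ x ν := ⟨B, hy, isConj_iff.2 ⟨g, hg⟩⟩
  refine ⟨EE ν, hQ ▸ B.EE_Q, ⟨⟨⟨fun a b => Subtype.ext (EE_comm a.2 (EE_Y b.2))⟩⟩, fun a ha => by rw [sq, EE_sq ha]⟩, B.cardE,
    B.z_EE, ⟨nu ν 2, ⟨2, by simp, rfl⟩, orderOf_eq_prime (by rw [sq, nu_sq]) fun e => ?_, B.nconj (by decide +kernel)⟩,
    B.qsY, normal_EE, F4, inferInstance, fintypeF4, factF4.out, B.quotE.2.2⟩
  exact absurd (B.nu_inj (by norm_num) (by norm_num) (e.trans nu_zero.symm)) (by norm_num)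

end Cfsg.Agent.S5449
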