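import Cfsg.Statements.S5450
import Cfsg.Agent.F24T.Main
import Cfsg.Agent.F24U.B22

set_option autoImplicit false
open Cfsg

namespace Cfsg.Agent.S5450
open Subgroup Cfsg.Agent.F24T Cfsg.Agent.F24U Cfsg.Agent.Fischer

/-- Let G be a finite group of large Fischer type at the involution z: the generalized Fitting subgroup Q of H = C_G(z) is extraspecial of order 2^13, H has normal subgroups Q ≤ H₁ ≤ H₂ with H₁/Q of order 3, H₂/H₁ the projective special unitary group of dimension 4 over the field with nine elements and H₂ of index 2 in H, and some conjugate of z other than z lies in Q. Let t be an involution of Q not conjugate to z in G, and K the generalized Fitting subgroup of the centralizer of t. Then K is quasisimple of index 2 in the centralizer of t, contains t, and the centralizer of t modulo the subgroup generated by t is isomorphic to the full automorphism group of the Fischer group Fi₂₂ (as presented). -/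
theorem result {G : Type*} [Group G] [Finite G] (z : G) (Q : Subgroup (Subgroup.centralizer ({z} : Set G))) [Q.Normal] (hF : Cfsg.IsOfLargeFischerTypeAt z Q) (t : G) (htQ : ∃ htc : t ∈ Subgroup.centralizer ({z} : Set G), (⟨t, htc⟩ : Subgroup.centralizer ({z} : Set G)) ∈ Q) (ht2 : orderOf t = 2) (ht : ¬ IsConj z t) (K : Subgroup ↥(Subgroup.centralizer ({t} : Set G))) (hK : K = Cfsg.generalizedFittingSubgroup ↥(Subgroup.centralizer ({t} : Set G))) [hn : ((Subgroup.zpowers t).subgroupOf (Subgroup.centralizer ({t} : Set G))).Normal] : Cfsg.IsQuasisimple ↥K ∧ K.index = 2 ∧ (∃ htc : t ∈ Subgroup.centralizer ({t} : Set G), (⟨t, htc⟩ : ↥(Subgroup.centralizer ({t} : Set G))) ∈ K) ∧ Nonempty (↥(Subgroup.centralizer ({t} : Set G)) ⧸ (Subgroup.zpowers t).subgroupOf (Subgroup.centralizer ({t} : Set G)) ≃* MulAut Cfsg.Spor.Fi22) := by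
  obtain ⟨hQ, p, θ, μ, x, ν, g, B, hg, hy⟩ := F24T.main hF
  have B : Hy z p θ μ x ν := ⟨B, hy, isConj_iff.2 ⟨g, hg⟩⟩
  obtain ⟨htc, htQ⟩ := htQ
  obtain ⟨k, hk⟩ := B.conj_t (hQ ▸ ⟨_, htQ, rfl⟩) ht2 ht
  obtain ⟨L, R, -⟩ := B.r22
  have hc : t ∈ centralizer {t} := mem_centralizer_singleton_iff.2 rfl
  obtain ⟨e, he⟩ := cent_equiv (MulAut.conj k) (a := nu ν 2) (b := t) hk.2
  have he' : e (nC ν 2) = ⟨t, hc⟩ := Subtype.ext ((he (nC ν 2)).trans hk.2)
  have R := R.map e he'
  obtain ⟨π, h1, h2⟩ := R.aut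
  rw [hK, R.fstar]
  refine ⟨R.qs, R.index, ⟨hc, R.mem⟩, ⟨(QuotientGroup.quotientMulEquivOfEq ?_).trans
    (QuotientGroup.quotientKerEquivOfSurjective π h1)⟩⟩
  ext g
  rw [MonoidHom.mem_ker, h2, mem_subgroupOf, Subtype.ext_iff, Subtype.ext_iff]
  refine ⟨mem_zpowers_invol (sq_of_orderOf ht2), ?_⟩
  rintro (e | e) <;> rw [e]
  exacts [one_mem _, mem_zpowers _]

end Cfsg.Agent.S5450
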