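import Cfsg.Statements.S5451
import Cfsg.Agent.F24T.R12

set_option autoImplicit false
open Cfsg

namespace Cfsg.Agent.S5451


open Subgroup Cfsg.Agent.F24T Cfsg.Agent.J4T Cfsg.Agent.Comp

/-- Let G be a finite group of large Fischer type at the involution z: the generalized Fitting subgroup Q of H = C_G(z) is extraspecial of order 2^13, H has normal subgroups Q ≤ H₁ ≤ H₂ with H₁/Q of order 3, H₂/H₁ the projective special unitary group of dimension 4 over the field with nine elements and H₂ of index 2 in H, and some conjugate of z other than z lies in Q. Let X be a subgroup of H of order 3 whose product with Q is normal in H (X maps onto the normal subgroup of order 3 of H/Q). Then the centralizer of X in H is quasisimple with cyclic centre of order 6 and central quotient isomorphic to the projective special unitary group of dimension 4 over the field with nine elements. -/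
theorem result {G : Type*} [Group G] [Finite G] (z : G) (Q : Subgroup (Subgroup.centralizer ({z} : Set G))) [Q.Normal] (hF : Cfsg.IsOfLargeFischerTypeAt z Q) (X : Subgroup (Subgroup.centralizer ({z} : Set G))) (hX : Nat.card X = 3) (hXQ : (X ⊔ Q).Normal) : Cfsg.IsQuasisimple ↥(Subgroup.centralizer ((X : Subgroup (Subgroup.centralizer ({z} : Set G))) : Set (Subgroup.centralizer ({z} : Set G)))) ∧ IsCyclic ↥(Subgroup.center ↥(Subgroup.centralizer ((X : Subgroup (Subgroup.centralizer ({z} : Set G))) : Set (Subgroup.centralizer ({z} : Set G))))) ∧ Nat.card ↥(Subgroup.center ↥(Subgroup.centralizer ((X : Subgroup (Subgroup.centralizer ({z} : Set G))) : Set (Subgroup.centralizer ({z} : Set G))))) = 6 ∧ ∃ (K : Type) (_ : Field K) (_ : Fintype K), Fintype.card K = 9 ∧ Nonempty (↥(Subgroup.centralizer ((X : Subgroup (Subgroup.centralizer ({z} : Set G))) : Set (Subgroup.centralizer ({z} : Set G)))) ⧸ Subgroup.center ↥(Subgroup.centralizer ((X : Subgroup (Subgroup.centralizer ({z} : Set G))) : Set (Subgroup.centralizer ({z} : Set G)))) ≃* Cfsg.PSU 4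 K 3) := by
  obtain ⟨hQ, p, θ, μ, x, ν, g, B, hg, -⟩ := F24T.main hF
  have S := B.toSt
  have kq : μ.ker = Q := ext fun k => (S.ker k).trans (hQ ▸ mem_map_iff_mem (subtype_injective _))
  obtain ⟨y, oy, rfl⟩ := exists_zpowers_of_prime Nat.prime_three hX
  have h1 : μ y ∈ zpowers wA := mem_W_of_normal S.card_Xs (S.μ_mem y)
    (by rw [← map_pow, ← oy, pow_orderOf_eq_one, map_one]) fun a ha => by
      obtain ⟨k, rfl⟩ := S.range.ge ha
      have := mem_map_of_mem μ (hXQ.conj_mem y (mem_sup_left (mem_zpowers y)) k)
      rwa [Subgroup.map_sup, (Subgroup.map_eq_bot_iff Q).2 kq.ge, sup_bot_eq, MonoidHom.map_zpowers, map_mul, map_mul,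
        map_inv] at this
  have h2 := Solv.card_comap μ (H := zpowers wA) (S.range ▸ W_X0.trans X0_le)
  have h3 := card_ker_mul μ
  rw [S.range, S.card_Xs, S.cardH] at h3
  rw [card_W, show Nat.card μ.ker = 8192 by omega] at h2
  have op : orderOf (⟨p, S.pH⟩ : centralizer ({z} : Set G)) = 3 := (orderOf_mk ..).trans S.op
  obtain ⟨k, -, hk⟩ := exists_conj_mem_sylow (K := (zpowers wA).comap μ) (k := 1) (j := 1) Nat.prime_three (zpowers_le.2 h1) hX h2 (by norm_num)
    (x := ⟨p, S.pH⟩) (by rw [mem_comap, S.μp]; exact mem_zpowers _) (by rw [pow_one, ← op, pow_orderOf_eq_one])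
  rw [← zpowers_eq_of_prime (oy ▸ Nat.prime_three) hk (by
    rw [Ne, conj_eq_one_iff]; intro e; rw [e, orderOf_one] at op; omega), centralizer_zpowers, ← map_conj_centralizer]
  exact B.six.conc ((MulAut.conj k).subgroupMap _)

end Cfsg.Agent.S5451
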