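import Cfsg.Statements.S5472
import Cfsg.Agent.Small.F22S

set_option autoImplicit false
open Cfsg

namespace Cfsg.Agent.S5472



/-- Let G be a finite group with trivial centre generated by a conjugation-invariant set D of 3-transpositions on which it acts primitively, such that for some d in D the subgroup generated by the members of D other than d commuting with d has central largest normal 2- and 3-subgroups, and suppose G with D is of type M(22). Then G has a non-inner automorphism s of order 2 whose fixed-point subgroup is isomorphic to the full automorphism group of Ω⁺(8, 2) (the commutator subgroup of the isometry group of the hyperbolic quadratic form in dimension 8 over the field with two elements), together with distinct commuting members a, b of D fixed by s such that: s, s composed with conjugation by a, and s composed with conjugation by a b represent the three classes (under the automorphism group) of non-inner automorphisms of order 2; the elements fixed by the automorphism s composed with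 conjugation by a are exactly those fixed by s and commuting with a, and they form a group isomorphic to the direct product of a group of order 2 and the symplectic group of dimension 6 over the field with two elements; and the elements fixed by the automorphism s composed with conjugation by a b form a group whose largest normal 2-subgroup is elementary abelian of order 64 with quotient isomorphic to the full isometry group of the elliptic quadratic form in dimension 6 over the field with two elements. -/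
theorem result {G : Type*} [Group G] [Finite G] {D : Set G} (hD : Cfsg.IsThreeTranspositionGroup D) (hprim : Cfsg.IsPrimitiveUnderConj D) (d₀ : G) (hd₀ : d₀ ∈ D) (h3 : Cfsg.pCore 3 ↥(Subgroup.closure {y : G | y ∈ D ∧ y ≠ d₀ ∧ Commute d₀ y}) ≤ Subgroup.center ↥(Subgroup.closure {y : G | y ∈ D ∧ y ≠ d₀ ∧ Commute d₀ y})) (h2 : Cfsg.pCore 2 ↥(Subgroup.closure {y : G | y ∈ D ∧ y ≠ d₀ ∧ Commute d₀ y}) ≤ Subgroup.center ↥(Subgroup.closure {y : G | y ∈ D ∧ y ≠ d₀ ∧ Commute d₀ y})) (h22 : Cfsg.IsOfTypeM22 G D) : ∃ (s : MulAut G) (a b : G) (Cs : Subgroup G), orderOf s = 2 ∧ s ∉ (MulAut.conj : G →* MulAut G).range ∧ (∀ g : G, g ∈ Cs ↔ s g = g) ∧ Nonempty (↥Cs ≃* MulAut (Cfsg.Omega (ZMod 2) (Cfsg.quadFormPlus 4 (ZMod 2)))) ∧ a ∈ D ∧ b ∈ D ∧ a ≠ b ∧ Commute a b ∧ s a = a ∧ s b = b ∧ (∀ t : MulAut G, orderOf t = 2 → t ∉ (MulAut.conj : G →* MulAut G).range → (IsConj t s ∨ IsConj t (s * MulAut.conj a) ∨ IsConj t (s * MulAut.conj (a * b)))) ∧ ¬ IsConj s (s * MulAut.conj a) ∧ ¬ IsConj s (s * MulAut.conj (a * b)) ∧ ¬ IsConj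 (s * MulAut.conj a) (s * MulAut.conj (a * b)) ∧ (∀ g : G, (s * MulAut.conj a) g = g ↔ g ∈ Cs ⊓ Subgroup.centralizer ({a} : Set G)) ∧ Nonempty (↥(Cs ⊓ Subgroup.centralizer ({a} : Set G)) ≃* Multiplicative (ZMod 2) × Cfsg.PSp 3 (ZMod 2)) ∧ ∃ Csab O : Subgroup G, (∀ g : G, g ∈ Csab ↔ (s * MulAut.conj (a * b)) g = g) ∧ O = (Cfsg.pCore 2 ↥Csab).map Csab.subtype ∧ Cfsg.IsElementaryAbelian 2 O ∧ Nat.card O = 64 ∧ ∃ _ : (O.subgroupOf Csab).Normal, Nonempty (↥Csab ⧸ O.subgroupOf Csab ≃* Cfsg.isometryGroup (ZMod 2) (Cfsg.quadFormMinus 2 (ZMod 2) 1 1)) := by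
  have h := Fischer.b22 hD hprim h22
  obtain ⟨ψ, e⟩ := h.iso
  obtain ⟨h1, h2, h3, h4, h5, h6, h7, h8, h9, h10, h11, π, h12, h13, h14⟩ := Small.F22S.p72.map ψ
  have m : ∀ j < 9, ψ (Known.Fi22T.y j) ∈ D := fun j hj => e ▸ ⟨_, Small.F22A.y_eq hj ▸ Fischer.F22.g_mem hj, rfl⟩
  obtain ⟨o⟩ := Small.O6mT.equiv
  obtain ⟨n, ⟨q⟩⟩ := Small.quot_of_ker h12.surj
    (Subgroup.comap_map_eq_self_of_injective (Subgroup.subtype_injective _) π.ker).symm
  have s : ∀ x ∈ π.ker.map (Subgroup.subtype _), x * x = 1 := by
    rintro _ ⟨x, k, rfl⟩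
    exact congrArg Subtype.val (h14 x k)
  refine ⟨_, _, _, _, h1, h2, fun _ => Iff.rfl, h3, m 8 (by decide), m 0 (by decide), ψ.injective.ne (by
    simpa using Small.ne_of_chk Known.Fi22T.mdl (u := [8]) (v := [0]) 0 (by decide +kernel)), .map (by
      simpa [Commute, SemiconjBy] using Known.Fi22T.mdl.eq (u := [8, 0]) (v := [0, 8]) (by decide +kernel)) ψ,
    h4, h5, h6, h7, h8, h9, fun g => h10 ▸ Iff.rfl, h10 ▸ h11, _, _, fun _ => Iff.rfl,
    by rw [(h12.core Small.o6.1).1], ⟨⟨⟨fun a b => Subtype.ext ?_⟩⟩, fun a k => (pow_two a).trans (s a k)⟩,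
    (Subgroup.card_map_of_injective (Subgroup.subtype_injective _)).trans h13, n, ⟨q.trans o.symm⟩⟩
  have i := fun x k => (inv_eq_of_mul_eq_one_right (s x k)).symm
  exact (i _ (a * b).2).trans (by rw [Subgroup.coe_mul, mul_inv_rev, ← i _ a.2, ← i _ b.2]; rfl)

end Cfsg.Agent.S5472
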