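import Cfsg.Statements.S5522
import Cfsg.Agent.Golay.Classes

set_option autoImplicit false
open Cfsg

namespace Cfsg.Agent.S5522

open Cfsg.Agent.Comp Cfsg.Agent.Golay MulAction Cfsg.Spor
set_option maxRecDepth 100000

theorem aux {p k : ℕ} (hp : p.Prime) (Ts : List (ℕ × List ℕ)) (hn : ¬ p ^ (k + 1) ∣ 7920)
    (h : band (band (allL (flatT Ts) in11) (band (ssOK 24 5 31 Ts) (band (Nat.ble (lenT Ts) (p ^ k))
      (Nat.ble (p ^ k) (transOK 24 5 31 Ts))))) (allL (prodL mul24 Ts one24 []) fun c =>
        bor (not (Nat.beq (powC mul24 one24 c p) one24))
          (anyLt 24 fun i => band (not (tb cD i)) (Nat.beq (get24 c i) i))) = true)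
    {g : Equiv.Perm GolayPt} (hg : g ∈ M11) (ho : g ^ p = 1) : ∃ x, x ∉ squareDodecad ∧ g x = x := by
  rw [band_eq, band_eq, Bool.and_eq_true, Bool.and_eq_true] at h
  have h1 := codes11 h.1.1
  have h2 := card_closure_of_ss par24 Ts (h1.mono le_top) h.1.2
  obtain ⟨u, hu, h3⟩ := exists_conj_mem_sylow (j := 1) hp (h1.closure_le fun _ _ _ h h' => h.unique h') h2 card_M11 hn hg
    (by rwa [pow_one])
  have h4 := h.1.2
  simp only [band_eq, Bool.and_eq_true] at h4
  obtain ⟨c, hc, h5⟩ := (lists_of_trans par24 Ts h1.closure.of_flatT h2 h4.2.2).forall h.2 h3
  simp only [bor_eq, Bool.or_eq_true, Bool.not_eq_true', nbeq_false, anyLt_iff, band_eq, Bool.and_eq_true] at h5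
  obtain ⟨i, hi, h6, h7⟩ := h5.resolve_left (not_not.2 (((isCanon_CRep EG par24).eq_iff
    ((isGrp_CRep EG par24).pow hc p) (isGrp_CRep EG par24).one).1 (by rw [conj_pow, ho]; simp)))
  refine ⟨u⁻¹ • EG.dec i, fun h => ?_, ?_⟩
  · have := (smul_mem_iff_of_stab hu.1.2).2 h
    rw [smul_inv_smul, squareDodecad_eq, EG.dec_mem_ofMask hi, ← tb_eq, h6] at this
    exact absurd this (by simp)
  · have := (CRep.fix_iff hc.1 hi).2 h7
    rwa [mul_smul, mul_smul, smul_eq_iff_eq_inv_smul] at this

/-- The Mathieu group M₁₁, realised as the stabiliser of one point of the dodecad of squares inside the stabiliser M₁₂ of that dodecad in M₂₄, acts on the twelve coordinate positions outside the dodecad of squares (its 3-transitive action of degree 12); in this action every element of prime order fixes a point, i.e. the action is elusive. -/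
theorem result (g : Equiv.Perm Cfsg.GolayPt) (hg : g ∈ Cfsg.Spor.M11) (hord : (orderOf g).Prime) :
    ∃ x : Cfsg.GolayPt, x ∉ Cfsg.Spor.squareDodecad ∧ g x = x := by
  have h1 : orderOf g ∣ 2 ^ 4 * 3 ^ 2 * 5 * 11 := by
    have := orderOf_dvd_natCard (⟨g, hg⟩ : M11)
    rwa [card_M11, ← Subgroup.orderOf_coe] at this
  have h2 := pow_orderOf_eq_one g
  rw [hord.dvd_mul, hord.dvd_mul, hord.dvd_mul] at h1
  rcases h1 with ((h | h) | h) | h
  · rw [(Nat.prime_dvd_prime_iff_eq hord Nat.prime_two).1 (hord.dvd_of_dvd_pow h)] at h2
    exact aux (k := 4) Nat.prime_two [(1, [984818244535754528103549039458486304, 984778947275340660717821982278781344, 980258604361933000183917870384793792, 980337198607347817318270043156498688, 484814518454322385619991600704889344, 484971707699991087510366043352703040, 466923461145403760718230368521651776, 466726975873639474133658930831787136]), (2, [984818244535754528103549039458486304, 438309809805128941928441216923451424])] (by norm_num) (by decide +kernel) hg h2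
  · rw [(Nat.prime_dvd_prime_iff_eq hord Nat.prime_three).1 (hord.dvd_of_dvd_pow h)] at h2
    exact aux (k := 2) Nat.prime_three [(1, [984818244535754528103549039458486304, 921033928770474594201627819832811808, 238332941169900283208122778148718688, 921201196678770549392253329009088768, 238263376278893385256826514887160384, 984720548920155097964205567319294016, 238409080524485082010973074457038208, 984644637122988982120502427423999488, 921131378252173686388476600262337728])] (by norm_num) (by decide +kernel) hg h2
  · rw [(Nat.prime_dvd_prime_iff_eq hord Nat.prime_five).1 h] at h2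
    exact aux (k := 1) Nat.prime_five [(1, [984818244535754528103549039458486304, 901444898217648023352761800181952640, 610385577262448370957431870642004032, 320030005216691724969199551772001664, 735667537522803183701258644913066240])] (by norm_num) (by decide +kernel) hg h2
  · rw [(Nat.prime_dvd_prime_iff_eq hord (by norm_num)).1 h] at h2
    exact aux (k := 1) (by norm_num) [(1, [984818244535754528103549039458486304, 318812393271399138627255364836470976, 233186012364219507759252847075918976, 732549259961438937157182490805311904, 470521125876357240990966052431270176, 934254982351651953005102119222654528, 902467282665967354120783367599727872, 798533091716201149793897477111597568, 837975800286508237754455940626194528, 437924731901784905176179779782852672, 638271794009775860415226189844057472])] (by norm_num) (by decide +kernel) hg h2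

end Cfsg.Agent.S5522
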