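import Cfsg.Statements.S5577
import Cfsg.Agent.J4F.Big
import Cfsg.Agent.J4F.Three
import Cfsg.Agent.J4T.Main

set_option autoImplicit false
open Cfsg

namespace Cfsg.Agent.S5577

/-- Let G be a finite non-abelian simple group of Janko-four type (an involution z whose centralizer H has an extraspecial largest normal 2-subgroup E of order 2^13 containing its centralizer in H, a normal subgroup N ≥ E of H with N/E of order 3 and H/N the automorphism group of M₂₂, and a subgroup P ≤ N of order 3 with C_E(P) = ⟨z⟩, N_H(P) ≠ C_H(P) and P ≤ C_H(P)′). Then for p = 23, 29, 31, 37 and 43 every Sylow p-subgroup of G is self-centralizing, with normalizer of order 23·22, 29·28, 31·10, 37·12 and 43·14 respectively. -/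
theorem result {G : Type*} [Group G] [Finite G] [IsSimpleGroup G] (hG : ¬ IsMulCommutative G) (hJ : Cfsg.IsOfJankoFourType G) :
    (∀ U : Sylow 23 G, Subgroup.centralizer ((U : Subgroup G) : Set G) = (U : Subgroup G) ∧ Nat.card ↥(Subgroup.normalizer ((U : Subgroup G) : Set G)) = 23 * 22) ∧
    (∀ U : Sylow 29 G, Subgroup.centralizer ((U : Subgroup G) : Set G) = (U : Subgroup G) ∧ Nat.card ↥(Subgroup.normalizer ((U : Subgroup G) : Set G)) = 29 * 28) ∧
    (∀ U : Sylow 31 G, Subgroup.centralizer ((U : Subgroup G) : Set G) = (U : Subgroup G) ∧ Nat.card ↥(Subgroup.normalizer ((U : Subgroup G) : Set G)) = 31 * 10) ∧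
    (∀ U : Sylow 37 G, Subgroup.centralizer ((U : Subgroup G) : Set G) = (U : Subgroup G) ∧ Nat.card ↥(Subgroup.normalizer ((U : Subgroup G) : Set G)) = 37 * 12) ∧
    (∀ U : Sylow 43 G, Subgroup.centralizer ((U : Subgroup G) : Set G) = (U : Subgroup G) ∧ Nat.card ↥(Subgroup.normalizer ((U : Subgroup G) : Set G)) = 43 * 14) := by
  obtain ⟨z, hz⟩ := hJ
  obtain ⟨e, -⟩ := J4T.main hG hz
  have h3 : ∀ y : J4F.J, orderOf y = 3 → Nat.card (Subgroup.centralizer ({y} : Set J4F.J)) ∣ 2 ^ 13 * 3 * 887040 :=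
    fun y hy => by rw [J4F.cent3 hy]; norm_num
  exact ⟨J4F.syl_of e (by norm_num) (by norm_num) fun _ => J4F.big23,
    J4F.syl_of e (by norm_num) (by norm_num) fun _ => J4F.big29 h3,
    J4F.syl_of e (by norm_num) (by norm_num) fun _ => J4F.big31 h3,
    J4F.syl_of e (by norm_num) (by norm_num) fun _ => J4F.big37 h3,
    J4F.syl_of e (by norm_num) (by norm_num) fun _ => J4F.big43 h3⟩

end Cfsg.Agent.S5577
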