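import Cfsg.Statements.S5722
import Cfsg.Agent.CL.Prim

set_option autoImplicit false
open Cfsg

namespace Cfsg.Agent.S5722

open Subgroup MulAction Cfsg.Agent.CL
open scoped Pointwise

universe v

theorem quot_bd {G α : Type v} [Group G] [Finite G] [Finite α] [MulAction G α] (a : α)
    (h : Bd (toPermHom G α).range α) : 3 * c (toPermHom G α).range + 4 ≤ 4 * Nat.card α := by
  have := h {a} (by rintro x rfl y rfl _ _; rfl)
  rwa [Set.ncard_singleton] at this

theorem main : ∀ (n k : ℕ) (G α : Type v) [Group G] [Finite G] [Finite α] [MulAction G α] [FaithfulSMul G α],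
    Nat.card α = n → Nat.card G = k → Bd G α := by
  intro n
  induction n using Nat.strong_induction_on with
  | _ n ih =>
  intro k
  induction k using Nat.strong_induction_on with
  | _ k ih2 =>
  intro G α _ _ _ _ _ hn hk S hS
  classical
  have ih' : ∀ (G' β : Type v) [Group G'] [Finite G'] [Finite β] [MulAction G' β] [FaithfulSMul G' β],
      Nat.card β < Nat.card α → Bd G' β := fun G' β _ _ _ _ _ h => ih _ (hn ▸ h) _ G' β rfl rfl
  have ih2' : ∀ (G' : Type v) [Group G'] [Finite G'] [MulAction G' α] [FaithfulSMul G' α],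
      Nat.card G' < Nat.card G → Bd G' α := fun G' _ _ _ _ h => ih2 _ (hk ▸ h) G' α hn rfl
  clear ih ih2
  rcases Nat.lt_or_ge (Nat.card α) 2 with h2 | h2
  · haveI : Subsingleton α := Finite.card_le_one_iff_subsingleton.1 (by omega)
    haveI : Subsingleton G := ⟨fun g h => eq_of_smul_eq_smul (α := α) fun x => Subsingleton.elim _ _⟩
    rw [c_zero]
    have := Set.ncard_le_card S
    omega
  haveI : Nontrivial α := Finite.one_lt_card_iff_nontrivial.1 h2
  by_cases htr : IsPretransitive G α
  swap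
  · obtain ⟨a, b, hb⟩ : ∃ a b : α, b ∉ orbit G a := by
      by_contra h
      push Not at h
      exact htr ⟨fun x y => h x y⟩
    let Γ : SubMulAction G α := ⟨(orbit G a)ᶜ, fun g x hx h => hx (by
      have := mem_orbit_of_mem_orbit g⁻¹ h
      rwa [inv_smul_smul] at this)⟩
    have h1 : Nat.card (orbit G a) + Nat.card Γ = Nat.card α := Set.ncard_add_ncard_compl (orbit G a)
    have h3 : 0 < Nat.card Γ := Nat.card_pos_iff.2 ⟨⟨⟨b, hb⟩⟩, inferInstance⟩
    have h4 : 0 < Nat.card (orbit G a) := Nat.card_pos_iff.2 ⟨⟨⟨a, mem_orbit_self a⟩⟩, inferInstance⟩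
    have h5 := quot_bd (G := G) (α := orbit G a) ⟨a, mem_orbit_self a⟩ (ih' _ _ (by omega))
    haveI : FaithfulSMul (toPermHom G (orbit G a)).ker Γ := ⟨fun {g h} hgh => Subtype.ext
      (eq_of_smul_eq_smul (α := α) fun x => by
        by_cases hx : x ∈ orbit G a
        · have e1 := congrArg Subtype.val (DFunLike.congr_fun g.2 ⟨x, hx⟩)
          have e2 := congrArg Subtype.val (DFunLike.congr_fun h.2 ⟨x, hx⟩)
          exact e1.trans e2.symm
        · exact congrArg Subtype.val (hgh ⟨x, hx⟩))⟩
    have h6 := ih' (toPermHom G (orbit G a)).ker Γ (by omega) (Subtype.val ⁻¹' S) fun x hx y hy g hg =>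
      Subtype.ext (hS _ hx _ hy g (congrArg Subtype.val hg))
    have h7 : S.ncard ≤ (Subtype.val ⁻¹' S : Set Γ).ncard + 1 := by
      rw [← Set.ncard_inter_add_ncard_diff_eq_ncard S (orbit G a), add_comm]
      refine Nat.add_le_add (le_of_eq ?_) ?_
      · rw [← Set.ncard_image_of_injective _ Subtype.val_injective]
        congr 1
        ext x
        exact ⟨fun h => ⟨⟨x, h.2⟩, h.1, rfl⟩, fun ⟨y, hy, e⟩ => e ▸ ⟨hy, y.2⟩⟩
      · refine (Set.ncard_le_one (Set.toFinite _)).2 ?_
        rintro _ ⟨hx, g, rfl⟩ _ ⟨hy, h, rfl⟩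
        exact hS _ hx _ hy (h * g⁻¹) (by simp [mul_smul])
    have h8 := c_eq (toPermHom G (orbit G a))
    omega
  have hS1 : S.ncard ≤ 1 := (Set.ncard_le_one (Set.toFinite _)).2 fun x hx y hy => by
    obtain ⟨g, hg⟩ := exists_smul_eq G x y
    exact hS _ hx _ hy g hg
  suffices 3 * c G + 4 ≤ 4 * Nat.card α by omega
  by_cases hp : IsPreprimitive G α
  · haveI : IsPreprimitive (toPermHom G α).range α :=
      IsPreprimitive.of_surjective (M := G) (φ := (toPermHom G α).rangeRestrict)
        (f := ⟨id, fun _ _ => rfl⟩) Function.surjective_id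
    have e := MonoidHom.ofInjective (f := toPermHom G α) toPerm_injective
    rw [c_congr e]
    exact prim _ h2 ih' fun G' _ _ _ _ h => ih2' G' (by rwa [Nat.card_congr e.toEquiv])
  obtain ⟨B, hB, hB'⟩ : ∃ B : Set α, IsBlock G B ∧ ¬ IsTrivialBlock B := by
    by_contra h
    push Not at h
    exact hp ⟨fun hB => h _ hB⟩
  rw [IsTrivialBlock, not_or, Set.not_subsingleton_iff] at hB'
  have h1 := hB.ncard_block_mul_ncard_orbit_eq hB'.1.nonempty
  have h3 : 1 < B.ncard := Set.one_lt_ncard_iff_nontrivial.2 hB'.1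
  have h4 : B.ncard < Nat.card α := Set.ncard_lt_card hB'.2
  have h5 : 1 < (orbit G B).ncard := by
    by_contra h
    have : B.ncard * (orbit G B).ncard ≤ B.ncard * 1 := Nat.mul_le_mul_left _ (by omega)
    omega
  have h6 : (orbit G B).ncard < Nat.card α := by nlinarith
  have h7 := quot_bd (G := G) (α := orbit G B) ⟨B, mem_orbit_self B⟩ (ih' _ _ h6)
  rw [Nat.card_coe_set_eq] at h7
  have hne : ∀ y : orbit G B, ∃ x, x ∈ y.1 := by
    rintro ⟨_, g, rfl⟩
    exact hB'.1.nonempty.smul_set
  choose p hp using hne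
  have hp' : ∀ y y' : orbit G B, p y' ∈ y.1 → y = y' := by
    rintro ⟨_, g, rfl⟩ ⟨_, h, rfl⟩ hy
    exact Subtype.ext (isBlock_iff_smul_eq_smul_of_nonempty.1 hB ⟨_, hy, hp ⟨_, h, rfl⟩⟩)
  have h8 := ih2' (toPermHom G (orbit G B)).ker (by
    refine lt_of_le_of_ne (card_le_card_group _) fun h => ?_
    have h9 := eq_top_of_card_eq _ h
    obtain ⟨_, ⟨g, rfl⟩, _, ⟨g', rfl⟩, hne⟩ := Set.one_lt_ncard_iff_nontrivial.1 h5
    have k1 : ∀ g : G, g • B = B := fun g => by
      have k2 : toPermHom G (orbit G B) g = 1 := show g ∈ (toPermHom G (orbit G B)).ker from h9 ▸ mem_top g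
      have k3 := DFunLike.congr_fun k2 ⟨B, mem_orbit_self B⟩
      exact congrArg Subtype.val k3
    exact hne ((k1 g).trans (k1 g').symm)) (Set.range p) (by
      rintro _ ⟨y, rfl⟩ _ ⟨y', rfl⟩ g hg
      have k1 : (g : G) • y.1 = y.1 := congrArg Subtype.val (DFunLike.congr_fun g.2 y)
      rw [hp' y y' (by rw [← hg, ← k1]; exact Set.smul_mem_smul_set (hp y))])
  rw [Set.ncard_range_of_injective (f := p) fun y y' h => hp' y y' (h ▸ hp y), Nat.card_coe_set_eq] at h8
  have h9 := c_eq (toPermHom G (orbit G B))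
  omega

/-- If a finite group G acts faithfully on a finite set with n points and r orbits, then the composition length of G is at most 4(n − r)/3. Here the composition length is expressed through chains: the conclusion bounds the length l of every chain of subgroups 1 = H₀ < H₁ < ⋯ < H_l = G in which each term is normal in the next (the longest such chains are exactly the composition series). -/
theorem result {G Ω : Type*} [Group G] [Finite G] [MulAction G Ω] [FaithfulSMul G Ω] [Fintype Ω]
    (l : ℕ) (H : Fin (l + 1) → Subgroup G) (h0 : H 0 = ⊥) (hl : H (Fin.last l) = ⊤)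
    (hchain : ∀ i : Fin l, H i.castSucc < H i.succ ∧ ((H i.castSucc).subgroupOf (H i.succ)).Normal) :
    3 * l ≤ 4 * (Fintype.card Ω - Nat.card (Quotient (MulAction.orbitRel G Ω))) := by
  classical
  have h1 : ∀ i : Fin (l + 1), CL.Ch (H i) i := by
    intro i
    induction i using Fin.induction with
    | zero => rw [h0]; exact CL.Ch.bot
    | succ i ih =>
      refine CL.Ch.step ih (hchain i).1 fun b hb a ha => ?_
      exact (hchain i).2.conj_mem ⟨a, (hchain i).1.le ha⟩ ha ⟨b, hb⟩
  have h2 : l ≤ c G := by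
    have := (h1 (Fin.last l)).le_cl
    rwa [hl] at this
  have e := MonoidHom.ofInjective (f := toPermHom G Ω) toPerm_injective
  have h3 := main _ _ (toPermHom G Ω).range Ω rfl rfl (Set.range (Quotient.out : Quotient (orbitRel G Ω) → Ω)) (by
    rintro _ ⟨x, rfl⟩ _ ⟨y, rfl⟩ ⟨_, g, rfl⟩ hg
    have : orbitRel G Ω y.out x.out := ⟨g, hg⟩
    rw [Quotient.out_equiv_out.1 this])
  rw [Set.ncard_range_of_injective Quotient.out_injective, ← c_congr e, Nat.card_eq_fintype_card (α := Ω)] at h3
  omega

end Cfsg.Agent.S5722
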