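import Cfsg.Statements.S5726
import Cfsg.Agent.Perm.Basic
import Cfsg.Agent.Perm.Regular

set_option autoImplicit false
open Cfsg

namespace Cfsg.Agent.S5726



/-- If a finite group acts faithfully and transitively on a set with p^k elements, p a prime and k ≥ 1, then some element of order p fixes no point. -/
theorem result {G Ω : Type*} [Group G] [Finite G] [MulAction G Ω] [FaithfulSMul G Ω] [Fintype Ω] (htr : MulAction.IsPretransitive G Ω)
    (p k : ℕ) (hp : p.Prime) (hk : 1 ≤ k) (hΩ : Fintype.card Ω = p ^ k) :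
    ∃ g : G, orderOf g = p ∧ ∀ ω : Ω, g • ω ≠ ω := by
  haveI := Fact.mk hp
  obtain ⟨P⟩ : Nonempty (Sylow p G) := inferInstance
  have hP := Perm.sylow_isPretransitive (α := Ω) (f := k) (by rw [Nat.card_eq_fintype_card, hΩ]) P
  have h1 : 1 < Fintype.card Ω := hΩ ▸ Nat.one_lt_pow (by omega) hp.one_lt
  haveI : Nontrivial Ω := Fintype.one_lt_card_iff_nontrivial.1 h1
  haveI : Nontrivial (P : Subgroup G) := by
    obtain ⟨a, b, hab⟩ := exists_pair_ne Ω
    obtain ⟨g, hg⟩ := hP.exists_smul_eq a b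
    refine ⟨g, 1, fun h => hab ?_⟩
    rw [← hg, h, one_smul]
  haveI := P.isPGroup'.center_nontrivial
  have hZ : IsPGroup p (Subgroup.center (P : Subgroup G)) := P.isPGroup'.to_subgroup _
  obtain ⟨n, hn, hc⟩ := hZ.nontrivial_iff_card.1 inferInstance
  obtain ⟨z, hz⟩ := exists_prime_orderOf_dvd_card' (G := Subgroup.center (P : Subgroup G)) p
    (hc ▸ dvd_pow_self p hn.ne')
  have ho : orderOf ((z : (P : Subgroup G)) : G) = p := by
    rw [Subgroup.orderOf_coe, Subgroup.orderOf_coe, hz]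
  refine ⟨_, ho, fun ω hω => ?_⟩
  have := Perm.eq_one_of_commute hP (c := ((z : (P : Subgroup G)) : G))
    (fun h hh => congrArg Subtype.val (Subgroup.mem_center_iff.1 z.2 ⟨h, hh⟩)) hω
  rw [this, orderOf_one] at ho
  exact hp.one_lt.ne ho

end Cfsg.Agent.S5726
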