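import Cfsg.Statements.S5727
import Cfsg.Agent.S5726

set_option autoImplicit false
open Cfsg

namespace Cfsg.Agent.S5727

open MulAction Subgroup

/-- If a finite group acts faithfully and transitively on a set with m·p elements, where p is a prime and 1 ≤ m ≤ p, then some element of order p fixes no point. -/
theorem result {G Ω : Type*} [Group G] [Finite G] [MulAction G Ω] [FaithfulSMul G Ω] [Fintype Ω] (htr : MulAction.IsPretransitive G Ω)
    (p m : ℕ) (hp : p.Prime) (hm : 1 ≤ m) (hmp : m ≤ p) (hΩ : Fintype.card Ω = m * p) :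
    ∃ g : G, orderOf g = p ∧ ∀ ω : Ω, g • ω ≠ ω := by
  classical
  rcases hmp.eq_or_lt with rfl | hlt
  · exact S5726.result htr m 2 hp (by norm_num) (by rw [hΩ, sq])
  haveI := Fact.mk hp
  obtain ⟨P⟩ : Nonempty (Sylow p G) := inferInstance
  have hidx : ∀ ω : Ω, (stabilizer (P : Subgroup G) ω).index = p := by
    intro ω
    obtain ⟨k, hk⟩ := P.isPGroup'.index (stabilizer (P : Subgroup G) ω)
    have h1 : p ^ k ≤ m * p := by
      rw [← hk, index_stabilizer, ← hΩ, ← Nat.card_eq_fintype_card]
      exact Set.ncard_le_card _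
    have h2 : k ≠ 0 := by
      rintro rfl
      rw [pow_zero, index_eq_one] at hk
      have h3 : (P : Subgroup G) ≤ stabilizer G ω := fun g hg =>
        (hk ▸ mem_top _ : (⟨g, hg⟩ : (P : Subgroup G)) ∈ stabilizer (P : Subgroup G) ω)
      refine P.not_dvd_index (dvd_trans ?_ (index_dvd_of_le h3))
      rw [index_stabilizer_of_transitive, Nat.card_eq_fintype_card, hΩ]
      exact dvd_mul_left _ _
    have h3 : k < 2 := (Nat.pow_lt_pow_iff_right hp.one_lt).1 (h1.trans_lt (by
      rw [sq]; exact Nat.mul_lt_mul_of_pos_right hlt hp.pos))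
    rw [hk, show k = 1 by omega, pow_one]
  obtain ⟨g, hg⟩ : ∃ g : (P : Subgroup G), ∀ ω : Ω, g • ω ≠ ω := by
    by_contra hc
    push Not at hc
    haveI := Fintype.ofFinite (P : Subgroup G)
    have h1 : ∀ g : (P : Subgroup G), p ≤ (Finset.univ.filter fun ω : Ω => g • ω = ω).card := by
      intro g
      obtain ⟨ω, hω⟩ := hc g
      have h2 := (P.isPGroup'.to_subgroup (zpowers g)).card_modEq_card_fixedPoints Ω
      have h3 : Nat.card (fixedPoints (zpowers g) Ω) =
          (Finset.univ.filter fun ω : Ω => g • ω = ω).card := by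
        rw [← Fintype.card_subtype, ← Nat.card_eq_fintype_card]
        refine Nat.card_congr (Equiv.subtypeEquivRight fun x => ⟨fun h => h ⟨g, mem_zpowers g⟩, ?_⟩)
        rintro h ⟨_, k, rfl⟩
        exact (stabilizer (P : Subgroup G) x).zpow_mem h k
      rw [h3, Nat.card_eq_fintype_card, hΩ] at h2
      exact Nat.le_of_dvd (Finset.card_pos.2 ⟨ω, by simpa⟩)
        ((h2.dvd_iff dvd_rfl).1 (dvd_mul_left _ _))
    have h2 : ∀ ω : Ω, (Finset.univ.filter fun g : (P : Subgroup G) => g • ω = ω).card * p =
        Fintype.card (P : Subgroup G) := by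
      intro ω
      have := (stabilizer (P : Subgroup G) ω).card_mul_index
      rw [hidx, Nat.card_eq_fintype_card (α := (P : Subgroup G))] at this
      rw [← this, ← Fintype.card_subtype, ← Nat.card_eq_fintype_card]
      rfl
    have h3 : ∑ g : (P : Subgroup G), (Finset.univ.filter fun ω : Ω => g • ω = ω).card =
        ∑ ω : Ω, (Finset.univ.filter fun g : (P : Subgroup G) => g • ω = ω).card := by
      simp only [Finset.card_filter]
      exact Finset.sum_comm
    have h4 := Finset.sum_le_sum fun g (_ : g ∈ Finset.univ) => h1 g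
    rw [h3, Finset.sum_const, Finset.card_univ, smul_eq_mul] at h4
    have h5 := Nat.mul_le_mul_right p h4
    rw [Finset.sum_mul, Finset.sum_congr rfl fun ω _ => h2 ω, Finset.sum_const, Finset.card_univ,
      smul_eq_mul, hΩ] at h5
    have h6 : 0 < Fintype.card (P : Subgroup G) * p := Nat.mul_pos Fintype.card_pos hp.pos
    nlinarith
  have hne : Nonempty Ω := Fintype.card_pos_iff.1 (hΩ ▸ Nat.mul_pos hm hp.pos)
  obtain ⟨ω₀⟩ := hne
  refine ⟨g, orderOf_eq_prime (eq_of_smul_eq_smul fun ω : Ω => ?_) (fun e => hg ω₀ ?_), hg⟩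
  · haveI : (stabilizer (P : Subgroup G) ω).Normal := by
      apply normal_of_index_eq_minFac_card
      obtain ⟨k, hk⟩ := P.isPGroup'.exists_card_eq
      have := index_dvd_card (stabilizer (P : Subgroup G) ω)
      rw [hidx, hk] at *
      rcases k with _ | k
      · exact absurd (Nat.dvd_one.1 this) hp.one_lt.ne'
      · exact (hp.pow_minFac (by omega)).symm
    have := (stabilizer (P : Subgroup G) ω).pow_index_mem g
    rw [hidx] at this
    rw [one_smul]
    exact this
  · change (g : G) • ω₀ = ω₀
    rw [e, one_smul]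

end Cfsg.Agent.S5727
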