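import Cfsg.Statements.S5728

set_option autoImplicit false
open Cfsg

namespace Cfsg.Agent.S5728



/-- An elusive transitive action. Let p = 2^s − 1 be a prime and let F be the field with p² elements. Inside the group of affine maps x ↦ a·x + b of F (a ≠ 0), consider the subgroup of maps with both coefficients in the prime field. Then every element of prime order of the affine group is conjugate, within the affine group, to an element of that subgroup; equivalently, in the transitive action of the affine group on the cosets of that subgroup (of degree p(p + 1)) every element of prime order fixes a point. -/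
theorem result (p s : ℕ) [Fact p.Prime] (hs : p = 2 ^ s - 1)
    (g : Equiv.Perm (GaloisField p 2)) (hg : g ∈ Cfsg.affineGroup (GaloisField p 2)) (hord : (orderOf g).Prime) :
    ∃ x ∈ Cfsg.affineGroup (GaloisField p 2), ∃ a b : ZMod p, a ≠ 0 ∧
      ∀ y : GaloisField p 2, (x * g * x⁻¹) y = algebraMap (ZMod p) (GaloisField p 2) a * y + algebraMap (ZMod p) (GaloisField p 2) b := by
  obtain ⟨a, b, hab⟩ := hg
  have hp : p.Prime := Fact.out
  have hcard : Nat.card (GaloisField p 2) = p ^ 2 := GaloisField.card p 2 (by norm_num)
  have mk : ∀ (u : (GaloisField p 2)ˣ) (v : GaloisField p 2), ∃ x ∈ affineGroup (GaloisField p 2),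
      ∀ y, x y = u * y + v := fun u v =>
    ⟨(Units.mulLeft u).trans (Equiv.addRight v), ⟨u, v, fun _ => rfl⟩, fun _ => rfl⟩
  by_cases ha : a = 1
  · subst ha
    by_cases hb : b = 0
    · exact ⟨1, one_mem _, 1, 0, one_ne_zero, fun y => by simp [hab, hb]⟩
    · obtain ⟨x, hx, e⟩ := mk (Units.mk0 b hb)⁻¹ 0
      refine ⟨x, hx, 1, 1, one_ne_zero, fun y => ?_⟩
      obtain ⟨z, rfl⟩ := x.surjective y
      simp only [Equiv.Perm.mul_apply, Equiv.Perm.coe_inv, Equiv.symm_apply_apply]
      simp [hab, e, mul_add, hb]
  · have ha' : (a : GaloisField p 2) - 1 ≠ 0 := fun h => ha (Units.ext (sub_eq_zero.1 h))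
    obtain ⟨x, hx, e⟩ := mk 1 (b / (a - 1))
    have h1 : ∀ y, (x * g * x⁻¹) y = a * y := fun y => by
      obtain ⟨z, rfl⟩ := x.surjective y
      simp only [Equiv.Perm.mul_apply, Equiv.Perm.coe_inv, Equiv.symm_apply_apply]
      simp only [hab, e, Units.val_one, one_mul]
      field_simp
      ring
    have h2 : ∀ k : ℕ, ((x * g * x⁻¹) ^ k) 1 = a ^ k := fun k => by
      induction k with
      | zero => simp
      | succ k ih => rw [pow_succ', Equiv.Perm.mul_apply, ih, h1, pow_succ']
    have h3 : a ^ orderOf g = 1 := by
      have := h2 (orderOf g)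
      rw [conj_pow, pow_orderOf_eq_one] at this
      exact Units.ext (by simpa using this.symm)
    haveI := Fact.mk hord
    have h4 : orderOf a = orderOf g := orderOf_eq_prime h3 ha
    have h5 : orderOf g ∣ (p - 1) * 2 ^ s := by
      have := orderOf_dvd_natCard a
      rw [h4, Nat.card_units, hcard] at this
      have h6 : 2 ^ s = p + 1 := by have := Nat.one_le_two_pow (n := s); omega
      rw [h6]
      convert this using 1
      obtain ⟨m, rfl⟩ := Nat.exists_eq_add_of_le' hp.one_le
      simp only [Nat.add_sub_cancel]
      exact (Nat.sub_eq_of_eq_add (by ring)).symm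
    have h6 : (a : GaloisField p 2) ^ p = a := by
      rcases (Nat.Prime.dvd_mul hord).1 h5 with h | h
      · have : a ^ (p - 1) = 1 := orderOf_dvd_iff_pow_eq_one.1 (h4 ▸ h)
        have h7 : a ^ p = a := by
          calc a ^ p = a ^ (p - 1 + 1) := by rw [Nat.sub_add_cancel hp.one_le]
            _ = a := by rw [pow_succ, this, one_mul]
        exact_mod_cast congrArg Units.val h7
      · have h7 := (Nat.prime_dvd_prime_iff_eq hord Nat.prime_two).1 (hord.dvd_of_dvd_pow h)
        rw [h7] at h3
        have h8 : (a : GaloisField p 2) ^ 2 = 1 := by simpa using congrArg Units.val h3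
        rcases mul_self_eq_one_iff.1 (sq (a : GaloisField p 2) ▸ h8) with h9 | h9
        · rw [h9, one_pow]
        · rw [h9, neg_one_pow_char]
    obtain ⟨c, hc⟩ : ∃ c : ZMod p, algebraMap (ZMod p) (GaloisField p 2) c = a := by
      have := (Subfield.mem_bot_iff_pow_eq_self (GaloisField p 2) p).2 h6
      have h7 : (⊥ : Subfield (GaloisField p 2)) ≤ (algebraMap (ZMod p) (GaloisField p 2)).fieldRange :=
        bot_le
      exact h7 this
    refine ⟨x, hx, c, 0, fun h => a.ne_zero (by rw [← hc, h, map_zero]), fun y => ?_⟩
    rw [h1, hc, map_zero, add_zero]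

end Cfsg.Agent.S5728
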