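import Cfsg.Statements.S5735
import Cfsg.Agent.Bin.L2
import Cfsg.Agent.Bin.Sz
import Cfsg.Agent.Bin.U3b
import Mathlib.Tactic.Group

set_option autoImplicit false
open Cfsg

namespace Cfsg.Agent.S5735
open scoped commutatorElement

open Cfsg.Agent.Bin Cfsg.Agent.Classical

/-- Let G be a finite simple group with exactly one conjugacy class of involutions, and let H be a proper subgroup of even order. Then the action of G on the cosets of H is binary if and only if one of the following holds: G ≅ SL₂(2^a) with a ≥ 2 and H is a Sylow 2-subgroup; G is a Suzuki group Sz(2^(2a+1)) with a ≥ 1 and H is the centre of a Sylow 2-subgroup; G ≅ PSU₃(2^a) with a ≥ 2 and H is the centre of a Sylow 2-subgroup. Here an action is binary (relational complexity 2) when, for every n ≥ 2 and all n-tuples I, J of points, if for every pair of positions some group element carries the corresponding pair of entries of I to those of J, then a single group element carries I to J. -/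
theorem result {G : Type*} [Group G] [Finite G] [IsSimpleGroup G] (hinv : ∃ s : G, orderOf s = 2)
    (hone : ∀ s t : G, orderOf s = 2 → orderOf t = 2 → IsConj s t)
    (H : Subgroup G) (hH : H ≠ ⊤) (heven : Even (Nat.card H)) :
    (∀ (n : ℕ) (I J : Fin n → G ⧸ H), 2 ≤ n →
        (∀ i j : Fin n, i ≠ j → ∃ g : G, g • I i = J i ∧ g • I j = J j) → ∃ g : G, ∀ i, g • I i = J i) ↔
      (((∃ (F : Type) (_ : Field F) (_ : Fintype F) (a : ℕ), 2 ≤ a ∧ Fintype.card F = 2 ^ a ∧ Nonempty (G ≃* Matrix.SpecialLinearGroup (Fin 2) F)) ∧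
          ∃ P : Sylow 2 G, H = P) ∨
        (Cfsg.Lie.IsoSuzuki G ∧ ∃ P : Sylow 2 G, H = (Subgroup.center (P : Subgroup G)).map (P : Subgroup G).subtype) ∨
        ((∃ (F : Type) (_ : Field F) (_ : Fintype F) (a : ℕ), 2 ≤ a ∧ Fintype.card F = (2 ^ a) ^ 2 ∧ Nonempty (G ≃* Cfsg.PSU 3 F (2 ^ a))) ∧
          ∃ P : Sylow 2 G, H = (Subgroup.center (P : Subgroup G)).map (P : Subgroup G).subtype)) := by
  have h0 : H ≠ ⊥ := by rintro rfl; simp at heven
  have L2 : ∀ (F : Type) [Field F] [Fintype F] (a : ℕ), 2 ≤ a → Fintype.card F = 2 ^ a →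
      (2 : F) = 0 ∧ ∀ _ : G ≃* Matrix.ProjectiveSpecialLinearGroup (Fin 2) F,
        Bin G (G ⧸ H) ↔ ∃ P : Sylow 2 G, H = P := fun F _ _ a ha hF => by
    have ev : Even (Nat.card F) := by
      rw [Nat.card_eq_fintype_card, hF]; exact (Nat.even_pow' (by omega)).2 even_two
    have h2 := two_eq_zero_iff_even.2 ev
    refine ⟨h2, fun e => ?_⟩
    rw [← bin_map_iff e, psl_iff (by rw [Nat.card_eq_fintype_card, hF]; exact Nat.pow_le_pow_right two_pos ha)
      (fun e => by rw [e] at ev; exact absurd ev (by decide))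
      (fun h => hH (by rw [eq_map_symm e h, Subgroup.map_top_of_surjective _ e.symm.surjective]))]
    constructor
    · rintro (h | ⟨-, P, h⟩ | ⟨-, h, -⟩)
      · exact absurd (by rw [eq_map_symm e h, Subgroup.map_bot]) h0
      · obtain ⟨P', e'⟩ := sylow_map e.symm P
        exact ⟨P', by rw [e', eq_map_symm e h]⟩
      · rw [Subgroup.card_map_of_injective e.injective] at h
        rw [h] at heven
        exact absurd heven (by decide)
    · rintro ⟨P, rfl⟩
      obtain ⟨P', e'⟩ := sylow_map e P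
      exact .inr (.inl ⟨h2, P', e'.symm⟩)
  have Sz : Cfsg.Lie.IsoSuzuki G → (Bin G (G ⧸ H) ↔
      ∃ P : Sylow 2 G, H = (Subgroup.center (P : Subgroup G)).map (P : Subgroup G).subtype) := by
    rintro ⟨F, _, _, m, hm, hF, ⟨e⟩⟩
    let := Sz.titsOfCard hm hF
    let := Sz.lieRep (Sz.titsOfCard_θ hm hF)
    let := Sz.repOfEquiv (F := F) e
    rw [sz_iff F hH, or_iff_right h0]
  constructor
  · intro h
    obtain ⟨M, hM⟩ := Bin.se h hone hH heven
    rcases SE.bender_list (fun hc => by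
      rcases (Subgroup.normal_of_isMulCommutative H).eq_bot_or_eq_top with e | e
      exacts [h0 e, hH e]) hM with ⟨F, _, _, a, ha, hF, ⟨e⟩⟩ | e | ⟨F, _, _, a, ha, hF, ⟨e⟩⟩
    · obtain ⟨h2, h3⟩ := L2 F a ha hF
      exact .inl ⟨⟨F, _, _, a, ha, hF, ⟨e.trans (slEquivPSL h2).symm⟩⟩, (h3 e).1 h⟩
    · exact .inr (.inl ⟨e, (Sz e).1 h⟩)
    · exact .inr (.inr ⟨⟨F, _, _, a, ha, hF, ⟨e⟩⟩, (psu_iff ha hF e hone hH heven).1 h⟩)
  · rintro (⟨⟨F, _, _, a, ha, hF, ⟨e⟩⟩, h⟩ | ⟨e, h⟩ | ⟨⟨F, _, _, a, ha, hF, ⟨e⟩⟩, h⟩)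
    · obtain ⟨h2, h3⟩ := L2 F a ha hF
      exact (h3 (e.trans (slEquivPSL h2))).2 h
    · exact (Sz e).2 h
    · exact (psu_iff ha hF e hone hH heven).2 h

end Cfsg.Agent.S5735
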