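import Cfsg.Statements.S5736
import Cfsg.Agent.Bin.L2
import Mathlib.Tactic.Group

set_option autoImplicit false
open Cfsg

namespace Cfsg.Agent.S5736
open scoped commutatorElement

open Cfsg.Agent.Bin Cfsg.Agent.Classical

/-- Let F be a finite field with q ≥ 4 elements, q ≠ 5, let G = PSL₂(F) and let H be a proper subgroup of G. Then the action of G on the cosets of H is binary if and only if H is trivial, or q is a power of 2 and H is a Sylow 2-subgroup, or q = 2^a with a odd and H has order 3. Here an action is binary (relational complexity 2) when, for every n ≥ 2 and all n-tuples I, J of points, if for every pair of positions some group element carries the corresponding pair of entries of I to those of J, then a single group element carries I to J. -/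
theorem result {F : Type*} [Field F] [Fintype F] (h4 : 4 ≤ Fintype.card F) (h5 : Fintype.card F ≠ 5)
    (H : Subgroup (Matrix.ProjectiveSpecialLinearGroup (Fin 2) F)) (hH : H ≠ ⊤) :
    (∀ (n : ℕ) (I J : Fin n → Matrix.ProjectiveSpecialLinearGroup (Fin 2) F ⧸ H), 2 ≤ n →
        (∀ i j : Fin n, i ≠ j → ∃ g : Matrix.ProjectiveSpecialLinearGroup (Fin 2) F, g • I i = J i ∧ g • I j = J j) → ∃ g : Matrix.ProjectiveSpecialLinearGroup (Fin 2) F, ∀ i, g • I i = J i) ↔
      (H = ⊥ ∨ ((∃ a : ℕ, Fintype.card F = 2 ^ a) ∧ ∃ P : Sylow 2 (Matrix.ProjectiveSpecialLinearGroup (Fin 2) F), H = P) ∨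
        ((∃ a : ℕ, Odd a ∧ Fintype.card F = 2 ^ a) ∧ Nat.card H = 3)) := by
  have e1 : (∃ a : ℕ, Fintype.card F = 2 ^ a) ↔ (2 : F) = 0 := by
    refine ⟨fun ⟨a, ha⟩ => two_eq_zero_iff_even.2 ?_, fun h2 => ?_⟩
    · rw [Nat.card_eq_fintype_card, ha, Nat.even_pow']
      · exact even_two
      · rintro rfl; omega
    · have : CharP F 2 := CharTwo.of_one_ne_zero_of_two_eq_zero one_ne_zero h2
      obtain ⟨n, -, hn⟩ := FiniteField.card F 2
      exact ⟨n, hn⟩
  have e2 : (∃ a : ℕ, Odd a ∧ Fintype.card F = 2 ^ a) ↔ (2 : F) = 0 ∧ ∀ w : F, w ^ 2 + w + 1 ≠ 0 := by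
    refine ⟨fun ⟨a, ⟨k, hk⟩, ha⟩ => ⟨e1.1 ⟨a, ha⟩, fun w hw => ?_⟩, fun ⟨h2, hw⟩ => ?_⟩
    · have h2 := e1.1 ⟨a, ha⟩
      have h3 : w ^ 3 = 1 := by linear_combination (w - 1) * hw
      have h := FiniteField.pow_card w
      rw [ha, pow_eq_pow_mod _ h3, hk, pow_succ 2, pow_mul, Nat.mul_mod, Nat.pow_mod] at h
      norm_num at h
      exact one_ne_zero (by linear_combination hw - h - w * h2 : (1 : F) = 0)
    · obtain ⟨a, ha⟩ := e1.2 h2
      refine ⟨a, Nat.not_even_iff_odd.1 fun ⟨k, hk⟩ => ?_, ha⟩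
      have : Fact (Nat.Prime 3) := ⟨Nat.prime_three⟩
      obtain ⟨w, h⟩ := exists_prime_orderOf_dvd_card' (G := Fˣ) 3 (by
        rw [Nat.card_units, Nat.card_eq_fintype_card, ha, hk, ← two_mul, pow_mul]
        simpa using Nat.sub_dvd_pow_sub_pow 4 1 k)
      have h3 : (w : F) ^ 3 = 1 := by rw [← Units.val_pow_eq_pow_val, ← h, pow_orderOf_eq_one, Units.val_one]
      have h1 : (w : F) - 1 ≠ 0 := fun e => by
        rw [sub_eq_zero, Units.val_eq_one] at e
        simp [e] at h
      exact hw w (mul_left_cancel₀ h1 (by linear_combination h3))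
  rw [e1, e2]
  refine (psl_iff (by simpa) (by simpa) hH).trans ?_
  tauto

end Cfsg.Agent.S5736
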