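import Cfsg.Statements.S5743
import Cfsg.Agent.Chev.DiagCent
import Cfsg.Agent.Chev.Folding
import Cfsg.Agent.ChAut.TwE6
import Cfsg.Agent.ChAut.Fix

set_option autoImplicit false
open Cfsg

namespace Cfsg.Agent.S5743

open Cfsg.Agent.Chev Cfsg.Lie

open Sys ChAut in
theorem key {K : Type*} [Field K] [Finite K] {A B : Sm chevE6 → Kˣ} (hA : ∀ k, A (symE6.π⁻¹ k) = (A k)⁻¹)
    (hB : ∀ k, B (symE6.π⁻¹ k) = (B k)⁻¹) {g : GL chevE6.Idx K} (hg : g ∈ chevE6.group K)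
    (h : ∀ r : Rt chevF4, foldX (adS chevE6 K) (fwF4 r) 1 ∈ twistedE6 K 1 ∧ (dGL chevE6 K B)⁻¹ * g * dGL chevE6 K A *
      foldX (adS chevE6 K) (fwF4 r) 1 * ((dGL chevE6 K B)⁻¹ * g * dGL chevE6 K A)⁻¹ ∈ twistedE6 K 1) :
    ∃ c, ∀ j, chi (D := chevE6) c (sm j) * (B * B * (A * A)⁻¹) j = 1 := by
  obtain ⟨⟨γ, hγ'⟩, hγ, -⟩ := exists_isGr (F := K) twE6_ok symE6 symE6_ρ Nat.cast_zero fun i =>
    ⟨(by decide +kernel : ∀ i : Sm chevE6, twE6.ε (chevE6.simple i) = 1) i,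
      (by decide +kernel : ∀ i : Sm chevE6, twE6.ε (chevE6.neg (chevE6.simple i)) = 1) i,
      (oneLenE6.graphExp _ _ _).symm⟩
  change IsGr γ _ at hγ
  have h1 : IsSh γ symE6.π 1 fun _ => RingEquiv.refl K := fun i =>
    ⟨fun t => by simpa [oneLenE6.graphExp] using (hγ i t).1, fun t => by simpa [oneLenE6.graphExp] using (hγ i t).2⟩
  have h2 : ∀ C : Sm chevE6 → Kˣ, (∀ k, C (symE6.π⁻¹ k) = (C k)⁻¹) → ∀ y, γ (dg chevE6 K C y) = dg chevE6 K C⁻¹ (γ y) :=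
    fun C hC y => by
      have := DFunLike.congr_fun (h1.mul_dg C) y
      rwa [show (fun j => Units.map (RingEquiv.refl K : K →* K) (C (symE6.π⁻¹ j))) = C⁻¹ from
        funext fun j => (hC j).symm ▸ rfl] at this
  have h3 : ∀ y : chevE6.group K, (y : GL chevE6.Idx K) ∈ twistedE6 K 1 → γ y = y := fun y hy => by
    obtain ⟨z, a1, a2⟩ := (fix_grE6 hγ).ge hy
    exact Subtype.ext a2 ▸ a1
  have h4 : twistedE6 K 1 ≤ chevE6.group K := fix_grE6 hγ ▸ Subgroup.map_subtype_le _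
  set g' : GL chevE6.Idx K := (γ ⟨g, hg⟩).1
  set m := (dGL chevE6 K A)⁻¹ * g⁻¹ * dGL chevE6 K A * (dGL chevE6 K (B * B * A⁻¹) * g' * (dGL chevE6 K (B * B * A⁻¹))⁻¹)
  have h5 : ∀ r : Rt chevF4, Commute (m * dGL chevE6 K (B * B * (A * A)⁻¹)) (foldX (adS chevE6 K) (fwF4 r) 1) :=
    fun r => by
      set x : chevE6.group K := ⟨_, h4 (h r).1⟩
      have a1 := h3 (dg chevE6 K B⁻¹ (⟨g, hg⟩ * dg chevE6 K A x * ⟨g, hg⟩⁻¹)) (by
        convert (h r).2 using 1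
        simp only [coe_dg, Subgroup.coe_mul, Subgroup.coe_inv]
        rw [map_inv]
        group; rfl)
      rw [h2 _ (fun k => congrArg (·⁻¹) (hB k)), map_mul γ, map_mul γ, map_inv γ, h2 _ hA, h3 x (h r).1] at a1
      have a2 := congrArg Subtype.val a1
      simp only [coe_dg, Subgroup.coe_mul, Subgroup.coe_inv] at a2
      simp only [map_inv, inv_inv] at a2
      have e : m * dGL chevE6 K (B * B * (A * A)⁻¹) = ((dGL chevE6 K B)⁻¹ * g * dGL chevE6 K A)⁻¹ *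
          (dGL chevE6 K B * g' * (dGL chevE6 K A)⁻¹) := by
        have b1 : dGL chevE6 K A * dGL chevE6 K (B * B * A⁻¹) = dGL chevE6 K B * dGL chevE6 K B := by
          rw [← map_mul, ← map_mul]; congr 1; rw [mul_comm, inv_mul_cancel_right]
        have b2 : (dGL chevE6 K (B * B * A⁻¹))⁻¹ * dGL chevE6 K (B * B * (A * A)⁻¹) = (dGL chevE6 K A)⁻¹ := by
          rw [← map_inv, ← map_mul, ← map_inv]; congr 1; rw [mul_inv A, ← mul_assoc (B * B), inv_mul_cancel_left]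
        calc _ = (dGL chevE6 K A)⁻¹ * g⁻¹ * (dGL chevE6 K A * dGL chevE6 K (B * B * A⁻¹)) * g' *
            ((dGL chevE6 K (B * B * A⁻¹))⁻¹ * dGL chevE6 K (B * B * (A * A)⁻¹)) := by simp only [m, mul_assoc]
          _ = _ := by rw [b1, b2]; group
      rw [e, Commute, SemiconjBy, ← mul_inv_eq_iff_eq_mul]
      calc _ = ((dGL chevE6 K B)⁻¹ * g * dGL chevE6 K A)⁻¹ * (dGL chevE6 K B * (g' * ((dGL chevE6 K A)⁻¹ * x *
          dGL chevE6 K A) * g'⁻¹) * (dGL chevE6 K B)⁻¹) * ((dGL chevE6 K B)⁻¹ * g * dGL chevE6 K A) := by group; rfl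
        _ = _ := by rw [a2]; group; rfl
  have h6 : ∀ (r : Rt chevF4) (s : Rt chevE6) (T : Set (Rt chevE6)), (fwF4 r = [(s.1, 1)] ∨ ∃ s' ∈ T,
      fwF4 r = [(s.1, 1), (s'.1, 1)] ∨ fwF4 r = [(s'.1, 1), (s.1, 1)] ∧ CommIs chevE6 0 s s' []) →
      ∃ y ∈ (adS chevE6 K).U T, Commute (m * dGL chevE6 K (B * B * (A * A)⁻¹)) ((adS chevE6 K).x s 1 * y) := by
    rintro r s T (e | ⟨s', hs, e | ⟨e, e'⟩⟩)
    · exact ⟨1, one_mem _, by simpa [e, foldX, gword_cons] using h5 r⟩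
    · exact ⟨_, x_mem_U _ hs 1, by simpa [e, foldX, gword_cons] using h5 r⟩
    · refine ⟨_, x_mem_U _ hs 1, ?_⟩
      have := ((adS chevE6 K).xN_commute Nat.cast_zero e' 1 1).eq
      rw [xN_val, xN_val] at this
      simpa [e, foldX, gword_cons, this] using h5 r
  refine inndiag_cent (mul_mem (by simpa using (dGL_mem_U A⁻¹ _ _).2 (inv_mem ((group_eq chevE6 K).le hg)))
    ((dGL_mem_U _ _ _).2 ((group_eq chevE6 K).le (γ _).2))) (g := m) _ (fun i => ?_) fun i => ?_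
  · obtain ⟨r, hr⟩ := (by decide +kernel : ∀ i : Sm chevE6, ∃ r : Rt chevF4, fwF4 r = [((sm i).1, 1)] ∨
      ∃ s' : Rt chevE6, (Pos s' ∧ s' ≠ sm i) ∧ (fwF4 r = [((sm i).1, 1), (s'.1, 1)] ∨
        fwF4 r = [(s'.1, 1), ((sm i).1, 1)] ∧ CommIs chevE6 0 (sm i).1 s' [])) i
    exact h6 r _ _ hr
  · obtain ⟨r, hr⟩ := (by decide +kernel : ∀ i : Sm chevE6, ∃ r : Rt chevF4, fwF4 r = [((ng (sm i)).1, 1)] ∨
      ∃ s' : Rt chevE6, (¬ Pos s' ∧ s' ≠ ng (sm i)) ∧ (fwF4 r = [((ng (sm i)).1, 1), (s'.1, 1)] ∨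
        fwF4 r = [(s'.1, 1), ((ng (sm i)).1, 1)] ∧ CommIs chevE6 0 (ng (sm i)).1 s' [])) i
    exact h6 r _ _ hr

/-- The simple group ²E₆(2) (the twisted group of type E₆ over the field with 4 elements) contains at least three pairwise non-conjugate subgroups isomorphic to the Chevalley group F₄(2). -/
theorem result {K : Type*} [Field K] [Fintype K] (hK : Fintype.card K = 4) :
    ∃ H : Fin 3 → Subgroup (Cfsg.Lie.twistedE6 K 2),
      (∀ i, Nonempty ((H i) ≃* Cfsg.Lie.chevF4.group (ZMod 2))) ∧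
      (∀ i j, i ≠ j → ∀ g : (Cfsg.Lie.twistedE6 K 2), (H i).map (MulAut.conj g).toMonoidHom ≠ H j) := by
  open Sys ChAut in
  have hK' : Nat.card K = 2 ^ 2 := by rw [Nat.card_eq_fintype_card, hK]; rfl
  obtain ⟨φ, hφ, h2⟩ := exists_φE6 (K := K) (q := 2) Nat.prime_two.isPrimePow hK'
  have : Fact (Nat.Prime 2) := ⟨Nat.prime_two⟩
  have : CharP K 2 := charP_of_card_eq_prime_pow (f := 2) (by rw [hK]; rfl)
  let f := ZMod.castHom (dvd_refl 2) K
  have h3 : ∀ t : Kˣ, t ^ 3 = 1 := fun t => by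
    rw [← pow_card_eq_one' (x := t), Nat.card_units, hK']; rfl
  obtain ⟨ω, hω⟩ := exists_pow_ne_one (F := K) (n := 1) one_pos (by rw [hK']; decide)
  rw [pow_one] at hω
  obtain ⟨e, he⟩ := exists_foldF4 K
  let ψ := ((twistedE6 K 1).subtype.comp e.toMonoidHom).comp (emb chevF4 f)
  have h4 : ∀ r t, ψ ((grS chevF4 (ZMod 2)).x r t) = foldX (adS chevE6 K) (fwF4 r) (f t) := fun r t => by
    simp [ψ, emb_x, he]
  have h5 : ∀ y, ψ y ∈ twistedE6 K 2 := fun y => by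
    have a1 : ∀ (r : Rt chevF4) (t : ZMod 2), (∃ L ∈ [[46], [25], [39], [32], [56, 36], [15, 35], [42, 37], [29, 34]],
        fwF4 r = L.map (·, 1)) → ψ ((grS chevF4 (ZMod 2)).x r t) ∈ twistedE6 K 2 := by
      rintro r t ⟨L, hL, e⟩
      have a2 : f t ^ 2 = f t := by rw [← map_pow, ZMod.pow_card]
      rw [h4, e, twistedE6, genSubgroup_eq]
      refine mem_genW ?_
      simp only [List.mem_cons, List.not_mem_nil, or_false] at hL
      rcases hL with rfl | rfl | rfl | rfl | rfl | rfl | rfl | rfl <;>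
        simp [e6Words, e6p1, e6p2, e6p3, e6p4, e6p5, e6p6, e6m1, e6m2, e6m3, e6m4, e6m5, e6m6, a2]
    exact (grS chevF4 (ZMod 2)).U_univ_le (K := (twistedE6 K 2).comap ψ)
      (fun i t => a1 _ t (by revert i; decide +kernel)) (fun i t => a1 _ t (by revert i; decide +kernel))
      (grS_U_univ chevF4 (ZMod 2) ▸ Subgroup.mem_top y)
  let a : Fin 3 → Fin 6 → Kˣ := fun i => ![ω ^ i.1, 1, 1, 1, 1, (ω ^ i.1)⁻¹]
  have h6 : ∀ i, a i ∈ twE6.fixT symE6 φ := fun i => (mem_fixTE6 hφ).2 fun k => by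
    have a1 : ∀ t : Kˣ, t⁻¹ = t ^ 2 := fun t => inv_eq_of_mul_eq_one_right (by rw [← pow_succ', h3])
    fin_cases k <;> simp [a, ← Units.val_pow_eq_pow_val, ← a1]
  let Ψ : Fin 3 → chevF4.group (ZMod 2) →* twistedE6 K 2 := fun i =>
    ((MulAut.conj (dGL chevE6 K (a i))).toMonoidHom.comp ψ).codRestrict _ fun y => al_memE6 hφ (h6 i) 1 _ (h5 y)
  refine ⟨fun i => (Ψ i).range, fun i => ⟨(MonoidHom.ofInjective fun y z h => ?_).symm⟩, fun i j hij g hg => ?_⟩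
  · exact emb_injective f (e.injective (Subtype.ext ((MulAut.conj _).injective (congrArg Subtype.val h))))
  have h7 : ∀ i (k : Fin 6), a i (symE6.π⁻¹ k) = (a i k)⁻¹ := fun i k => by
    rw [show symE6.π⁻¹ k = (![5, 1, 4, 3, 2, 0] : Fin 6 → Fin 6) k from Fin.ext
      ((by decide +kernel : ∀ k : Fin 6, (symE6.π⁻¹ k).1 = ((![5, 1, 4, 3, 2, 0] : Fin 6 → Fin 6) k).1) k)]
    fin_cases k <;> simp [a]
  obtain ⟨c, hc⟩ := key (h7 i) (h7 j) (g := g) (group_eq chevE6 K ▸ (foldE6 hφ h2).le g.2) fun r => by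
    have a1 : ∀ y, ψ y ∈ twistedE6 K 1 := fun y => (e _).2
    have a2 := h4 r 1
    rw [map_one] at a2
    obtain ⟨y, hy⟩ := hg.le ⟨_, ⟨(grS chevF4 (ZMod 2)).x r 1, rfl⟩, rfl⟩
    have a3 : dGL chevE6 K (a j) * ψ y * (dGL chevE6 K (a j))⁻¹ = g * (dGL chevE6 K (a i) * ψ ((grS chevF4 (ZMod 2)).x r 1) *
      (dGL chevE6 K (a i))⁻¹) * (g : GL chevE6.Idx K)⁻¹ := congrArg Subtype.val hy
    refine ⟨a2 ▸ a1 _, ?_⟩
    convert a1 y using 1
    rw [← a2, ← mul_right_inj (dGL chevE6 K (a j)), ← mul_left_inj (dGL chevE6 K (a j))⁻¹, a3]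
    group
  have h8 : chi (D := chevE6) c (sm (0 : Fin 6)) * chi (D := chevE6) c (sm (4 : Fin 6)) =
      chi (D := chevE6) c (sm (2 : Fin 6)) * chi (D := chevE6) c (sm (5 : Fin 6)) := by
    simp only [chi, ← Finset.prod_mul_distrib, ← zpow_add]
    refine Finset.prod_congr rfl fun k _ => ?_
    obtain ⟨n, hn⟩ := (by decide +kernel : ∀ k : Sm chevE6, (3 : ℤ) ∣ car k (sm (0 : Fin 6)) + car k (sm (4 : Fin 6)) -
      (car k (sm (2 : Fin 6)) + car k (sm (5 : Fin 6)))) k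
    rw [sub_eq_iff_eq_add.mp hn, zpow_add, zpow_mul, zpow_ofNat, h3, one_zpow, one_mul]
  rw [eq_inv_of_mul_eq_one_left (hc (0 : Fin 6)), eq_inv_of_mul_eq_one_left (hc (4 : Fin 6)),
    eq_inv_of_mul_eq_one_left (hc (2 : Fin 6)), eq_inv_of_mul_eq_one_left (hc (5 : Fin 6))] at h8
  have h9 : ω⁻¹ = ω ^ 2 := inv_eq_of_mul_eq_one_right (by rw [← pow_succ', h3])
  have a1 : (a j * a j * (a i * a i)⁻¹) 0 * (a j * a j * (a i * a i)⁻¹) 4 =
      (a j * a j * (a i * a i)⁻¹) 2 * (a j * a j * (a i * a i)⁻¹) 5 :=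
    inv_injective ((mul_inv _ _).trans (h8.trans (mul_inv _ _).symm))
  simp only [a, Pi.mul_apply, Pi.inv_apply, Matrix.cons_val, ← inv_pow, h9, ← pow_mul, mul_inv, ← pow_add,
    mul_one, one_mul, inv_one] at a1
  have a2 : orderOf ω = 3 := by
    have : Fact (Nat.Prime 3) := ⟨Nat.prime_three⟩
    exact orderOf_eq_prime (h3 ω) hω
  rw [pow_eq_pow_iff_modEq, a2, Nat.ModEq] at a1
  exact hij (Fin.ext (by omega))

end Cfsg.Agent.S5743
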