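import Cfsg.Statements.S5744
import Cfsg.Agent.FI.E6F
import Cfsg.Agent.S2604
import Cfsg.Agent.Spor.EqO73
import Cfsg.Agent.Spor.MatRep2

set_option autoImplicit false
open Cfsg

namespace Cfsg.Agent.S5744


/-- The simple group ²E₆(2) (the twisted group of type E₆ over the field with 4 elements) contains at least three pairwise non-conjugate subgroups isomorphic to the orthogonal group Ω₇(3) (the commutator subgroup of the isometry group of x₀² + x₁y₁ + x₂y₂ + x₃y₃ over the field with 3 elements). -/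
theorem result {K : Type*} [Field K] [Fintype K] (hK : Fintype.card K = 4) :
    ∃ H : Fin 3 → Subgroup (Cfsg.Lie.twistedE6 K 2),
      (∀ i, Nonempty ((H i) ≃* Cfsg.Omega (ZMod 3) (Cfsg.quadFormOdd 3 (ZMod 3)))) ∧
      (∀ i j, i ≠ j → ∀ g : (Cfsg.Lie.twistedE6 K 2), (H i).map (MulAut.conj g).toMonoidHom ≠ H j) := by
  open Cfsg.Agent.FI.E6F Cfsg.Agent.Spor Cfsg.Agent.Geom in
  obtain ⟨f, ω, hω⟩ := exists_data hK
  obtain ⟨e1⟩ := EqO73.equiv
  obtain ⟨ρ, h1, h2, -⟩ := MdO73.model.inj (b := fun x => if x = 255 then 1 else Fi22M.g (x + 1)) rfl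
    (fun r hr => by
      rw [ev_shift _ _ (by revert r; decide +kernel)]
      exact rels_of_sub (rels := JO73.rels.map (·.map (· + 1))) Fi22M.hg (by decide +kernel) _ (List.mem_map_of_mem hr))
    (w := [0]) (by decide) fun h => Fi22M.rep.ne_one (w := [1]) (p := 1) (q := 2440) (by decide) (by decide +kernel)
      (by decide) h
  have a2 : (2 : ZMod 3) ≠ 0 := by decide
  have hQ := quadOdd_nondeg (ZMod 3) 3 a2
  have hz : Subgroup.center (Cfsg.Omega (ZMod 3) (Cfsg.quadFormOdd 3 (ZMod 3))) = ⊥ := by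
    rw [← coe_quadOdd, eq_bot_iff]
    intro z hz
    have b1 : omegaEquiv _ z ∈ Subgroup.center _ := Subgroup.mem_center_iff.2 fun y => by
      obtain ⟨y, rfl⟩ := (omegaEquiv _).surjective y
      rw [← map_mul, ← map_mul, Subgroup.mem_center_iff.1 hz]
    rcases (mem_center_iff_of_eich hQ (by simp) (exists_sing_of_finite _ (by simp))
      (eich_mem_commutator hQ (notExc_of_two_ne_zero a2)) _).1 b1 with h | h
    · exact (map_eq_one_iff _ (omegaEquiv _).injective).1 (Subtype.ext h)
    · exact absurd (h ▸ (omegaEquiv _ z).2) (negOne_notMem_odd hQ a2 (by simp; decide))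
  have e2 := (QuotientGroup.quotientMulEquivOfEq hz).trans QuotientGroup.quotientBot
  obtain ⟨e3⟩ := S2604.result (F := ZMod 3) (p := 3) (f := 1) (m := 3) le_rfl (by simp) (by decide) le_rfl
  obtain ⟨H, a, b⟩ := three hK ((ψ f hω).comp (ρ.comp e1.symm.toMonoidHom))
    ((ψ_inj f hω).comp (h1.comp e1.symm.injective)) (by rw [Nat.card_congr e3.toEquiv]; simp) fun X h =>
      cent f hω fun y h0 hy => by
        obtain ⟨x, rfl⟩ := Nat.exists_eq_succ_of_ne_zero h0.ne'
        have := h (e1 (MdO73.g x))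
        simp only [MonoidHom.comp_apply, MulEquiv.coe_toMonoidHom, MulEquiv.symm_apply_apply] at this
        rwa [h2 x (by omega), if_neg (by omega), ψ_g f hω hy] at this
  exact ⟨H, fun i => (a i).map (·.trans e2), b⟩

end Cfsg.Agent.S5744
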