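import Cfsg.Statements.S5801
import Cfsg.Agent.Low.SU6b
import Cfsg.Agent.Low.SU6c
import Cfsg.Agent.Low.SU6e
import Cfsg.Agent.Low.SU6f

set_option autoImplicit false
open Cfsg

namespace Cfsg.Agent.S5801

open Cfsg.Agent.Root

open Cfsg.Agent.Geom Mx

/-- Maximal subgroups of SU_6(q) of geometric type (any prime power q). Let F be the field with q² elements, f the standard unitary form Σ u_i v_i^q on F^6 and SU_6(q) its determinant-one isometry group inside GL_6(F). Each of the following, intersected with SU_6(q), is a maximal subgroup of SU_6(q): (1) the stabiliser of any non-zero subspace on which f vanishes identically (totally isotropic 1-, 2- and 3-spaces); (2) the stabiliser of any non-degenerate 1-space or 2-space; (3) for q ≥ 3, the stabiliser of any decomposition into six mutually orthogonal non-degenerate 1-spaces; (4) for q ≥ 3, the stabiliser of any decomposition into three mutually orthogonal non-degenerate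 2-spaces; (5) the stabiliser of any decomposition into two mutually orthogonal non-degenerate 3-spaces; (6) the stabiliser of any decomposition into two totally isotropic 3-spaces; (7) for q ≥ 3, the normaliser of any degree-3 subfield of the matrix algebra closed under adjoints for f; (8) for q ≥ 3, the stabiliser of any tensor decomposition of f as (unitary form on F^2) ⊗ (unitary form on F^3) up to a scalar; (9) every subfield group for a subfield F₀ of odd prime index in F whose F₀-structure carries f; (10) every subfield group for the subfield F₀ of index 2 whose F₀-structure carries ζ f, vanishing on pairs (u, u), for a non-zero ζ with ζ + ζ^q = 0 (symplectic type); (11) for q odd, every subfield group for the subfield F₀ of index 2 whose F₀-structure carries f (orthogonal types, either sign). -/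
theorem result {F : Type*} [Field F] [Fintype F] (q : ℕ) (hF : Fintype.card F = q ^ 2) :
    (∀ W : Submodule F (Fin 6 → F), W ≠ ⊥ → Cfsg.Geo.IsTotallySingularFor (Cfsg.hermForm 6 F q) W → Cfsg.Geo.IsMaximalIn (Cfsg.GU 6 F q ⊓ Cfsg.Geo.specialLinear (Fin 6) F) (Cfsg.Geo.subspaceStabilizer W ⊓ (Cfsg.GU 6 F q ⊓ Cfsg.Geo.specialLinear (Fin 6) F))) ∧
    (∀ W : Submodule F (Fin 6 → F), W ≠ ⊥ → Cfsg.Geo.IsNondegenerateOn (Cfsg.hermForm 6 F q) W → 2 * Module.finrank F W < 6 → Cfsg.Geo.IsMaximalIn (Cfsg.GU 6 F q ⊓ Cfsg.Geo.specialLinear (Fin 6) F) (Cfsg.Geo.subspaceStabilizer W ⊓ (Cfsg.GU 6 F q ⊓ Cfsg.Geo.specialLinear (Fin 6) F))) ∧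
    (3 ≤ q → ∀ D : Fin 6 → Submodule F (Fin 6 → F), Cfsg.Geo.IsNondegenerateMDecomposition (Cfsg.hermForm 6 F q) 1 D → Cfsg.Geo.IsMaximalIn (Cfsg.GU 6 F q ⊓ Cfsg.Geo.specialLinear (Fin 6) F) (Cfsg.Geo.decompositionStabilizer D ⊓ (Cfsg.GU 6 F q ⊓ Cfsg.Geo.specialLinear (Fin 6) F))) ∧
    (3 ≤ q → ∀ D : Fin 3 → Submodule F (Fin 6 → F), Cfsg.Geo.IsNondegenerateMDecomposition (Cfsg.hermForm 6 F q) 2 D → Cfsg.Geo.IsMaximalIn (Cfsg.GU 6 F q ⊓ Cfsg.Geo.specialLinear (Fin 6) F) (Cfsg.Geo.decompositionStabilizer D ⊓ (Cfsg.GU 6 F q ⊓ Cfsg.Geo.specialLinear (Fin 6) F))) ∧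
    (∀ D : Fin 2 → Submodule F (Fin 6 → F), Cfsg.Geo.IsNondegenerateMDecomposition (Cfsg.hermForm 6 F q) 3 D → Cfsg.Geo.IsMaximalIn (Cfsg.GU 6 F q ⊓ Cfsg.Geo.specialLinear (Fin 6) F) (Cfsg.Geo.decompositionStabilizer D ⊓ (Cfsg.GU 6 F q ⊓ Cfsg.Geo.specialLinear (Fin 6) F))) ∧
    (∀ D : Fin 2 → Submodule F (Fin 6 → F), Cfsg.Geo.IsMDecomposition 3 D → (∀ i, Cfsg.Geo.IsTotallySingularFor (Cfsg.hermForm 6 F q) (D i)) → Cfsg.Geo.IsMaximalIn (Cfsg.GU 6 F q ⊓ Cfsg.Geo.specialLinear (Fin 6) F) (Cfsg.Geo.decompositionStabilizer D ⊓ (Cfsg.GU 6 F q ⊓ Cfsg.Geo.specialLinear (Fin 6) F))) ∧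
    (3 ≤ q → ∀ K : Subalgebra F (Matrix (Fin 6) (Fin 6) F), Cfsg.Geo.IsFieldSubalgebra 3 K → Cfsg.Geo.IsAdjointClosedFor (Cfsg.hermForm 6 F q) K → Cfsg.Geo.IsMaximalIn (Cfsg.GU 6 F q ⊓ Cfsg.Geo.specialLinear (Fin 6) F) (Cfsg.Geo.subalgebraNormalizer K ⊓ (Cfsg.GU 6 F q ⊓ Cfsg.Geo.specialLinear (Fin 6) F))) ∧
    (3 ≤ q → ∀ (e : Fin 6 ≃ Fin 2 × Fin 3) (P : Matrix.GeneralLinearGroup (Fin 6) F) (f₁ : (Fin 2 → F) → (Fin 2 → F) → F) (f₂ : (Fin 3 → F) → (Fin 3 → F) → F), Cfsg.Geo.IsUnitaryFormPow q f₁ → Cfsg.Geo.IsUnitaryFormPow q f₂ → Cfsg.Geo.IsTensorFormStructure (fun x : F => x ^ q) (Cfsg.hermForm 6 F q) f₁ f₂ e P → Cfsg.Geo.IsMaximalIn (Cfsg.GU 6 F q ⊓ Cfsg.Geo.specialLinear (Fin 6) F) (Cfsg.Geo.tensorProductSubgroup 2 3 e P ⊓ (Cfsg.GU 6 F q ⊓ Cfsg.Geo.specialLinear (Fin 6) F))) ∧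
    (∀ (F₀ : Subfield F) (r : ℕ) (P : Matrix.GeneralLinearGroup (Fin 6) F), r.Prime → Odd r → Fintype.card F = Nat.card F₀ ^ r → Cfsg.Geo.IsFormRationalStructure (Cfsg.hermForm 6 F q) F₀ 1 P → Cfsg.Geo.IsMaximalIn (Cfsg.GU 6 F q ⊓ Cfsg.Geo.specialLinear (Fin 6) F) (Cfsg.Geo.subfieldSubgroup F₀ P ⊓ (Cfsg.GU 6 F q ⊓ Cfsg.Geo.specialLinear (Fin 6) F))) ∧
    (∀ (F₀ : Subfield F) (P : Matrix.GeneralLinearGroup (Fin 6) F) (ζ : F), Fintype.card F = Nat.card F₀ ^ 2 → ζ ≠ 0 → ζ + ζ ^ q = 0 → Cfsg.Geo.IsFormRationalStructure (Cfsg.hermForm 6 F q) F₀ ζ P → (∀ u : Fin 6 → F, (∀ i, u i ∈ F₀) → (Cfsg.hermForm 6 F q) (Matrix.mulVec (P : Matrix (Fin 6) (Fin 6) F) u) (Matrix.mulVec (P : Matrix (Fin 6) (Fin 6) F) u) = 0) → Cfsg.Geo.IsMaximalIn (Cfsg.GU 6 F q ⊓ Cfsg.Geo.specialLinear (Fin 6) F) (Cfsg.Geo.subfieldSubgroup F₀ P ⊓ (Cfsg.GU 6 F q ⊓ Cfsg.Geo.specialLinear (Fin 6) F))) ∧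
    (Odd q → ∀ (F₀ : Subfield F) (P : Matrix.GeneralLinearGroup (Fin 6) F), Fintype.card F = Nat.card F₀ ^ 2 → Cfsg.Geo.IsFormRationalStructure (Cfsg.hermForm 6 F q) F₀ 1 P → Cfsg.Geo.IsMaximalIn (Cfsg.GU 6 F q ⊓ Cfsg.Geo.specialLinear (Fin 6) F) (Cfsg.Geo.subfieldSubgroup F₀ P ⊓ (Cfsg.GU 6 F q ⊓ Cfsg.Geo.specialLinear (Fin 6) F))) := by
  have hu := hu_herm hF (n := 6) (by omega)
  refine ⟨fun W hW0 hW => ?_, fun W hW0 hW hdim => ?_, fun h3 D hD => ?_, fun h3 D hD => ?_, fun D hD => ?_,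
    fun D hD hts => ?_, fun h => ext_su hF Nat.prime_three (by omega) (by omega) (.inr ?_),
    fun h e P f₁ f₂ => Wr.isMaximalIn_tensor_su32 hF h,
    fun F₀ r P hr hro hcard hP => ?_, fun F₀ P ζ hcard hζ0 hζ hP halt => ?_, fun hodd F₀ P hcard hP => ?_⟩
  · obtain ⟨c, hc0, hc⟩ := exists_hilb (frobq_ne_id hF) (frobq_frobq hF) (z := -1)
      (by rw [map_neg, map_one]; ring)
    exact isMaximalIn_inf (glEquiv _ F) (stab_tsL' (hermFormed_nondeg hF 6) hW0
      ⟨fun x hx y hy => hW y hy x hx, fun _ _ => rfl⟩ hc0 (zero_mul _)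
      (by change 1 * _ + _ = _; linear_combination hc)) (fun g => mem_suGL hF (by omega))
      fun g => Iff.rfl
  · have h1 := hermFormed_nondeg hF 6
    have h2 := nondeg_of_on (Φ := hermFormed hF 6) hW fun _ _ => Formed.B_eq_zero_comm _
    have h3 := h1.finrank_add_finrank_perp W
    have h4 : Module.finrank F W ≠ 0 := fun e => hW0 (Submodule.finrank_eq_zero.1 e)
    simp only [Module.finrank_fintype_fun_eq_card, Fintype.card_fin] at h3
    refine isMaximalIn_inf (glEquiv _ F) (H' := stab W) ?_ (fun g => mem_suGL hF (by omega)) fun g => Iff.rfl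
    rw [← stab_perp_inf h1 W]
    refine hu.max_nd (h1.restrict_perp h2) (by omega) (fun e => ?_) (by simp; omega)
    rw [e, finrank_top, Module.finrank_fintype_fun_eq_card, Fintype.card_fin] at h3
    omega
  · have h := odec_of hu.nd hD fun _ _ => Formed.B_eq_zero_comm _
    exact isMaximalIn_inf (glEquiv _ F) (H' := dstab D) (h.max_frame6 hu (exists_eta6 hF h3))
      (fun g => mem_suGL hF (by omega)) fun g => Iff.rfl
  · have h := odec_of hu.nd hD fun _ _ => Formed.B_eq_zero_comm _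
    exact isMaximalIn_inf (glEquiv _ F) (H' := dstab D)
      (h.isMaximalIn_herm hu le_rfl le_rfl (.inr (exists_theta hF h3)))
      (fun g => mem_suGL hF (by omega)) fun g => Iff.rfl
  · have h := odec_of hu.nd hD fun _ _ => Formed.B_eq_zero_comm _
    exact isMaximalIn_inf (glEquiv _ F) (H' := dstab D) (h.max_three hu)
      (fun g => mem_suGL hF (by omega)) fun g => Iff.rfl
  · have ht : ∀ i, (hermFormed hF 6).TotSing (D i) := fun i =>
      ⟨fun x hx y hy => hts i y hy x hx, fun _ _ => rfl⟩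
    refine isMaximalIn_inf (glEquiv _ F) (hu.max_pair (dec_of hD) ht ?_) (fun g => mem_suGL hF (by omega))
      fun g => Iff.rfl
    rw [EG_herm hF (by omega)]
    obtain ⟨⟨s, hs, s0, s1⟩, e, he, f, hf, hp⟩ := exists_swap (hermFormed_nondeg hF 6) (dec_of hD) ht
    obtain ⟨c, hc0, hc⟩ := exists_hilb (frobq_ne_id hF) (frobq_frobq hF) (det_herm hF hs)
    have := torus_mem (ht 0) (ht 1) he hf hp (Units.mk0 c hc0)⁻¹
    refine ⟨(hp.torus (Units.mk0 c hc0)⁻¹).1 * s, ⟨Subgroup.mul_mem _ (hp.torus _).2 hs, mem_SLg.2 ?_⟩,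
      fun x hx => this.2 _ (s0 x hx), fun x hx => this.1 _ (s1 x hx)⟩
    rw [LinearEquiv.coe_toLinearMap_mul, map_mul, hp.det_torus]
    simp only [Units.val_inv_eq_inv_val, Units.val_mk0, map_inv₀, inv_inv]
    field_simp
    linear_combination -hc
  · have h3 : 3 ^ 2 * q ≤ q ^ 2 * q := Nat.mul_le_mul_right _ (Nat.pow_le_pow_left h 2)
    rw [← pow_succ, show 2 + 1 = 3 from rfl] at h3
    omega
  · have hB : ∀ x y, (hermFormed hF 6).B (jP F₀ P x) (jP F₀ P y) ∈ F₀ := fun x y =>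
      one_mul ((hermFormed hF 6).B _ _) ▸ hP _ _ (fun i => (y i).2) fun i => (x i).2
    obtain ⟨κ, hκ, hκ'⟩ := exists_σ_ne hro (Nat.card_eq_fintype_card.trans hcard) (frobq_ne_id hF) (frobq_frobq hF)
    refine isMaximalIn_inf (glEquiv _ F) (isMaximalIn_sub6 (hermFormed_nondeg hF 6)
      (by simp) hr hcard hB (fun x => ?_)
      (frobq_ne_id hF) rfl) (fun g => mem_suGL hF (by omega)) fun g => mem_subfieldSubgroup_iff
    have h1 := B_self_eq (Φ := hermFormed hF 6) (jP F₀ P x)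
    have h2 := sub_ne_zero.2 hκ'
    refine ⟨_, mul_mem (div_mem (σ_mem_subfield _ (frobq hF) _ hκ) (sub_mem (σ_mem_subfield _ (frobq hF) _ hκ) hκ))
      (hB x x), zero_mul _, ?_⟩
    rw [show (hermFormed hF 6).ε = 1 from rfl, one_mul] at h1 ⊢
    rw [map_mul, h1, map_div₀, map_sub, frobq_frobq, ← neg_sub (frobq hF κ)]
    field_simp; ring
  · have hE := EG_scale (Φ := hermFormed hF 6) (η := -1) (h1 := by ring) (h2 := by rw [map_neg, map_one])
      (h3 := by rw [frobq_apply]; linear_combination hζ) (h4 := zero_mul _) hζ0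
    refine isMaximalIn_inf (glEquiv _ F) (hE ▸ isMaximalIn_sub6 (scale_nondeg hζ0 (hermFormed_nondeg hF 6))
      (by simp) Nat.prime_two hcard (fun x y => ?_)
      (fun x => ⟨0, zero_mem _, by simp [scale], ?_⟩)
      (frobq_ne_id hF) rfl) (fun g => mem_suGL hF (by omega)) fun g => mem_subfieldSubgroup_iff
    · exact hP _ _ (fun i => (y i).2) fun i => (x i).2
    · exact (by rw [map_zero, mul_zero, mul_zero, add_zero] : _ = ζ * 0).trans (congrArg (ζ * ·) (halt _ fun i => (x i).2).symm)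
  · have hB : ∀ x y, (hermFormed hF 6).B (jP F₀ P x) (jP F₀ P y) ∈ F₀ := fun x y =>
      one_mul ((hermFormed hF 6).B _ _) ▸ hP _ _ (fun i => (y i).2) fun i => (x i).2
    have h2 : (2 : F) ≠ 0 := two_ne_zero_of_odd_card (hF ▸ hodd.pow)
    refine isMaximalIn_inf (glEquiv _ F) (isMaximalIn_sub6 (hermFormed_nondeg hF 6)
      (by simp) Nat.prime_two hcard hB (fun x => ?_)
      (frobq_ne_id hF) rfl) (fun g => mem_suGL hF (by omega)) fun g => mem_subfieldSubgroup_iff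
    have h1 := B_self_eq (Φ := hermFormed hF 6) (jP F₀ P x)
    refine ⟨_, div_mem (hB x x) (ofNat_mem _ 2), zero_mul _, ?_⟩
    rw [show (hermFormed hF 6).ε = 1 from rfl, one_mul] at h1 ⊢
    rw [map_div₀, h1, map_ofNat]
    field_simp; ring

end Cfsg.Agent.S5801
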