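import Cfsg.Statements.S5840
import Cfsg.Agent.Root.SuR
import Cfsg.Agent.Root.Sub10

set_option autoImplicit false
open Cfsg

namespace Cfsg.Agent.S5840
open Cfsg.Agent.Root

open Cfsg.Agent.Geom Mx

/-- Maximal subgroups of SU_10(q) of geometric type (any prime power q). Let F be the field with q² elements (characteristic p), f the standard unitary form Σ u_i v_i^q on F^10 and SU_10(q) its determinant-one isometry group inside GL_10(F). Each of the following, intersected with SU_10(q), is a maximal subgroup of SU_10(q): (1) the stabiliser of any non-zero subspace on which f vanishes identically (totally isotropic subspaces, of dimension 1 to 5); (2) the stabiliser of any non-zero non-degenerate subspace W with 2 dim W < 10 (dimension 1 to 4); (3) the stabiliser of any decomposition of F^10 into 10 mutually orthogonal non-degenerate 1-spaces; (4) for q ≥ 3, the stabiliser of any decomposition of F^10 into 5 mutually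 orthogonal non-degenerate 2-spaces; (5) the stabiliser of any decomposition of F^10 into 2 mutually orthogonal non-degenerate 5-spaces; (6) the stabiliser of any decomposition into two totally isotropic 5-spaces; (7) the normaliser of any degree-5 subfield of the matrix algebra closed under adjoints for f; (8) for q ≥ 3, the stabiliser of any tensor decomposition of f as (unitary form on F^2) ⊗ (unitary form on F^5) up to a scalar; (9) every subfield group for a subfield F₀ of odd prime index in F whose F₀-structure carries f; (10) every subfield group for the subfield F₀ of index 2 whose F₀-structure carries ζ f, vanishing on pairs (u, u), for a non-zero ζ with ζ + ζ^q = 0 (symplectic type); (11) for q odd, every subfield group for the subfield F₀ of index 2 whose F₀-structure carries f (orthogonal type, either sign). -/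
theorem result {F : Type*} [Field F] [Fintype F] (q : ℕ) (hF : Fintype.card F = q ^ 2) :
    (∀ W : Submodule F (Fin 10 → F), W ≠ ⊥ → Cfsg.Geo.IsTotallySingularFor (Cfsg.hermForm 10 F q) W → Cfsg.Geo.IsMaximalIn (Cfsg.GU 10 F q ⊓ Cfsg.Geo.specialLinear (Fin 10) F) (Cfsg.Geo.subspaceStabilizer W ⊓ (Cfsg.GU 10 F q ⊓ Cfsg.Geo.specialLinear (Fin 10) F))) ∧
    (∀ W : Submodule F (Fin 10 → F), W ≠ ⊥ → Cfsg.Geo.IsNondegenerateOn (Cfsg.hermForm 10 F q) W → 2 * Module.finrank F W < 10 → Cfsg.Geo.IsMaximalIn (Cfsg.GU 10 F q ⊓ Cfsg.Geo.specialLinear (Fin 10) F) (Cfsg.Geo.subspaceStabilizer W ⊓ (Cfsg.GU 10 F q ⊓ Cfsg.Geo.specialLinear (Fin 10) F))) ∧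
    (∀ D : Fin 10 → Submodule F (Fin 10 → F), Cfsg.Geo.IsNondegenerateMDecomposition (Cfsg.hermForm 10 F q) 1 D → Cfsg.Geo.IsMaximalIn (Cfsg.GU 10 F q ⊓ Cfsg.Geo.specialLinear (Fin 10) F) (Cfsg.Geo.decompositionStabilizer D ⊓ (Cfsg.GU 10 F q ⊓ Cfsg.Geo.specialLinear (Fin 10) F))) ∧
    (3 ≤ q → ∀ D : Fin 5 → Submodule F (Fin 10 → F), Cfsg.Geo.IsNondegenerateMDecomposition (Cfsg.hermForm 10 F q) 2 D → Cfsg.Geo.IsMaximalIn (Cfsg.GU 10 F q ⊓ Cfsg.Geo.specialLinear (Fin 10) F) (Cfsg.Geo.decompositionStabilizer D ⊓ (Cfsg.GU 10 F q ⊓ Cfsg.Geo.specialLinear (Fin 10) F))) ∧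
    (∀ D : Fin 2 → Submodule F (Fin 10 → F), Cfsg.Geo.IsNondegenerateMDecomposition (Cfsg.hermForm 10 F q) 5 D → Cfsg.Geo.IsMaximalIn (Cfsg.GU 10 F q ⊓ Cfsg.Geo.specialLinear (Fin 10) F) (Cfsg.Geo.decompositionStabilizer D ⊓ (Cfsg.GU 10 F q ⊓ Cfsg.Geo.specialLinear (Fin 10) F))) ∧
    (∀ D : Fin 2 → Submodule F (Fin 10 → F), Cfsg.Geo.IsMDecomposition 5 D → (∀ i, Cfsg.Geo.IsTotallySingularFor (Cfsg.hermForm 10 F q) (D i)) → Cfsg.Geo.IsMaximalIn (Cfsg.GU 10 F q ⊓ Cfsg.Geo.specialLinear (Fin 10) F) (Cfsg.Geo.decompositionStabilizer D ⊓ (Cfsg.GU 10 F q ⊓ Cfsg.Geo.specialLinear (Fin 10) F))) ∧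
    (∀ K : Subalgebra F (Matrix (Fin 10) (Fin 10) F), Cfsg.Geo.IsFieldSubalgebra 5 K → Cfsg.Geo.IsAdjointClosedFor (Cfsg.hermForm 10 F q) K → Cfsg.Geo.IsMaximalIn (Cfsg.GU 10 F q ⊓ Cfsg.Geo.specialLinear (Fin 10) F) (Cfsg.Geo.subalgebraNormalizer K ⊓ (Cfsg.GU 10 F q ⊓ Cfsg.Geo.specialLinear (Fin 10) F))) ∧
    (3 ≤ q → ∀ (e : Fin 10 ≃ Fin 2 × Fin 5) (P : Matrix.GeneralLinearGroup (Fin 10) F) (f₁ : (Fin 2 → F) → (Fin 2 → F) → F) (f₂ : (Fin 5 → F) → (Fin 5 → F) → F), Cfsg.Geo.IsUnitaryFormPow q f₁ → Cfsg.Geo.IsUnitaryFormPow q f₂ → Cfsg.Geo.IsTensorFormStructure (fun x : F => x ^ q) (Cfsg.hermForm 10 F q) f₁ f₂ e P → Cfsg.Geo.IsMaximalIn (Cfsg.GU 10 F q ⊓ Cfsg.Geo.specialLinear (Fin 10) F) (Cfsg.Geo.tensorProductSubgroup 2 5 e P ⊓ (Cfsg.GU 10 F q ⊓ Cfsg.Geo.specialLinear (Fin 10) F))) ∧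
    (∀ (F₀ : Subfield F) (r : ℕ) (P : Matrix.GeneralLinearGroup (Fin 10) F), r.Prime → Odd r → Fintype.card F = Nat.card F₀ ^ r → Cfsg.Geo.IsFormRationalStructure (Cfsg.hermForm 10 F q) F₀ 1 P → Cfsg.Geo.IsMaximalIn (Cfsg.GU 10 F q ⊓ Cfsg.Geo.specialLinear (Fin 10) F) (Cfsg.Geo.subfieldSubgroup F₀ P ⊓ (Cfsg.GU 10 F q ⊓ Cfsg.Geo.specialLinear (Fin 10) F))) ∧
    (∀ (F₀ : Subfield F) (P : Matrix.GeneralLinearGroup (Fin 10) F) (ζ : F), Fintype.card F = Nat.card F₀ ^ 2 → ζ ≠ 0 → ζ + ζ ^ q = 0 → Cfsg.Geo.IsFormRationalStructure (Cfsg.hermForm 10 F q) F₀ ζ P → (∀ u : Fin 10 → F, (∀ i, u i ∈ F₀) → (Cfsg.hermForm 10 F q) (Matrix.mulVec (P : Matrix (Fin 10) (Fin 10) F) u) (Matrix.mulVec (P : Matrix (Fin 10) (Fin 10) F) u) = 0) → Cfsg.Geo.IsMaximalIn (Cfsg.GU 10 F q ⊓ Cfsg.Geo.specialLinear (Fin 10) F) (Cfsg.Geo.subfieldSubgroup F₀ P ⊓ (Cfsg.GU 10 F q ⊓ Cfsg.Geo.specialLinear (Fin 10) F))) ∧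
    (Odd q → ∀ (F₀ : Subfield F) (P : Matrix.GeneralLinearGroup (Fin 10) F), Fintype.card F = Nat.card F₀ ^ 2 → Cfsg.Geo.IsFormRationalStructure (Cfsg.hermForm 10 F q) F₀ 1 P → Cfsg.Geo.IsMaximalIn (Cfsg.GU 10 F q ⊓ Cfsg.Geo.specialLinear (Fin 10) F) (Cfsg.Geo.subfieldSubgroup F₀ P ⊓ (Cfsg.GU 10 F q ⊓ Cfsg.Geo.specialLinear (Fin 10) F))) := by
  refine ⟨su_ts hF (by omega), su_nd hF (by omega), fun D hD => isMaximalIn_odec_su hF (by omega) hD (by omega),
    fun h D hD => isMaximalIn_odec_su hF (by omega) hD (by omega),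
    fun D hD => isMaximalIn_odec_su hF (by omega) hD (by omega), su_pair hF (by omega) 5 rfl,
    ext_su hF Nat.prime_five (by omega) (by omega) (.inr ?_),
    fun h e P f₁ f₂ => isMaximalIn_tensor_su4 hF le_rfl (by omega) (by omega) (by omega),
    fun F₀ r P hr hro hcard hP => ?_, fun F₀ P ζ hcard hζ0 hζ hP halt => ?_, fun hodd F₀ P hcard hP => ?_⟩
  · have h2 := two_le_of_card_eq_sq hF
    have h3 : 2 ^ 4 * q ≤ q ^ 4 * q := Nat.mul_le_mul_right _ (Nat.pow_le_pow_left h2 4)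
    rw [← pow_succ, show 4 + 1 = 5 from rfl] at h3
    omega
  · have hB : ∀ x y, (hermFormed hF 10).B (jP F₀ P x) (jP F₀ P y) ∈ F₀ := fun x y =>
      one_mul ((hermFormed hF 10).B _ _) ▸ hP _ _ (fun i => (y i).2) fun i => (x i).2
    obtain ⟨κ, hκ, hκ'⟩ := exists_σ_ne hro (Nat.card_eq_fintype_card.trans hcard) (frobq_ne_id hF) (frobq_frobq hF)
    refine isMaximalIn_inf (glEquiv _ F) (isMaximalIn_sub10 (hermFormed_nondeg hF 10)
      (by simp) hr hcard hB (zero_mem _) (fun x => ?_)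
      (noRefl_of_τ rfl) (frobq_ne_id hF) rfl) (fun g => mem_suGL hF (by omega)) fun g => mem_subfieldSubgroup_iff
    have h1 := B_self_eq (Φ := hermFormed hF 10) (jP F₀ P x)
    have h2 := sub_ne_zero.2 hκ'
    refine ⟨_, mul_mem (div_mem (σ_mem_subfield _ (frobq hF) _ hκ) (sub_mem (σ_mem_subfield _ (frobq hF) _ hκ) hκ))
      (hB x x), zero_mul _, ?_⟩
    rw [show (hermFormed hF 10).ε = 1 from rfl, one_mul] at h1 ⊢
    rw [map_mul, h1, map_div₀, map_sub, frobq_frobq, ← neg_sub (frobq hF κ)]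
    field_simp; ring
  · have hE := EG_scale (Φ := hermFormed hF 10) (η := -1) (h1 := by ring) (h2 := by rw [map_neg, map_one])
      (h3 := by rw [frobq_apply]; linear_combination hζ) (h4 := zero_mul _) hζ0
    refine isMaximalIn_inf (glEquiv _ F) (hE ▸ isMaximalIn_sub10 (scale_nondeg hζ0 (hermFormed_nondeg hF 10))
      (by simp) Nat.prime_two hcard (fun x y => ?_) (zero_mem _)
      (fun x => ⟨0, zero_mem _, by simp [scale], ?_⟩)
      (noRefl_of_τ rfl) (frobq_ne_id hF) rfl) (fun g => mem_suGL hF (by omega)) fun g => mem_subfieldSubgroup_iff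
    · exact hP _ _ (fun i => (y i).2) fun i => (x i).2
    · exact (by rw [map_zero, mul_zero, mul_zero, add_zero] : _ = ζ * 0).trans (congrArg (ζ * ·) (halt _ fun i => (x i).2).symm)
  · have hB : ∀ x y, (hermFormed hF 10).B (jP F₀ P x) (jP F₀ P y) ∈ F₀ := fun x y =>
      one_mul ((hermFormed hF 10).B _ _) ▸ hP _ _ (fun i => (y i).2) fun i => (x i).2
    have h2 : (2 : F) ≠ 0 := two_ne_zero_of_odd_card (hF ▸ hodd.pow)
    refine isMaximalIn_inf (glEquiv _ F) (isMaximalIn_sub10 (hermFormed_nondeg hF 10)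
      (by simp) Nat.prime_two hcard hB (zero_mem _) (fun x => ?_)
      (noRefl_of_τ rfl) (frobq_ne_id hF) rfl) (fun g => mem_suGL hF (by omega)) fun g => mem_subfieldSubgroup_iff
    have h1 := B_self_eq (Φ := hermFormed hF 10) (jP F₀ P x)
    refine ⟨_, div_mem (hB x x) (ofNat_mem _ 2), zero_mul _, ?_⟩
    rw [show (hermFormed hF 10).ε = 1 from rfl, one_mul] at h1 ⊢
    rw [map_div₀, h1, map_ofNat]
    field_simp; ring

end Cfsg.Agent.S5840
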