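import Cfsg.Statements.S5896
import Cfsg.Agent.Pool10.DL
import Cfsg.Agent.Char.Burnside

set_option autoImplicit false
open Cfsg

namespace Cfsg.Agent.S5896

open Subgroup Cfsg.Agent.Pool10 RegularWreathProduct
open scoped commutatorElement

theorem solv_A5 {M : Subgroup (alternatingGroup (Fin 5))} (hM : M ≠ ⊤) : Group.IsSolvable M := by
  have hc : Nat.card (alternatingGroup (Fin 5)) = 60 := by
    rw [nat_card_alternatingGroup, Nat.card_fin]; rfl
  have h1 := M.card_mul_index
  have h2 : M.index ≠ 1 := fun e => hM (index_eq_one.1 e)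
  have h3 : M.index ≠ 2 := fun e => by
    rcases (normal_of_index_eq_two e).eq_bot_or_eq_top with h | h
    · rw [h, index_bot, hc] at e; omega
    · exact hM h
  rw [hc] at h1
  have h4 : ¬ (2 ∣ Nat.card M ∧ 3 ∣ Nat.card M ∧ 5 ∣ Nat.card M) := by
    rintro ⟨h5, h6, h7⟩
    obtain ⟨c, hc⟩ : 30 ∣ Nat.card M := by omega
    rw [hc] at h1
    have : c * M.index = 2 := by nlinarith
    have := Nat.le_of_dvd two_pos (Dvd.intro_left _ this)
    interval_cases h : M.index <;> omega
  have h5 : ∀ r, r.Prime → r ∣ Nat.card M → r = 2 ∨ r = 3 ∨ r = 5 := fun r hr h => by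
    have : r ∣ 60 := h.trans (Dvd.intro _ h1)
    have := Nat.le_of_dvd (by norm_num) this
    interval_cases r <;> simp_all (config := { decide := true })
  by_cases h6 : 2 ∣ Nat.card M
  · by_cases h7 : 3 ∣ Nat.card M
    · exact Char.isSolvable_of_two_primes (p := 2) (q := 3) fun r hr h => by
        rcases h5 r hr h with rfl | rfl | rfl <;> tauto
    · exact Char.isSolvable_of_two_primes (p := 2) (q := 5) fun r hr h => by
        rcases h5 r hr h with rfl | rfl | rfl <;> tauto
  · exact Char.isSolvable_of_two_primes (p := 3) (q := 5) fun r hr h => by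
      rcases h5 r hr h with rfl | rfl | rfl <;> tauto

/-- Finite perfect groups have solvable maximal subgroups of unbounded derived length: for every d there is a finite perfect group G (equal to its commutator subgroup) with a solvable maximal subgroup H whose derived length exceeds d, i.e. the d-th term of the derived series of H is non-trivial. (Take the derived subgroup of a wreath product S ≀ A₅ with S solvable of large derived length, and H the preimage of a maximal subgroup of A₅.) -/
theorem result (d : ℕ) :
    ∃ (G : Type) (_ : Group G) (_ : Finite G) (H : Subgroup G), commutator G = ⊤ ∧ IsCoatom H ∧ Group.IsSolvable H ∧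
      derivedSeries H d ≠ ⊥ := by
  obtain ⟨S, hS, hd⟩ := ds_perm_low (p := 2) (κ := Fin (2 ^ (d + 1))) (k := d) (by simp)
  have := hS.isNilpotent
  let Q := alternatingGroup (Fin 5)
  let G : Subgroup (S ≀ᵣ Q) := normalClosure (inl : Q →* S ≀ᵣ Q).range
  have hin : ∀ q, inl q ∈ G := fun q => subset_normalClosure ⟨q, rfl⟩
  let π : G →* Q := rightHom.comp G.subtype
  have hπ : Function.Surjective π := fun q => ⟨⟨inl q, hin q⟩, rfl⟩
  obtain ⟨M, hM, -⟩ := (eq_top_or_exists_le_coatom (⊥ : Subgroup Q)).resolve_left bot_ne_top
  refine ⟨G, inferInstance, inferInstance, M.comap π, ?_, isCoatom_comap_of_surjective hπ hM, ?_, fun e => ?_⟩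
  · have h1 : G ≤ ⁅G, G⁆ := by
      refine normalClosure_le_normal ?_
      have h2 : (inl : Q →* S ≀ᵣ Q).range = ⁅(inl : Q →* S ≀ᵣ Q).range, (inl : Q →* S ≀ᵣ Q).range⁆ := by
        rw [MonoidHom.range_eq_map, ← map_commutator, ← commutator_def, commutator_alternatingGroup_eq_top (by simp)]
      exact fun x hx => commutator_mono (H₁ := _) (K₁ := G) (fun _ => (subset_normalClosure ·))
        (fun _ => (subset_normalClosure ·)) (h2 ▸ hx)
    refine map_injective G.subtype_injective ?_
    rw [commutator_def, map_commutator, ← MonoidHom.range_eq_map, range_subtype]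
    exact le_antisymm (commutator_le_left _ _) h1
  · have := solv_A5 hM.1
    let f : M.comap π →* M := (π.comp (Subgroup.subtype _)).codRestrict M fun x => x.2
    let g : f.ker →* (Q → S) := MonoidHom.mk' (fun x => x.1.1.1.left) fun x y => by
      have : x.1.1.1.right = 1 := congrArg Subtype.val x.2
      simp [this]
    have : Group.IsSolvable f.ker := Group.isSolvable_of_isSolvable_injective (f := g) fun x y h =>
      Subtype.ext (Subtype.ext (Subtype.ext (RegularWreathProduct.ext h
        ((congrArg Subtype.val x.2).trans (congrArg Subtype.val y.2).symm))))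
    exact Group.isSolvable_of_ker_le_range f.ker.subtype f (by rw [range_subtype])
  · obtain ⟨q, hq⟩ := exists_ne (1 : Q)
    refine hd (ds_bot_of_surj _ (ev1_surj (N := G) hq fun x => PGrp.commutator_mem_of_normal_right (hin q) x) ?_)
    let ι : ↥(G ⊓ rightHom.ker) →* M.comap π := (inclusion inf_le_left).codRestrict _ fun x => by
      change x.1.right ∈ M
      rw [show x.1.right = 1 from x.2.2]; exact one_mem _
    exact ds_bot_of_inj ι (fun a b h => Subtype.ext (congrArg (fun x => x.1.1) h)) e

end Cfsg.Agent.S5896
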